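import Mathlib

/-!
# Computations in `SL(2, 3)` via 4-tuples over `ZMod 3`
-/

set_option autoImplicit false

namespace Cfsg.Agent.Helper22

set_option synthInstance.maxSize 2000
set_option synthInstance.maxHeartbeats 400000

/-- `(a, b, c, d)` stands for the matrix `!![a, b; c, d]`. -/
abbrev T3 := ZMod 3 × ZMod 3 × ZMod 3 × ZMod 3

def tdet (X : T3) : ZMod 3 := X.1 * X.2.2.2 - X.2.1 * X.2.2.1

def tmul (X Y : T3) : T3 :=
  (X.1 * Y.1 + X.2.1 * Y.2.2.1, X.1 * Y.2.1 + X.2.1 * Y.2.2.2,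
    X.2.2.1 * Y.1 + X.2.2.2 * Y.2.2.1, X.2.2.1 * Y.2.1 + X.2.2.2 * Y.2.2.2)

def tinv (X : T3) : T3 := (X.2.2.2, -X.2.1, -X.2.2.1, X.1)

def tone : T3 := (1, 0, 0, 1)

def tneg : T3 := (2, 0, 0, 2)

def tU : T3 := (1, 1, 0, 1)

def tL : T3 := (1, 0, 1, 1)

def tcomm (X Y : T3) : T3 := tmul (tmul (tmul X Y) (tinv X)) (tinv Y)

def tsq (X : T3) : T3 := tmul X X

def tpow4 (X : T3) : T3 := tsq (tsq X)

abbrev SL23 := Matrix.SpecialLinearGroup (Fin 2) (ZMod 3)

def ent (x : SL23) : T3 := (x 0 0, x 0 1, x 1 0, x 1 1)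

theorem ent_injective : Function.Injective ent := by
  intro x y h
  simp only [ent, Prod.mk.injEq] at h
  obtain ⟨h1, h2, h3, h4⟩ := h
  ext i j
  fin_cases i <;> fin_cases j <;> assumption

theorem tdet_ent (x : SL23) : tdet (ent x) = 1 := by
  have := x.2
  rwa [Matrix.det_fin_two] at this

theorem ent_one : ent 1 = tone := by
  simp [ent, tone]

theorem ent_mul (x y : SL23) : ent (x * y) = tmul (ent x) (ent y) := by
  simp only [ent, tmul, Matrix.SpecialLinearGroup.coe_mul, Matrix.mul_apply, Fin.sum_univ_two]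

theorem ent_inv (x : SL23) : ent x⁻¹ = tinv (ent x) := by
  simp only [ent, tinv, Matrix.SpecialLinearGroup.coe_inv, Matrix.adjugate_fin_two]
  simp

theorem ent_comm (x y : SL23) : ent (x * y * x⁻¹ * y⁻¹) = tcomm (ent x) (ent y) := by
  simp only [ent_mul, ent_inv, tcomm]

theorem ent_sq (x : SL23) : ent (x ^ 2) = tsq (ent x) := by
  rw [pow_two, ent_mul, tsq]

theorem ent_pow4 (x : SL23) : ent (x ^ 4) = tpow4 (ent x) := by
  have : x ^ 4 = (x ^ 2) ^ 2 := by rw [← pow_mul]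
  rw [this, ent_sq, ent_sq, tpow4]

instance : Finite SL23 := Finite.of_injective ent ent_injective

/-- `-1` in `SL(2,3)`. -/
def slNeg : SL23 := ⟨!![2, 0; 0, 2], by rw [Matrix.det_fin_two_of]; decide⟩

/-- upper unitriangular -/
def slU : SL23 := ⟨!![1, 1; 0, 1], by rw [Matrix.det_fin_two_of]; decide⟩

/-- lower unitriangular -/
def slL : SL23 := ⟨!![1, 0; 1, 1], by rw [Matrix.det_fin_two_of]; decide⟩

theorem ent_slNeg : ent slNeg = tneg := by simp [ent, slNeg, tneg]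
theorem ent_slU : ent slU = tU := by simp [ent, slU, tU]
theorem ent_slL : ent slL = tL := by simp [ent, slL, tL]

set_option maxRecDepth 100000 in
theorem t_pow4_mul' : ∀ a b c d a' b' c' d' : ZMod 3, tdet (a, b, c, d) = 1 →
    tdet (a', b', c', d') = 1 → tpow4 (a, b, c, d) = tone → tpow4 (a', b', c', d') = tone →
    tpow4 (tmul (a, b, c, d) (a', b', c', d')) = tone := by
  decide

theorem t_pow4_mul (X Y : T3) : tdet X = 1 → tdet Y = 1 → tpow4 X = tone → tpow4 Y = tone →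
    tpow4 (tmul X Y) = tone := by
  obtain ⟨a, b, c, d⟩ := X
  obtain ⟨a', b', c', d'⟩ := Y
  exact t_pow4_mul' a b c d a' b' c' d'

set_option maxRecDepth 100000 in
theorem t_pow4_comm' : ∀ a b c d a' b' c' d' : ZMod 3, tdet (a, b, c, d) = 1 →
    tdet (a', b', c', d') = 1 → tpow4 (tcomm (a, b, c, d) (a', b', c', d')) = tone := by
  decide

theorem t_pow4_comm (X Y : T3) : tdet X = 1 → tdet Y = 1 → tpow4 (tcomm X Y) = tone := by
  obtain ⟨a, b, c, d⟩ := X
  obtain ⟨a', b', c', d'⟩ := Y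
  exact t_pow4_comm' a b c d a' b' c' d'

set_option maxRecDepth 100000 in
theorem t_neg_mem' : ∀ a b c d : ZMod 3, tdet (a, b, c, d) = 1 → (a, b, c, d) ≠ tone →
    (a, b, c, d) = tneg ∨ tsq (a, b, c, d) = tneg ∨ tcomm (a, b, c, d) tU = tneg ∨
      tsq (tcomm (a, b, c, d) tU) = tneg ∨ tcomm (a, b, c, d) tL = tneg ∨
      tsq (tcomm (a, b, c, d) tL) = tneg := by
  decide

theorem t_neg_mem (X : T3) : tdet X = 1 → X ≠ tone →
    X = tneg ∨ tsq X = tneg ∨ tcomm X tU = tneg ∨ tsq (tcomm X tU) = tneg ∨ tcomm X tL = tneg ∨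
      tsq (tcomm X tL) = tneg := by
  obtain ⟨a, b, c, d⟩ := X
  exact t_neg_mem' a b c d

set_option maxRecDepth 100000 in
theorem t_invol' : ∀ a b c d : ZMod 3, tdet (a, b, c, d) = 1 → tsq (a, b, c, d) = tone →
    (a, b, c, d) ≠ tone → (a, b, c, d) = tneg := by
  decide

theorem t_invol (X : T3) : tdet X = 1 → tsq X = tone → X ≠ tone → X = tneg := by
  obtain ⟨a, b, c, d⟩ := X
  exact t_invol' a b c d

set_option maxRecDepth 100000 in
theorem t_neg_central' : ∀ a b c d : ZMod 3, tmul tneg (a, b, c, d) = tmul (a, b, c, d) tneg := by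
  decide

theorem t_neg_central (X : T3) : tmul tneg X = tmul X tneg := by
  obtain ⟨a, b, c, d⟩ := X
  exact t_neg_central' a b c d

end Cfsg.Agent.Helper22
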