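import Cfsg.Agent.Helper78.Residue
import Mathlib.FieldTheory.IsAlgClosed.Basic
import Mathlib.RingTheory.Localization.Integral
import Mathlib.Analysis.Complex.Polynomial.Basic

/-!
# The residue field of the local ring at a prime of the algebraic integers is algebraically closed

Piece (M-A) of helper16's defect-one engine (board #4960).
-/

set_option autoImplicit false

namespace Cfsg.Agent.Helper22.ResFieldAlgClosed

open Cfsg Cfsg.Agent.Helper77 Cfsg.Agent.Helper78 Polynomial

variable (M : Ideal AlgInt) [hMp : M.IsPrime]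

/-- The inclusion of the algebraic integers in the local ring at `M`. -/
def inclHom : AlgInt →+* localRing M where
  toFun a := ⟨(a : ℂ), memLocalRing_algInt M a⟩
  map_one' := rfl
  map_mul' _ _ := rfl
  map_zero' := rfl
  map_add' _ _ := rfl

/-- A number integral over the local ring at `M` lies in it. -/
theorem memLocalRing_of_isIntegral_localRing {α : ℂ} (hα : IsIntegral (localRing M) α) :
    MemLocalRing M α := by
  letI : Algebra AlgInt (localRing M) := (inclHom M).toAlgebra
  haveI : IsScalarTower AlgInt (localRing M) ℂ := IsScalarTower.of_algebraMap_eq (fun _ => rfl)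
  haveI : IsLocalization M.primeCompl (localRing M) := by
    rw [isLocalization_iff]
    refine ⟨?_, ?_, ?_⟩
    · rintro ⟨b, hb⟩
      have hb0 : (b : ℂ) ≠ 0 := coe_ne_zero_of_not_mem hb
      refine IsUnit.of_mul_eq_one (⟨(b : ℂ)⁻¹, ⟨1, b, hb, by simp⟩⟩ : localRing M) ?_
      apply Subtype.ext
      show (b : ℂ) * (b : ℂ)⁻¹ = 1
      exact mul_inv_cancel₀ hb0
    · rintro ⟨z, a, b, hb, rfl⟩
      have hb0 : (b : ℂ) ≠ 0 := coe_ne_zero_of_not_mem hb
      refine ⟨(a, ⟨b, hb⟩), ?_⟩
      apply Subtype.ext
      show (a : ℂ) / (b : ℂ) * (b : ℂ) = (a : ℂ)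
      field_simp
    · intro x y hxy
      refine ⟨1, ?_⟩
      have : (x : ℂ) = (y : ℂ) := congrArg (fun z : localRing M => (z : ℂ)) hxy
      rw [Subtype.ext this]
  obtain ⟨⟨b, hb⟩, hint⟩ :=
    IsIntegral.exists_multiple_integral_of_isLocalization M.primeCompl (Rₘ := localRing M) α hα
  have hint' : IsIntegral ℤ ((b : ℂ) * α) := by
    have h1 : IsIntegral AlgInt ((b : ℂ) * α) := hint
    exact isIntegral_trans _ h1
  have hb0 : (b : ℂ) ≠ 0 := coe_ne_zero_of_not_mem hb
  refine ⟨⟨(b : ℂ) * α, hint'⟩, b, hb, ?_⟩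
  show (b : ℂ) * α / (b : ℂ) = α
  field_simp

theorem resField_isAlgClosed : IsAlgClosed (ResField M) := by
  apply IsAlgClosed.of_exists_root
  intro p hpm hpi
  have hsurj : Function.Surjective (Ideal.Quotient.mk (localIdeal M)) := Ideal.Quotient.mk_surjective
  obtain ⟨q, hq, hqd, hqm⟩ := lifts_and_natDegree_eq_and_monic
    (f := Ideal.Quotient.mk (localIdeal M)) (p := p)
    ((Polynomial.mem_lifts p).mpr (map_surjective _ hsurj p)) hpm
  -- root of `q` in `ℂ`
  have hdeg : (q.map (localRing M).subtype).degree ≠ 0 := by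
    have hmon : (q.map (localRing M).subtype).Monic := hqm.map _
    rw [degree_eq_natDegree hmon.ne_zero, hqm.natDegree_map, hqd]
    have : p.natDegree ≠ 0 := (natDegree_pos_iff_degree_pos.mpr (degree_pos_of_irreducible hpi)).ne'
    exact_mod_cast this
  obtain ⟨α, hα⟩ := IsAlgClosed.exists_root (q.map (localRing M).subtype) hdeg
  have hαint : IsIntegral (localRing M) α := by
    refine ⟨q, hqm, ?_⟩
    have := hα
    rw [IsRoot.def, eval_map] at this
    exact this
  have hαmem : MemLocalRing M α := memLocalRing_of_isIntegral_localRing M hαint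
  refine ⟨Ideal.Quotient.mk (localIdeal M) ⟨α, hαmem⟩, ?_⟩
  rw [← hq, eval_map, eval₂_at_apply]
  have h0 : eval (⟨α, hαmem⟩ : localRing M) q = 0 := by
    apply Subtype.ext
    have h1 : ((localRing M).subtype) (eval (⟨α, hαmem⟩ : localRing M) q) =
        eval₂ (localRing M).subtype α q := by
      rw [← eval₂_at_apply]; rfl
    have h2 : eval₂ (localRing M).subtype α q = 0 := by
      rw [← eval_map]; exact hα
    exact h1.trans h2
  rw [h0, map_zero]

end Cfsg.Agent.Helper22.ResFieldAlgClosed
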