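import Mathlib
import Cfsg.Prelude.Def_Local
import Cfsg.Agent.Helper21.Components
import Cfsg.Agent.Lib.Cores
import Cfsg.Agent.Helper29.Fitting

set_option autoImplicit false

/-!
Layer, Fitting subgroup and generalized Fitting subgroup of a finite group (helper22).
Built on `Helper21.Components` (a component lies in or commutes with each subnormal subgroup).
-/

namespace Cfsg.Agent.Helper22

open Cfsg Cfsg.Agent.Helper21

variable {G : Type*} [Group G]

/-! ### Components -/

theorem IsComponent.commutator_self {K : Subgroup G} (hK : IsComponent K) : ⁅K, K⁆ = K :=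
  Subgroup.isPerfect_iff.1 hK.2.1

theorem IsComponent.ne_bot {K : Subgroup G} (hK : IsComponent K) : K ≠ ⊥ := by
  intro h
  have := IsQuasisimple.nontrivial hK.2
  rw [h] at this
  exact not_nontrivial _ this

/-- Distinct components commute. -/
theorem IsComponent.commutator_eq_bot_of_ne {K L : Subgroup G} (hK : IsComponent K)
    (hL : IsComponent L) (hne : K ≠ L) : ⁅K, L⁆ = ⊥ := by
  rcases IsComponent.le_or_commutator_eq_bot_of_isSubnormal hK hL.1 with h | h
  · rcases IsComponent.le_or_commutator_eq_bot_of_isSubnormal hL hK.1 with h' | h'
    · exact absurd (le_antisymm h h') hne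
    · rw [Subgroup.commutator_comm]; exact h'
  · exact h

theorem IsComponent.le_layer {K : Subgroup G} (hK : IsComponent K) : K ≤ layer G :=
  le_sSup hK

/-- A subgroup containing every component contains the layer. -/
theorem layer_le_iff {H : Subgroup G} : layer G ≤ H ↔ ∀ K : Subgroup G, IsComponent K → K ≤ H := by
  unfold layer
  rw [sSup_le_iff]
  rfl

/-- Every component is normalized by the layer. -/
theorem IsComponent.layer_le_normalizer {K : Subgroup G} (hK : IsComponent K) :
    layer G ≤ Subgroup.normalizer (K : Set G) := by
  rw [layer_le_iff]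
  intro L hL
  by_cases h : L = K
  · rw [h]; exact Subgroup.le_normalizer
  · have := IsComponent.commutator_eq_bot_of_ne hL hK h
    rw [Subgroup.commutator_eq_bot_iff_le_centralizer] at this
    exact this.trans (Subgroup.centralizer_le_normalizer _)

/-- Every component is a normal subgroup of the layer. -/
theorem IsComponent.normal_subgroupOf_layer {K : Subgroup G} (hK : IsComponent K) :
    (K.subgroupOf (layer G)).Normal := by
  rw [Subgroup.normal_subgroupOf_iff_le_normalizer (IsComponent.le_layer hK)]
  exact IsComponent.layer_le_normalizer hK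

/-- The layer is perfect. -/
theorem layer_commutator_self : ⁅layer G, layer G⁆ = layer G := by
  apply le_antisymm (Subgroup.commutator_le_self _)
  rw [layer_le_iff]
  intro K hK
  calc K = ⁅K, K⁆ := (IsComponent.commutator_self hK).symm
    _ ≤ ⁅layer G, layer G⁆ :=
      Subgroup.commutator_mono (IsComponent.le_layer hK) (IsComponent.le_layer hK)

/-- If the layer is solvable it is trivial. -/
theorem layer_eq_bot_of_isSolvable (h : Group.IsSolvable ↥(layer G)) : layer G = ⊥ := by
  rw [eq_bot_iff, layer_le_iff]
  intro K hK
  exfalso
  apply IsQuasisimple.not_isSolvable hK.2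
  exact Group.isSolvable_of_isSolvable_injective (f := Subgroup.inclusion (IsComponent.le_layer hK))
    (Subgroup.inclusion_injective _)

/-- `layer G = ⊥` iff there are no components. -/
theorem layer_eq_bot_iff : layer G = ⊥ ↔ ∀ K : Subgroup G, ¬ IsComponent K := by
  constructor
  · intro h K hK
    have := IsComponent.le_layer hK
    rw [h, le_bot_iff] at this
    exact IsComponent.ne_bot hK this
  · intro h
    rw [eq_bot_iff, layer_le_iff]
    intro K hK
    exact absurd hK (h K)

/-- A component commutes with every solvable normal subgroup. -/
theorem IsComponent.commutator_eq_bot_of_normal_isSolvable {K : Subgroup G} (hK : IsComponent K)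
    (N : Subgroup G) [N.Normal] (hN : Group.IsSolvable ↥N) : ⁅K, N⁆ = ⊥ :=
  IsComponent.commutator_eq_bot_of_isSolvable hK N hN
    (le_trans le_top (Subgroup.normalizer_eq_top_iff.mpr inferInstance).ge)

/-- The layer commutes with every solvable normal subgroup. -/
theorem layer_commutator_eq_bot_of_normal_isSolvable (N : Subgroup G) [N.Normal]
    (hN : Group.IsSolvable ↥N) : ⁅layer G, N⁆ = ⊥ := by
  rw [Subgroup.commutator_eq_bot_iff_le_centralizer, layer_le_iff]
  intro K hK
  rw [← Subgroup.commutator_eq_bot_iff_le_centralizer]
  exact IsComponent.commutator_eq_bot_of_normal_isSolvable hK N hN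

/-- The layer commutes with the Fitting subgroup. -/
theorem layer_commutator_fittingSubgroup [Finite G] : ⁅layer G, fittingSubgroup G⁆ = ⊥ := by
  have : Group.IsNilpotent ↥(fittingSubgroup G) := Cfsg.Agent.Lib.isNilpotent_fittingSubgroup
  exact layer_commutator_eq_bot_of_normal_isSolvable _ inferInstance

end Cfsg.Agent.Helper22
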