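import Mathlib
import Cfsg.Prelude.Def_Local
import Cfsg.Agent.Helper22.Layer

set_option autoImplicit false

/-!
Subnormal subgroups and the Fitting subgroup / layer (helper22).
-/

namespace Cfsg.Agent.Helper22

open Cfsg Cfsg.Agent.Helper21

variable {G : Type*} [Group G]

/-- membership in a conjugate subgroup -/
theorem mem_map_conj_iff (N : Subgroup G) (k x : G) :
    x ∈ N.map (MulAut.conj k).toMonoidHom ↔ k⁻¹ * x * k ∈ N := by
  constructor
  · rintro ⟨n, hn, rfl⟩
    have : k⁻¹ * ((MulAut.conj k).toMonoidHom n) * k = n := by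
      simp [MulAut.conj_apply, mul_assoc]
    rw [this]; exact hn
  · intro h
    refine ⟨k⁻¹ * x * k, h, ?_⟩
    simp [MulAut.conj_apply, mul_assoc]

theorem map_conj_map_conj (N : Subgroup G) (k k' : G) :
    (N.map (MulAut.conj k).toMonoidHom).map (MulAut.conj k').toMonoidHom =
      N.map (MulAut.conj (k' * k)).toMonoidHom := by
  ext x
  simp only [mem_map_conj_iff]
  have : (k' * k)⁻¹ * x * (k' * k) = k⁻¹ * (k'⁻¹ * x * k') * k := by group
  rw [this]

/-- A subgroup of a nilpotent subgroup is nilpotent. -/
theorem isNilpotent_of_le {M F : Subgroup G} (h : M ≤ F) (hF : Group.IsNilpotent ↥F) :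
    Group.IsNilpotent ↥M := by
  have : Group.IsNilpotent ↥(M.subgroupOf F) := inferInstance
  exact Group.nilpotent_of_mulEquiv (Subgroup.subgroupOfEquivOfLe h)

/-- A conjugate of a nilpotent subgroup is nilpotent. -/
theorem isNilpotent_map_conj {N : Subgroup G} (hN : Group.IsNilpotent ↥N) (k : G) :
    Group.IsNilpotent ↥(N.map (MulAut.conj k).toMonoidHom) :=
  Group.nilpotent_of_mulEquiv
    (N.equivMapOfInjective (MulAut.conj k).toMonoidHom (MulAut.conj k).injective)

/-- Relative form: a subgroup `N` normalized by `H ≥ N`, nilpotent, lies in the image of `F(H)`. -/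
theorem le_map_fittingSubgroup_of_le_normalizer [Finite G] {N H : Subgroup G} (hNH : N ≤ H)
    (hHN : H ≤ Subgroup.normalizer (N : Set G)) (hnil : Group.IsNilpotent ↥N) :
    N ≤ (fittingSubgroup ↥H).map H.subtype := by
  have hnorm : (N.subgroupOf H).Normal :=
    (Subgroup.normal_subgroupOf_iff_le_normalizer hNH).mpr hHN
  have hnil' : Group.IsNilpotent ↥(N.subgroupOf H) :=
    Group.nilpotent_of_mulEquiv (Subgroup.subgroupOfEquivOfLe hNH).symm
  have := Cfsg.Agent.Lib.le_fittingSubgroup hnorm hnil'
  calc N = (N.subgroupOf H).map H.subtype := (Subgroup.map_subgroupOf_eq_of_le hNH).symm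
    _ ≤ (fittingSubgroup ↥H).map H.subtype := Subgroup.map_mono this

theorem isNilpotent_map_fittingSubgroup [Finite G] (H : Subgroup G) :
    Group.IsNilpotent ↥((fittingSubgroup ↥H).map H.subtype) := by
  have : Group.IsNilpotent ↥(fittingSubgroup ↥H) := Cfsg.Agent.Lib.isNilpotent_fittingSubgroup
  exact Group.nilpotent_of_mulEquiv
    ((fittingSubgroup ↥H).equivMapOfInjective H.subtype H.subtype_injective)

theorem le_fittingSubgroup_of_isSubnormal_aux [Finite G] {H : Subgroup G} (hH : H.IsSubnormal) :
    ∀ N : Subgroup G, N ≤ H → H ≤ Subgroup.normalizer (N : Set G) → Group.IsNilpotent ↥N →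
      N ≤ fittingSubgroup G := by
  induction hH with
  | top =>
    intro N _ hn hnil
    have hN : N.Normal := Subgroup.normalizer_eq_top_iff.mp (top_le_iff.mp hn)
    exact Cfsg.Agent.Lib.le_fittingSubgroup hN hnil
  | step H K h_le hSubn hN ih =>
    intro N hNH hHN hnil
    rw [Subgroup.normal_subgroupOf_iff_le_normalizer h_le] at hN
    set M : Subgroup G := ⨆ k : K, N.map (MulAut.conj (k : G)).toMonoidHom with hM
    have hNM : N ≤ M := by
      have h1 : N.map (MulAut.conj ((1 : K) : G)).toMonoidHom ≤ M :=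
        le_iSup (fun k : K => N.map (MulAut.conj (k : G)).toMonoidHom) 1
      intro x hx
      apply h1
      rw [mem_map_conj_iff]
      simpa using hx
    -- each conjugate is in H, normalized by H, nilpotent
    have hconjH : ∀ k : K, N.map (MulAut.conj (k : G)).toMonoidHom ≤ H := by
      intro k x hx
      rw [mem_map_conj_iff] at hx
      have h1 : (k : G)⁻¹ * x * k ∈ H := hNH hx
      have h2 := (Subgroup.mem_normalizer_iff.mp (hN k.2) ((k : G)⁻¹ * x * k)).mp h1
      have : (k : G) * ((k : G)⁻¹ * x * k) * (k : G)⁻¹ = x := by group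
      rwa [this] at h2
    have hMH : M ≤ H := iSup_le hconjH
    have hconjN : ∀ k : K, H ≤ Subgroup.normalizer
        ((N.map (MulAut.conj (k : G)).toMonoidHom : Subgroup G) : Set G) := by
      intro k h hh
      -- k⁻¹ h k ∈ H normalizes N
      have h1 : (k : G)⁻¹ * h * k ∈ H := by
        have := (Subgroup.mem_normalizer_iff.mp (Subgroup.inv_mem _ (hN k.2)) h).mp hh
        simpa using this
      have h2 := hHN h1
      rw [Subgroup.mem_normalizer_iff] at h2 ⊢
      intro x
      rw [mem_map_conj_iff, mem_map_conj_iff, h2 ((k : G)⁻¹ * x * k)]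
      have : (k : G)⁻¹ * h * k * ((k : G)⁻¹ * x * k) * ((k : G)⁻¹ * h * k)⁻¹ =
          (k : G)⁻¹ * (h * x * h⁻¹) * k := by group
      rw [this]
    have hMF : M ≤ (fittingSubgroup ↥H).map H.subtype := by
      apply iSup_le
      intro k
      exact le_map_fittingSubgroup_of_le_normalizer (hconjH k) (hconjN k)
        (isNilpotent_map_conj hnil _)
    have hMnil : Group.IsNilpotent ↥M := isNilpotent_of_le hMF (isNilpotent_map_fittingSubgroup H)
    have hmapM : ∀ k' : G, k' ∈ K → M.map (MulAut.conj k').toMonoidHom ≤ M := by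
      intro k' hk'
      rw [hM, Subgroup.map_iSup]
      apply iSup_le
      intro k
      rw [map_conj_map_conj]
      exact le_iSup (fun k : K => N.map (MulAut.conj (k : G)).toMonoidHom) (⟨k', hk'⟩ * k)
    have hKM : K ≤ Subgroup.normalizer (M : Set G) := by
      intro k' hk'
      rw [Subgroup.mem_normalizer_iff]
      intro x
      constructor
      · intro hx
        apply hmapM k' hk'
        rw [mem_map_conj_iff]
        have : k'⁻¹ * (k' * x * k'⁻¹) * k' = x := by group
        rwa [this]
      · intro hx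
        have := hmapM k'⁻¹ (K.inv_mem hk') (by
          rw [mem_map_conj_iff]
          show (k'⁻¹)⁻¹ * x * k'⁻¹ ∈ M
          simpa using hx : x ∈ M.map (MulAut.conj k'⁻¹).toMonoidHom)
        exact this
    exact hNM.trans (ih M (hMH.trans h_le) hKM hMnil)

/-- A subnormal nilpotent subgroup of a finite group lies in the Fitting subgroup. -/
theorem le_fittingSubgroup_of_isSubnormal [Finite G] {H : Subgroup G} (hH : H.IsSubnormal)
    (hnil : Group.IsNilpotent ↥H) : H ≤ fittingSubgroup G :=
  le_fittingSubgroup_of_isSubnormal_aux hH H le_rfl Subgroup.le_normalizer hnil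

end Cfsg.Agent.Helper22
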