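import Mathlib
import Cfsg.Prelude.Def_Local
import Cfsg.Agent.Helper22.Subnormal

set_option autoImplicit false

/-!
The generalized Fitting subgroup contains its centralizer (helper22).
-/

namespace Cfsg.Agent.Helper22

open Cfsg Cfsg.Agent.Helper21

/-- If every proper normal subgroup of a non-abelian group is central, the central quotient is simple. -/
theorem isSimpleGroup_quotient_center_of {X : Type*} [Group X] (hnc : Subgroup.center X ≠ ⊤)
    (h : ∀ N : Subgroup X, N.Normal → N ≠ ⊤ → N ≤ Subgroup.center X) :
    IsSimpleGroup (X ⧸ Subgroup.center X) := by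
  have : Nontrivial (X ⧸ Subgroup.center X) := QuotientGroup.nontrivial_iff.mpr hnc
  refine ⟨fun Q hQ => ?_⟩
  have hsurj := QuotientGroup.mk'_surjective (Subgroup.center X)
  by_cases hQ' : Q.comap (QuotientGroup.mk' (Subgroup.center X)) = ⊤
  · right
    rw [← Subgroup.map_comap_eq_self_of_surjective hsurj Q, hQ',
      Subgroup.map_top_of_surjective _ hsurj]
  · left
    have h1 := h _ (hQ.comap _) hQ'
    rw [eq_bot_iff, ← Subgroup.map_comap_eq_self_of_surjective hsurj Q]
    calc Subgroup.map (QuotientGroup.mk' (Subgroup.center X))
          (Subgroup.comap (QuotientGroup.mk' (Subgroup.center X)) Q)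
        ≤ Subgroup.map (QuotientGroup.mk' (Subgroup.center X)) (Subgroup.center X) :=
          Subgroup.map_mono h1
      _ = ⊥ := QuotientGroup.map_mk'_self _

variable {G : Type*} [Group G]

/-- A subgroup `M` all of whose proper normal subgroups are centralized by `M` is either nilpotent
or quasisimple (or trivial). -/
theorem isNilpotent_or_isQuasisimple_of_proper_normal_central (M : Subgroup G)
    (hcentral : ∀ N : Subgroup G, N ≤ M → M ≤ Subgroup.normalizer (N : Set G) → N ≠ M →
      N ≤ Subgroup.centralizer (M : Set G)) :
    Group.IsNilpotent ↥M ∨ IsQuasisimple ↥M := by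
  by_cases hperf : ⁅M, M⁆ = M
  · by_cases hM1 : M = ⊥
    · left
      subst hM1
      infer_instance
    · right
      refine ⟨Subgroup.isPerfect_iff.mpr hperf, ?_⟩
      apply isSimpleGroup_quotient_center_of
      · intro hc
        apply hM1
        -- M commutative → ⁅M, M⁆ = ⊥
        have : ⁅M, M⁆ = ⊥ := by
          rw [Subgroup.commutator_eq_bot_iff_le_centralizer]
          intro a ha
          rw [Subgroup.mem_centralizer_iff]
          intro b hb
          have h1 : (⟨a, ha⟩ : ↥M) ∈ Subgroup.center ↥M := by rw [hc]; trivial
          have := Subgroup.mem_center_iff.mp h1 ⟨b, hb⟩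
          exact congrArg Subtype.val this
        rw [← hperf, this]
      · intro N hN hNtop
        have h1 : N.map M.subtype ≤ M := Subgroup.map_subtype_le N
        have h2 : M ≤ Subgroup.normalizer ((N.map M.subtype : Subgroup G) : Set G) := by
          intro m hm
          rw [Subgroup.mem_normalizer_iff]
          intro x
          constructor
          · rintro ⟨n, hn, rfl⟩
            refine ⟨⟨m, hm⟩ * n * ⟨m, hm⟩⁻¹, hN.conj_mem n hn ⟨m, hm⟩, ?_⟩
            simp
          · rintro ⟨n, hn, hnx⟩
            refine ⟨⟨m, hm⟩⁻¹ * n * ⟨m, hm⟩, ?_, ?_⟩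
            · have := hN.conj_mem n hn (⟨m, hm⟩⁻¹)
              simpa using this
            · simp only [Subgroup.subtype_apply, Subgroup.coe_mul, Subgroup.coe_inv] at hnx ⊢
              rw [hnx]; group
        have h3 : N.map M.subtype ≠ M := by
          intro h
          apply hNtop
          rw [eq_top_iff]
          intro x _
          have : (x : G) ∈ N.map M.subtype := by rw [h]; exact x.2
          obtain ⟨n, hn, hnx⟩ := this
          have : n = x := Subtype.ext hnx
          rwa [← this]
        have h4 := hcentral _ h1 h2 h3
        intro n hn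
        rw [Subgroup.mem_center_iff]
        intro g
        have h5 : (n : G) ∈ Subgroup.centralizer (M : Set G) := h4 ⟨n, hn, rfl⟩
        have := Subgroup.mem_centralizer_iff.mp h5 g g.2
        exact Subtype.ext this
  · left
    have h1 : ⁅M, M⁆ ≤ Subgroup.centralizer (M : Set G) := by
      apply hcentral _ (Subgroup.commutator_le_self M) _ hperf
      intro m hm
      rw [Subgroup.mem_normalizer_iff]
      intro x
      have hchar : ∀ y : G, y ∈ M → ∀ z, z ∈ ⁅M, M⁆ → y * z * y⁻¹ ∈ ⁅M, M⁆ := by
        intro y hy z hz
        have hmap : (⁅M, M⁆).map (MulAut.conj y).toMonoidHom ≤ ⁅M, M⁆ := by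
          rw [Subgroup.map_commutator]
          have : M.map (MulAut.conj y).toMonoidHom ≤ M := by
            rintro _ ⟨w, hw, rfl⟩
            exact M.mul_mem (M.mul_mem hy hw) (M.inv_mem hy)
          exact Subgroup.commutator_mono this this
        exact hmap ⟨z, hz, rfl⟩
      constructor
      · exact hchar m hm x
      · intro hx
        have := hchar m⁻¹ (M.inv_mem hm) _ hx
        simpa [mul_assoc] using this
    apply Subgroup.isNilpotent_of_lowerCentralSeries_eq_bot (n := 2)
    rw [Subgroup.lowerCentralSeries_succ, Subgroup.lowerCentralSeries_succ,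
      Subgroup.lowerCentralSeries_zero, Subgroup.commutator_eq_bot_iff_le_centralizer]
    exact h1

theorem bender_aux [Finite G] : ∀ n : ℕ, ∀ M : Subgroup G, Nat.card ↥M = n → M.IsSubnormal →
    M ≤ Subgroup.centralizer (generalizedFittingSubgroup G : Set G) →
    M ≤ generalizedFittingSubgroup G := by
  intro n
  induction n using Nat.strong_induction_on with
  | _ n ih =>
    intro M hcard hsn hMC
    have hprop : ∀ N : Subgroup G, N ≤ M → M ≤ Subgroup.normalizer (N : Set G) → N ≠ M →
        N ≤ generalizedFittingSubgroup G := by
      intro N hNM hnorm hne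
      have hlt : Nat.card ↥N < n := by
        by_contra hge
        push_neg at hge
        exact hne (Subgroup.eq_of_le_of_card_ge hNM (hcard ▸ hge))
      have hNsn : N.IsSubnormal :=
        Subgroup.IsSubnormal.trans hNM
          ((Subgroup.normal_subgroupOf_iff_le_normalizer hNM).mpr hnorm).isSubnormal hsn
      exact ih _ hlt N rfl hNsn (hNM.trans hMC)
    have hcentral : ∀ N : Subgroup G, N ≤ M → M ≤ Subgroup.normalizer (N : Set G) → N ≠ M →
        N ≤ Subgroup.centralizer (M : Set G) := by
      intro N h1 h2 h3
      exact (hprop N h1 h2 h3).trans (Subgroup.le_centralizer_iff.mp hMC)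
    rcases isNilpotent_or_isQuasisimple_of_proper_normal_central M hcentral with hnil | hq
    · exact (le_fittingSubgroup_of_isSubnormal hsn hnil).trans le_sup_right
    · have hcomp : IsComponent M := ⟨hsn, hq⟩
      exact (IsComponent.le_layer hcomp).trans le_sup_left

/-- **Bender.** In a finite group, `C_G(F*(G)) ≤ F*(G)`. -/
theorem centralizer_generalizedFittingSubgroup_le [Finite G] :
    Subgroup.centralizer (generalizedFittingSubgroup G : Set G) ≤ generalizedFittingSubgroup G := by
  have hN : (Subgroup.centralizer (generalizedFittingSubgroup G : Set G)).Normal :=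
    Subgroup.normal_centralizer
  exact bender_aux _ _ rfl hN.isSubnormal le_rfl

end Cfsg.Agent.Helper22
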