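import Mathlib
import Cfsg.Prelude.Def_Local
import Cfsg.Agent.Helper22.Bender

set_option autoImplicit false

/-!
Components and layers of subnormal subgroups (helper22).
-/

namespace Cfsg.Agent.Helper22

open Cfsg Cfsg.Agent.Helper21

variable {G : Type*} [Group G]

/-- A component of a subnormal subgroup is a component of the whole group. -/
theorem IsComponent.map_subtype {A : Subgroup G} (hA : A.IsSubnormal) {K : Subgroup ↥A}
    (hK : IsComponent K) : IsComponent (K.map A.subtype) :=
  ⟨hK.1.trans' hA,
    IsQuasisimple.of_mulEquiv (K.equivMapOfInjective A.subtype A.subtype_injective) hK.2⟩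

/-- A component of `G` contained in `A` is a component of `A`. -/
theorem IsComponent.subgroupOf {K A : Subgroup G} (hK : IsComponent K) (hKA : K ≤ A) :
    IsComponent (K.subgroupOf A) :=
  ⟨hK.1.subgroupOf, IsQuasisimple.of_mulEquiv (Subgroup.subgroupOfEquivOfLe hKA).symm hK.2⟩

/-- The layer of a subnormal subgroup is generated by the components of `G` it contains. -/
theorem map_layer_subtype {A : Subgroup G} (hA : A.IsSubnormal) :
    (layer ↥A).map A.subtype = sSup {K : Subgroup G | IsComponent K ∧ K ≤ A} := by
  apply le_antisymm
  · rw [Subgroup.map_le_iff_le_comap, layer_le_iff]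
    intro K hK
    rw [← Subgroup.map_le_iff_le_comap]
    exact le_sSup ⟨IsComponent.map_subtype hA hK, Subgroup.map_subtype_le K⟩
  · apply sSup_le
    rintro K ⟨hK, hKA⟩
    calc K = (K.subgroupOf A).map A.subtype := (Subgroup.map_subgroupOf_eq_of_le hKA).symm
      _ ≤ (layer ↥A).map A.subtype :=
        Subgroup.map_mono (IsComponent.le_layer (IsComponent.subgroupOf hK hKA))

theorem map_layer_subtype_le {A : Subgroup G} (hA : A.IsSubnormal) :
    (layer ↥A).map A.subtype ≤ layer G := by
  rw [map_layer_subtype hA]
  apply sSup_le
  rintro K ⟨hK, _⟩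
  exact IsComponent.le_layer hK

/-- The layer normalizes every subnormal subgroup. -/
theorem layer_le_normalizer_of_isSubnormal {A : Subgroup G} (hA : A.IsSubnormal) :
    layer G ≤ Subgroup.normalizer (A : Set G) := by
  rw [layer_le_iff]
  intro K hK
  rcases IsComponent.le_or_commutator_eq_bot_of_isSubnormal hK hA with h | h
  · exact h.trans Subgroup.le_normalizer
  · rw [Subgroup.commutator_eq_bot_iff_le_centralizer] at h
    exact h.trans (Subgroup.centralizer_le_normalizer _)

end Cfsg.Agent.Helper22
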