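import Mathlib
import Cfsg.Prelude.Def_Local
import Cfsg.Agent.Helper22.SubLayer

set_option autoImplicit false

/-!
Transport of relative components under conjugation (helper22).
-/

namespace Cfsg.Agent.Helper22

open Cfsg Cfsg.Agent.Helper21

variable {G : Type*} [Group G]

theorem mem_centralizer_singleton_iff (y z : G) :
    z ∈ Subgroup.centralizer ({y} : Set G) ↔ y * z = z * y := by
  rw [Subgroup.mem_centralizer_iff]
  constructor
  · intro h; exact h y rfl
  · intro h w hw
    rw [Set.mem_singleton_iff] at hw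
    subst hw; exact h

theorem map_conj_centralizer_singleton (g y : G) :
    (Subgroup.centralizer ({y} : Set G)).map (MulAut.conj g).toMonoidHom =
      Subgroup.centralizer ({g * y * g⁻¹} : Set G) := by
  ext z
  rw [mem_map_conj_iff, mem_centralizer_singleton_iff, mem_centralizer_singleton_iff]
  constructor
  · intro h
    calc g * y * g⁻¹ * z = g * (y * (g⁻¹ * z * g)) * g⁻¹ := by group
      _ = g * ((g⁻¹ * z * g) * y) * g⁻¹ := by rw [h]
      _ = z * (g * y * g⁻¹) := by group
  · intro h
    calc y * (g⁻¹ * z * g) = g⁻¹ * ((g * y * g⁻¹) * z) * g := by group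
      _ = g⁻¹ * (z * (g * y * g⁻¹)) * g := by rw [h]
      _ = g⁻¹ * z * g * y := by group

theorem map_conj_centralizer (g : G) (L : Subgroup G) :
    (Subgroup.centralizer (L : Set G)).map (MulAut.conj g).toMonoidHom =
      Subgroup.centralizer ((L.map (MulAut.conj g).toMonoidHom : Subgroup G) : Set G) := by
  ext z
  rw [mem_map_conj_iff, Subgroup.mem_centralizer_iff, Subgroup.mem_centralizer_iff]
  constructor
  · intro h w hw
    have hw' : g⁻¹ * w * g ∈ L := (mem_map_conj_iff L g w).mp hw
    have := h _ hw'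
    calc w * z = g * ((g⁻¹ * w * g) * (g⁻¹ * z * g)) * g⁻¹ := by group
      _ = g * ((g⁻¹ * z * g) * (g⁻¹ * w * g)) * g⁻¹ := by rw [this]
      _ = z * w := by group
  · intro h l hl
    have hw : g * l * g⁻¹ ∈ L.map (MulAut.conj g).toMonoidHom := by
      rw [mem_map_conj_iff]
      have : g⁻¹ * (g * l * g⁻¹) * g = l := by group
      rwa [this]
    have := h _ hw
    calc l * (g⁻¹ * z * g) = g⁻¹ * ((g * l * g⁻¹) * z) * g := by group
      _ = g⁻¹ * (z * (g * l * g⁻¹)) * g := by rw [this]
      _ = g⁻¹ * z * g * l := by group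

/-- Relative components are transported by conjugation. -/
theorem isComponent_subgroupOf_map_conj {L C : Subgroup G} (g : G)
    (h : IsComponent (L.subgroupOf C)) :
    IsComponent ((L.map (MulAut.conj g).toMonoidHom).subgroupOf
      (C.map (MulAut.conj g).toMonoidHom)) := by
  let φ : ↥C ≃* ↥(C.map (MulAut.conj g).toMonoidHom) :=
    C.equivMapOfInjective (MulAut.conj g).toMonoidHom (MulAut.conj g).injective
  have h1 := Cfsg.Agent.Helper29.isComponent_map_mulEquiv φ h
  have h2 : (L.subgroupOf C).map φ.toMonoidHom =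
      (L.map (MulAut.conj g).toMonoidHom).subgroupOf (C.map (MulAut.conj g).toMonoidHom) := by
    ext ⟨z, hz⟩
    rw [Subgroup.mem_subgroupOf]
    constructor
    · rintro ⟨w, hw, hwz⟩
      replace hw : (w : G) ∈ L := Subgroup.mem_subgroupOf.mp hw
      have : (MulAut.conj g).toMonoidHom (w : G) = z := congrArg Subtype.val hwz
      exact ⟨w, hw, this⟩
    · rintro ⟨l, hl, hlz⟩
      obtain ⟨c, hc, hcz⟩ := hz
      have hlc : l = c := (MulAut.conj g).injective (hlz.trans hcz.symm)
      refine ⟨⟨l, hlc ▸ hc⟩, ?_, ?_⟩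
      · exact Subgroup.mem_subgroupOf.mpr hl
      · apply Subtype.ext
        exact hlz
  rw [← h2]
  exact h1

/-- `N_G(L) ≤ N_G(C_G(L))`. -/
theorem normalizer_le_normalizer_centralizer (L : Subgroup G) :
    Subgroup.normalizer (L : Set G) ≤
      Subgroup.normalizer ((Subgroup.centralizer (L : Set G) : Subgroup G) : Set G) := by
  intro g hg
  have key : ∀ g : G, g ∈ Subgroup.normalizer (L : Set G) → ∀ c, c ∈ Subgroup.centralizer (L : Set G) →
      g * c * g⁻¹ ∈ Subgroup.centralizer (L : Set G) := by
    intro g hg c hc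
    rw [Subgroup.mem_centralizer_iff] at hc ⊢
    intro l hl
    have hl' : g⁻¹ * l * g ∈ L := by
      have := (Subgroup.mem_normalizer_iff.mp (Subgroup.inv_mem _ hg) l).mp hl
      simpa using this
    have := hc _ hl'
    calc l * (g * c * g⁻¹) = g * ((g⁻¹ * l * g) * c) * g⁻¹ := by group
      _ = g * (c * (g⁻¹ * l * g)) * g⁻¹ := by rw [this]
      _ = g * c * g⁻¹ * l := by group
  rw [Subgroup.mem_normalizer_iff]
  intro c
  constructor
  · exact key g hg c
  · intro h
    have := key g⁻¹ (Subgroup.inv_mem _ hg) _ h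
    simpa [mul_assoc] using this

theorem map_conj_eq_of_mem_normalizer {S : Subgroup G} {c : G}
    (hc : c ∈ Subgroup.normalizer (S : Set G)) : S.map (MulAut.conj c).toMonoidHom = S := by
  ext x
  rw [mem_map_conj_iff]
  have := (Subgroup.mem_normalizer_iff.mp (Subgroup.inv_mem _ hc) x)
  simpa using this.symm

theorem mem_normalizer_of_map_conj_eq {S : Subgroup G} {c : G}
    (h : S.map (MulAut.conj c).toMonoidHom = S) : c ∈ Subgroup.normalizer (S : Set G) := by
  have h' : ∀ x, c⁻¹ * x * c ∈ S ↔ x ∈ S := by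
    intro x
    rw [← mem_map_conj_iff, h]
  rw [Subgroup.mem_normalizer_iff]
  intro x
  have := h' (c * x * c⁻¹)
  have e : c⁻¹ * (c * x * c⁻¹) * c = x := by group
  rw [e] at this
  exact this

end Cfsg.Agent.Helper22
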