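import Mathlib
import Cfsg.Prelude.Def_Local
import Cfsg.Agent.Helper22.Conj

set_option autoImplicit false

/-!
More on `F*(G) = E(G) F(G)` (helper22).
-/

namespace Cfsg.Agent.Helper22

open Cfsg Cfsg.Agent.Helper21

variable {G : Type*} [Group G]

/-- The centre of the layer lies in the Fitting subgroup. -/
theorem map_center_layer_le_fittingSubgroup :
    (Subgroup.center ↥(layer G)).map (layer G).subtype ≤ fittingSubgroup G := by
  have hN : ((Subgroup.center ↥(layer G)).map (layer G).subtype).Normal :=
    ConjAct.normal_of_characteristic_of_normal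
  apply Cfsg.Agent.Lib.le_fittingSubgroup hN
  have e := (Subgroup.center ↥(layer G)).equivMapOfInjective (layer G).subtype
    (layer G).subtype_injective
  have : Group.IsNilpotent ↥(Subgroup.center ↥(layer G)) :=
    Cfsg.Agent.Helper29.isNilpotent_of_isMulCommutative _
  exact Group.nilpotent_of_mulEquiv e

theorem mem_fittingSubgroup_of_mem_layer_of_commute {z : G} (hz : z ∈ layer G)
    (h : ∀ e ∈ layer G, e * z = z * e) : z ∈ fittingSubgroup G := by
  apply map_center_layer_le_fittingSubgroup
  refine ⟨⟨z, hz⟩, ?_, rfl⟩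
  show (⟨z, hz⟩ : ↥(layer G)) ∈ Subgroup.center ↥(layer G)
  rw [Subgroup.mem_center_iff]
  intro g
  exact Subtype.ext (h g g.2)

/-- Splitting the layer along a subgroup `B`. -/
theorem layer_eq_sup_of_split (B : Subgroup G) :
    layer G = sSup {K : Subgroup G | IsComponent K ∧ K ≤ B} ⊔
      sSup {K : Subgroup G | IsComponent K ∧ ¬ K ≤ B} := by
  apply le_antisymm
  · rw [layer_le_iff]
    intro K hK
    by_cases h : K ≤ B
    · exact (le_sSup (show K ∈ {K : Subgroup G | IsComponent K ∧ K ≤ B} from ⟨hK, h⟩)).trans
        le_sup_left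
    · exact (le_sSup (show K ∈ {K : Subgroup G | IsComponent K ∧ ¬ K ≤ B} from ⟨hK, h⟩)).trans
        le_sup_right
  · apply sup_le
    · apply sSup_le
      rintro K ⟨hK, _⟩
      exact IsComponent.le_layer hK
    · apply sSup_le
      rintro K ⟨hK, _⟩
      exact IsComponent.le_layer hK

/-- The components not contained in a subnormal subgroup `B` centralize `B`. -/
theorem sSup_not_le_le_centralizer {B : Subgroup G} (hB : B.IsSubnormal) :
    sSup {K : Subgroup G | IsComponent K ∧ ¬ K ≤ B} ≤ Subgroup.centralizer (B : Set G) := by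
  apply sSup_le
  rintro K ⟨hK, hKB⟩
  rcases IsComponent.le_or_commutator_eq_bot_of_isSubnormal hK hB with h | h
  · exact absurd h hKB
  · rwa [Subgroup.commutator_eq_bot_iff_le_centralizer] at h

/-- The components not contained in `B` centralize the components contained in `B`. -/
theorem sSup_not_le_le_centralizer_sSup_le (B : Subgroup G) :
    sSup {K : Subgroup G | IsComponent K ∧ ¬ K ≤ B} ≤
      Subgroup.centralizer ((sSup {K : Subgroup G | IsComponent K ∧ K ≤ B} : Subgroup G) : Set G) := by
  apply sSup_le
  rintro K ⟨hK, hKB⟩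
  rw [Subgroup.le_centralizer_iff]
  apply sSup_le
  rintro L ⟨hL, hLB⟩
  rw [← Subgroup.commutator_eq_bot_iff_le_centralizer]
  apply IsComponent.commutator_eq_bot_of_ne hL hK
  rintro rfl
  exact hKB hLB

end Cfsg.Agent.Helper22
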