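import Mathlib
import Cfsg.Prelude.Def_Local
import Cfsg.Agent.Helper22.FStar

set_option autoImplicit false
open scoped Pointwise

/-!
`F*(G) ∩ S` for a subnormal subgroup `S` (helper22).
-/

namespace Cfsg.Agent.Helper22

open Cfsg Cfsg.Agent.Helper21

variable {G : Type*} [Group G]

/-- For `S` subnormal in the finite group `G`, the image of `F(S)` in `G` is `F(G) ∩ S`. -/
theorem map_fittingSubgroup_subtype_of_isSubnormal [Finite G] {S : Subgroup G} (hS : S.IsSubnormal) :
    (fittingSubgroup ↥S).map S.subtype = fittingSubgroup G ⊓ S := by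
  apply le_antisymm
  · apply le_inf _ (Subgroup.map_subtype_le _)
    apply le_fittingSubgroup_of_isSubnormal _ (isNilpotent_map_fittingSubgroup S)
    have : (fittingSubgroup ↥S).Normal := inferInstance
    exact this.isSubnormal.trans' hS
  · apply le_map_fittingSubgroup_of_le_normalizer inf_le_right
    · have : (fittingSubgroup G ⊓ S).subgroupOf S = (fittingSubgroup G).subgroupOf S := by
        ext x; simp [Subgroup.mem_subgroupOf]
      have hn : ((fittingSubgroup G ⊓ S).subgroupOf S).Normal := by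
        rw [this]; infer_instance
      exact (Subgroup.normal_subgroupOf_iff_le_normalizer inf_le_right).mp hn
    · exact isNilpotent_of_le inf_le_left Cfsg.Agent.Lib.isNilpotent_fittingSubgroup

/-- For `S` subnormal in the finite group `G`:
`F*(G) ∩ S ≤ ⟨components of G inside S⟩ (F(G) ∩ S)`. -/
theorem generalizedFittingSubgroup_inf_le_of_isSubnormal [Finite G] {S : Subgroup G}
    (hS : S.IsSubnormal) :
    generalizedFittingSubgroup G ⊓ S ≤
      sSup {K : Subgroup G | IsComponent K ∧ K ≤ S} ⊔ (fittingSubgroup G ⊓ S) := by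
  intro x hx
  obtain ⟨hxF, hxS⟩ := Subgroup.mem_inf.mp hx
  unfold generalizedFittingSubgroup at hxF
  obtain ⟨e, he, f, hf, rfl⟩ := Subgroup.mem_sup_of_normal_right.mp hxF
  set E₁ := sSup {K : Subgroup G | IsComponent K ∧ K ≤ S} with hE₁
  set E₂ := sSup {K : Subgroup G | IsComponent K ∧ ¬ K ≤ S} with hE₂
  have hsplit : layer G = E₁ ⊔ E₂ := layer_eq_sup_of_split S
  have hE₁S : E₁ ≤ S := by
    apply sSup_le
    rintro K ⟨_, hKS⟩
    exact hKS
  have hE₂E₁ : E₂ ≤ Subgroup.centralizer (E₁ : Set G) := sSup_not_le_le_centralizer_sSup_le S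
  have hnorm : E₂ ≤ Subgroup.normalizer (E₁ : Set G) :=
    hE₂E₁.trans (Subgroup.centralizer_le_normalizer _)
  have hmem : ∀ g ∈ layer G, ∃ g₁ ∈ E₁, ∃ g₂ ∈ E₂, g = g₁ * g₂ := by
    intro g hg
    have hg' : g ∈ ((E₁ ⊔ E₂ : Subgroup G) : Set G) := hsplit ▸ hg
    rw [Subgroup.coe_mul_of_right_le_normalizer_left E₁ E₂ hnorm] at hg'
    obtain ⟨g₁, hg₁, g₂, hg₂, h⟩ := hg'
    exact ⟨g₁, hg₁, g₂, hg₂, h.symm⟩
  obtain ⟨e₁, he₁, e₂, he₂, rfl⟩ := hmem e he
  have hE₂layer : E₂ ≤ layer G := hsplit ▸ le_sup_right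
  have hy : e₂ * f ∈ S := by
    have : e₂ * f = e₁⁻¹ * (e₁ * e₂ * f) := by group
    rw [this]
    exact S.mul_mem (S.inv_mem (hE₁S he₁)) hxS
  have hfE : ∀ g ∈ layer G, g * f = f * g := by
    intro g hg
    have hc : layer G ≤ Subgroup.centralizer (fittingSubgroup G : Set G) := by
      rw [← Subgroup.commutator_eq_bot_iff_le_centralizer]
      exact layer_commutator_fittingSubgroup
    exact (Subgroup.mem_centralizer_iff.mp (hc hg) f hf).symm
  have he₂c : ∀ g ∈ layer G, g * e₂ = e₂ * g := by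
    intro g hg
    obtain ⟨g₁, hg₁, g₂, hg₂, rfl⟩ := hmem g hg
    have c1 : g₁ * e₂ = e₂ * g₁ := Subgroup.mem_centralizer_iff.mp (hE₂E₁ he₂) g₁ hg₁
    have c2 : (e₂ * f) * g₂ = g₂ * (e₂ * f) :=
      Subgroup.mem_centralizer_iff.mp (sSup_not_le_le_centralizer hS hg₂) _ hy
    have c3 : g₂ * f = f * g₂ := hfE g₂ (hE₂layer hg₂)
    have c4 : g₂ * e₂ = e₂ * g₂ := by
      calc g₂ * e₂ = g₂ * (e₂ * f) * f⁻¹ := by group
        _ = (e₂ * f) * g₂ * f⁻¹ := by rw [c2]
        _ = e₂ * (f * g₂) * f⁻¹ := by group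
        _ = e₂ * (g₂ * f) * f⁻¹ := by rw [c3]
        _ = e₂ * g₂ := by group
    calc g₁ * g₂ * e₂ = g₁ * (g₂ * e₂) := by group
      _ = g₁ * (e₂ * g₂) := by rw [c4]
      _ = (g₁ * e₂) * g₂ := by group
      _ = (e₂ * g₁) * g₂ := by rw [c1]
      _ = e₂ * (g₁ * g₂) := by group
  have he₂F : e₂ ∈ fittingSubgroup G :=
    mem_fittingSubgroup_of_mem_layer_of_commute (hE₂layer he₂) he₂c
  have hyF : e₂ * f ∈ fittingSubgroup G ⊓ S :=
    Subgroup.mem_inf.mpr ⟨(fittingSubgroup G).mul_mem he₂F hf, hy⟩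
  have : e₁ * e₂ * f = e₁ * (e₂ * f) := by group
  rw [this]
  exact Subgroup.mul_mem_sup he₁ hyF

/-- For `S` subnormal in the finite group `G`: `F*(G) ∩ S ≤ F*(S)` (viewed in `G`). -/
theorem generalizedFittingSubgroup_inf_le_map_of_isSubnormal [Finite G] {S : Subgroup G}
    (hS : S.IsSubnormal) :
    generalizedFittingSubgroup G ⊓ S ≤ (generalizedFittingSubgroup ↥S).map S.subtype := by
  refine (generalizedFittingSubgroup_inf_le_of_isSubnormal hS).trans ?_
  unfold generalizedFittingSubgroup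
  rw [Subgroup.map_sup, map_layer_subtype hS, map_fittingSubgroup_subtype_of_isSubnormal hS]

/-- For `S` subnormal in the finite group `G`: `F*(S) ≤ F*(G) ∩ S` (viewed in `G`). -/
theorem map_generalizedFittingSubgroup_le_of_isSubnormal [Finite G] {S : Subgroup G}
    (hS : S.IsSubnormal) :
    (generalizedFittingSubgroup ↥S).map S.subtype ≤ generalizedFittingSubgroup G ⊓ S := by
  apply le_inf _ (Subgroup.map_subtype_le _)
  unfold generalizedFittingSubgroup
  rw [Subgroup.map_sup, map_fittingSubgroup_subtype_of_isSubnormal hS]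
  exact sup_le_sup (map_layer_subtype_le hS) inf_le_left

end Cfsg.Agent.Helper22
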