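import Mathlib
import Cfsg.Prelude.Def_Local
import Cfsg.Agent.Helper22.Subnormal

set_option autoImplicit false

/-!
Subnormal subgroups with a "radical" property lie in the radical (helper22):
a general induction principle and its instances for `O_{p'}` and `O_p`.
-/

namespace Cfsg.Agent.Helper22

open Cfsg

variable {G : Type*} [Group G]

/-- General principle: let `P` be a property of subgroups, stable under conjugation and passage to
subgroups, such that inside each subgroup `H` there is a subgroup `R H` with property `P`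
containing all `P`-subgroups normalized by `H`.  If `R₀` contains all normal `P`-subgroups of `G`,
then it contains all subnormal `P`-subgroups. -/
theorem le_of_isSubnormal_of_radical (P : Subgroup G → Prop) (R : Subgroup G → Subgroup G)
    (R₀ : Subgroup G)
    (hconj : ∀ (N : Subgroup G) (g : G), P N → P (N.map (MulAut.conj g).toMonoidHom))
    (hmono : ∀ M N : Subgroup G, M ≤ N → P N → P M)
    (hR : ∀ N H : Subgroup G, N ≤ H → H ≤ Subgroup.normalizer (N : Set G) → P N → N ≤ R H)
    (hPR : ∀ H : Subgroup G, P (R H))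
    (h₀ : ∀ N : Subgroup G, N.Normal → P N → N ≤ R₀)
    {H : Subgroup G} (hH : H.IsSubnormal) :
    ∀ N : Subgroup G, N ≤ H → H ≤ Subgroup.normalizer (N : Set G) → P N → N ≤ R₀ := by
  induction hH with
  | top =>
    intro N _ hn hPN
    have hN : N.Normal := Subgroup.normalizer_eq_top_iff.mp (top_le_iff.mp hn)
    exact h₀ N hN hPN
  | step H K h_le hSubn hN ih =>
    intro N hNH hHN hPN
    rw [Subgroup.normal_subgroupOf_iff_le_normalizer h_le] at hN
    set M : Subgroup G := ⨆ k : K, N.map (MulAut.conj (k : G)).toMonoidHom with hM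
    have hNM : N ≤ M := by
      have h1 : N.map (MulAut.conj ((1 : K) : G)).toMonoidHom ≤ M :=
        le_iSup (fun k : K => N.map (MulAut.conj (k : G)).toMonoidHom) 1
      intro x hx
      apply h1
      rw [mem_map_conj_iff]
      simpa using hx
    have hconjH : ∀ k : K, N.map (MulAut.conj (k : G)).toMonoidHom ≤ H := by
      intro k x hx
      rw [mem_map_conj_iff] at hx
      have h1 : (k : G)⁻¹ * x * k ∈ H := hNH hx
      have h2 := (Subgroup.mem_normalizer_iff.mp (hN k.2) ((k : G)⁻¹ * x * k)).mp h1
      have : (k : G) * ((k : G)⁻¹ * x * k) * (k : G)⁻¹ = x := by group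
      rwa [this] at h2
    have hMH : M ≤ H := iSup_le hconjH
    have hconjN : ∀ k : K, H ≤ Subgroup.normalizer
        ((N.map (MulAut.conj (k : G)).toMonoidHom : Subgroup G) : Set G) := by
      intro k h hh
      have h1 : (k : G)⁻¹ * h * k ∈ H := by
        have := (Subgroup.mem_normalizer_iff.mp (Subgroup.inv_mem _ (hN k.2)) h).mp hh
        simpa using this
      have h2 := hHN h1
      rw [Subgroup.mem_normalizer_iff] at h2 ⊢
      intro x
      rw [mem_map_conj_iff, mem_map_conj_iff, h2 ((k : G)⁻¹ * x * k)]
      have : (k : G)⁻¹ * h * k * ((k : G)⁻¹ * x * k) * ((k : G)⁻¹ * h * k)⁻¹ =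
          (k : G)⁻¹ * (h * x * h⁻¹) * k := by group
      rw [this]
    have hMR : M ≤ R H := by
      apply iSup_le
      intro k
      exact hR _ _ (hconjH k) (hconjN k) (hconj N _ hPN)
    have hPM : P M := hmono M (R H) hMR (hPR H)
    have hmapM : ∀ k' : G, k' ∈ K → M.map (MulAut.conj k').toMonoidHom ≤ M := by
      intro k' hk'
      rw [hM, Subgroup.map_iSup]
      apply iSup_le
      intro k
      rw [map_conj_map_conj]
      exact le_iSup (fun k : K => N.map (MulAut.conj (k : G)).toMonoidHom) (⟨k', hk'⟩ * k)
    have hKM : K ≤ Subgroup.normalizer (M : Set G) := by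
      intro k' hk'
      rw [Subgroup.mem_normalizer_iff]
      intro x
      constructor
      · intro hx
        apply hmapM k' hk'
        rw [mem_map_conj_iff]
        have : k'⁻¹ * (k' * x * k'⁻¹) * k' = x := by group
        rwa [this]
      · intro hx
        have := hmapM k'⁻¹ (K.inv_mem hk') (by
          rw [mem_map_conj_iff]
          show (k'⁻¹)⁻¹ * x * k'⁻¹ ∈ M
          simpa using hx : x ∈ M.map (MulAut.conj k'⁻¹).toMonoidHom)
        exact this
    exact hNM.trans (ih M (hMH.trans h_le) hKM hPM)

theorem card_map_conj (N : Subgroup G) (g : G) :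
    Nat.card ↥(N.map (MulAut.conj g).toMonoidHom) = Nat.card ↥N :=
  (Nat.card_congr (N.equivMapOfInjective (MulAut.conj g).toMonoidHom
    (MulAut.conj g).injective).toEquiv).symm

/-- A subnormal subgroup of order prime to `p` of a finite group lies in `O_{p'}(G)`. -/
theorem le_pPrimeCore_of_isSubnormal [Finite G] {p : ℕ} {N : Subgroup G} (hN : N.IsSubnormal)
    (hp : (Nat.card ↥N).Coprime p) : N ≤ pPrimeCore p G := by
  refine le_of_isSubnormal_of_radical (fun N => (Nat.card ↥N).Coprime p)
    (fun H => (pPrimeCore p ↥H).map H.subtype) (pPrimeCore p G) ?_ ?_ ?_ ?_ ?_ hN N le_rfl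
    Subgroup.le_normalizer hp
  · intro N g h
    show (Nat.card ↥(N.map (MulAut.conj g).toMonoidHom)).Coprime p
    rw [card_map_conj]; exact h
  · intro M N hMN h
    exact Nat.Coprime.coprime_dvd_left (Subgroup.card_dvd_of_le hMN) h
  · intro N H hNH hHN h
    have hnorm : (N.subgroupOf H).Normal :=
      (Subgroup.normal_subgroupOf_iff_le_normalizer hNH).mpr hHN
    have hcard : (Nat.card ↥(N.subgroupOf H)).Coprime p := by
      rw [Nat.card_congr (Subgroup.subgroupOfEquivOfLe hNH).toEquiv]; exact h
    have := Cfsg.Agent.Lib.le_pPrimeCore hnorm hcard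
    calc N = (N.subgroupOf H).map H.subtype := (Subgroup.map_subgroupOf_eq_of_le hNH).symm
      _ ≤ (pPrimeCore p ↥H).map H.subtype := Subgroup.map_mono this
  · intro H
    show (Nat.card ↥((pPrimeCore p ↥H).map H.subtype)).Coprime p
    rw [← Nat.card_congr ((pPrimeCore p ↥H).equivMapOfInjective H.subtype
      H.subtype_injective).toEquiv]
    exact Cfsg.Agent.Lib.card_pPrimeCore_coprime p
  · intro N hN h
    exact Cfsg.Agent.Lib.le_pPrimeCore hN h

/-- A subnormal `p`-subgroup of a finite group lies in `O_p(G)`. -/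
theorem le_pCore_of_isSubnormal [Finite G] {p : ℕ} {N : Subgroup G} (hN : N.IsSubnormal)
    (hp : IsPGroup p ↥N) : N ≤ pCore p G := by
  refine le_of_isSubnormal_of_radical (fun N => IsPGroup p ↥N)
    (fun H => (pCore p ↥H).map H.subtype) (pCore p G) ?_ ?_ ?_ ?_ ?_ hN N le_rfl
    Subgroup.le_normalizer hp
  · intro N g h
    exact h.map _
  · intro M N hMN h
    exact h.to_le hMN
  · intro N H hNH hHN h
    have hnorm : (N.subgroupOf H).Normal :=
      (Subgroup.normal_subgroupOf_iff_le_normalizer hNH).mpr hHN
    have hpg : IsPGroup p ↥(N.subgroupOf H) :=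
      h.of_equiv (Subgroup.subgroupOfEquivOfLe hNH).symm
    have := Cfsg.Agent.Lib.le_pCore hnorm hpg
    calc N = (N.subgroupOf H).map H.subtype := (Subgroup.map_subgroupOf_eq_of_le hNH).symm
      _ ≤ (pCore p ↥H).map H.subtype := Subgroup.map_mono this
  · intro H
    exact (Cfsg.Agent.Lib.isPGroup_pCore p).map _
  · intro N hN h
    exact Cfsg.Agent.Lib.le_pCore hN h

end Cfsg.Agent.Helper22
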