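import Mathlib
import Cfsg.Prelude.Def_Local
import Cfsg.Agent.Helper22.Radical
import Cfsg.Agent.Helper22.FStar2

set_option autoImplicit false
open scoped commutatorElement

/-!
Basic facts on `p`-components (helper22).
-/

namespace Cfsg.Agent.Helper22

open Cfsg Cfsg.Agent.Helper21

variable {G : Type*} [Group G]

/-- `H` normalizes `⁅H, K⁆`. -/
theorem le_normalizer_commutator (H K : Subgroup G) :
    H ≤ Subgroup.normalizer ((⁅H, K⁆ : Subgroup G) : Set G) := by
  have key : ∀ h ∈ H, ∀ x ∈ ⁅H, K⁆, h * x * h⁻¹ ∈ ⁅H, K⁆ := by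
    intro h hh x hx
    have : (⁅H, K⁆).map (MulAut.conj h).toMonoidHom ≤ ⁅H, K⁆ := by
      rw [Subgroup.map_le_iff_le_comap, Subgroup.commutator_le]
      intro a ha b hb
      rw [Subgroup.mem_comap]
      show h * ⁅a, b⁆ * h⁻¹ ∈ ⁅H, K⁆
      have e : h * ⁅a, b⁆ * h⁻¹ = ⁅h * a, b⁆ * ⁅h, b⁆⁻¹ := by
        simp only [commutatorElement_def]; group
      rw [e]
      exact Subgroup.mul_mem _ (Subgroup.commutator_mem_commutator (H.mul_mem hh ha) hb)
        (Subgroup.inv_mem _ (Subgroup.commutator_mem_commutator hh hb))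
    exact this ⟨x, hx, rfl⟩
  intro h hh
  rw [Subgroup.mem_normalizer_iff]
  intro x
  constructor
  · exact key h hh x
  · intro hx
    have := key h⁻¹ (H.inv_mem hh) _ hx
    simpa [mul_assoc] using this

/-- The derived subgroup of a subnormal subgroup is subnormal. -/
theorem isSubnormal_commutator_self {K : Subgroup G} (hK : K.IsSubnormal) : (⁅K, K⁆).IsSubnormal := by
  have h1 : ⁅K, K⁆ ≤ K := Subgroup.commutator_le_self K
  have h2 : ((⁅K, K⁆).subgroupOf K).Normal :=
    (Subgroup.normal_subgroupOf_iff_le_normalizer h1).mpr (le_normalizer_commutator K K)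
  exact Subgroup.IsSubnormal.trans h1 h2.isSubnormal hK

/-- A subgroup of the finite group `G` with order not prime to `p` contains an element of order `p`. -/
theorem exists_orderOf_eq_of_dvd_card [Finite G] (p : ℕ) [Fact p.Prime] {N : Subgroup G}
    (h : p ∣ Nat.card ↥N) : ∃ x ∈ N, orderOf x = p := by
  obtain ⟨⟨x, hx⟩, hox⟩ := exists_prime_orderOf_dvd_card' p h
  exact ⟨x, hx, by rw [← hox]; exact (Subgroup.orderOf_mk x hx).symm⟩

theorem coprime_card_of_not_dvd {p n : ℕ} [hp : Fact p.Prime] (h : ¬ p ∣ n) : n.Coprime p :=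
  (Nat.Prime.coprime_iff_not_dvd hp.out).mpr h |>.symm

theorem not_dvd_of_coprime_card {p n : ℕ} [hp : Fact p.Prime] (h : n.Coprime p) : ¬ p ∣ n :=
  (Nat.Prime.coprime_iff_not_dvd hp.out).mp h.symm

/-- `O_{p'}(G / O_{p'}(G)) = 1` for finite `G`. -/
theorem pPrimeCore_quotient_eq_bot [Finite G] (p : ℕ) [Fact p.Prime] :
    pPrimeCore p (G ⧸ pPrimeCore p G) = ⊥ := by
  set O := pPrimeCore p G with hO
  set Nbar := pPrimeCore p (G ⧸ O) with hNbar
  have hNbar_cop : (Nat.card ↥Nbar).Coprime p := Cfsg.Agent.Lib.card_pPrimeCore_coprime p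
  have hO_cop : (Nat.card ↥O).Coprime p := Cfsg.Agent.Lib.card_pPrimeCore_coprime p
  set N := Nbar.comap (QuotientGroup.mk' O) with hN
  have hNn : N.Normal := Subgroup.Normal.comap inferInstance _
  have hNcop : (Nat.card ↥N).Coprime p := by
    apply coprime_card_of_not_dvd
    intro hdvd
    obtain ⟨x, hxN, hox⟩ := exists_orderOf_eq_of_dvd_card p hdvd
    have hxbar : QuotientGroup.mk' O x ∈ Nbar := hxN
    have h1 : orderOf (QuotientGroup.mk' O x) ∣ p := by
      have := orderOf_map_dvd (QuotientGroup.mk' O) x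
      rwa [hox] at this
    have h2 : orderOf (QuotientGroup.mk' O x) ∣ Nat.card ↥Nbar := Subgroup.orderOf_dvd_natCard _ hxbar
    have h3 : orderOf (QuotientGroup.mk' O x) = 1 :=
      Nat.eq_one_of_dvd_coprimes hNbar_cop h2 h1
    rw [orderOf_eq_one_iff, QuotientGroup.mk'_apply, QuotientGroup.eq_one_iff] at h3
    have h4 : p ∣ Nat.card ↥O := by
      have := Subgroup.orderOf_dvd_natCard O h3
      rwa [hox] at this
    exact not_dvd_of_coprime_card hO_cop h4
  have hNO : N ≤ O := Cfsg.Agent.Lib.le_pPrimeCore hNn hNcop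
  rw [eq_bot_iff]
  intro y hy
  obtain ⟨x, rfl⟩ := QuotientGroup.mk'_surjective O y
  have : x ∈ N := hy
  rw [Subgroup.mem_bot, QuotientGroup.mk'_apply, QuotientGroup.eq_one_iff]
  exact hNO this

/-! ### `p`-components -/

theorem IsPComponent.isSubnormal {p : ℕ} {K : Subgroup G} (hK : IsPComponent p K) :
    K.IsSubnormal := hK.1

theorem IsPComponent.isComponent_map {p : ℕ} {K : Subgroup G} (hK : IsPComponent p K) :
    IsComponent (K.map (QuotientGroup.mk' (pPrimeCore p G))) := hK.2.1

theorem IsPComponent.eq_of_map_eq {p : ℕ} {K : Subgroup G} (hK : IsPComponent p K)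
    {H : Subgroup G} (hH : H.IsSubnormal) (hHK : H ≤ K)
    (h : H.map (QuotientGroup.mk' (pPrimeCore p G)) = K.map (QuotientGroup.mk' (pPrimeCore p G))) :
    H = K := hK.2.2 H hH hHK h

/-- A `p`-component is perfect. -/
theorem IsPComponent.commutator_self {p : ℕ} {K : Subgroup G} (hK : IsPComponent p K) :
    ⁅K, K⁆ = K := by
  apply IsPComponent.eq_of_map_eq hK (isSubnormal_commutator_self hK.1)
    (Subgroup.commutator_le_self K)
  rw [Subgroup.map_commutator]
  exact IsComponent.commutator_self (IsPComponent.isComponent_map hK)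

/-- The order of a component of `G / O_{p'}(G)` is divisible by `p`. -/
theorem dvd_card_of_isComponent_quotient [Finite G] (p : ℕ) [Fact p.Prime]
    {L : Subgroup (G ⧸ pPrimeCore p G)} (hL : IsComponent L) : p ∣ Nat.card ↥L := by
  by_contra h
  have h1 := le_pPrimeCore_of_isSubnormal hL.1 (coprime_card_of_not_dvd h)
  rw [pPrimeCore_quotient_eq_bot, le_bot_iff] at h1
  exact IsComponent.ne_bot hL h1

/-- The order of a `p`-component is divisible by `p`. -/
theorem IsPComponent.dvd_card [Finite G] {p : ℕ} [Fact p.Prime] {K : Subgroup G}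
    (hK : IsPComponent p K) : p ∣ Nat.card ↥K :=
  dvd_trans (dvd_card_of_isComponent_quotient p (IsPComponent.isComponent_map hK))
    (Subgroup.card_map_dvd _ _)

/-- A perfect subgroup with abelian image... : a subnormal subgroup `H` of the `p`-component `K`
has image `π(K)` or central in `π(K)`. -/
theorem IsPComponent.map_eq_or_le_centralizer {p : ℕ} {K : Subgroup G} (hK : IsPComponent p K)
    {H : Subgroup G} (hH : H.IsSubnormal) (hHK : H ≤ K) :
    H.map (QuotientGroup.mk' (pPrimeCore p G)) = K.map (QuotientGroup.mk' (pPrimeCore p G)) ∨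
    H.map (QuotientGroup.mk' (pPrimeCore p G)) ≤
      Subgroup.centralizer ((K.map (QuotientGroup.mk' (pPrimeCore p G)) : Subgroup _) : Set _) := by
  set π := QuotientGroup.mk' (pPrimeCore p G) with hπ
  have hsn : (H.map π).IsSubnormal := hH.map (QuotientGroup.mk'_surjective _)
  have hle : H.map π ≤ K.map π := Subgroup.map_mono hHK
  have hsn' : ((H.map π).subgroupOf (K.map π)).IsSubnormal := hsn.subgroupOf
  rcases IsQuasisimple.subnormal_eq_top_or_le_center (IsPComponent.isComponent_map hK).2 _ hsn' with h | h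
  · left
    rw [Subgroup.subgroupOf_eq_top] at h
    exact le_antisymm hle h
  · right
    intro x hx
    rw [Subgroup.mem_centralizer_iff]
    intro y hy
    have hx' : (⟨x, hle hx⟩ : ↥(K.map π)) ∈ (H.map π).subgroupOf (K.map π) :=
      Subgroup.mem_subgroupOf.mpr hx
    have := Subgroup.mem_center_iff.mp (h hx') ⟨y, hy⟩
    exact congrArg Subtype.val this

end Cfsg.Agent.Helper22
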