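import Mathlib
import Cfsg.Prelude.Def_Local
import Cfsg.Agent.Helper22.PComponent

set_option autoImplicit false
open scoped commutatorElement

/-!
`p`-components: the key containment lemma, existence and uniqueness (helper22).
-/

namespace Cfsg.Agent.Helper22

open Cfsg Cfsg.Agent.Helper21

variable {G : Type*} [Group G]

/-- One step: if `S ⊴ T ≤ S O` with `O` a normal `p'`-subgroup, then `S` contains the `p`-elements
of `T`. -/
theorem mem_of_pElement_of_le_sup [Finite G] (p : ℕ) [Fact p.Prime] {S T O : Subgroup G} [O.Normal]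
    (hO : (Nat.card ↥O).Coprime p) (hST : S ≤ T) (hTS : T ≤ Subgroup.normalizer (S : Set G))
    (hTO : T ≤ S ⊔ O) {x : G} (hxT : x ∈ T) (hx : ∃ a : ℕ, x ^ p ^ a = 1) : x ∈ S := by
  obtain ⟨a, ha⟩ := hx
  obtain ⟨s, hs, o, ho, hso⟩ := Subgroup.mem_sup_of_normal_right.mp (hTO hxT)
  have hoT : o ∈ T := by
    have : o = s⁻¹ * x := by rw [← hso]; group
    rw [this]
    exact T.mul_mem (T.inv_mem (hST hs)) hxT
  have hn : (S.subgroupOf T).Normal := (Subgroup.normal_subgroupOf_iff_le_normalizer hST).mpr hTS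
  let q := QuotientGroup.mk' (S.subgroupOf T)
  have hq : q ⟨x, hxT⟩ = q ⟨o, hoT⟩ := by
    have h1 : (⟨x, hxT⟩ : ↥T) = ⟨s, hST hs⟩ * ⟨o, hoT⟩ := Subtype.ext hso.symm
    rw [h1, map_mul]
    have h2 : q ⟨s, hST hs⟩ = 1 := by
      rw [QuotientGroup.mk'_apply, QuotientGroup.eq_one_iff]
      exact Subgroup.mem_subgroupOf.mpr hs
    rw [h2, one_mul]
  have h1 : orderOf (q ⟨x, hxT⟩) ∣ p ^ a := by
    apply orderOf_dvd_of_pow_eq_one
    rw [← map_pow]
    have : (⟨x, hxT⟩ : ↥T) ^ p ^ a = 1 := Subtype.ext (by simpa using ha)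
    rw [this, map_one]
  have h2 : orderOf (q ⟨x, hxT⟩) ∣ Nat.card ↥O := by
    rw [hq]
    refine dvd_trans (orderOf_map_dvd q _) ?_
    rw [Subgroup.orderOf_mk]
    exact Subgroup.orderOf_dvd_natCard O ho
  have h3 : orderOf (q ⟨x, hxT⟩) = 1 :=
    Nat.eq_one_of_dvd_coprimes (Nat.Coprime.pow_right a hO) h2 h1
  rw [orderOf_eq_one_iff, QuotientGroup.mk'_apply, QuotientGroup.eq_one_iff] at h3
  exact Subgroup.mem_subgroupOf.mp h3

/-- A subnormal subgroup `S` contains all `p`-elements of `S O_{p'}(G)`. -/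
theorem mem_of_pElement_of_isSubnormal [Finite G] (p : ℕ) [Fact p.Prime] {S : Subgroup G}
    (hS : S.IsSubnormal) : ∀ x : G, x ∈ S ⊔ pPrimeCore p G → (∃ a : ℕ, x ^ p ^ a = 1) → x ∈ S := by
  induction hS with
  | top => intro x _ _; trivial
  | step S S₁ h_le hSubn hN ih =>
    intro x hx hxp
    rw [Subgroup.normal_subgroupOf_iff_le_normalizer h_le] at hN
    have hx₁ : x ∈ S₁ := ih x (sup_le_sup_right h_le _ hx) hxp
    have hcop : (Nat.card ↥(pPrimeCore p G)).Coprime p := Cfsg.Agent.Lib.card_pPrimeCore_coprime p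
    exact mem_of_pElement_of_le_sup p (T := S₁ ⊓ (S ⊔ pPrimeCore p G)) hcop
      (le_inf h_le le_sup_left) (inf_le_left.trans hN) inf_le_right
      (Subgroup.mem_inf.mpr ⟨hx₁, hx⟩) hxp

/-- In a finite perfect group of order divisible by `p`, not every `p`-element is central. -/
theorem exists_pElement_not_mem_center {X : Type*} [Group X] [Finite X] (p : ℕ) [Fact p.Prime]
    (hperf : Group.IsPerfect X) (hp : p ∣ Nat.card X) :
    ∃ x : X, (∃ a : ℕ, x ^ p ^ a = 1) ∧ x ∉ Subgroup.center X := by
  by_contra hcon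
  push Not at hcon
  obtain ⟨P⟩ : Nonempty (Sylow p X) := inferInstance
  have hPc : (P : Subgroup X) ≤ Subgroup.center X := by
    intro x hx
    apply hcon x
    obtain ⟨k, hk⟩ := (IsPGroup.iff_orderOf.mp P.2) ⟨x, hx⟩
    refine ⟨k, ?_⟩
    have h1 : orderOf x = p ^ k := by rw [← hk]; exact (Subgroup.orderOf_mk x hx).symm
    rw [← h1]; exact pow_orderOf_eq_one x
  have hP : Subgroup.normalizer ((P : Subgroup X) : Set X) ≤ Subgroup.centralizer ((P : Subgroup X) : Set X) := by
    intro g _
    rw [Subgroup.mem_centralizer_iff]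
    intro x hx
    exact (Subgroup.mem_center_iff.mp (hPc hx) g).symm
  have h1 := MonoidHom.not_dvd_card_ker_transferSylow P hP
  have h2 : (MonoidHom.transferSylow P hP).ker = ⊤ := by
    rw [eq_top_iff, ← hperf.commutator_eq_top, commutator_def, Subgroup.commutator_le]
    intro a _ b _
    rw [MonoidHom.mem_ker, map_commutatorElement, commutatorElement_def]
    have hc : ∀ u v : ↥(P : Subgroup X), u * v = v * u := by
      intro u v
      apply Subtype.ext
      exact Subgroup.mem_center_iff.mp (hPc v.2) u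
    set u := MonoidHom.transferSylow P hP a
    set v := MonoidHom.transferSylow P hP b
    calc u * v * u⁻¹ * v⁻¹ = (u * v) * u⁻¹ * v⁻¹ := by group
      _ = (v * u) * u⁻¹ * v⁻¹ := by rw [hc u v]
      _ = 1 := by group
  rw [h2] at h1
  apply h1
  rw [Nat.card_congr Subgroup.topEquiv.toEquiv]
  exact hp

/-- **Key lemma.** A `p`-component `K` lies in every subnormal subgroup `H` with `π(K) ≤ π(H)`,
where `π : G → G / O_{p'}(G)`. -/
theorem IsPComponent.le_of_le_sup [Finite G] {p : ℕ} [Fact p.Prime] {K : Subgroup G}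
    (hK : IsPComponent p K) {H : Subgroup G} (hH : H.IsSubnormal)
    (hKH : K ≤ H ⊔ pPrimeCore p G) : K ≤ H := by
  set π := QuotientGroup.mk' (pPrimeCore p G) with hπ
  have hNsn : (K ⊓ H).IsSubnormal := hK.1.inf hH
  -- all p-elements of K lie in K ⊓ H
  have hpel : ∀ x ∈ K, (∃ a : ℕ, x ^ p ^ a = 1) → x ∈ K ⊓ H := by
    intro x hx hxp
    exact Subgroup.mem_inf.mpr ⟨hx, mem_of_pElement_of_isSubnormal p hH x (hKH hx) hxp⟩
  rcases IsPComponent.map_eq_or_le_centralizer hK hNsn inf_le_left with h | h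
  · have := IsPComponent.eq_of_map_eq hK hNsn inf_le_left h
    exact (inf_eq_left.mp this)
  · exfalso
    have hq := (IsPComponent.isComponent_map hK).2
    have hfin : Finite ↥(K.map π) := inferInstance
    obtain ⟨⟨ybar, hybar⟩, ⟨a, hya⟩, hnc⟩ := exists_pElement_not_mem_center p hq.1
      (dvd_card_of_isComponent_quotient p (IsPComponent.isComponent_map hK))
    apply hnc
    obtain ⟨k, hkK, hky⟩ := hybar
    have hya' : ybar ^ p ^ a = 1 := by
      have := congrArg Subtype.val hya
      simpa using this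
    -- the p-part of k
    have hn0 : orderOf k ≠ 0 := (orderOf_pos k).ne'
    obtain ⟨e, m, hpm, hnm⟩ := Nat.exists_eq_pow_mul_and_not_dvd hn0 p (Fact.out : p.Prime).ne_one
    have hxK : k ^ m ∈ K := K.pow_mem hkK m
    have hxp : ∃ a : ℕ, (k ^ m) ^ p ^ a = 1 := by
      refine ⟨e, ?_⟩
      rw [← pow_mul, mul_comm, ← hnm]
      exact pow_orderOf_eq_one k
    have hxN := hpel _ hxK hxp
    have hcent : π (k ^ m) ∈ Subgroup.centralizer ((K.map π : Subgroup _) : Set _) :=
      h (Subgroup.mem_map_of_mem π hxN)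
    -- ybar is a power of ybar ^ m
    have hcop : m.Coprime (orderOf ybar) := by
      have h1 : orderOf ybar ∣ p ^ a := orderOf_dvd_of_pow_eq_one hya'
      have h2 : m.Coprime (p ^ a) :=
        Nat.Coprime.pow_right a (coprime_card_of_not_dvd hpm)
      exact Nat.Coprime.coprime_dvd_right h1 h2
    obtain ⟨j, hj⟩ := exists_pow_eq_self_of_coprime hcop
    have hyc : ybar ∈ Subgroup.centralizer ((K.map π : Subgroup _) : Set _) := by
      rw [← hj, ← hky, ← map_pow]
      exact Subgroup.pow_mem _ hcent j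
    rw [Subgroup.mem_center_iff]
    intro g
    apply Subtype.ext
    exact Subgroup.mem_centralizer_iff.mp hyc g g.2

/-- Variant of the key lemma with images in the quotient. -/
theorem IsPComponent.le_of_map_le [Finite G] {p : ℕ} [Fact p.Prime] {K : Subgroup G}
    (hK : IsPComponent p K) {H : Subgroup G} (hH : H.IsSubnormal)
    (h : K.map (QuotientGroup.mk' (pPrimeCore p G)) ≤ H.map (QuotientGroup.mk' (pPrimeCore p G))) :
    K ≤ H := by
  apply IsPComponent.le_of_le_sup hK hH
  have := Subgroup.comap_mono (f := QuotientGroup.mk' (pPrimeCore p G)) h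
  rw [Subgroup.comap_map_eq, Subgroup.comap_map_eq, QuotientGroup.ker_mk'] at this
  exact le_sup_left.trans this

/-- Two `p`-components with the same image in `G / O_{p'}(G)` are equal. -/
theorem IsPComponent.eq_of_map_eq_map [Finite G] {p : ℕ} [Fact p.Prime] {K L : Subgroup G}
    (hK : IsPComponent p K) (hL : IsPComponent p L)
    (h : K.map (QuotientGroup.mk' (pPrimeCore p G)) = L.map (QuotientGroup.mk' (pPrimeCore p G))) :
    K = L :=
  le_antisymm (IsPComponent.le_of_map_le hK hL.1 h.le) (IsPComponent.le_of_map_le hL hK.1 h.ge)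

/-- Over every component of `G / O_{p'}(G)` there is a `p`-component. -/
theorem exists_isPComponent_map_eq [Finite G] (p : ℕ)
    {L : Subgroup (G ⧸ pPrimeCore p G)} (hL : IsComponent L) :
    ∃ K : Subgroup G, IsPComponent p K ∧ K.map (QuotientGroup.mk' (pPrimeCore p G)) = L := by
  set π := QuotientGroup.mk' (pPrimeCore p G) with hπ
  -- strong induction on the order to find a minimal subnormal subgroup with image L
  have key : ∀ n : ℕ, ∀ S : Subgroup G, Nat.card ↥S = n → S.IsSubnormal → S.map π = L →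
      ∃ K : Subgroup G, IsPComponent p K ∧ K.map π = L := by
    intro n
    induction n using Nat.strong_induction_on with
    | _ n ih =>
      intro S hcard hSsn hSL
      by_cases hmin : ∀ H : Subgroup G, H.IsSubnormal → H ≤ S → H.map π = S.map π → H = S
      · exact ⟨S, ⟨hSsn, hSL ▸ hL, hmin⟩, hSL⟩
      · push Not at hmin
        obtain ⟨H, hHsn, hHS, hHmap, hne⟩ := hmin
        have hlt : Nat.card ↥H < n := by
          by_contra hge
          push Not at hge
          exact hne (Subgroup.eq_of_le_of_card_ge hHS (hcard ▸ hge))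
        exact ih _ hlt H rfl hHsn (hHmap.trans hSL)
  exact key _ (L.comap π) rfl (hL.1.comap π)
    (Subgroup.map_comap_eq_self_of_surjective (QuotientGroup.mk'_surjective _) L)

end Cfsg.Agent.Helper22
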