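import Mathlib
import Cfsg.Prelude.Def_Local
import Cfsg.Agent.Helper22.PComponent2

set_option autoImplicit false
open scoped commutatorElement

/-!
`p`-components: normality in the `p`-layer, the quotient by the `p'`-core, quasisimplicity
criteria (helper22).
-/

namespace Cfsg.Agent.Helper22

open Cfsg Cfsg.Agent.Helper21

variable {G : Type*} [Group G]

/-- image of a conjugate subgroup in a quotient -/
theorem map_mk'_map_conj (N : Subgroup G) [N.Normal] (K : Subgroup G) (g : G) :
    (K.map (MulAut.conj g).toMonoidHom).map (QuotientGroup.mk' N) =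
      (K.map (QuotientGroup.mk' N)).map (MulAut.conj (QuotientGroup.mk' N g)).toMonoidHom := by
  rw [Subgroup.map_map, Subgroup.map_map]
  congr 1

/-- An element whose image normalizes the image of the `p`-component `K` normalizes `K`. -/
theorem IsPComponent.mem_normalizer_of_map [Finite G] {p : ℕ} [Fact p.Prime] {K : Subgroup G}
    (hK : IsPComponent p K) {g : G}
    (hg : (K.map (QuotientGroup.mk' (pPrimeCore p G))).map
      (MulAut.conj (QuotientGroup.mk' (pPrimeCore p G) g)).toMonoidHom =
        K.map (QuotientGroup.mk' (pPrimeCore p G))) :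
    g ∈ Subgroup.normalizer (K : Set G) := by
  apply mem_normalizer_of_map_conj_eq
  have hsn : (K.map (MulAut.conj g).toMonoidHom).IsSubnormal :=
    hK.1.map (MulAut.conj g).surjective
  have h1 : K ≤ K.map (MulAut.conj g).toMonoidHom := by
    apply IsPComponent.le_of_map_le hK hsn
    rw [map_mk'_map_conj, hg]
  exact (Subgroup.eq_of_le_of_card_ge h1 (card_map_conj K g).le).symm

/-- Elements of the centralizer of the image normalize. -/
theorem IsPComponent.mem_normalizer_of_map_mem_centralizer [Finite G] {p : ℕ} [Fact p.Prime]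
    {K : Subgroup G} (hK : IsPComponent p K) {g : G}
    (hg : QuotientGroup.mk' (pPrimeCore p G) g ∈
      Subgroup.centralizer ((K.map (QuotientGroup.mk' (pPrimeCore p G)) : Subgroup _) : Set _)) :
    g ∈ Subgroup.normalizer (K : Set G) := by
  apply IsPComponent.mem_normalizer_of_map hK
  apply map_conj_eq_of_mem_normalizer
  exact Subgroup.centralizer_le_normalizer _ hg

/-- Distinct `p`-components have distinct (hence commuting) images. -/
theorem IsPComponent.commutator_map_eq_bot [Finite G] {p : ℕ} [Fact p.Prime] {K L : Subgroup G}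
    (hK : IsPComponent p K) (hL : IsPComponent p L) (hne : K ≠ L) :
    ⁅K.map (QuotientGroup.mk' (pPrimeCore p G)), L.map (QuotientGroup.mk' (pPrimeCore p G))⁆ = ⊥ := by
  apply IsComponent.commutator_eq_bot_of_ne (IsPComponent.isComponent_map hK)
    (IsPComponent.isComponent_map hL)
  intro h
  exact hne (IsPComponent.eq_of_map_eq_map hK hL h)

/-- Any `p`-component normalizes any other. -/
theorem IsPComponent.le_normalizer [Finite G] {p : ℕ} [Fact p.Prime] {K L : Subgroup G}
    (hK : IsPComponent p K) (hL : IsPComponent p L) : L ≤ Subgroup.normalizer (K : Set G) := by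
  by_cases hne : K = L
  · rw [← hne]; exact Subgroup.le_normalizer
  · intro l hl
    apply IsPComponent.mem_normalizer_of_map_mem_centralizer hK
    have h := IsPComponent.commutator_map_eq_bot hL hK (Ne.symm hne)
    rw [Subgroup.commutator_eq_bot_iff_le_centralizer] at h
    exact h (Subgroup.mem_map_of_mem _ hl)

/-- The `p`-layer normalizes every `p`-component. -/
theorem IsPComponent.pLayer_le_normalizer [Finite G] {p : ℕ} [Fact p.Prime] {K : Subgroup G}
    (hK : IsPComponent p K) : pLayer p G ≤ Subgroup.normalizer (K : Set G) := by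
  unfold pLayer
  apply sSup_le
  intro L hL
  exact IsPComponent.le_normalizer hK hL

theorem IsPComponent.le_pLayer {p : ℕ} {K : Subgroup G} (hK : IsPComponent p K) :
    K ≤ pLayer p G := le_sSup hK

/-- The commutator of two distinct `p`-components lies in `O_{p'}(G)`. -/
theorem IsPComponent.commutator_le_pPrimeCore [Finite G] {p : ℕ} [Fact p.Prime] {K L : Subgroup G}
    (hK : IsPComponent p K) (hL : IsPComponent p L) (hne : K ≠ L) :
    ⁅K, L⁆ ≤ pPrimeCore p G := by
  have h := IsPComponent.commutator_map_eq_bot hK hL hne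
  rw [← Subgroup.map_commutator, Subgroup.map_eq_bot_iff, QuotientGroup.ker_mk'] at h
  exact h

/-- For `K` subnormal in the finite group `G`, the image of `O_{p'}(K)` in `G` is `O_{p'}(G) ∩ K`. -/
theorem map_pPrimeCore_subtype_of_isSubnormal [Finite G] (p : ℕ) {K : Subgroup G}
    (hK : K.IsSubnormal) : (pPrimeCore p ↥K).map K.subtype = pPrimeCore p G ⊓ K := by
  apply le_antisymm
  · apply le_inf _ (Subgroup.map_subtype_le _)
    apply le_pPrimeCore_of_isSubnormal
    · have : (pPrimeCore p ↥K).Normal := inferInstance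
      exact this.isSubnormal.trans' hK
    · rw [← Nat.card_congr ((pPrimeCore p ↥K).equivMapOfInjective K.subtype
        K.subtype_injective).toEquiv]
      exact Cfsg.Agent.Lib.card_pPrimeCore_coprime p
  · have h1 : ((pPrimeCore p G ⊓ K).subgroupOf K).Normal := by
      have : (pPrimeCore p G ⊓ K).subgroupOf K = (pPrimeCore p G).subgroupOf K := by
        ext x; simp [Subgroup.mem_subgroupOf]
      rw [this]; infer_instance
    have h2 : (Nat.card ↥((pPrimeCore p G ⊓ K).subgroupOf K)).Coprime p := by
      rw [Nat.card_congr (Subgroup.subgroupOfEquivOfLe (inf_le_right : pPrimeCore p G ⊓ K ≤ K)).toEquiv]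
      exact Nat.Coprime.coprime_dvd_left (Subgroup.card_dvd_of_le inf_le_left)
        (Cfsg.Agent.Lib.card_pPrimeCore_coprime p)
    have h3 := Cfsg.Agent.Lib.le_pPrimeCore h1 h2
    calc pPrimeCore p G ⊓ K = ((pPrimeCore p G ⊓ K).subgroupOf K).map K.subtype :=
        (Subgroup.map_subgroupOf_eq_of_le inf_le_right).symm
      _ ≤ (pPrimeCore p ↥K).map K.subtype := Subgroup.map_mono h3

/-- For `K` subnormal in `G`: `O_{p'}(K) = K ∩ O_{p'}(G)` as subgroups of `K`. -/
theorem pPrimeCore_eq_subgroupOf_of_isSubnormal [Finite G] (p : ℕ) {K : Subgroup G}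
    (hK : K.IsSubnormal) : pPrimeCore p ↥K = (pPrimeCore p G).subgroupOf K := by
  apply Subgroup.map_injective K.subtype_injective
  rw [map_pPrimeCore_subtype_of_isSubnormal p hK, Subgroup.subgroupOf_map_subtype]

/-- For `K` subnormal in `G`, `K / O_{p'}(K) ≅ π(K)`, with `π : G → G / O_{p'}(G)`. -/
noncomputable def quotientPPrimeCoreEquivMap [Finite G] (p : ℕ) {K : Subgroup G}
    (hK : K.IsSubnormal) :
    ↥K ⧸ pPrimeCore p ↥K ≃* ↥(K.map (QuotientGroup.mk' (pPrimeCore p G))) := by
  let φ := (QuotientGroup.mk' (pPrimeCore p G)).subgroupMap K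
  have hφ : Function.Surjective φ := MonoidHom.subgroupMap_surjective _ _
  have hker : pPrimeCore p ↥K = φ.ker := by
    rw [pPrimeCore_eq_subgroupOf_of_isSubnormal p hK]
    ext x
    rw [Subgroup.mem_subgroupOf, MonoidHom.mem_ker]
    constructor
    · intro hx
      apply Subtype.ext
      show QuotientGroup.mk' (pPrimeCore p G) (x : G) = 1
      rw [QuotientGroup.mk'_apply, QuotientGroup.eq_one_iff]; exact hx
    · intro hx
      have : QuotientGroup.mk' (pPrimeCore p G) (x : G) = 1 := congrArg Subtype.val hx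
      rwa [QuotientGroup.mk'_apply, QuotientGroup.eq_one_iff] at this
  exact (QuotientGroup.quotientMulEquivOfEq hker).trans
    (QuotientGroup.quotientKerEquivOfSurjective φ hφ)

/-- For a `p`-component `K`, the quotient `K / O_{p'}(K)` is quasisimple. -/
theorem IsPComponent.isQuasisimple_quotient [Finite G] {p : ℕ} {K : Subgroup G}
    (hK : IsPComponent p K) : IsQuasisimple (↥K ⧸ pPrimeCore p ↥K) :=
  IsQuasisimple.of_mulEquiv (quotientPPrimeCoreEquivMap p hK.1).symm
    (IsPComponent.isComponent_map hK).2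

/-- `⁅N ⊔ A, N ⊔ A⁆ ≤ N ⊔ ⁅A, A⁆` for `N` normal. -/
theorem commutator_sup_le_sup_commutator (N A : Subgroup G) [N.Normal] :
    ⁅N ⊔ A, N ⊔ A⁆ ≤ N ⊔ ⁅A, A⁆ := by
  have h1 : (⁅N ⊔ A, N ⊔ A⁆).map (QuotientGroup.mk' N) = (⁅A, A⁆).map (QuotientGroup.mk' N) := by
    rw [Subgroup.map_commutator, Subgroup.map_commutator, Subgroup.map_sup,
      QuotientGroup.map_mk'_self, bot_sup_eq]
  calc ⁅N ⊔ A, N ⊔ A⁆ ≤ ((⁅N ⊔ A, N ⊔ A⁆).map (QuotientGroup.mk' N)).comap (QuotientGroup.mk' N) :=
        Subgroup.le_comap_map _ _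
    _ = ((⁅A, A⁆).map (QuotientGroup.mk' N)).comap (QuotientGroup.mk' N) := by rw [h1]
    _ = ⁅A, A⁆ ⊔ N := by rw [Subgroup.comap_map_eq, QuotientGroup.ker_mk']
    _ = N ⊔ ⁅A, A⁆ := sup_comm _ _

/-- `⁅N, ⊤⁆ = ⊥` iff `N` is central. -/
theorem commutator_top_eq_bot_iff {X : Type*} [Group X] (N : Subgroup X) :
    ⁅N, (⊤ : Subgroup X)⁆ = ⊥ ↔ N ≤ Subgroup.center X := by
  rw [Subgroup.commutator_eq_bot_iff_le_centralizer]
  constructor
  · intro h x hx
    rw [Subgroup.mem_center_iff]
    intro g
    exact Subgroup.mem_centralizer_iff.mp (h hx) g trivial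
  · intro h x hx
    rw [Subgroup.mem_centralizer_iff]
    intro g _
    exact Subgroup.mem_center_iff.mp (h hx) g

/-- A perfect group whose quotient by a central subgroup is quasisimple is quasisimple. -/
theorem isQuasisimple_of_quotient_central {X : Type*} [Group X] (O : Subgroup X) [O.Normal]
    (hO : O ≤ Subgroup.center X) (hperf : Group.IsPerfect X) (hq : IsQuasisimple (X ⧸ O)) :
    IsQuasisimple X := by
  have hcomm : ⁅(⊤ : Subgroup X), (⊤ : Subgroup X)⁆ = ⊤ := by
    rw [← commutator_def]; exact hperf.commutator_eq_top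
  refine ⟨hperf, ?_⟩
  apply isSimpleGroup_quotient_center_of
  · intro hc
    have hnt := IsQuasisimple.nontrivial hq
    -- X commutative and perfect, hence trivial
    have h1 : ⁅(⊤ : Subgroup X), (⊤ : Subgroup X)⁆ = ⊥ := by
      rw [commutator_top_eq_bot_iff, hc]
    rw [hcomm] at h1
    have : Subsingleton X := Subgroup.subsingleton_iff.mp (by
      rw [Subgroup.subsingleton_iff]
      constructor
      intro a b
      have ha : a ∈ (⊤ : Subgroup X) := trivial
      have hb : b ∈ (⊤ : Subgroup X) := trivial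
      rw [h1, Subgroup.mem_bot] at ha hb
      rw [ha, hb])
    have : Subsingleton (X ⧸ O) := inferInstance
    exact not_nontrivial _ hnt
  · intro N hN hNtop
    have hNbar : (N.map (QuotientGroup.mk' O)).Normal :=
      hN.map _ (QuotientGroup.mk'_surjective O)
    rcases IsQuasisimple.normal_eq_top_or_le_center hq (N.map (QuotientGroup.mk' O)) with h | h
    · exfalso
      apply hNtop
      have h1 := congrArg (Subgroup.comap (QuotientGroup.mk' O)) h
      rw [Subgroup.comap_map_eq, QuotientGroup.ker_mk', Subgroup.comap_top] at h1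
      have h2 : ⁅N ⊔ O, N ⊔ O⁆ ≤ N ⊔ ⁅O, O⁆ := commutator_sup_le_sup_commutator N O
      have h3 : ⁅O, O⁆ = ⊥ := by
        rw [Subgroup.commutator_eq_bot_iff_le_centralizer]
        intro x hx
        rw [Subgroup.mem_centralizer_iff]
        intro y _
        exact (Subgroup.mem_center_iff.mp (hO hx) y)
      rw [h1, hcomm, h3, sup_bot_eq] at h2
      exact top_le_iff.mp h2
    · -- ⁅N, ⊤⁆ ≤ O ≤ center
      have h1 : ⁅N, (⊤ : Subgroup X)⁆ ≤ O := by
        rw [Subgroup.commutator_le]
        intro n hn x _
        rw [← QuotientGroup.eq_one_iff, ← QuotientGroup.mk'_apply, map_commutatorElement,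
          commutatorElement_eq_one_iff_commute]
        have := Subgroup.mem_center_iff.mp (h (Subgroup.mem_map_of_mem _ hn))
          (QuotientGroup.mk' O x)
        exact this.symm
      have h2 : ⁅⁅N, (⊤ : Subgroup X)⁆, (⊤ : Subgroup X)⁆ = ⊥ := by
        rw [commutator_top_eq_bot_iff]
        exact h1.trans hO
      have h3 := commutator_eq_bot_of_perfect hcomm h2
      rw [commutator_top_eq_bot_iff] at h3
      exact h3

/-- The quotient of a quasisimple group by a central subgroup is quasisimple. -/
theorem isQuasisimple_quotient_of_le_center {X : Type*} [Group X] (N : Subgroup X) [N.Normal]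
    (hN : N ≤ Subgroup.center X) (hq : IsQuasisimple X) : IsQuasisimple (X ⧸ N) := by
  have hperf : Group.IsPerfect X := hq.1
  have hperf' : Group.IsPerfect (X ⧸ N) := inferInstance
  refine ⟨hperf', ?_⟩
  have hcne : Subgroup.center X ≠ ⊤ := by
    have := hq.2
    exact QuotientGroup.nontrivial_iff.mp inferInstance
  apply isSimpleGroup_quotient_center_of
  · intro hc
    -- X/N commutative and perfect → trivial → N = ⊤
    have h1 : ⁅(⊤ : Subgroup (X ⧸ N)), (⊤ : Subgroup (X ⧸ N))⁆ = ⊥ := by
      rw [commutator_top_eq_bot_iff, hc]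
    have h2 : ⁅(⊤ : Subgroup (X ⧸ N)), (⊤ : Subgroup (X ⧸ N))⁆ = ⊤ := by
      rw [← commutator_def]; exact hperf'.commutator_eq_top
    rw [h2] at h1
    -- ⊤ = ⊥ in X ⧸ N
    have h3 : N = ⊤ := by
      rw [eq_top_iff]
      intro x _
      rw [← QuotientGroup.eq_one_iff]
      have : (QuotientGroup.mk x : X ⧸ N) ∈ (⊤ : Subgroup (X ⧸ N)) := trivial
      rw [h1, Subgroup.mem_bot] at this
      exact this
    apply hcne
    rw [eq_top_iff, ← h3]; exact hN
  · intro M hM hMtop
    have hM' : (M.comap (QuotientGroup.mk' N)).Normal := hM.comap _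
    have hne : M.comap (QuotientGroup.mk' N) ≠ ⊤ := by
      intro h
      apply hMtop
      rw [← Subgroup.map_comap_eq_self_of_surjective (QuotientGroup.mk'_surjective N) M, h,
        Subgroup.map_top_of_surjective _ (QuotientGroup.mk'_surjective N)]
    rcases IsQuasisimple.normal_eq_top_or_le_center hq (M.comap (QuotientGroup.mk' N)) with h | h
    · exact absurd h hne
    · intro m hm
      obtain ⟨x, rfl⟩ := QuotientGroup.mk'_surjective N m
      have hx : x ∈ Subgroup.center X := h hm
      rw [Subgroup.mem_center_iff]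
      intro g
      obtain ⟨y, rfl⟩ := QuotientGroup.mk'_surjective N g
      rw [← map_mul, ← map_mul, Subgroup.mem_center_iff.mp hx y]

end Cfsg.Agent.Helper22
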