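import Mathlib
import Cfsg.Prelude.Def_Local
import Cfsg.Agent.Helper22.PComponent3

set_option autoImplicit false
open scoped commutatorElement

/-!
Images of components in quotients; layer of `G / O_{p'}(G)` versus the `p`-layer (helper22).
-/

namespace Cfsg.Agent.Helper22

open Cfsg Cfsg.Agent.Helper21

variable {G : Type*} [Group G]

/-- The image of a component in a quotient is trivial or a component. -/
theorem IsComponent.map_mk'_eq_bot_or (N : Subgroup G) [N.Normal] {D : Subgroup G}
    (hD : IsComponent D) :
    D.map (QuotientGroup.mk' N) = ⊥ ∨ IsComponent (D.map (QuotientGroup.mk' N)) := by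
  have hn : (N.subgroupOf D).Normal := inferInstance
  rcases IsQuasisimple.normal_eq_top_or_le_center hD.2 (N.subgroupOf D) with h | h
  · left
    rw [Subgroup.subgroupOf_eq_top] at h
    rw [Subgroup.map_eq_bot_iff, QuotientGroup.ker_mk']
    exact h
  · right
    refine ⟨hD.1.map (QuotientGroup.mk'_surjective N), ?_⟩
    let φ := (QuotientGroup.mk' N).subgroupMap D
    have hφ : Function.Surjective φ := MonoidHom.subgroupMap_surjective _ _
    have hker : N.subgroupOf D = φ.ker := by
      ext x
      rw [Subgroup.mem_subgroupOf, MonoidHom.mem_ker]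
      constructor
      · intro hx
        apply Subtype.ext
        show QuotientGroup.mk' N (x : G) = 1
        rw [QuotientGroup.mk'_apply, QuotientGroup.eq_one_iff]; exact hx
      · intro hx
        have : QuotientGroup.mk' N (x : G) = 1 := congrArg Subtype.val hx
        rwa [QuotientGroup.mk'_apply, QuotientGroup.eq_one_iff] at this
    have e : ↥D ⧸ N.subgroupOf D ≃* ↥(D.map (QuotientGroup.mk' N)) :=
      (QuotientGroup.quotientMulEquivOfEq hker).trans
        (QuotientGroup.quotientKerEquivOfSurjective φ hφ)
    exact IsQuasisimple.of_mulEquiv e (isQuasisimple_quotient_of_le_center _ h hD.2)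

/-- The image of the layer lies in the layer of the quotient. -/
theorem map_layer_le_layer_quotient (N : Subgroup G) [N.Normal] :
    (layer G).map (QuotientGroup.mk' N) ≤ layer (G ⧸ N) := by
  rw [Subgroup.map_le_iff_le_comap, layer_le_iff]
  intro D hD
  rw [← Subgroup.map_le_iff_le_comap]
  rcases IsComponent.map_mk'_eq_bot_or N hD with h | h
  · rw [h]; exact bot_le
  · exact IsComponent.le_layer h

/-- The layer of `G / O_{p'}(G)` is the image of the `p`-layer. -/
theorem layer_quotient_eq_map_pLayer [Finite G] (p : ℕ) [Fact p.Prime] :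
    layer (G ⧸ pPrimeCore p G) = (pLayer p G).map (QuotientGroup.mk' (pPrimeCore p G)) := by
  apply le_antisymm
  · rw [layer_le_iff]
    intro L hL
    obtain ⟨K, hK, rfl⟩ := exists_isPComponent_map_eq p hL
    exact Subgroup.map_mono (IsPComponent.le_pLayer hK)
  · rw [Subgroup.map_le_iff_le_comap]
    unfold pLayer
    apply sSup_le
    intro K hK
    rw [← Subgroup.map_le_iff_le_comap]
    exact IsComponent.le_layer (IsPComponent.isComponent_map hK)

/-- A component of `G / O_{p'}(G)` inside the image of `E(G)` is the image of a component. -/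
theorem exists_isComponent_map_eq_of_le_map_layer (N : Subgroup G) [N.Normal]
    {L : Subgroup (G ⧸ N)} (hL : IsComponent L) (hle : L ≤ (layer G).map (QuotientGroup.mk' N)) :
    ∃ D : Subgroup G, IsComponent D ∧ D.map (QuotientGroup.mk' N) = L := by
  by_contra hcon
  push Not at hcon
  have h1 : (layer G).map (QuotientGroup.mk' N) ≤ Subgroup.centralizer (L : Set (G ⧸ N)) := by
    rw [Subgroup.map_le_iff_le_comap, layer_le_iff]
    intro D hD
    rw [← Subgroup.map_le_iff_le_comap]
    rcases IsComponent.map_mk'_eq_bot_or N hD with h | h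
    · rw [h]; exact bot_le
    · rw [← Subgroup.commutator_eq_bot_iff_le_centralizer]
      exact IsComponent.commutator_eq_bot_of_ne h hL (hcon D hD)
  have h2 : ⁅L, L⁆ = ⊥ := by
    rw [Subgroup.commutator_eq_bot_iff_le_centralizer]
    exact hle.trans h1
  rw [IsComponent.commutator_self hL] at h2
  exact IsComponent.ne_bot hL h2

/-- `E(G)` maps onto `E(G / O_{p'}(G))` iff the `p`-layer lies in the layer. -/
theorem map_layer_eq_layer_quotient_iff [Finite G] (p : ℕ) [Fact p.Prime] :
    (layer G).map (QuotientGroup.mk' (pPrimeCore p G)) = layer (G ⧸ pPrimeCore p G) ↔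
      pLayer p G ≤ layer G := by
  constructor
  · intro h
    unfold pLayer
    apply sSup_le
    intro K hK
    have hKc := IsPComponent.isComponent_map hK
    obtain ⟨D, hD, hDK⟩ := exists_isComponent_map_eq_of_le_map_layer (pPrimeCore p G) hKc
      (h ▸ IsComponent.le_layer hKc)
    exact (IsPComponent.le_of_map_le hK hD.1 hDK.ge).trans (IsComponent.le_layer hD)
  · intro h
    apply le_antisymm (map_layer_le_layer_quotient _)
    rw [layer_quotient_eq_map_pLayer p]
    exact Subgroup.map_mono h

end Cfsg.Agent.Helper22
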