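import Mathlib
import Cfsg.Agent.Helper22.Layer
import Cfsg.Agent.Helper22.PComponent4
import Cfsg.Agent.Helper24.Coprime
import Cfsg.Agent.Lib.Cores

/-!
# `p`-local subgroups: the preimage of `E(N / O_{p'}(N))`, `N = N_G(P)`, centralizes `O_p(G)`
-/

set_option autoImplicit false

namespace Cfsg.Agent.Helper22

open Cfsg Cfsg.Agent.Helper21
open scoped commutatorElement

/-- The preimage in `H` of `E(H / O_{p'}(H))`. -/
def pLayerPre (p : ℕ) (H : Type*) [Group H] : Subgroup H :=
  (layer (H ⧸ pPrimeCore p H)).comap (QuotientGroup.mk' (pPrimeCore p H))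

variable {H : Type*} [Group H]

instance pLayerPre_normal (p : ℕ) : (pLayerPre p H).Normal := by
  unfold pLayerPre
  infer_instance

theorem mem_pLayerPre {p : ℕ} {x : H} :
    x ∈ pLayerPre p H ↔ QuotientGroup.mk' (pPrimeCore p H) x ∈ layer (H ⧸ pPrimeCore p H) :=
  Iff.rfl

theorem pPrimeCore_le_pLayerPre (p : ℕ) : pPrimeCore p H ≤ pLayerPre p H := by
  intro o ho
  rw [mem_pLayerPre]
  have : QuotientGroup.mk' (pPrimeCore p H) o = 1 := by
    rw [QuotientGroup.mk'_apply, QuotientGroup.eq_one_iff]; exact ho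
  rw [this]
  exact one_mem _

theorem layer_le_pLayerPre (p : ℕ) : layer H ≤ pLayerPre p H := by
  unfold pLayerPre
  rw [← Subgroup.map_le_iff_le_comap]
  exact map_layer_le_layer_quotient _

/-- `X` centralizes every normal `p`-subgroup of `H`. -/
theorem pLayerPre_commute_of_normal_pGroup [Finite H] (p : ℕ) [Fact p.Prime] (R : Subgroup H)
    [hRn : R.Normal] (hR : IsPGroup p R) {x r : H} (hx : x ∈ pLayerPre p H) (hr : r ∈ R) :
    x * r = r * x := by
  have hcR : x * r * x⁻¹ * r⁻¹ ∈ R := R.mul_mem (hRn.conj_mem r hr x) (R.inv_mem hr)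
  have hcO : x * r * x⁻¹ * r⁻¹ ∈ pPrimeCore p H := by
    rw [← QuotientGroup.eq_one_iff, ← QuotientGroup.mk'_apply]
    have h1 : QuotientGroup.mk' (pPrimeCore p H) r ∈ fittingSubgroup (H ⧸ pPrimeCore p H) := by
      have hN : (R.map (QuotientGroup.mk' (pPrimeCore p H))).Normal :=
        Subgroup.Normal.map hRn _ (QuotientGroup.mk'_surjective _)
      have hP : IsPGroup p ↥(R.map (QuotientGroup.mk' (pPrimeCore p H))) := hR.map _
      exact Cfsg.Agent.Lib.pCore_le_fittingSubgroup p
        (Cfsg.Agent.Lib.le_pCore hN hP (Subgroup.mem_map_of_mem _ hr))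
    have h2 : ⁅QuotientGroup.mk' (pPrimeCore p H) x, QuotientGroup.mk' (pPrimeCore p H) r⁆ ∈
        ⁅layer (H ⧸ pPrimeCore p H), fittingSubgroup (H ⧸ pPrimeCore p H)⁆ :=
      Subgroup.commutator_mem_commutator (mem_pLayerPre.mp hx) h1
    rw [layer_commutator_fittingSubgroup, Subgroup.mem_bot, commutatorElement_def] at h2
    simpa only [map_mul, map_inv] using h2
  have hbot : x * r * x⁻¹ * r⁻¹ ∈ pCore p H ⊓ pPrimeCore p H :=
    ⟨Cfsg.Agent.Lib.le_pCore hRn hR hcR, hcO⟩
  rw [Cfsg.Agent.Lib.pCore_inf_pPrimeCore, Subgroup.mem_bot] at hbot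
  calc x * r = (x * r * x⁻¹ * r⁻¹) * (r * x) := by group
    _ = r * x := by rw [hbot, one_mul]

/-- `X = ⁅X, X⁆ O_{p'}(H)`. -/
theorem pLayerPre_le_commutator_sup (p : ℕ) :
    pLayerPre p H ≤ ⁅pLayerPre p H, pLayerPre p H⁆ ⊔ pPrimeCore p H := by
  intro x hx
  have hmap : (pLayerPre p H).map (QuotientGroup.mk' (pPrimeCore p H)) =
      layer (H ⧸ pPrimeCore p H) := by
    unfold pLayerPre
    exact Subgroup.map_comap_eq_self_of_surjective (QuotientGroup.mk'_surjective _) _
  have h1 : QuotientGroup.mk' (pPrimeCore p H) x ∈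
      ⁅layer (H ⧸ pPrimeCore p H), layer (H ⧸ pPrimeCore p H)⁆ := by
    rw [layer_commutator_self]; exact mem_pLayerPre.mp hx
  rw [← hmap, ← Subgroup.map_commutator] at h1
  obtain ⟨y, hy, hyx⟩ := h1
  have h2 : y⁻¹ * x ∈ pPrimeCore p H := by
    rw [← QuotientGroup.eq_one_iff, ← QuotientGroup.mk'_apply, map_mul, map_inv, hyx,
      inv_mul_cancel]
  have : x = y * (y⁻¹ * x) := by group
  rw [this]
  exact Subgroup.mul_mem_sup hy h2

/-- A normal subgroup `D` containing all `p'`-elements of `X` contains `X`. -/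
theorem pLayerPre_le_of_coprime_mem [Finite H] (p : ℕ) [hp : Fact p.Prime] (D : Subgroup H)
    [D.Normal] (hD : ∀ a ∈ pLayerPre p H, (orderOf a).Coprime p → a ∈ D) :
    pLayerPre p H ≤ D := by
  have hO : pPrimeCore p H ≤ D := by
    intro o ho
    apply hD o (pPrimeCore_le_pLayerPre p ho)
    have h1 : orderOf o ∣ Nat.card ↥(pPrimeCore p H) := by
      rw [← Subgroup.orderOf_mk o ho]
      exact orderOf_dvd_natCard _
    exact Nat.Coprime.coprime_dvd_left h1 (Cfsg.Agent.Lib.card_pPrimeCore_coprime p)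
  -- the image `Y` of `X` in `H / D`
  have hYp : IsPGroup p ↥((pLayerPre p H).map (QuotientGroup.mk' D)) := by
    rintro ⟨_, g, hg, rfl⟩
    have hpos : 0 < orderOf g := orderOf_pos g
    obtain ⟨k, m, hm, hkm⟩ := Nat.exists_eq_pow_mul_and_not_dvd hpos.ne' p hp.out.ne_one
    refine ⟨k, Subtype.ext ?_⟩
    simp only [Subgroup.coe_pow, Subgroup.coe_one]
    rw [← map_pow, QuotientGroup.mk'_apply, QuotientGroup.eq_one_iff]
    apply hD _ (Subgroup.pow_mem _ hg _)
    rw [orderOf_pow' g (pow_ne_zero k hp.out.ne_zero), hkm, Nat.gcd_eq_right (Dvd.intro _ rfl),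
      Nat.mul_div_cancel_left _ (pow_pos hp.out.pos k)]
    exact ((Nat.Prime.coprime_iff_not_dvd hp.out).mpr hm).symm
  have hYY : (pLayerPre p H).map (QuotientGroup.mk' D) ≤
      ⁅(pLayerPre p H).map (QuotientGroup.mk' D), (pLayerPre p H).map (QuotientGroup.mk' D)⁆ := by
    calc (pLayerPre p H).map (QuotientGroup.mk' D)
        ≤ (⁅pLayerPre p H, pLayerPre p H⁆ ⊔ pPrimeCore p H).map (QuotientGroup.mk' D) :=
          Subgroup.map_mono (pLayerPre_le_commutator_sup p)
      _ = ⁅(pLayerPre p H).map (QuotientGroup.mk' D),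
            (pLayerPre p H).map (QuotientGroup.mk' D)⁆ := by
          rw [Subgroup.map_sup, Subgroup.map_commutator]
          have : (pPrimeCore p H).map (QuotientGroup.mk' D) = ⊥ := by
            rw [eq_bot_iff]
            rintro _ ⟨o, ho, rfl⟩
            rw [Subgroup.mem_bot, QuotientGroup.mk'_apply, QuotientGroup.eq_one_iff]
            exact hO ho
          rw [this, sup_bot_eq]
  have hperf : Group.IsPerfect ↥((pLayerPre p H).map (QuotientGroup.mk' D)) := by
    rw [Subgroup.isPerfect_iff]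
    exact le_antisymm (Subgroup.commutator_le.mpr fun a ha b hb =>
      Subgroup.mul_mem _ (Subgroup.mul_mem _ (Subgroup.mul_mem _ ha hb) (Subgroup.inv_mem _ ha))
        (Subgroup.inv_mem _ hb)) hYY
  have hsub : Subsingleton ↥((pLayerPre p H).map (QuotientGroup.mk' D)) := by
    by_contra hns
    rw [not_subsingleton_iff_nontrivial] at hns
    haveI : Group.IsNilpotent ↥((pLayerPre p H).map (QuotientGroup.mk' D)) := hYp.isNilpotent
    have hsolv : Group.IsSolvable ↥((pLayerPre p H).map (QuotientGroup.mk' D)) := inferInstance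
    exact Group.IsPerfect.not_isSolvable _ hsolv
  intro x hx
  have h1 : QuotientGroup.mk' D x ∈ (pLayerPre p H).map (QuotientGroup.mk' D) :=
    Subgroup.mem_map_of_mem _ hx
  have h2 : (⟨QuotientGroup.mk' D x, h1⟩ : ↥((pLayerPre p H).map (QuotientGroup.mk' D))) = 1 :=
    Subsingleton.elim _ _
  have h3 : QuotientGroup.mk' D x = 1 := congrArg Subtype.val h2
  rwa [QuotientGroup.mk'_apply, QuotientGroup.eq_one_iff] at h3

variable {G : Type*} [Group G]

/-- **Main lemma**: for a `p`-subgroup `P` of `G` and `N = N_G(P)`, the preimage in `N` of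
`E(N / O_{p'}(N))` centralizes `O_p(G)`. -/
theorem pLayerPre_normalizer_le_centralizer_pCore [Finite G] (p : ℕ) [Fact p.Prime]
    (P : Subgroup G) (hP : IsPGroup p ↥P) :
    (pLayerPre p ↥(Subgroup.normalizer (P : Set G))).map
        (Subgroup.normalizer (P : Set G)).subtype ≤
      Subgroup.centralizer (pCore p G : Set G) := by
  rw [Subgroup.map_le_iff_le_comap]
  haveI hQn : (pCore p G).Normal := by
    haveI := Cfsg.Agent.Lib.pCore_characteristic (G := G) p
    infer_instance
  haveI hCn : (Subgroup.centralizer (pCore p G : Set G)).Normal := inferInstance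
  apply pLayerPre_le_of_coprime_mem p
  intro a ha hcop
  rw [Subgroup.mem_comap, Subgroup.mem_centralizer_iff]
  -- the normal `p`-subgroups `P ∩ N` and `Q ∩ N` of `N`
  have hPn : (P.subgroupOf (Subgroup.normalizer (P : Set G))).Normal :=
    Subgroup.normal_in_normalizer
  have hPp : IsPGroup p ↥(P.subgroupOf (Subgroup.normalizer (P : Set G))) :=
    hP.comap_of_injective _ (Subgroup.subtype_injective _)
  have hQn' : ((pCore p G).subgroupOf (Subgroup.normalizer (P : Set G))).Normal :=
    hQn.subgroupOf _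
  have hQp : IsPGroup p ↥((pCore p G).subgroupOf (Subgroup.normalizer (P : Set G))) :=
    (Cfsg.Agent.Lib.isPGroup_pCore p).comap_of_injective _ (Subgroup.subtype_injective _)
  have key := Cfsg.Agent.Helper24.thompson_PxQ (G := G) (p := p) (U := pCore p G) (P := P)
    (Cfsg.Agent.Lib.isPGroup_pCore p) hP
    (by rw [Subgroup.normalizer_eq_top]; exact le_top)
    (a := (a : G)) (by rw [Subgroup.normalizer_eq_top]; trivial)
    (by rwa [Subgroup.orderOf_coe])
    (by
      intro b hb
      have hbN : b ∈ Subgroup.normalizer (P : Set G) := Subgroup.le_normalizer hb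
      have := pLayerPre_commute_of_normal_pGroup p _ hPp ha
        (r := ⟨b, hbN⟩) (Subgroup.mem_subgroupOf.mpr hb)
      exact congrArg Subtype.val this)
    (by
      intro u hu hub
      have huN : u ∈ Subgroup.normalizer (P : Set G) := by
        apply Subgroup.centralizer_le_normalizer
        rw [Subgroup.mem_centralizer_iff]
        intro b hb
        exact hub b hb
      have := pLayerPre_commute_of_normal_pGroup p _ hQp ha
        (r := ⟨u, huN⟩) (Subgroup.mem_subgroupOf.mpr hu)
      exact congrArg Subtype.val this)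
  intro u hu
  exact (key u hu).symm

end Cfsg.Agent.Helper22
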