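import Mathlib
import Cfsg.Prelude.Def_Balance

set_option autoImplicit false

namespace Cfsg.Agent.Helper22

/-- Conjugation action of a subgroup `P` on a subgroup `H`, twisted by a left coset
representative `x₀`: `z • h = x₀⁻¹ * (z * (x₀ * h) * z⁻¹)`.  This is an action whenever the
coset `x₀ H` is stable under conjugation by `P`. -/
@[reducible] def cosetConjAction {G : Type*} [Group G] (P H : Subgroup G) (x₀ : G)
    (hinv : ∀ z ∈ P, ∀ h ∈ H, x₀⁻¹ * (z * (x₀ * h) * z⁻¹) ∈ H) : MulAction ↥P ↥H where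
  smul z h := ⟨x₀⁻¹ * ((z : G) * (x₀ * (h : G)) * (z : G)⁻¹), hinv z z.2 h h.2⟩
  one_smul h := by
    apply Subtype.ext
    show x₀⁻¹ * (((1 : ↥P) : G) * (x₀ * (h : G)) * ((1 : ↥P) : G)⁻¹) = h
    simp
  mul_smul z w h := by
    apply Subtype.ext
    show x₀⁻¹ * (((z * w : ↥P) : G) * (x₀ * (h : G)) * ((z * w : ↥P) : G)⁻¹) =
      x₀⁻¹ * ((z : G) * (x₀ * (x₀⁻¹ * ((w : G) * (x₀ * (h : G)) * (w : G)⁻¹))) * (z : G)⁻¹)
    simp only [Subgroup.coe_mul]
    group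

/-- A `p`-subgroup `P` stabilising (under conjugation) a left coset `x₀ H` of a subgroup `H` of
order prime to `p` fixes an element of that coset. -/
theorem exists_fixed_in_coset {G : Type*} [Group G] (p : ℕ) [Fact p.Prime]
    (P H : Subgroup G) (hP : IsPGroup p ↥P) (hH : ¬ p ∣ Nat.card ↥H) (x₀ : G)
    (hinv : ∀ z ∈ P, ∀ h ∈ H, x₀⁻¹ * (z * (x₀ * h) * z⁻¹) ∈ H) :
    ∃ h ∈ H, ∀ z ∈ P, z * (x₀ * h) * z⁻¹ = x₀ * h := by
  letI : MulAction ↥P ↥H := cosetConjAction P H x₀ hinv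
  obtain ⟨h, hh⟩ := hP.nonempty_fixed_point_of_prime_not_dvd_card ↥H hH
  refine ⟨h, h.2, ?_⟩
  intro z hz
  have := hh ⟨z, hz⟩
  have h2 : x₀⁻¹ * (z * (x₀ * (h : G)) * z⁻¹) = h := congrArg Subtype.val this
  calc z * (x₀ * h) * z⁻¹ = x₀ * (x₀⁻¹ * (z * (x₀ * (h : G)) * z⁻¹)) := by group
    _ = x₀ * h := by rw [h2]

/-- The cyclic group generated by an element killed by `p` is a `p`-group. -/
theorem isPGroup_zpowers_of_pow_eq_one {G : Type*} [Group G] (p : ℕ) (a : G) (ha : a ^ p = 1) :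
    IsPGroup p ↥(Subgroup.zpowers a) := by
  rintro ⟨g, hg⟩
  obtain ⟨k, rfl⟩ := Subgroup.mem_zpowers_iff.mp hg
  refine ⟨1, ?_⟩
  apply Subtype.ext
  simp only [pow_one, Subgroup.coe_pow, Subgroup.coe_one]
  rw [← zpow_natCast, ← zpow_mul, mul_comm, zpow_mul, zpow_natCast, ha, one_zpow]

/-- An element commuting with `a` commutes with every power of `a`. -/
theorem commute_zpowers {G : Type*} [Group G] {a g z : G} (hz : z ∈ Subgroup.zpowers a)
    (h : a * g = g * a) : z * g = g * z := by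
  obtain ⟨k, rfl⟩ := Subgroup.mem_zpowers_iff.mp hz
  have : Commute a g := h
  exact (this.zpow_left k).eq

/-- Fixed points of an element `a` with `a ^ p = 1` in an `a`-stable coset `x₀ H`, `|H|` prime to `p`. -/
theorem exists_fixed_in_coset_elt {G : Type*} [Group G] (p : ℕ) [Fact p.Prime]
    (a : G) (ha : a ^ p = 1) (H : Subgroup G) (hH : ¬ p ∣ Nat.card ↥H) (x₀ : G)
    (hinv : ∀ z ∈ Subgroup.zpowers a, ∀ h ∈ H, x₀⁻¹ * (z * (x₀ * h) * z⁻¹) ∈ H) :
    ∃ h ∈ H, a * (x₀ * h) * a⁻¹ = x₀ * h := by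
  obtain ⟨h, hh, hfix⟩ := exists_fixed_in_coset p (Subgroup.zpowers a) H
    (isPGroup_zpowers_of_pow_eq_one p a ha) hH x₀ hinv
  exact ⟨h, hh, hfix a (Subgroup.mem_zpowers a)⟩

/-- If `p` does not divide the order of `K` and `H ≤ K`, then `p` does not divide the order of `H`. -/
theorem not_dvd_card_of_le {G : Type*} [Group G] {p : ℕ} {H K : Subgroup G} (hHK : H ≤ K)
    (hK : ¬ p ∣ Nat.card ↥K) : ¬ p ∣ Nat.card ↥H :=
  fun h => hK (dvd_trans h (Subgroup.card_dvd_of_le hHK))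

end Cfsg.Agent.Helper22
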