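import Mathlib

set_option autoImplicit false

namespace Cfsg.Agent.Helper22

/-- If `H` normalizes `N` and both are solvable, then `H ⊔ N` is solvable. -/
theorem sup_solvable_of_le_normalizer {G : Type*} [Group G] (H N : Subgroup G)
    (hLE : H ≤ Subgroup.normalizer (N : Set G)) (hH : Group.IsSolvable ↥H) (hN : Group.IsSolvable ↥N) :
    Group.IsSolvable ↥(H ⊔ N) := by
  have := Subgroup.normal_subgroupOf_of_le_normalizer hLE
  have := Subgroup.normal_subgroupOf_sup_of_le_normalizer hLE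
  let e := QuotientGroup.quotientInfEquivProdNormalizerQuotient H N hLE
  haveI : Group.IsSolvable (↥H ⧸ N.subgroupOf H) := inferInstance
  haveI : Group.IsSolvable (↥(H ⊔ N) ⧸ N.subgroupOf (H ⊔ N)) :=
    solvable_of_surjective (f := e.toMonoidHom) e.surjective
  apply Group.isSolvable_of_ker_le_range (Subgroup.inclusion (le_sup_right : N ≤ H ⊔ N))
    (QuotientGroup.mk' (N.subgroupOf (H ⊔ N)))
  rw [QuotientGroup.ker_mk', Subgroup.inclusion_range]

/-- If `H` normalizes `N` then `|H ⊔ N|` divides `|H| * |N|`. -/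
theorem card_sup_dvd_of_le_normalizer {G : Type*} [Group G] (H N : Subgroup G)
    (hLE : H ≤ Subgroup.normalizer (N : Set G)) :
    Nat.card ↥(H ⊔ N) ∣ Nat.card ↥H * Nat.card ↥N := by
  have := Subgroup.normal_subgroupOf_of_le_normalizer hLE
  have := Subgroup.normal_subgroupOf_sup_of_le_normalizer hLE
  let e := QuotientGroup.quotientInfEquivProdNormalizerQuotient H N hLE
  have h1 : Nat.card ↥(H ⊔ N) =
      Nat.card (↥(H ⊔ N) ⧸ N.subgroupOf (H ⊔ N)) * Nat.card ↥(N.subgroupOf (H ⊔ N)) :=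
    Subgroup.card_eq_card_quotient_mul_card_subgroup _
  have h2 : Nat.card ↥(N.subgroupOf (H ⊔ N)) = Nat.card ↥N :=
    Nat.card_congr (Subgroup.subgroupOfEquivOfLe (le_sup_right : N ≤ H ⊔ N)).toEquiv
  have h3 : Nat.card (↥(H ⊔ N) ⧸ N.subgroupOf (H ⊔ N)) = Nat.card (↥H ⧸ N.subgroupOf H) :=
    (Nat.card_congr e.toEquiv).symm
  have h4 : Nat.card (↥H ⧸ N.subgroupOf H) ∣ Nat.card ↥H :=
    Subgroup.card_quotient_dvd_card _
  rw [h1, h2, h3]
  exact Nat.mul_dvd_mul_right h4 _

/-- If `H` normalizes `N` and a prime `p` divides neither order, it does not divide `|H ⊔ N|`. -/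
theorem not_dvd_card_sup_of_le_normalizer {G : Type*} [Group G] (p : ℕ) (hp : p.Prime)
    (H N : Subgroup G) (hLE : H ≤ Subgroup.normalizer (N : Set G))
    (hH : ¬ p ∣ Nat.card ↥H) (hN : ¬ p ∣ Nat.card ↥N) : ¬ p ∣ Nat.card ↥(H ⊔ N) := by
  intro h
  have := dvd_trans h (card_sup_dvd_of_le_normalizer H N hLE)
  rcases (Nat.Prime.dvd_mul hp).mp this with h | h
  · exact hH h
  · exact hN h

end Cfsg.Agent.Helper22
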