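import Mathlib
import Cfsg.Agent.Helper29.BG10F
import Cfsg.Agent.Helper16.CoprimeDerived
import Cfsg.Agent.S1461

set_option autoImplicit false
set_option linter.unusedSectionVars false
set_option linter.unusedVariables false
set_option linter.style.haveILetI false

/-!
# B-G Corollary 10.7 (helper22)

Consequences of `p`-length one (B-G 10.6, statement-shaped hypothesis `PLenOne`) and the Uniqueness
Theorem (statement-shaped hypothesis `UniquenessThm` of helper29) for the Sylow subgroups of a minimal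
simple group of odd order.
-/

namespace Cfsg.Agent.Helper22.BGCor107

open Cfsg Cfsg.Agent.Helper29.BG10
open scoped commutatorElement

variable {G : Type*} [Group G] [Finite G]

/-- statement-shaped B-G Theorem 10.6 (S1410). -/
def PLenOne (G : Type*) [Group G] : Prop :=
  ∀ (p : ℕ) [Fact p.Prime] (H : Subgroup G), H ≠ ⊤ → Cfsg.PLengthLE p 1 ↥H

/-- A maximal subgroup containing the normalizer of a nontrivial Sylow subgroup, with `p ∈ σ(M)`. -/
theorem exists_coatom_normalizer_le (hG : Cfsg.IsMinSimpleOddOrder G) {p : ℕ} [Fact p.Prime]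
    (P : Sylow p G) (hP1 : (P : Subgroup G) ≠ ⊥) :
    ∃ M : Subgroup G, IsCoatom M ∧ Subgroup.normalizer ((P : Subgroup G) : Set G) ≤ M ∧
      p ∈ Cfsg.sigma M ∧ ∃ hPM : (P : Subgroup G) ≤ M,
        ((P.subtype hPM : Sylow p ↥M) : Subgroup ↥M).map M.subtype = (P : Subgroup G) := by
  haveI : IsSimpleGroup G := hG.2.1
  have hNtop : Subgroup.normalizer ((P : Subgroup G) : Set G) ≠ ⊤ :=
    Cfsg.Agent.Helper31.bgt_normalizer_ne_top_of_simple hP1 (isPGroup_ne_top hG P.isPGroup')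
  obtain ⟨M, hMc, hNM⟩ := (eq_top_or_exists_le_coatom _).resolve_left hNtop
  have hPM : (P : Subgroup G) ≤ M := Subgroup.le_normalizer.trans hNM
  have hmap : ((P.subtype hPM : Sylow p ↥M) : Subgroup ↥M).map M.subtype = (P : Subgroup G) := by
    rw [Sylow.coe_subtype]
    exact Subgroup.map_subgroupOf_eq_of_le hPM
  refine ⟨M, hMc, hNM, ⟨Fact.out, ?_, P.subtype hPM, ?_⟩, hPM, hmap⟩
  · -- p ∣ card M
    have h1 : p ∣ Nat.card (P : Subgroup G) := by
      obtain ⟨n, hn⟩ := IsPGroup.iff_card.mp P.isPGroup'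
      have hn0 : n ≠ 0 := by
        intro h0
        rw [h0, pow_zero] at hn
        exact hP1 (Subgroup.card_eq_one.mp hn)
      rw [hn]
      exact dvd_pow_self p hn0
    exact h1.trans (Subgroup.card_dvd_of_le hPM)
  · rw [hmap]
    exact hNM

/-- the image in `G` of the normalizer in `M` of a subgroup of `M` normalizes the image. -/
theorem map_normalizer_le_normalizer_map {M : Subgroup G} (S : Subgroup ↥M) :
    (Subgroup.normalizer (S : Set ↥M)).map M.subtype ≤
      Subgroup.normalizer ((S.map M.subtype : Subgroup G) : Set G) := by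
  rintro _ ⟨n, hn, rfl⟩
  rw [Subgroup.mem_normalizer_iff]
  intro x
  constructor
  · rintro ⟨y, hy, rfl⟩
    refine ⟨n * y * n⁻¹, (Subgroup.mem_normalizer_iff.mp hn y).mp hy, ?_⟩
    simp
  · rintro ⟨z, hz, hzx⟩
    have hxM : x ∈ M := by
      have h1 : (M.subtype n)⁻¹ * (M.subtype z) * (M.subtype n) ∈ M :=
        M.mul_mem (M.mul_mem (M.inv_mem n.2) z.2) n.2
      have e : x = (M.subtype n)⁻¹ * (M.subtype z) * (M.subtype n) := by
        rw [hzx]; group
      rw [e]; exact h1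
    refine ⟨⟨x, hxM⟩, ?_, rfl⟩
    have h2 : n * ⟨x, hxM⟩ * n⁻¹ = z := by
      apply Subtype.ext
      simpa using hzx.symm
    have := (Subgroup.mem_normalizer_iff.mp hn ⟨x, hxM⟩).mpr
    apply this
    rw [h2]; exact hz

/-- **B-G Corollary 10.7(a)**, second half: `P ≤ N_G(P)'`. -/
theorem sylow_le_commutator_normalizer (hG : Cfsg.IsMinSimpleOddOrder G) (hU : UniquenessThm G)
    (hPL : PLenOne G) {p : ℕ} [Fact p.Prime] (P : Sylow p G) :
    (P : Subgroup G) ≤ ⁅Subgroup.normalizer ((P : Subgroup G) : Set G),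
      Subgroup.normalizer ((P : Subgroup G) : Set G)⁆ := by
  by_cases hP1 : (P : Subgroup G) = ⊥
  · rw [hP1]; exact bot_le
  obtain ⟨M, hMc, hNM, hpσ, hPM, hmap⟩ := exists_coatom_normalizer_le hG P hP1
  haveI : Group.IsSolvable ↥M := hG.2.2.2 M hMc.1
  have hle := sylow_le_commutator hG hU hMc hpσ (P.subtype hPM)
  have h61 := (Cfsg.Agent.S1461.result (G := ↥M) p (hPL p M hMc.1) (P.subtype hPM)).1 hle
  have h1 := Subgroup.map_mono (f := M.subtype) h61
  rw [hmap, Subgroup.map_commutator] at h1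
  refine h1.trans (Subgroup.commutator_mono ?_ ?_)
  · have := map_normalizer_le_normalizer_map ((P.subtype hPM : Sylow p ↥M) : Subgroup ↥M)
    rwa [hmap] at this
  · have := map_normalizer_le_normalizer_map ((P.subtype hPM : Sylow p ↥M) : Subgroup ↥M)
    rwa [hmap] at this

/-- `[P, N] ≤ P' [P, V]` when `N = P V`. -/
theorem commutator_le_sup_of_factor {P V N : Subgroup G}
    (hfac : ∀ m ∈ N, ∃ a ∈ P, ∃ b ∈ V, m = a * b) :
    ⁅P, N⁆ ≤ ⁅P, P⁆ ⊔ ⁅P, V⁆ := by
  rw [Subgroup.commutator_le]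
  intro a ha n hn
  obtain ⟨b, hb, v, hv, rfl⟩ := hfac n hn
  have e1 : ⁅a, b * v⁆ = ⁅a, b⁆ * (⁅b * a, v⁆ * ⁅b, v⁆⁻¹) := by
    simp only [commutatorElement_def]; group
  rw [e1]
  refine Subgroup.mul_mem _ (Subgroup.mem_sup_left (Subgroup.commutator_mem_commutator ha hb))
    (Subgroup.mem_sup_right ?_)
  exact Subgroup.mul_mem _ (Subgroup.commutator_mem_commutator (P.mul_mem hb ha) hv)
    (Subgroup.inv_mem _ (Subgroup.commutator_mem_commutator hb hv))

/-- Focal subgroup argument: a Sylow `p`-subgroup inside `N_G(P)'` equals `[P, V]` for every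
complement `V` of `P` in `N_G(P)`. -/
theorem eq_commutator_of_isComplIn {p : ℕ} [Fact p.Prime] (P : Sylow p G) {V : Subgroup G}
    (hV : Cfsg.IsComplIn (P : Subgroup G) V (Subgroup.normalizer ((P : Subgroup G) : Set G)))
    (hle : (P : Subgroup G) ≤ ⁅Subgroup.normalizer ((P : Subgroup G) : Set G),
      Subgroup.normalizer ((P : Subgroup G) : Set G)⁆) :
    (P : Subgroup G) = ⁅(P : Subgroup G), V⁆ := by
  set N : Subgroup G := Subgroup.normalizer ((P : Subgroup G) : Set G) with hN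
  obtain ⟨hPN, hVN, -, hfac⟩ := hV
  have hKP : ⁅(P : Subgroup G), V⁆ ≤ (P : Subgroup G) := by
    rw [Subgroup.commutator_le]
    intro a ha v hv
    have hvN := hVN hv
    have h1 : v * a⁻¹ * v⁻¹ ∈ (P : Subgroup G) :=
      (Subgroup.mem_normalizer_iff.mp hvN a⁻¹).mp ((P : Subgroup G).inv_mem ha)
    have e : ⁅a, v⁆ = a * (v * a⁻¹ * v⁻¹) := by
      simp only [commutatorElement_def]; group
    rw [e]; exact (P : Subgroup G).mul_mem ha h1
  have hPP : ⁅(P : Subgroup G), (P : Subgroup G)⁆ ≤ (P : Subgroup G) := by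
    rw [Subgroup.commutator_le]
    intro a ha b hb
    rw [commutatorElement_def]
    exact (P : Subgroup G).mul_mem ((P : Subgroup G).mul_mem ((P : Subgroup G).mul_mem ha hb)
      ((P : Subgroup G).inv_mem ha)) ((P : Subgroup G).inv_mem hb)
  -- Step 1: `P ≤ P' [P,V]` by the focal subgroup theorem in `N`
  have hX : (P : Subgroup G) ≤ ⁅(P : Subgroup G), (P : Subgroup G)⁆ ⊔ ⁅(P : Subgroup G), V⁆ := by
    let PN : Sylow p ↥N := P.subtype hPN
    have hPNcoe : (PN : Subgroup ↥N) = (P : Subgroup G).subgroupOf N := Sylow.coe_subtype P hPN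
    have hfocal := Subgroup.commutator_inf_eq_focalSubgroup PN
    have hPNle : (PN : Subgroup ↥N) ≤ commutator ↥N := by
      intro x hx
      rw [hPNcoe, Subgroup.mem_subgroupOf] at hx
      have h1 := hle hx
      rw [← Subgroup.map_subtype_commutator N] at h1
      obtain ⟨y, hy, hyx⟩ := h1
      have : y = x := Subtype.ext hyx
      rwa [← this]
    have hPNfoc : (PN : Subgroup ↥N) ≤ (PN : Subgroup ↥N).focalSubgroup := by
      rw [← hfocal]; exact le_inf hPNle le_rfl
    intro y hy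
    have hyN : (⟨y, hPN hy⟩ : ↥N) ∈ (PN : Subgroup ↥N) := by
      rw [hPNcoe, Subgroup.mem_subgroupOf]; exact hy
    have h2 := hPNfoc hyN
    have hcl : (PN : Subgroup ↥N).focalSubgroup ≤
        (⁅(P : Subgroup G), (P : Subgroup G)⁆ ⊔ ⁅(P : Subgroup G), V⁆).subgroupOf N := by
      rw [Subgroup.focalSubgroup_def, Subgroup.closure_le]
      rintro g ⟨-, x, hx, u, rfl⟩
      rw [hPNcoe, Subgroup.mem_subgroupOf] at hx
      rw [SetLike.mem_coe, Subgroup.mem_subgroupOf]
      have e : ((⁅x, u⁆ : ↥N) : G) = ⁅(x : G), (u : G)⁆ := by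
        simp [commutatorElement_def]
      rw [e]
      exact commutator_le_sup_of_factor hfac (Subgroup.commutator_mem_commutator hx u.2)
    exact hcl h2
  -- Step 2: a subgroup of the `p`-group `P` generating `P` modulo `P'` is `P`
  have hPp : IsPGroup p ↥(P : Subgroup G) := P.isPGroup'
  have htop : (⁅(P : Subgroup G), V⁆).subgroupOf (P : Subgroup G) = ⊤ := by
    apply Cfsg.Agent.Helper16.eq_top_of_sup_commutator_eq_top hPp
    apply Subgroup.map_injective (P : Subgroup G).subtype_injective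
    rw [Subgroup.map_sup, Subgroup.map_subgroupOf_eq_of_le hKP, Subgroup.map_subtype_commutator,
      ← MonoidHom.range_eq_map, Subgroup.range_subtype]
    apply le_antisymm (sup_le hKP hPP)
    rw [sup_comm]; exact hX
  exact le_antisymm (Subgroup.subgroupOf_eq_top.mp htop) hKP

/-- **B-G Corollary 10.7(c)**: `N_G(P)` controls fusion of subgroups of `P`. -/
theorem fusion_c (hG : Cfsg.IsMinSimpleOddOrder G) (hU : UniquenessThm G)
    (hPL : PLenOne G) {p : ℕ} [Fact p.Prime] (P : Sylow p G) (Q : Subgroup G) (x : G)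
    (hQP : Q ≤ (P : Subgroup G)) (hxQ : cj x Q ≤ (P : Subgroup G)) :
    ∃ y ∈ Subgroup.normalizer ((P : Subgroup G) : Set G), cj x Q = cj y Q := by
  by_cases hQ1 : Q = ⊥
  · refine ⟨1, Subgroup.one_mem _, ?_⟩
    subst hQ1
    unfold cj
    rw [Subgroup.map_bot, Subgroup.map_bot]
  have hP1 : (P : Subgroup G) ≠ ⊥ := by
    intro h
    apply hQ1
    rw [h] at hQP
    exact le_bot_iff.mp hQP
  obtain ⟨M, hMc, hNM, hpσ, hPM, hmap⟩ := exists_coatom_normalizer_le hG P hP1
  haveI : Group.IsSolvable ↥M := hG.2.2.2 M hMc.1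
  have hQp : IsPGroup p Q := P.isPGroup'.to_le hQP
  have h101 := (thm_10_1 hG hU M hMc hpσ Q hQp hQ1 (hQP.trans hPM)).1 x (hxQ.trans hPM)
  obtain ⟨m, hm, c, hc, rfl⟩ := h101
  have e1 : cj (m * c) Q = cj m Q := by
    rw [cj_mul, cj_eq_self_of_mem_centralizer hc]
  rw [e1] at hxQ ⊢
  -- now inside `M`
  have h61 := (Cfsg.Agent.S1461.result (G := ↥M) p (hPL p M hMc.1) (P.subtype hPM)).2.1
    ((Q.subgroupOf M : Subgroup ↥M) : Set ↥M) ⟨m, hm⟩ ?_ ?_
  · obtain ⟨g, hg, c', hc', hgc⟩ := h61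
    have hgN : (g : G) ∈ Subgroup.normalizer ((P : Subgroup G) : Set G) := by
      have h1 := map_normalizer_le_normalizer_map ((P.subtype hPM : Sylow p ↥M) : Subgroup ↥M)
      rw [hmap] at h1
      exact h1 ⟨g, hg, rfl⟩
    refine ⟨(g : G), hgN, ?_⟩
    have hm' : m = (g : G) * (c' : G) := by
      have := congrArg (fun z : ↥M => (z : G)) hgc
      simpa using this.symm
    have hc'Q : (c' : G) ∈ Subgroup.centralizer (Q : Set G) := by
      rw [Subgroup.mem_centralizer_iff]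
      intro q hq
      have hqM : q ∈ M := hPM (hQP hq)
      have h2 := Subgroup.mem_centralizer_iff.mp hc' ⟨q, hqM⟩
        (by rw [SetLike.mem_coe, Subgroup.mem_subgroupOf]; exact hq)
      have := congrArg (fun z : ↥M => (z : G)) h2
      simpa using this
    rw [hm', cj_mul, cj_eq_self_of_mem_centralizer hc'Q]
  · intro y hy
    rw [SetLike.mem_coe, Subgroup.mem_subgroupOf] at hy
    rw [SetLike.mem_coe, Sylow.coe_subtype, Subgroup.mem_subgroupOf]
    exact hQP hy
  · rintro _ ⟨y, hy, rfl⟩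
    rw [SetLike.mem_coe, Subgroup.mem_subgroupOf] at hy
    rw [SetLike.mem_coe, Sylow.coe_subtype, Subgroup.mem_subgroupOf]
    apply hxQ
    show m * (y : G) * m⁻¹ ∈ cj m Q
    exact conj_mem_cj hy

/-- every `p`-subgroup is conjugate into a given Sylow `p`-subgroup. -/
theorem exists_cj_le_sylow {p : ℕ} [Fact p.Prime] (P : Sylow p G) {R : Subgroup G}
    (hR : IsPGroup p R) : ∃ g : G, cj g R ≤ (P : Subgroup G) := by
  obtain ⟨P', hRP'⟩ := hR.exists_le_sylow
  obtain ⟨g, hg⟩ := MulAction.exists_smul_eq G P' P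
  refine ⟨g, ?_⟩
  have h1 : cj g (P' : Subgroup G) = (P : Subgroup G) := by
    rw [← hg]
    rfl
  rw [← h1]
  exact cj_mono hRP'

/-- **B-G Corollary 10.7(d)**: `N_P(Q)` is a Sylow subgroup of `N_G(Q)` for every `Q ≤ P`. -/
theorem fusion_d (hG : Cfsg.IsMinSimpleOddOrder G) (hU : UniquenessThm G)
    (hPL : PLenOne G) {p : ℕ} [Fact p.Prime] (P : Sylow p G) (Q : Subgroup G)
    (hQP : Q ≤ (P : Subgroup G)) :
    ¬ p ∣ ((P : Subgroup G) ⊓ Subgroup.normalizer (Q : Set G)).relIndex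
      (Subgroup.normalizer (Q : Set G)) := by
  set NQ : Subgroup G := Subgroup.normalizer (Q : Set G) with hNQ
  have hQp : IsPGroup p Q := P.isPGroup'.to_le hQP
  obtain ⟨R, hR0, hR⟩ := exists_isSylowIn_ge (p := p) (N := NQ)
    (Y := (P : Subgroup G) ⊓ NQ) inf_le_right (P.isPGroup'.to_le inf_le_left)
  have hQR : Q ≤ R := hR.normal_le hQp le_rfl Subgroup.le_normalizer
  obtain ⟨g, hg⟩ := exists_cj_le_sylow P hR.2.1
  have hgQ : cj g Q ≤ (P : Subgroup G) := (cj_mono hQR).trans hg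
  obtain ⟨y, hy, hxy⟩ := fusion_c hG hU hPL P Q g hQP hgQ
  -- h := y⁻¹ g normalizes Q
  have hhQ : cj (y⁻¹ * g) Q = Q := by
    rw [cj_mul, hxy, cj_inv_cj]
  have hhN : y⁻¹ * g ∈ NQ := mem_normalizer_of_cj_eq hhQ
  have hhR : cj (y⁻¹ * g) R ≤ (P : Subgroup G) := by
    rw [cj_mul]
    have h1 : cj y⁻¹ (cj g R) ≤ cj y⁻¹ (P : Subgroup G) := cj_mono hg
    rwa [cj_eq_of_mem_normalizer (Subgroup.inv_mem _ hy)] at h1
  have hS : IsSylowIn p (cj (y⁻¹ * g) R) NQ := hR.cj_mem hhN
  have hle : cj (y⁻¹ * g) R ≤ (P : Subgroup G) ⊓ NQ := le_inf hhR hS.1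
  intro hdvd
  exact hS.2.2 (dvd_trans hdvd (Subgroup.relIndex_dvd_of_le_left NQ hle))

/-- **B-G Corollary 10.7(e)**. -/
theorem fusion_e (hG : Cfsg.IsMinSimpleOddOrder G) (hU : UniquenessThm G)
    (hPL : PLenOne G) {p : ℕ} [Fact p.Prime] (P : Sylow p G) (R Q : Subgroup G)
    (hR : IsPGroup p R) (hQ : Q ≤ (P : Subgroup G) ⊓ R)
    (hNP : Subgroup.normalizer ((P : Subgroup G) : Set G) ≤ Subgroup.normalizer (Q : Set G)) :
    Subgroup.normalizer (R : Set G) ≤ Subgroup.normalizer (Q : Set G) := by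
  have hQP : Q ≤ (P : Subgroup G) := hQ.trans inf_le_left
  have hQR : Q ≤ R := hQ.trans inf_le_right
  obtain ⟨g, hg⟩ := exists_cj_le_sylow P hR
  -- any conjugate of Q inside P equals Q
  have key : ∀ z : G, cj z Q ≤ (P : Subgroup G) → cj z Q = Q := by
    intro z hz
    obtain ⟨y, hy, hzy⟩ := fusion_c hG hU hPL P Q z hQP hz
    rw [hzy]
    exact cj_eq_of_mem_normalizer (hNP hy)
  have hgQ : cj g Q = Q := key g ((cj_mono hQR).trans hg)
  intro n hn
  have hnR : cj n R = R := cj_eq_of_mem_normalizer hn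
  have h1 : cj (g * n) Q ≤ (P : Subgroup G) := by
    rw [cj_mul]
    refine (cj_mono ?_).trans hg
    rw [← hnR]
    exact cj_mono hQR
  have h2 := key (g * n) h1
  rw [cj_mul] at h2
  have h3 : cj n Q = Q := by
    have : cj g (cj n Q) = cj g Q := by rw [h2, hgQ]
    have h4 := congrArg (cj g⁻¹) this
    rwa [cj_inv_cj, cj_inv_cj] at h4
  exact mem_normalizer_of_cj_eq h3

end Cfsg.Agent.Helper22.BGCor107
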