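import Mathlib
import Cfsg.Agent.Helper31.BGTrans
import Cfsg.Agent.Helper68.BG12A
import Cfsg.Agent.Helper23.Sup

set_option autoImplicit false
set_option linter.unusedSectionVars false
set_option linter.unusedVariables false
set_option linter.style.haveILetI false

/-!
# B-G Corollary 12.6 (statement S1418) from Theorem 12.5 (S1417) and 12.4(a) (S1416) (helper22)

The hypotheses `hCA` and `h125` are exactly what the frozen statements S1416 and S1417 give for
the triple `(M, p, A)`.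
-/

namespace Cfsg.Agent.Helper22.BG126

open Cfsg Cfsg.Agent.Helper31 Cfsg.Agent.Helper68.BG12

variable {G : Type*} [Group G] [Finite G]

/-- The conclusion of B-G Theorem 12.5 (S1417) for a triple `(M, p, A)`. -/
def Concl125 (M : Subgroup G) (p : ℕ) [Fact p.Prime] (A : Subgroup G) : Prop :=
  Group.IsNilpotent (Cfsg.sigmaCore M) ∧
    (∀ P : Sylow p M, IsMulCommutative (P : Subgroup M) ∧
      (A ≤ (P : Subgroup M).map M.subtype →
        (∀ x ∈ (P : Subgroup M).map M.subtype, x ^ p = 1 ↔ x ∈ A) ∧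
        ¬ Subgroup.normalizer ((((P : Subgroup M).map M.subtype : Subgroup G)) : Set G) ≤ M)) ∧
    M ≤ Subgroup.normalizer ((Cfsg.sigmaCore M ⊔ A : Subgroup G) : Set G) ∧
    Cfsg.sigmaCore M ⊓ Subgroup.centralizer (A : Set G) = ⊥ ∧
    (∀ Mstar : Subgroup G, IsCoatom Mstar → Mstar ≠ M → A ≤ Mstar →
      Cfsg.sigmaCore M ⊓ Mstar = ⊥) ∧
    ∃ A₁ : Subgroup G, A₁ ≤ A ∧ Nat.card A₁ = p ∧
      Cfsg.sigmaCore M ⊓ Subgroup.centralizer (A₁ : Set G) = ⊥

/-- a `p`-subgroup of `M` lies in (the image of) a Sylow `p`-subgroup of `M`. -/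
theorem exists_sylow_map_ge {M : Subgroup G} {p : ℕ} [Fact p.Prime] {B : Subgroup G}
    (hBM : B ≤ M) (hB : IsPGroup p B) :
    ∃ P : Sylow p M, B ≤ (P : Subgroup M).map M.subtype := by
  have h1 : IsPGroup p (B.subgroupOf M) :=
    hB.of_equiv (Subgroup.subgroupOfEquivOfLe hBM).symm
  obtain ⟨P, hP⟩ := h1.exists_le_sylow
  refine ⟨P, ?_⟩
  intro b hb
  exact ⟨⟨b, hBM hb⟩, hP (by rw [Subgroup.mem_subgroupOf]; exact hb), rfl⟩

theorem isPGroup_of_elementaryAbelian {p : ℕ} {A : Subgroup G}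
    (hA : Cfsg.IsElementaryAbelian p A) : IsPGroup p A := by
  intro a
  refine ⟨1, ?_⟩
  rw [pow_one]
  exact Subtype.ext (by simpa using hA.2 a.1 a.2)

/-- **B-G Corollary 12.6.** -/
theorem cor_12_6 (hG : Cfsg.IsMinSimpleOddOrder G) {M E : Subgroup G} (hM : IsCoatom M)
    (hE : Cfsg.IsComplIn E (Cfsg.sigmaCore M) M) {p : ℕ} [Fact p.Prime]
    {A : Subgroup G} (hA : A ≤ E ∧ Cfsg.IsElementaryAbelian p A ∧ Nat.card A = p ^ 2)
    (hCA : Subgroup.centralizer (A : Set G) ≤ M) (h125 : Concl125 M p A) :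
    (E ≤ Subgroup.normalizer (A : Set G) ∧
        ∀ X : Subgroup G, X ≤ E → Nat.card X = p → X ≤ A) ∧
      (Subgroup.centralizer (A : Set G) ≤ M ⊓ Subgroup.normalizer (A : Set G) ∧
        M ⊓ Subgroup.normalizer (A : Set G) = E ∧
        ¬ Subgroup.normalizer (A : Set G) ≤ M) ∧
      ∀ X : Subgroup G, X ≤ A → Nat.card X = p →
        Cfsg.sigmaCore M ⊓ Subgroup.centralizer (X : Set G) ≠ ⊥ →
        (Subgroup.centralizer (X : Set G) ≤ M ∧ ∀ L : Subgroup G, IsCoatom L →
          Subgroup.centralizer (X : Set G) ≤ L → L = M) := by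
  have hpp : p.Prime := Fact.out
  haveI : IsSimpleGroup G := hG.2.1
  obtain ⟨hAE, hAel, hAcard⟩ := hA
  obtain ⟨-, hb, hc, hd, he, -⟩ := h125
  obtain ⟨hEM, hSM, hES, hfac⟩ := hE
  have hAM : A ≤ M := hAE.trans hEM
  have hAp : IsPGroup p A := isPGroup_of_elementaryAbelian hAel
  -- `M` normalizes `M_σ`
  have hMS : M ≤ Subgroup.normalizer ((Cfsg.sigmaCore M : Subgroup G) : Set G) :=
    AInv.le_normalizer (fun m hm s hs => conj_mem_sigmaCore hm hs)
  -- Dedekind: `E ∩ M_σ A = A`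
  have hded : ∀ x ∈ E, x ∈ Cfsg.sigmaCore M ⊔ A → x ∈ A := by
    intro x hxE hx
    obtain ⟨s, hs, a, ha, rfl⟩ :=
      (Cfsg.Agent.Helper23.mem_sup_iff_of_le_normalizer (hAM.trans hMS)).mp hx
    have hsE : s ∈ E := by
      have : s = s * a * a⁻¹ := by group
      rw [this]
      exact E.mul_mem hxE (E.inv_mem (hAE ha))
    have hs1 : s ∈ E ⊓ Cfsg.sigmaCore M := ⟨hsE, hs⟩
    rw [hES, Subgroup.mem_bot] at hs1
    rw [hs1, one_mul]
    exact ha
  -- (a1)
  have ha1 : E ≤ Subgroup.normalizer (A : Set G) := by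
    apply AInv.le_normalizer
    intro e he' a ha
    apply hded _ (E.mul_mem (E.mul_mem he' (hAE ha)) (E.inv_mem he'))
    exact (Subgroup.mem_normalizer_iff.mp (hc (hEM he')) a).mp (Subgroup.mem_sup_right ha)
  -- (a2)
  have ha2 : ∀ X : Subgroup G, X ≤ E → Nat.card X = p → X ≤ A := by
    intro X hXE hX
    have hXp : IsPGroup p X := IsPGroup.of_card (n := 1) (by rw [hX, pow_one])
    have hAX : IsPGroup p (A ⊔ X : Subgroup G) :=
      IsPGroup.to_sup_of_normal_left' hAp hXp (hXE.trans ha1)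
    obtain ⟨P, hP⟩ := exists_sylow_map_ge (sup_le hAM (hXE.trans hEM)) hAX
    have h1 := ((hb P).2 (le_sup_left.trans hP)).1
    intro x hx
    apply (h1 x (hP (Subgroup.mem_sup_right hx))).mp
    have : (⟨x, hx⟩ : ↥X) ^ Nat.card X = 1 := pow_card_eq_one'
    rw [hX] at this
    exact congrArg Subtype.val this
  refine ⟨⟨ha1, ha2⟩, ⟨le_inf hCA (Subgroup.centralizer_le_normalizer _), ?_, ?_⟩, ?_⟩
  · -- (b2)
    apply le_antisymm
    · rintro x ⟨hxM, hxN⟩
      obtain ⟨e, he', s, hs, rfl⟩ := hfac x hxM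
      have hsN : s ∈ Subgroup.normalizer (A : Set G) := by
        have : s = e⁻¹ * (e * s) := by group
        rw [this]
        exact Subgroup.mul_mem _ (Subgroup.inv_mem _ (ha1 he')) hxN
      have hsC : s ∈ Subgroup.centralizer (A : Set G) := by
        rw [Subgroup.mem_centralizer_iff]
        intro a ha
        have h1 : s * a * s⁻¹ * a⁻¹ ∈ A :=
          A.mul_mem ((Subgroup.mem_normalizer_iff.mp hsN a).mp ha) (A.inv_mem ha)
        have h2 : s * a * s⁻¹ * a⁻¹ ∈ Cfsg.sigmaCore M := by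
          have : s * a * s⁻¹ * a⁻¹ = s * (a * s⁻¹ * a⁻¹) := by group
          rw [this]
          exact Subgroup.mul_mem _ hs (conj_mem_sigmaCore (hAM ha) (Subgroup.inv_mem _ hs))
        have h3 : s * a * s⁻¹ * a⁻¹ ∈ E ⊓ Cfsg.sigmaCore M := ⟨hAE h1, h2⟩
        rw [hES, Subgroup.mem_bot] at h3
        have : a * s = s * a := by
          have h4 : s * a * s⁻¹ * a⁻¹ * (a * s) = 1 * (a * s) := by rw [h3]
          rw [one_mul] at h4
          rw [← h4]; group
        exact this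
      have hs1 : s ∈ Cfsg.sigmaCore M ⊓ Subgroup.centralizer (A : Set G) := ⟨hs, hsC⟩
      rw [hd, Subgroup.mem_bot] at hs1
      rw [hs1, mul_one]
      exact he'
    · exact le_inf hEM ha1
  · -- (b3)
    obtain ⟨P, hP⟩ := exists_sylow_map_ge hAM hAp
    obtain ⟨h1, h2⟩ := (hb P).2 hP
    intro hN
    apply h2
    refine le_trans ?_ hN
    apply AInv.le_normalizer
    intro g hg a ha
    have haP : a ∈ (P : Subgroup M).map M.subtype := hP ha
    have hgaP : g * a * g⁻¹ ∈ (P : Subgroup M).map M.subtype :=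
      (Subgroup.mem_normalizer_iff.mp hg a).mp haP
    apply (h1 _ hgaP).mp
    rw [conj_pow, hAel.2 a ha, mul_one, mul_inv_cancel]
  · -- (c)
    intro X hXA hX hne
    have hAC : A ≤ Subgroup.centralizer (X : Set G) := by
      intro a ha
      rw [Subgroup.mem_centralizer_iff]
      intro x hx
      have := hAel.1.is_comm.comm (⟨x, hXA hx⟩ : ↥A) ⟨a, ha⟩
      exact congrArg Subtype.val this
    have huniq : ∀ L : Subgroup G, IsCoatom L → Subgroup.centralizer (X : Set G) ≤ L → L = M := by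
      intro L hL hCL
      by_contra hLM
      apply hne
      rw [eq_bot_iff, ← he L hL hLM (hAC.trans hCL)]
      exact inf_le_inf_left _ hCL
    have hX1 : X ≠ ⊥ := by
      intro h
      rw [h, Subgroup.card_bot] at hX
      exact hpp.one_lt.ne hX
    have hXp : IsPGroup p X := IsPGroup.of_card (n := 1) (by rw [hX, pow_one])
    have hXtop : X ≠ ⊤ := Cfsg.Agent.Helper29.BG10.isPGroup_ne_top hG hXp
    have hNtop : Subgroup.normalizer (X : Set G) ≠ ⊤ := bgt_normalizer_ne_top_of_simple hX1 hXtop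
    have hCtop : Subgroup.centralizer (X : Set G) ≠ ⊤ := by
      intro h
      apply hNtop
      rw [eq_top_iff, ← h]
      exact Subgroup.centralizer_le_normalizer _
    obtain ⟨L, hL, hCL⟩ := (eq_top_or_exists_le_coatom _).resolve_left hCtop
    have := huniq L hL hCL
    subst this
    exact ⟨hCL, huniq⟩

end Cfsg.Agent.Helper22.BG126
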