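import Mathlib
import Cfsg.Agent.S1394
import Cfsg.Agent.S1395
import Cfsg.Agent.S1396
import Cfsg.Agent.Helper31.BGTrans3
import Cfsg.Agent.Helper22.BGCor107

set_option autoImplicit false
set_option linter.unusedSectionVars false
set_option linter.unusedVariables false
set_option linter.style.haveILetI false

/-!
# B-G Theorem 11.7, the fusion step (helper22)

Steps 2-3 of the proof of B-G Theorem 11.7 (the "residual configuration", board #2740/#2821):
if `A` is an abelian `p`-subgroup satisfying the transitivity hypothesis via S1396(1), with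
`C_G(A) ≤ M ≤ N_G(Z)` for an `r`-subgroup `Z` and `r ∣ |C_G(A)|`, then some `r`-subgroup `Q̃ ≥ Z`
has `A ≤ N_G(Q̃)'` (B-G 7.4, 7.5(d) and Corollary 10.7(a)).
-/

namespace Cfsg.Agent.Helper22.BG117

open Cfsg Cfsg.Agent.Helper29.BG10 Cfsg.Agent.Helper22.BGCor107 Cfsg.Agent.Helper31
open scoped commutatorElement

/-- Every subgroup of a finite nilpotent group is subnormal. -/
theorem isSubnormal_of_isNilpotent {X : Type*} [Group X] [Finite X] [Group.IsNilpotent X]
    (H : Subgroup X) : H.IsSubnormal := by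
  induction' hn : (Nat.card X - Nat.card H) using Nat.strong_induction_on with n ih generalizing H
  by_cases hH : H = ⊤
  · subst hH; exact Subgroup.IsSubnormal.top
  have hlt : H < Subgroup.normalizer (H : Set X) :=
    Group.normalizerCondition_of_isNilpotent H (lt_top_iff_ne_top.mpr hH)
  have hcard : Nat.card H < Nat.card (Subgroup.normalizer (H : Set X)) := by
    refine lt_of_le_of_ne (Subgroup.card_le_of_le hlt.le) ?_
    intro he
    exact hlt.ne (Subgroup.eq_of_le_of_card_ge hlt.le he.ge)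
  have hle : Nat.card (Subgroup.normalizer (H : Set X)) ≤ Nat.card X :=
    Subgroup.card_le_card_group _
  have hsn : (Subgroup.normalizer (H : Set X)).IsSubnormal :=
    ih (Nat.card X - Nat.card (Subgroup.normalizer (H : Set X))) (by omega) _ rfl
  exact Subgroup.IsSubnormal.step H _ Subgroup.le_normalizer hsn Subgroup.normal_in_normalizer

variable {G : Type*} [Group G] [Finite G]

/-- **B-G 11.7, steps 2-3.** -/
theorem exists_rgroup_normalizer_derived (hG : Cfsg.IsMinSimpleOddOrder G) (hU : UniquenessThm G)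
    (hPL : PLenOne G) {p : ℕ} [Fact p.Prime] (A : Subgroup G) (hAp : IsPGroup p A)
    (hAc : IsMulCommutative A)
    (hA1 : ∀ x ∈ Subgroup.centralizer (A : Set G), x ^ p = 1 ↔ x ∈ A)
    (hA2 : ¬ Cfsg.PRankLE p 1 ↥A)
    (M : Subgroup G) (hCA : Subgroup.centralizer (A : Set G) ≤ M)
    {r : ℕ} (hr : r.Prime) (hrp : r ≠ p) (Z : Subgroup G) (hZ : IsPGroup r Z)
    (hZM : M ≤ Subgroup.normalizer (Z : Set G))
    (hrC : r ∣ Nat.card (Subgroup.centralizer (A : Set G))) :
    ∃ Qt : Subgroup G, IsPGroup r Qt ∧ Z ≤ Qt ∧ A ≤ Subgroup.normalizer (Qt : Set G) ∧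
      A ≤ ⁅Subgroup.normalizer (Qt : Set G), Subgroup.normalizer (Qt : Set G)⁆ := by
  have hpp : p.Prime := Fact.out
  have hAcomm : A ≤ Subgroup.centralizer (A : Set G) := by
    intro a ha
    rw [Subgroup.mem_centralizer_iff]
    intro b hb
    have := hAc.is_comm.comm (⟨b, hb⟩ : ↥A) ⟨a, ha⟩
    exact congrArg Subtype.val this
  have hAbot : A ≠ ⊥ := by
    rintro rfl
    apply hA2
    intro B _ _
    have h1 : Nat.card B ≤ Nat.card (⊥ : Subgroup G) := Subgroup.card_le_card_group B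
    rw [Subgroup.card_bot] at h1
    exact h1.trans (Nat.one_le_pow _ _ hpp.pos)
  obtain ⟨k, hk⟩ := IsPGroup.iff_card.mp hAp
  have hk0 : k ≠ 0 := by
    rintro rfl
    rw [pow_zero] at hk
    exact hAbot ((Subgroup.card_eq_one).mp hk)
  have hpA : p ∣ Nat.card A := by rw [hk]; exact dvd_pow_self p hk0
  have hpG : p ∣ Nat.card G := hpA.trans (Subgroup.card_subgroup_dvd_card A)
  have hTH : TransitivityHypothesis A :=
    Cfsg.Agent.S1396.result hG p hpG A hAp hAc (Or.inl ⟨hA1, fun H hH => hPL p H hH⟩)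
  have hAeq : A ⊓ Subgroup.centralizer (A : Set G) = A := inf_of_le_left hAcomm
  have hZ' : ¬ RankLE 1 ↥(A ⊓ Subgroup.centralizer (A : Set G)) := by
    rw [hAeq]
    intro h
    exact hA2 (h p hpp)
  have hrA : ¬ r ∣ Nat.card A := by
    rw [hk]
    intro hd
    exact hrp ((Nat.prime_dvd_prime_iff_eq hr hpp).mp (hr.dvd_of_dvd_pow hd))
  have htr := Cfsg.Agent.S1394.result hG A hTH hZ' r hr hrA hrC
  obtain ⟨Phat, hAP⟩ := hAp.exists_le_sylow
  have hPtop : (Phat : Subgroup G) ≠ ⊤ := isPGroup_ne_top hG Phat.isPGroup'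
  have hPπ : ∀ s : ℕ, s.Prime → s ∣ Nat.card (Phat : Subgroup G) → s ∣ Nat.card A := by
    intro s hs hd
    obtain ⟨j, hj⟩ := IsPGroup.iff_card.mp Phat.isPGroup'
    rw [hj] at hd
    have : s = p := (Nat.prime_dvd_prime_iff_eq hs hpp).mp (hs.dvd_of_dvd_pow hd)
    rw [this]
    exact hpA
  have hsn : (A.subgroupOf (Phat : Subgroup G)).IsSubnormal := by
    haveI : Group.IsNilpotent ↥(Phat : Subgroup G) := Phat.isPGroup'.isNilpotent
    exact isSubnormal_of_isNilpotent _
  obtain ⟨-, -, hc, hd⟩ :=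
    Cfsg.Agent.S1395.result hG A hTH r hr hrA (Phat : Subgroup G) hPtop hPπ hAP hsn htr
  obtain ⟨Qt, hQt, -⟩ := exists_maxInv_ge (A := (Phat : Subgroup G)) (π := {r})
    (mem_invSubgroups_of_isPGroup hr (IsPGroup.of_bot : IsPGroup r (⊥ : Subgroup G))
      (le_normalizer_bot (Phat : Subgroup G)))
  have hQtA : Qt ∈ maxInvSubgroups ⊤ A {r} := hc hQt
  have hAZ : A ≤ Subgroup.normalizer (Z : Set G) := hAcomm.trans (hCA.trans hZM)
  obtain ⟨Q₁, hQ₁, hZQ₁⟩ := exists_maxInv_ge (mem_invSubgroups_of_isPGroup hr hZ hAZ)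
  obtain ⟨c, hcK, hce⟩ := htr Q₁ hQ₁ Qt hQtA
  have hcN : c ∈ Subgroup.normalizer (Z : Set G) := hZM (hCA (piCoreOf_le _ _ hcK))
  refine ⟨Qt, isPGroup_of_mem_maxInv hr hQtA, ?_, hQtA.1.2.2, ?_⟩
  · intro z hz
    rw [hce]
    have h1 : c⁻¹ * z * c⁻¹⁻¹ ∈ Z :=
      (Subgroup.mem_normalizer_iff.mp (Subgroup.inv_mem _ hcN) z).mp hz
    refine ⟨c⁻¹ * z * c⁻¹⁻¹, hZQ₁ h1, ?_⟩
    simp [MulAut.conj_apply]
    group
  · have h1 := sylow_le_commutator_normalizer hG hU hPL Phat
    exact (hAP.trans (le_inf le_rfl h1)).trans (hd Qt hQt).1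

end Cfsg.Agent.Helper22.BG117
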