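import Mathlib
import Cfsg.Agent.Helper22.BG117
import Cfsg.Agent.Helper50.DerivedKillsAction

set_option autoImplicit false
set_option linter.unusedSectionVars false
set_option linter.unusedVariables false
set_option linter.style.haveILetI false

/-!
# B-G Theorem 11.7: the residual configuration is impossible (helper22)

Steps 2-4 of board #2821 assembled: `Helper22.BG117.exists_rgroup_normalizer_derived` (7.4, 7.5(d),
10.7(a)) followed by helper50's Lemma X (`Helper50.le_centralizer_of_le_commutator`).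
-/

namespace Cfsg.Agent.Helper22.BG117

open Cfsg Cfsg.Agent.Helper29.BG10 Cfsg.Agent.Helper22.BGCor107 Cfsg.Agent.Helper31

variable {G : Type*} [Group G] [Finite G]

/-- **B-G 11.7, steps 2-4**: an abelian `p`-subgroup `A`, maximal elementary abelian in the sense of
S1396(1), with `C_G(A) ≤ M`, centralizes every subgroup `Z ⊴ M` of prime order `r ≠ p` such that
`r ∣ |C_G(A)|` and `M` has `r`-rank at most two. -/
theorem centralizes_normal_prime_order (hG : Cfsg.IsMinSimpleOddOrder G) (hU : UniquenessThm G)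
    (hPL : PLenOne G) {p : ℕ} [Fact p.Prime] (A : Subgroup G) (hAp : IsPGroup p A)
    (hAc : IsMulCommutative A)
    (hA1 : ∀ x ∈ Subgroup.centralizer (A : Set G), x ^ p = 1 ↔ x ∈ A)
    (hA2 : ¬ Cfsg.PRankLE p 1 ↥A)
    (M : Subgroup G) (hM : IsCoatom M) (hCA : Subgroup.centralizer (A : Set G) ≤ M)
    {r : ℕ} [Fact r.Prime] (hrp : r ≠ p) (Z : Subgroup G) (hZ : Nat.card Z = r)
    (hZM : M ≤ Subgroup.normalizer (Z : Set G))
    (hrC : r ∣ Nat.card (Subgroup.centralizer (A : Set G)))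
    (hrank : Cfsg.PRankLE r 2 ↥M) :
    A ≤ Subgroup.centralizer (Z : Set G) := by
  have hr : r.Prime := Fact.out
  have hpp : p.Prime := Fact.out
  haveI : IsSimpleGroup G := hG.2.1
  have hZp : IsPGroup r Z := IsPGroup.of_card (n := 1) (by rw [hZ, pow_one])
  have hZ1 : Z ≠ ⊥ := by
    intro h
    rw [h, Subgroup.card_bot] at hZ
    exact hr.one_lt.ne hZ
  obtain ⟨Qt, hQt, hZQ, hAQ, hAN⟩ :=
    exists_rgroup_normalizer_derived hG hU hPL A hAp hAc hA1 hA2 M hCA hr hrp Z hZp hZM hrC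
  have hQ1 : Qt ≠ ⊥ := fun h => hZ1 (le_bot_iff.mp (h ▸ hZQ))
  have hQtop : Qt ≠ ⊤ := isPGroup_ne_top hG hQt
  have hNtop : Subgroup.normalizer (Qt : Set G) ≠ ⊤ := bgt_normalizer_ne_top_of_simple hQ1 hQtop
  have hNZ : Subgroup.normalizer (Z : Set G) = M := by
    have hZtop : Z ≠ ⊤ := isPGroup_ne_top hG hZp
    have h1 : Subgroup.normalizer (Z : Set G) ≠ ⊤ := bgt_normalizer_ne_top_of_simple hZ1 hZtop
    by_contra hne
    exact h1 (hM.2 _ (lt_of_le_of_ne hZM (Ne.symm hne)))
  have hr2 : r ≠ 2 := by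
    rintro rfl
    have h2 : 2 ∣ Nat.card G := hZ ▸ Subgroup.card_subgroup_dvd_card Z
    exact (Nat.not_even_iff_odd.mpr hG.1) (even_iff_two_dvd.mpr h2)
  have hrk : Cfsg.PRankLE r 2 ↥(Qt ⊓ Subgroup.centralizer (Z : Set G)) := by
    apply Cfsg.Agent.Helper50.pRankLE_mono (K := M) _ hrank
    rw [← hNZ]
    exact inf_le_right.trans (Subgroup.centralizer_le_normalizer _)
  have hAcomm : A ≤ Subgroup.centralizer (A : Set G) := by
    intro a ha
    rw [Subgroup.mem_centralizer_iff]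
    intro b hb
    have := hAc.is_comm.comm (⟨b, hb⟩ : ↥A) ⟨a, ha⟩
    exact congrArg Subtype.val this
  have hAcop : (Nat.card A).Coprime r := by
    obtain ⟨k, hk⟩ := IsPGroup.iff_card.mp hAp
    rw [hk]
    exact Nat.Coprime.pow_left k ((Nat.coprime_primes hpp hr).mpr (Ne.symm hrp))
  exact Cfsg.Agent.Helper50.le_centralizer_of_le_commutator hr2
    (Subgroup.normalizer (Qt : Set G)) Qt Z A (hG.2.2.2 _ hNtop)
    (Odd.of_dvd_nat hG.1 (Subgroup.card_subgroup_dvd_card _)) le_rfl hQt hZQ hZ hrk hAN hAcop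
    (hAcomm.trans (hCA.trans hZM))

end Cfsg.Agent.Helper22.BG117
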