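import Mathlib
import Cfsg.Agent.Helper22.BGCor107
import Cfsg.Agent.S1448
import Cfsg.Agent.Helper37.ExtraP3
import Cfsg.Agent.Helper50.CL

set_option autoImplicit false
set_option linter.unusedSectionVars false
set_option linter.unusedVariables false
set_option linter.style.haveILetI false

/-!
# B-G Corollary 10.7(b) (helper22)

Structure of the Sylow `p`-subgroups of rank at most two of a minimal simple group of odd order,
from Corollary 10.7(a) and B-G Theorem 4.18 (landed statement S1448).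
-/

namespace Cfsg.Agent.Helper22.BGCor107

open Cfsg Cfsg.Agent.Helper29.BG10
open scoped commutatorElement

variable {G : Type*} [Group G] [Finite G]

/-- Schur–Zassenhaus: a Sylow `p`-subgroup has a complement in its normalizer, of order prime
to `p`. -/
theorem exists_isComplIn_normalizer {p : ℕ} [Fact p.Prime] (P : Sylow p G) :
    ∃ V : Subgroup G,
      Cfsg.IsComplIn (P : Subgroup G) V (Subgroup.normalizer ((P : Subgroup G) : Set G)) ∧
      (Nat.card V).Coprime p := by
  have hp : p.Prime := Fact.out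
  set N : Subgroup G := Subgroup.normalizer ((P : Subgroup G) : Set G) with hN
  have hPN : (P : Subgroup G) ≤ N := Subgroup.le_normalizer
  set S : Sylow p ↥N := P.subtype hPN with hS
  have hScoe : (S : Subgroup ↥N) = (P : Subgroup G).subgroupOf N := Sylow.coe_subtype _ _
  haveI : (S : Subgroup ↥N).Normal := by
    rw [hScoe]; exact Subgroup.normal_in_normalizer
  obtain ⟨H, hH⟩ := Subgroup.exists_right_complement'_of_coprime S.card_coprime_index
  refine ⟨H.map N.subtype, ⟨hPN, ?_, ?_, ?_⟩, ?_⟩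
  · rintro _ ⟨h, -, rfl⟩
    exact h.2
  · rw [eq_bot_iff]
    rintro x ⟨hxP, ⟨h, hhH, rfl⟩⟩
    have h1 : h ∈ (S : Subgroup ↥N) := by
      rw [hScoe, Subgroup.mem_subgroupOf]; exact hxP
    have h2 : h ∈ (S : Subgroup ↥N) ⊓ H := ⟨h1, hhH⟩
    rw [hH.disjoint.eq_bot, Subgroup.mem_bot] at h2
    rw [Subgroup.mem_bot]
    exact congrArg Subtype.val h2
  · intro m hm
    obtain ⟨⟨⟨a, ha⟩, ⟨b, hb⟩⟩, hab, -⟩ := Subgroup.IsComplement.existsUnique hH ⟨m, hm⟩
    refine ⟨a, ?_, b, ⟨b, hb, rfl⟩, ?_⟩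
    · have ha' : a ∈ (S : Subgroup ↥N) := ha
      rw [hScoe, Subgroup.mem_subgroupOf] at ha'; exact ha'
    · simpa using (congrArg Subtype.val hab).symm
  · rw [Subgroup.card_map_of_injective N.subtype_injective]
    have h1 : (S : Subgroup ↥N).index = Nat.card H := hH.symm.index_eq_card
    rw [← h1]
    exact ((Nat.Prime.coprime_iff_not_dvd hp).mpr S.not_dvd_index).symm

/-- **B-G Corollary 10.7(b)** (statement-shaped S1412, from the Uniqueness Theorem and
`p`-length one). -/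
theorem sylow_structure (hG : Cfsg.IsMinSimpleOddOrder G) (hU : UniquenessThm G)
    (hPL : PLenOne G) (p : ℕ) [Fact p.Prime] (P : Sylow p G)
    (hr : Cfsg.PRankLE p 2 (P : Subgroup G)) :
    IsMulCommutative (P : Subgroup G) ∨ ∃ P₁ P₂ : Subgroup G, P₁ ⊔ P₂ = (P : Subgroup G) ∧
      (∀ a ∈ P₁, ∀ b ∈ P₂, a * b = b * a) ∧
        ¬ IsMulCommutative P₁ ∧ Nat.card P₁ = p ^ 3 ∧ Monoid.exponent P₁ = p ∧ IsCyclic P₂ ∧
        Subgroup.closure {x : G | x ∈ P₂ ∧ x ^ p = 1} =
          P₁ ⊓ Subgroup.centralizer (P₁ : Set G) := by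
  have hp : p.Prime := Fact.out
  by_cases hP1 : (P : Subgroup G) = ⊥
  · left
    refine ⟨⟨?_⟩⟩
    rintro ⟨a, ha⟩ ⟨b, hb⟩
    rw [hP1, Subgroup.mem_bot] at ha hb
    subst ha; subst hb; rfl
  -- `p` is odd
  have hpdvd : p ∣ Nat.card G := by
    obtain ⟨n, hn⟩ := IsPGroup.iff_card.mp P.isPGroup'
    have hn0 : n ≠ 0 := by
      intro h0
      rw [h0, pow_zero] at hn
      exact hP1 (Subgroup.card_eq_one.mp hn)
    have h1 : p ∣ Nat.card (P : Subgroup G) := by rw [hn]; exact dvd_pow_self p hn0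
    exact h1.trans (Subgroup.card_subgroup_dvd_card _)
  have hp2 : p ≠ 2 := by
    rintro rfl
    exact (Nat.not_even_iff_odd.mpr hG.1) (even_iff_two_dvd.mpr hpdvd)
  obtain ⟨V, hV, hVcop⟩ := exists_isComplIn_normalizer P
  have hVodd : Odd (Nat.card V) :=
    Odd.of_dvd_nat hG.1 (Subgroup.card_subgroup_dvd_card V)
  have hcomm : ⁅(P : Subgroup G), V⁆ = (P : Subgroup G) :=
    (eq_commutator_of_isComplIn P hV (sylow_le_commutator_normalizer hG hU hPL P)).symm
  obtain ⟨-, h⟩ := Cfsg.Agent.S1448.result p hp2 (P : Subgroup G) V P.isPGroup' hP1 hr hV.2.1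
    hVcop hVodd hcomm
  rcases h with h | ⟨R₁, R₂, hsup, hcomm12, hnab, hcard, hexp, hcyc, hcl⟩
  · exact Or.inl h
  · refine Or.inr ⟨R₁, R₂, hsup, hcomm12, hnab, hcard, hexp, hcyc, ?_⟩
    rw [hcl]
    have hnc : ∃ x y : ↥R₁, x * y ≠ y * x := by
      by_contra hcon
      refine hnab ⟨⟨fun x y => ?_⟩⟩
      by_contra hxy
      exact hcon ⟨x, y, hxy⟩
    have hpow : ∀ x : ↥R₁, x ^ p = 1 := by
      intro x
      rw [← hexp]
      exact Monoid.pow_exponent_eq_one x
    have hes := Cfsg.Agent.Helper37.isExtraspecial_of_card_cube hcard hnc hpow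
    have h1 : commutator ↥R₁ = Subgroup.center ↥R₁ := hes.1.2.2
    rw [← Cfsg.Agent.Helper50.map_center_eq, ← h1, commutator_def, Subgroup.map_commutator]
    have h2 : Subgroup.map R₁.subtype ⊤ = R₁ := by
      rw [← MonoidHom.range_eq_map, Subgroup.range_subtype]
    rw [h2]
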