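import Mathlib
import Cfsg.Prelude.Def_IsolatedElements
import Cfsg.Agent.Lib.Cores
import Cfsg.Agent.Helper22.Radical
import Cfsg.Agent.Helper22.PComponent
import Cfsg.Agent.Helper22.Coprime

set_option autoImplicit false
open scoped commutatorElement

/-!
Minimal counterexamples to the `Z*_p` statement (helper22): the derived subgroup is a
non-abelian simple group and `G = G'⟨x⟩`.
-/

namespace Cfsg.Agent.Helper22

open Cfsg

variable {G : Type*} [Group G]

/-- A conjugate of an isolated element is isolated. -/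
theorem isIsolated_conj {x : G} (h : IsIsolated x) (g : G) : IsIsolated (g * x * g⁻¹) := by
  intro a hc
  have h1 : Commute x ((g⁻¹ * a * g) * x * (g⁻¹ * a * g)⁻¹) := by
    have hc' : (g * x * g⁻¹) * (a * (g * x * g⁻¹) * a⁻¹) =
        (a * (g * x * g⁻¹) * a⁻¹) * (g * x * g⁻¹) := hc
    show x * ((g⁻¹ * a * g) * x * (g⁻¹ * a * g)⁻¹) = ((g⁻¹ * a * g) * x * (g⁻¹ * a * g)⁻¹) * x
    have e1 : x * ((g⁻¹ * a * g) * x * (g⁻¹ * a * g)⁻¹) =
        g⁻¹ * ((g * x * g⁻¹) * (a * (g * x * g⁻¹) * a⁻¹)) * g := by group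
    have e2 : ((g⁻¹ * a * g) * x * (g⁻¹ * a * g)⁻¹) * x =
        g⁻¹ * ((a * (g * x * g⁻¹) * a⁻¹) * (g * x * g⁻¹)) * g := by group
    rw [e1, e2, hc']
  have h2 := h _ h1
  calc a * (g * x * g⁻¹) * a⁻¹ = g * ((g⁻¹ * a * g) * x * (g⁻¹ * a * g)⁻¹) * g⁻¹ := by group
    _ = g * x * g⁻¹ := by rw [h2]

/-- If every commutator `[g, x]` commutes with the isolated element `x`, then `x` is central. -/
theorem isIsolated_central_of_commute {x : G} (h : IsIsolated x)
    (hc : ∀ g : G, Commute x (g * x * g⁻¹ * x⁻¹)) : ∀ g : G, g * x * g⁻¹ = x := by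
  intro g
  apply h
  have e : g * x * g⁻¹ = (g * x * g⁻¹ * x⁻¹) * x := by group
  rw [e]
  exact (hc g).mul_right (Commute.refl x)

/-- An isolated element of a nilpotent group is central. -/
theorem isIsolated_central_of_isNilpotent [Group.IsNilpotent G] {x : G} (h : IsIsolated x) :
    ∀ g : G, g * x * g⁻¹ = x := by
  have key : ∀ n : ℕ, ∀ g ∈ Subgroup.upperCentralSeries G n, g * x * g⁻¹ = x := by
    intro n
    induction n with
    | zero =>
      intro g hg
      rw [Subgroup.upperCentralSeries_zero, Subgroup.mem_bot] at hg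
      subst hg; simp
    | succ n ih =>
      intro g hg
      rw [Subgroup.mem_upperCentralSeries_succ_iff] at hg
      have hc : g * x * g⁻¹ * x⁻¹ ∈ Subgroup.upperCentralSeries G n := by
        have := hg x
        rwa [commutatorElement_def] at this
      have h1 := ih _ hc
      apply h
      have e : g * x * g⁻¹ = (g * x * g⁻¹ * x⁻¹) * x := by group
      rw [e]
      refine Commute.mul_right ?_ (Commute.refl x)
      show x * (g * x * g⁻¹ * x⁻¹) = (g * x * g⁻¹ * x⁻¹) * x
      calc x * (g * x * g⁻¹ * x⁻¹)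
          = ((g * x * g⁻¹ * x⁻¹) * x * (g * x * g⁻¹ * x⁻¹)⁻¹) * (g * x * g⁻¹ * x⁻¹) := by rw [h1]
        _ = (g * x * g⁻¹ * x⁻¹) * x := by group
  obtain ⟨n, hn⟩ := Group.IsNilpotent.nilpotent (G := G)
  intro g
  exact key n g (hn ▸ Subgroup.mem_top g)

/-- An isolated element lying in a nilpotent subgroup centralizes it. -/
theorem isIsolated_central_of_isNilpotent_subgroup {x : G} (h : IsIsolated x) (P : Subgroup G)
    [Group.IsNilpotent ↥P] (hx : x ∈ P) : ∀ y ∈ P, y * x * y⁻¹ = x := by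
  have hiso : IsIsolated (⟨x, hx⟩ : ↥P) := by
    intro a hc
    apply Subtype.ext
    have := h (a : G) (by
      have := congrArg Subtype.val hc.eq
      exact this)
    exact this
  intro y hy
  have := isIsolated_central_of_isNilpotent hiso ⟨y, hy⟩
  exact congrArg Subtype.val this


/-! ### Minimal counterexamples -/

/-- In a minimal counterexample `O_{p'}(G) = 1`. -/
theorem zsm_pPrimeCore_eq_bot [Finite G] {p : ℕ} [Fact p.Prime] (x : G) (hnz : ¬ InZStar p x)
    (hquot : ∀ (N : Subgroup G) [N.Normal], N ≠ ⊥ → InZStar p (QuotientGroup.mk x : G ⧸ N)) :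
    pPrimeCore p G = ⊥ := by
  by_contra hne
  have h := hquot (pPrimeCore p G) hne
  apply hnz
  intro g
  have h1 := h (g : G ⧸ pPrimeCore p G)
  rw [pPrimeCore_quotient_eq_bot, Subgroup.mem_bot] at h1
  have h2 : ((g * x * g⁻¹ * x⁻¹ : G) : G ⧸ pPrimeCore p G) = 1 := h1
  exact (QuotientGroup.eq_one_iff _).mp h2

/-- `x` is not central in a counterexample. -/
theorem zsm_not_central {p : ℕ} (x : G) (hnz : ¬ InZStar p x) : ¬ ∀ g : G, g * x * g⁻¹ = x := by
  intro h
  apply hnz
  intro g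
  rw [h g, mul_inv_cancel]
  exact Subgroup.one_mem _

/-- A subgroup of order prime to `p` that is normal in a normal subgroup is trivial when
`O_{p'}(G) = 1`. -/
theorem zsm_eq_bot_of_normal_normal [Finite G] {p : ℕ} (hO : pPrimeCore p G = ⊥)
    {W K : Subgroup G} [hK : K.Normal] (hWK : W ≤ K) (hKW : K ≤ Subgroup.normalizer (W : Set G))
    (hW : (Nat.card ↥W).Coprime p) : W = ⊥ := by
  have hsub : W.IsSubnormal :=
    Subgroup.IsSubnormal.step W K hWK hK.isSubnormal
      ((Subgroup.normal_subgroupOf_iff_le_normalizer hWK).mpr hKW)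
  have := le_pPrimeCore_of_isSubnormal hsub hW
  rw [hO] at this
  exact le_bot_iff.mp this

/-- Step B: if `K` is normal and `K⟨x⟩` is proper, then `x` centralizes `K`. -/
theorem zsm_centralizes_of_sup_ne_top [Finite G] {p : ℕ} [hp : Fact p.Prime] {x : G}
    (hxp : x ^ p = 1) (hO : pPrimeCore p G = ⊥)
    (hmin : ∀ (H : Subgroup G) (hxH : x ∈ H), H ≠ ⊤ → InZStar p (⟨x, hxH⟩ : ↥H))
    (K : Subgroup G) [hK : K.Normal] (hne : K ⊔ Subgroup.zpowers x ≠ ⊤) :
    ∀ k ∈ K, k * x * k⁻¹ = x := by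
  have hxH : x ∈ K ⊔ Subgroup.zpowers x :=
    (le_sup_right : Subgroup.zpowers x ≤ K ⊔ Subgroup.zpowers x) (Subgroup.mem_zpowers x)
  have hKH : K ≤ K ⊔ Subgroup.zpowers x := le_sup_left
  have hz := hmin _ hxH hne
  set H := K ⊔ Subgroup.zpowers x with hH
  set W : Subgroup G := (pPrimeCore p ↥H).map H.subtype with hW
  have hWcard : (Nat.card ↥W).Coprime p := by
    rw [hW, ← Nat.card_congr ((pPrimeCore p ↥H).equivMapOfInjective H.subtype
      H.subtype_injective).toEquiv]
    exact Cfsg.Agent.Lib.card_pPrimeCore_coprime p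
  have hWH : W ≤ H := Subgroup.map_subtype_le _
  have hHW : H ≤ Subgroup.normalizer (W : Set G) := by
    have h1 := Subgroup.le_normalizer_map (H := pPrimeCore p ↥H) H.subtype
    rw [Subgroup.normalizer_eq_top, ← MonoidHom.range_eq_map, Subgroup.range_subtype] at h1
    exact h1
  have hWK : W ≤ K := by
    intro w hw
    have hwH : w ∈ K ⊔ Subgroup.zpowers x := hWH hw
    obtain ⟨k, hk, z, hz', rfl⟩ := Subgroup.mem_sup_of_normal_left.mp hwH
    obtain ⟨i, rfl⟩ := Subgroup.mem_zpowers_iff.mp hz'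
    -- the image of `k * x ^ i` in `G ⧸ K` has order dividing `p` and prime to `p`
    have h1 : orderOf (QuotientGroup.mk' K (k * x ^ i)) ∣ p := by
      apply orderOf_dvd_of_pow_eq_one
      have e : QuotientGroup.mk' K (k * x ^ i) = (QuotientGroup.mk' K x) ^ i := by
        rw [map_mul, map_zpow]
        have : QuotientGroup.mk' K k = 1 := by
          rw [QuotientGroup.mk'_apply, QuotientGroup.eq_one_iff]; exact hk
        rw [this, one_mul]
      rw [e, ← zpow_natCast, ← zpow_mul, mul_comm, zpow_mul, zpow_natCast, ← map_pow, hxp,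
        map_one, one_zpow]
    have h2 : orderOf (QuotientGroup.mk' K (k * x ^ i)) ∣ Nat.card ↥W :=
      (orderOf_map_dvd _ _).trans (Subgroup.orderOf_dvd_natCard W hw)
    have h3 : orderOf (QuotientGroup.mk' K (k * x ^ i)) = 1 :=
      Nat.eq_one_of_dvd_coprimes hWcard h2 h1
    rw [orderOf_eq_one_iff, QuotientGroup.mk'_apply, QuotientGroup.eq_one_iff] at h3
    exact h3
  have hWbot : W = ⊥ := zsm_eq_bot_of_normal_normal hO hWK (hKH.trans hHW) hWcard
  intro k hk
  have h1 := hz ⟨k, hKH hk⟩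
  have h2 : k * x * k⁻¹ * x⁻¹ ∈ W := by
    rw [hW]
    exact ⟨_, h1, rfl⟩
  rw [hWbot, Subgroup.mem_bot] at h2
  calc k * x * k⁻¹ = (k * x * k⁻¹ * x⁻¹) * x := by group
    _ = x := by rw [h2, one_mul]


/-- Minimal normal subgroups (as a predicate). -/
def ZsmMinNormal (M : Subgroup G) : Prop :=
  M.Normal ∧ M ≠ ⊥ ∧ ∀ N : Subgroup G, N.Normal → N ≤ M → N ≠ ⊥ → N = M

theorem exists_zsmMinNormal [Finite G] [Nontrivial G] : ∃ M : Subgroup G, ZsmMinNormal M := by
  have hne : ({N : Subgroup G | N.Normal ∧ N ≠ ⊥}).Nonempty :=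
    ⟨⊤, inferInstance, top_ne_bot⟩
  obtain ⟨M, ⟨hMn, hMb⟩, hmin⟩ := wellFounded_lt.has_min _ hne
  refine ⟨M, hMn, hMb, ?_⟩
  intro N hNn hNM hNb
  by_contra hne'
  exact hmin N ⟨hNn, hNb⟩ (lt_of_le_of_ne hNM hne')

/-- If `M⟨x⟩ = G` then `G' ≤ M`. -/
theorem commutator_le_of_sup_zpowers_eq_top {M : Subgroup G} [hM : M.Normal] {x : G}
    (htop : M ⊔ Subgroup.zpowers x = ⊤) : commutator G ≤ M := by
  rw [commutator_def, Subgroup.commutator_le]
  intro g₁ _ g₂ _
  have h1 : g₁ ∈ M ⊔ Subgroup.zpowers x := htop ▸ Subgroup.mem_top g₁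
  have h2 : g₂ ∈ M ⊔ Subgroup.zpowers x := htop ▸ Subgroup.mem_top g₂
  obtain ⟨m₁, hm₁, z₁, hz₁, rfl⟩ := Subgroup.mem_sup_of_normal_left.mp h1
  obtain ⟨m₂, hm₂, z₂, hz₂, rfl⟩ := Subgroup.mem_sup_of_normal_left.mp h2
  obtain ⟨i, rfl⟩ := Subgroup.mem_zpowers_iff.mp hz₁
  obtain ⟨j, rfl⟩ := Subgroup.mem_zpowers_iff.mp hz₂
  have hm : ∀ m ∈ M, QuotientGroup.mk' M m = 1 := by
    intro m hm
    rw [QuotientGroup.mk'_apply, QuotientGroup.eq_one_iff]; exact hm
  have e : QuotientGroup.mk' M ⁅m₁ * x ^ i, m₂ * x ^ j⁆ = 1 := by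
    rw [map_commutatorElement, map_mul, map_mul, hm m₁ hm₁, hm m₂ hm₂, one_mul, one_mul,
      map_zpow, map_zpow, commutatorElement_eq_one_iff_commute]
    exact ((Commute.refl _).zpow_left i).zpow_right j
  rw [QuotientGroup.mk'_apply, QuotientGroup.eq_one_iff] at e
  exact e

/-- If `M` is central and `M⟨x⟩ = G` then `x` is central. -/
theorem central_of_sup_zpowers_eq_top {M : Subgroup G} {x : G}
    (hMc : ∀ m ∈ M, m * x = x * m) (htop : M ⊔ Subgroup.zpowers x = ⊤) :
    ∀ g : G, g * x * g⁻¹ = x := by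
  have hle : M ⊔ Subgroup.zpowers x ≤ Subgroup.centralizer ({x} : Set G) := by
    refine sup_le ?_ ?_
    · intro m hm
      rw [Subgroup.mem_centralizer_iff]
      intro y hy
      rw [Set.mem_singleton_iff] at hy
      subst hy
      exact (hMc m hm).symm
    · rw [Subgroup.zpowers_le]
      rw [Subgroup.mem_centralizer_iff]
      intro y hy
      rw [Set.mem_singleton_iff] at hy
      subst hy
      rfl
  intro g
  have hg : g ∈ Subgroup.centralizer ({x} : Set G) := hle (htop ▸ Subgroup.mem_top g)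
  rw [Subgroup.mem_centralizer_iff] at hg
  have := hg x rfl
  calc g * x * g⁻¹ = x * g * g⁻¹ := by rw [this]
    _ = x := by group

/-- A minimal normal subgroup containing a nontrivial central element is generated by it. -/
theorem ZsmMinNormal.eq_zpowers_of_central {M : Subgroup G} (hM : ZsmMinNormal M) {c : G}
    (hcM : c ∈ M) (hc1 : c ≠ 1) (hcc : ∀ g : G, g * c = c * g) : Subgroup.zpowers c = M := by
  have hn : (Subgroup.zpowers c).Normal := by
    constructor
    intro n hn g
    obtain ⟨i, rfl⟩ := Subgroup.mem_zpowers_iff.mp hn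
    have : g * c ^ i * g⁻¹ = c ^ i := by
      have h1 : Commute g c := hcc g
      have h2 : Commute g (c ^ i) := h1.zpow_right i
      calc g * c ^ i * g⁻¹ = c ^ i * g * g⁻¹ := by rw [h2.eq]
        _ = c ^ i := by group
    rw [this]
    exact Subgroup.zpow_mem _ (Subgroup.mem_zpowers c) i
  refine hM.2.2 _ hn ((Subgroup.zpowers_le).mpr hcM) ?_
  intro hb
  apply hc1
  have : c ∈ Subgroup.zpowers c := Subgroup.mem_zpowers c
  rw [hb, Subgroup.mem_bot] at this
  exact this

/-- Some conjugate of the isolated `p`-element `x` commutes with a given `p`-element `c`. -/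
theorem exists_conj_commute_of_isIsolated [Finite G] {p : ℕ} [Fact p.Prime] {x c : G}
    (hiso : IsIsolated x) (hxp : x ^ p = 1) (hcp : c ^ p = 1) :
    ∃ g : G, Commute (g * x * g⁻¹) c := by
  obtain ⟨P, hP⟩ := (isPGroup_zpowers_of_pow_eq_one p x hxp).exists_le_sylow
  obtain ⟨Q, hQ⟩ := (isPGroup_zpowers_of_pow_eq_one p c hcp).exists_le_sylow
  obtain ⟨g, hg⟩ := MulAction.exists_smul_eq G P Q
  have hxP : x ∈ P := hP (Subgroup.mem_zpowers x)
  have hcQ : c ∈ Q := hQ (Subgroup.mem_zpowers c)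
  have hx'Q : g * x * g⁻¹ ∈ (Q : Subgroup G) := by
    rw [← hg, Sylow.coe_subgroup_smul]
    have := Subgroup.smul_mem_pointwise_smul x (MulAut.conj g) (P : Subgroup G) hxP
    simpa [MulAut.smul_def] using this
  haveI : Group.IsNilpotent ↥(Q : Subgroup G) := Q.isPGroup'.isNilpotent
  have h := isIsolated_central_of_isNilpotent_subgroup (isIsolated_conj hiso g) (Q : Subgroup G)
    hx'Q c hcQ
  refine ⟨g, ?_⟩
  show (g * x * g⁻¹) * c = c * (g * x * g⁻¹)
  calc (g * x * g⁻¹) * c = (c * (g * x * g⁻¹) * c⁻¹) * c := by rw [h]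
    _ = c * (g * x * g⁻¹) := by group


/-- Key step for simplicity: a minimal `M`-invariant subgroup `T ≠ M` of the minimal normal
subgroup `M` cannot exist when `G = M⟨x⟩`. -/
theorem zsm_no_proper_minimal [Finite G] {p : ℕ} [Fact p.Prime] {x : G}
    (hxp : x ^ p = 1) (hiso : IsIsolated x) (hO : pPrimeCore p G = ⊥)
    {M : Subgroup G} (hM : ZsmMinNormal M) (htop : M ⊔ Subgroup.zpowers x = ⊤)
    {T : Subgroup G} (hTM : T ≤ M) (hMT : M ≤ Subgroup.normalizer (T : Set G)) (hTb : T ≠ ⊥)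
    (hTne : T ≠ M)
    (hTmin : ∀ T' : Subgroup G, T' ≤ T → M ≤ Subgroup.normalizer (T' : Set G) → T' ≠ ⊥ → T' = T) :
    False := by
  haveI hMn : M.Normal := hM.1
  -- `p` divides `|T|`
  have hpT : p ∣ Nat.card ↥T := by
    by_contra hnd
    exact hTb (zsm_eq_bot_of_normal_normal hO hTM hMT (coprime_card_of_not_dvd hnd))
  obtain ⟨c, hcT, hoc⟩ := exists_orderOf_eq_of_dvd_card p hpT
  have hcp : c ^ p = 1 := by rw [← hoc]; exact pow_orderOf_eq_one c
  have hc1 : c ≠ 1 := by
    intro h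
    rw [h, orderOf_one] at hoc
    exact (Fact.out : p.Prime).one_lt.ne hoc
  obtain ⟨g, hg⟩ := exists_conj_commute_of_isIsolated hiso hxp hcp
  set x' := g * x * g⁻¹ with hx'
  -- `M⟨x'⟩ = G`
  have htop' : M ⊔ Subgroup.zpowers x' = ⊤ := by
    rw [eq_top_iff, ← htop]
    refine sup_le le_sup_left ?_
    rw [Subgroup.zpowers_le]
    have h1 : g * x * g⁻¹ * x⁻¹ ∈ M := by
      apply commutator_le_of_sup_zpowers_eq_top htop
      rw [commutator_def]
      have : g * x * g⁻¹ * x⁻¹ = ⁅g, x⁆ := by rw [commutatorElement_def]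
      rw [this]
      exact Subgroup.commutator_mem_commutator (Subgroup.mem_top g) (Subgroup.mem_top x)
    have h2 : x = (g * x * g⁻¹ * x⁻¹)⁻¹ * x' := by rw [hx']; group
    rw [h2]
    exact Subgroup.mul_mem _ (Subgroup.mem_sup_left (Subgroup.inv_mem _ h1))
      (Subgroup.mem_sup_right (Subgroup.mem_zpowers x'))
  -- the conjugate `T' = x' T x'⁻¹`
  set T' : Subgroup G := T.map (MulAut.conj x').toMonoidHom with hT'
  have hcT' : c ∈ T' := by
    rw [hT', mem_map_conj_iff]
    have : x'⁻¹ * c * x' = c := by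
      have := hg.eq
      calc x'⁻¹ * c * x' = x'⁻¹ * (c * x') := by group
        _ = x'⁻¹ * (x' * c) := by rw [this]
        _ = c := by group
    rw [this]; exact hcT
  have hMT' : M ≤ Subgroup.normalizer (T' : Set G) := by
    intro m hm
    rw [Subgroup.mem_normalizer_iff]
    have hm' : x'⁻¹ * m * x' ∈ M := by
      have := hMn.conj_mem m hm x'⁻¹
      simpa using this
    have hnm := Subgroup.mem_normalizer_iff.mp (hMT hm')
    intro n
    rw [hT', mem_map_conj_iff, mem_map_conj_iff]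
    rw [hnm (x'⁻¹ * n * x')]
    have : x'⁻¹ * m * x' * (x'⁻¹ * n * x') * (x'⁻¹ * m * x')⁻¹ = x'⁻¹ * (m * n * m⁻¹) * x' := by
      group
    rw [this]
  -- the intersection is `M`-invariant, nontrivial, inside `T`
  have hI : T ⊓ T' = T := by
    apply hTmin _ inf_le_left
    · intro m hm
      rw [Subgroup.mem_normalizer_iff]
      intro n
      have h1 := Subgroup.mem_normalizer_iff.mp (hMT hm) n
      have h2 := Subgroup.mem_normalizer_iff.mp (hMT' hm) n
      rw [Subgroup.mem_inf, Subgroup.mem_inf]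
      exact and_congr h1 h2
    · intro hb
      have : c ∈ T ⊓ T' := ⟨hcT, hcT'⟩
      rw [hb, Subgroup.mem_bot] at this
      exact hc1 this
  have hTT' : T ≤ T' := by rw [← hI]; exact inf_le_right
  have hEq : T = T' := by
    apply Subgroup.eq_of_le_of_card_ge hTT'
    rw [hT', card_map_conj]
  -- hence `x'` normalizes `T`
  have hx'N : x' ∈ Subgroup.normalizer (T : Set G) := by
    rw [Subgroup.mem_normalizer_iff]
    intro n
    constructor
    · intro hn
      have : x' * n * x'⁻¹ ∈ T' := by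
        rw [hT', mem_map_conj_iff]
        have : x'⁻¹ * (x' * n * x'⁻¹) * x' = n := by group
        rw [this]; exact hn
      rw [hEq]; exact this
    · intro hn
      rw [hEq, hT', mem_map_conj_iff] at hn
      have : x'⁻¹ * (x' * n * x'⁻¹) * x' = n := by group
      rw [this] at hn; exact hn
  have hNtop : Subgroup.normalizer (T : Set G) = ⊤ := by
    rw [eq_top_iff, ← htop']
    exact sup_le hMT ((Subgroup.zpowers_le).mpr hx'N)
  have hTn : T.Normal := Subgroup.normalizer_eq_top_iff.mp hNtop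
  exact hTne (hM.2.2 T hTn hTM hTb)


/-- If `M⟨x⟩ = G` with `M` normal, then also `M⟨x'⟩ = G` for every conjugate `x'` of `x`. -/
theorem sup_zpowers_conj_eq_top {M : Subgroup G} [hM : M.Normal] {x : G}
    (htop : M ⊔ Subgroup.zpowers x = ⊤) (g : G) :
    M ⊔ Subgroup.zpowers (g * x * g⁻¹) = ⊤ := by
  rw [eq_top_iff, ← htop]
  refine sup_le le_sup_left ?_
  rw [Subgroup.zpowers_le]
  have h1 : g * x * g⁻¹ * x⁻¹ ∈ M := by
    apply commutator_le_of_sup_zpowers_eq_top htop
    rw [commutator_def]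
    have : g * x * g⁻¹ * x⁻¹ = ⁅g, x⁆ := by rw [commutatorElement_def]
    rw [this]
    exact Subgroup.commutator_mem_commutator (Subgroup.mem_top g) (Subgroup.mem_top x)
  have h3 : (g * x * g⁻¹ * x⁻¹)⁻¹ * (g * x * g⁻¹) ∈ M ⊔ Subgroup.zpowers (g * x * g⁻¹) :=
    Subgroup.mul_mem _ (Subgroup.mem_sup_left (Subgroup.inv_mem _ h1))
      (Subgroup.mem_sup_right (Subgroup.mem_zpowers _))
  have h2 : (g * x * g⁻¹ * x⁻¹)⁻¹ * (g * x * g⁻¹) = x := by group
  rw [h2] at h3
  exact h3

/-- Case `M⟨x⟩ = G` of the minimal counterexample. -/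
theorem zsm_case2 [Finite G] {p : ℕ} [Fact p.Prime] {x : G}
    (hxp : x ^ p = 1) (hiso : IsIsolated x) (hO : pPrimeCore p G = ⊥)
    (hnc : ¬ ∀ g : G, g * x * g⁻¹ = x)
    {M : Subgroup G} (hM : ZsmMinNormal M) (htop : M ⊔ Subgroup.zpowers x = ⊤) :
    IsSimpleGroup ↥(commutator G) ∧ ¬ IsMulCommutative ↥(commutator G) ∧
      commutator G ⊔ Subgroup.zpowers x = ⊤ := by
  haveI hMn : M.Normal := hM.1
  have hle := commutator_le_of_sup_zpowers_eq_top htop
  have hcb : commutator G ≠ ⊥ := by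
    intro hb
    apply hnc
    intro g
    have : ⁅g, x⁆ ∈ commutator G := by
      rw [commutator_def]
      exact Subgroup.commutator_mem_commutator (Subgroup.mem_top g) (Subgroup.mem_top x)
    rw [hb, Subgroup.mem_bot, commutatorElement_def] at this
    calc g * x * g⁻¹ = (g * x * g⁻¹ * x⁻¹) * x := by group
      _ = x := by rw [this, one_mul]
  have hcM : commutator G = M := hM.2.2 _ inferInstance hle hcb
  rw [hcM]
  refine ⟨?_, ?_, htop⟩
  · haveI : Nontrivial ↥M := (Subgroup.nontrivial_iff_ne_bot M).mpr hM.2.1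
    refine ⟨fun H hH => ?_⟩
    by_contra hcon
    rw [not_or] at hcon
    obtain ⟨hHb, hHt⟩ := hcon
    set N₀ := H.map M.subtype with hN₀
    have hN₀M : N₀ ≤ M := Subgroup.map_subtype_le H
    have hMN₀ : M ≤ Subgroup.normalizer (N₀ : Set G) := by
      have h1 := Subgroup.le_normalizer_map (H := H) M.subtype
      rw [Subgroup.normalizer_eq_top, ← MonoidHom.range_eq_map, Subgroup.range_subtype] at h1
      exact h1
    have hN₀b : N₀ ≠ ⊥ := by
      intro hb
      apply hHb
      rw [hN₀, Subgroup.map_eq_bot_iff_of_injective _ M.subtype_injective] at hb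
      exact hb
    have hN₀ne : N₀ ≠ M := by
      intro he
      apply hHt
      apply Subgroup.map_injective M.subtype_injective
      rw [← hN₀, he, ← MonoidHom.range_eq_map, Subgroup.range_subtype]
    have hne : ({T : Subgroup G | T ≤ M ∧ M ≤ Subgroup.normalizer (T : Set G) ∧ T ≠ ⊥ ∧
        T ≠ M}).Nonempty := ⟨N₀, hN₀M, hMN₀, hN₀b, hN₀ne⟩
    obtain ⟨T, ⟨hTM, hMT, hTb, hTne⟩, hmin⟩ := wellFounded_lt.has_min _ hne
    refine zsm_no_proper_minimal hxp hiso hO hM htop hTM hMT hTb hTne ?_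
    intro T' hT'T hMT' hT'b
    by_contra hne'
    have hlt : T' < T := lt_of_le_of_ne hT'T hne'
    refine hmin T' ⟨hT'T.trans hTM, hMT', hT'b, ?_⟩ hlt
    intro he
    exact hTne (le_antisymm hTM (he ▸ hT'T))
  · intro hab
    apply hnc
    have hcomm : ∀ a ∈ M, ∀ b ∈ M, a * b = b * a := by
      intro a ha b hb
      have := hab.is_comm.comm (⟨a, ha⟩ : ↥M) ⟨b, hb⟩
      exact congrArg Subtype.val this
    have hpM : p ∣ Nat.card ↥M := by
      by_contra hnd
      have := Cfsg.Agent.Lib.le_pPrimeCore hM.1 (coprime_card_of_not_dvd hnd)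
      rw [hO] at this
      exact hM.2.1 (le_bot_iff.mp this)
    obtain ⟨c, hcM', hoc⟩ := exists_orderOf_eq_of_dvd_card p hpM
    have hcp : c ^ p = 1 := by rw [← hoc]; exact pow_orderOf_eq_one c
    have hc1 : c ≠ 1 := by
      intro h
      rw [h, orderOf_one] at hoc
      exact (Fact.out : p.Prime).one_lt.ne hoc
    obtain ⟨g, hg⟩ := exists_conj_commute_of_isIsolated hiso hxp hcp
    have htop' := sup_zpowers_conj_eq_top htop g
    have hcc : ∀ a : G, a * c = c * a := by
      have hle' : M ⊔ Subgroup.zpowers (g * x * g⁻¹) ≤ Subgroup.centralizer ({c} : Set G) := by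
        refine sup_le ?_ ?_
        · intro m hm
          rw [Subgroup.mem_centralizer_iff]
          intro y hy
          rw [Set.mem_singleton_iff] at hy
          subst hy
          exact hcomm _ hcM' _ hm
        · rw [Subgroup.zpowers_le, Subgroup.mem_centralizer_iff]
          intro y hy
          rw [Set.mem_singleton_iff] at hy
          subst hy
          exact hg.eq.symm
      intro a
      have ha : a ∈ Subgroup.centralizer ({c} : Set G) := hle' (htop' ▸ Subgroup.mem_top a)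
      rw [Subgroup.mem_centralizer_iff] at ha
      exact (ha c rfl).symm
    have hz := hM.eq_zpowers_of_central hcM' hc1 hcc
    refine central_of_sup_zpowers_eq_top ?_ htop
    intro m hm
    rw [← hz] at hm
    obtain ⟨i, rfl⟩ := Subgroup.mem_zpowers_iff.mp hm
    have h1 : Commute c x := (hcc x).symm
    exact (h1.zpow_left i).eq


/-- The preimage in `G` of `O_{p'}(G/M)`. -/
def zsmK (p : ℕ) (M : Subgroup G) [M.Normal] : Subgroup G :=
  (pPrimeCore p (G ⧸ M)).comap (QuotientGroup.mk' M)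

instance zsmK_normal (p : ℕ) (M : Subgroup G) [M.Normal] : (zsmK p M).Normal :=
  Subgroup.Normal.comap inferInstance _

/-- `p`-elements of the preimage of `O_{p'}(G/M)` lie in `M`. -/
theorem mem_of_mem_zsmK_of_pow [Finite G] {p : ℕ} [Fact p.Prime] {M : Subgroup G} [M.Normal]
    {k : G} (hk : k ∈ zsmK p M) {n : ℕ} (hkp : k ^ (p ^ n) = 1) : k ∈ M := by
  have h1 : orderOf (QuotientGroup.mk' M k) ∣ p ^ n := by
    apply orderOf_dvd_of_pow_eq_one
    rw [← map_pow, hkp, map_one]
  have h2 : orderOf (QuotientGroup.mk' M k) ∣ Nat.card ↥(pPrimeCore p (G ⧸ M)) :=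
    Subgroup.orderOf_dvd_natCard _ hk
  have hcop : (Nat.card ↥(pPrimeCore p (G ⧸ M))).Coprime (p ^ n) :=
    (Cfsg.Agent.Lib.card_pPrimeCore_coprime p).pow_right n
  have h3 := Nat.eq_one_of_dvd_coprimes hcop h2 h1
  rw [orderOf_eq_one_iff, QuotientGroup.mk'_apply, QuotientGroup.eq_one_iff] at h3
  exact h3

/-- Case `M⟨x⟩ ≠ G` of the minimal counterexample is impossible. -/
theorem zsm_case1 [Finite G] {p : ℕ} [Fact p.Prime] {x : G}
    (hxp : x ^ p = 1) (hiso : IsIsolated x) (hO : pPrimeCore p G = ⊥)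
    (hnc : ¬ ∀ g : G, g * x * g⁻¹ = x)
    (hmin : ∀ (H : Subgroup G) (hxH : x ∈ H), H ≠ ⊤ → InZStar p (⟨x, hxH⟩ : ↥H))
    (hquot : ∀ (N : Subgroup G) [N.Normal], N ≠ ⊥ → InZStar p (QuotientGroup.mk x : G ⧸ N))
    {M : Subgroup G} (hM : ZsmMinNormal M) (hne : M ⊔ Subgroup.zpowers x ≠ ⊤) : False := by
  haveI hMn : M.Normal := hM.1
  have hMx := zsm_centralizes_of_sup_ne_top hxp hO hmin M hne
  have hxC : x ∈ Subgroup.centralizer (M : Set G) := by
    rw [Subgroup.mem_centralizer_iff]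
    intro m hm
    have := hMx m hm
    calc m * x = (m * x * m⁻¹) * m := by group
      _ = x * m := by rw [this]
  haveI hCn : (Subgroup.centralizer (M : Set G)).Normal := Subgroup.normal_centralizer
  haveI hYn : (zsmK p M ⊓ Subgroup.centralizer (M : Set G)).Normal :=
    Subgroup.normal_inf_normal _ _
  have hcomm : ∀ g : G, g * x * g⁻¹ * x⁻¹ ∈ zsmK p M ⊓ Subgroup.centralizer (M : Set G) := by
    intro g
    constructor
    · have h1 := hquot M hM.2.1 (g : G ⧸ M)
      exact h1
    · exact Subgroup.mul_mem _ (hCn.conj_mem x hxC g) (Subgroup.inv_mem _ hxC)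
  by_cases hYt : (zsmK p M ⊓ Subgroup.centralizer (M : Set G)) ⊔ Subgroup.zpowers x = ⊤
  · -- `M` is central
    have hMc : ∀ m ∈ M, ∀ g : G, g * m = m * g := by
      intro m hm g
      have hg : g ∈ Subgroup.centralizer (M : Set G) := by
        have hle : (zsmK p M ⊓ Subgroup.centralizer (M : Set G)) ⊔ Subgroup.zpowers x ≤
            Subgroup.centralizer (M : Set G) :=
          sup_le inf_le_right ((Subgroup.zpowers_le).mpr hxC)
        exact hle (hYt ▸ Subgroup.mem_top g)
      rw [Subgroup.mem_centralizer_iff] at hg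
      exact (hg m hm).symm
    have hKt : zsmK p M ⊔ Subgroup.zpowers x = ⊤ := by
      rw [eq_top_iff, ← hYt]
      exact sup_le_sup_right inf_le_left _
    obtain ⟨P, hP⟩ := (isPGroup_zpowers_of_pow_eq_one p x hxp).exists_le_sylow
    have hxP : x ∈ (P : Subgroup G) := hP (Subgroup.mem_zpowers x)
    have hdecomp : ∀ y ∈ (P : Subgroup G), ∃ m ∈ M, ∃ z ∈ Subgroup.zpowers x, m * z = y := by
      intro y hy
      have hyt : y ∈ zsmK p M ⊔ Subgroup.zpowers x := hKt ▸ Subgroup.mem_top y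
      obtain ⟨k, hk, z, hz', rfl⟩ := Subgroup.mem_sup_of_normal_left.mp hyt
      have hzP : z ∈ (P : Subgroup G) := hP hz'
      have hkP : k ∈ (P : Subgroup G) := by
        have : k = (k * z) * z⁻¹ := by group
        rw [this]
        exact Subgroup.mul_mem _ hy (Subgroup.inv_mem _ hzP)
      obtain ⟨n, hn⟩ := P.isPGroup' ⟨k, hkP⟩
      have hkn : k ^ (p ^ n) = 1 := congrArg Subtype.val hn
      exact ⟨k, mem_of_mem_zsmK_of_pow hk hkn, z, hz', rfl⟩
    have hPx : ∀ y ∈ (P : Subgroup G), y * x = x * y := by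
      intro y hy
      obtain ⟨m, hm, z, hz', rfl⟩ := hdecomp y hy
      obtain ⟨i, rfl⟩ := Subgroup.mem_zpowers_iff.mp hz'
      have h1 : Commute m x := (hMc m hm x).symm
      have h2 : Commute (x ^ i) x := (Commute.refl x).zpow_left i
      exact (h1.mul_left h2).eq
    have hNC : Subgroup.normalizer ((P : Subgroup G) : Set G) ≤
        Subgroup.centralizer ((P : Subgroup G) : Set G) := by
      intro g hg
      rw [Subgroup.mem_centralizer_iff]
      intro y hy
      have hgx : g * x * g⁻¹ ∈ (P : Subgroup G) := (Subgroup.mem_normalizer_iff.mp hg x).mp hxP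
      have hcomm' : Commute x (g * x * g⁻¹) := (hPx _ hgx).symm
      have hgx' := hiso g hcomm'
      have hgc : Commute g x := by
        show g * x = x * g
        calc g * x = (g * x * g⁻¹) * g := by group
          _ = x * g := by rw [hgx']
      obtain ⟨m, hm, z, hz', rfl⟩ := hdecomp y hy
      obtain ⟨i, rfl⟩ := Subgroup.mem_zpowers_iff.mp hz'
      have h1 : Commute g m := hMc m hm g
      have h2 : Commute g (x ^ i) := hgc.zpow_right i
      exact (h1.mul_right h2).eq.symm
    have hker : (MonoidHom.transferSylow P hNC).ker = ⊥ := by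
      have hnd := MonoidHom.not_dvd_card_ker_transferSylow P hNC
      have := Cfsg.Agent.Lib.le_pPrimeCore (MonoidHom.normal_ker (MonoidHom.transferSylow P hNC))
        (coprime_card_of_not_dvd hnd)
      rw [hO] at this
      exact le_bot_iff.mp this
    have hcompl := MonoidHom.ker_transferSylow_isComplement' P hNC
    rw [hker, Subgroup.isComplement'_bot_left] at hcompl
    apply hnc
    intro g
    have hg : g ∈ (P : Subgroup G) := hcompl ▸ Subgroup.mem_top g
    have := hPx g hg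
    calc g * x * g⁻¹ = x * g * g⁻¹ := by rw [this]
      _ = x := by group
  · -- `Y⟨x⟩ ≠ G`
    have hYx := zsm_centralizes_of_sup_ne_top hxp hO hmin _ hYt
    apply hnc
    apply isIsolated_central_of_commute hiso
    intro g
    have := hYx _ (hcomm g)
    show x * (g * x * g⁻¹ * x⁻¹) = (g * x * g⁻¹ * x⁻¹) * x
    calc x * (g * x * g⁻¹ * x⁻¹)
        = ((g * x * g⁻¹ * x⁻¹) * x * (g * x * g⁻¹ * x⁻¹)⁻¹) * (g * x * g⁻¹ * x⁻¹) := by rw [this]
      _ = (g * x * g⁻¹ * x⁻¹) * x := by group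

/-- **Minimal counterexample to the `Z*_p` statement**: `G'` is non-abelian simple and
`G = G'⟨x⟩`. -/
theorem zsm_main [Finite G] {p : ℕ} [Fact p.Prime] (x : G) (hx : orderOf x = p)
    (hiso : IsIsolated x) (hnz : ¬ InZStar p x)
    (hmin : ∀ (H : Subgroup G) (hxH : x ∈ H), H ≠ ⊤ → InZStar p (⟨x, hxH⟩ : ↥H))
    (hquot : ∀ (N : Subgroup G) [N.Normal], N ≠ ⊥ → InZStar p (QuotientGroup.mk x : G ⧸ N)) :
    IsSimpleGroup ↥(commutator G) ∧ ¬ IsMulCommutative ↥(commutator G) ∧
      commutator G ⊔ Subgroup.zpowers x = ⊤ := by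
  have hxp : x ^ p = 1 := by rw [← hx]; exact pow_orderOf_eq_one x
  have hO := zsm_pPrimeCore_eq_bot x hnz hquot
  have hnc := zsm_not_central x hnz
  haveI : Nontrivial G := by
    refine ⟨⟨x, 1, ?_⟩⟩
    intro h
    rw [h, orderOf_one] at hx
    exact (Fact.out : p.Prime).one_lt.ne hx
  obtain ⟨M, hM⟩ := exists_zsmMinNormal (G := G)
  by_cases htop : M ⊔ Subgroup.zpowers x = ⊤
  · exact zsm_case2 hxp hiso hO hnc hM htop
  · exact (zsm_case1 hxp hiso hO hnc hmin hquot hM htop).elim

end Cfsg.Agent.Helper22
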