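import Mathlib
import Cfsg.Agent.Helper86.Spec4.Defs

set_option autoImplicit false
set_option linter.unusedSectionVars false

/-!
# S2510 piece (A3) for helper86 (#10327): from the lcm statement to the spectra, three factors
(also contains the two auxiliary lemmas used by (A4))
-/

namespace Cfsg.Agent.Helper22.Spec4

open Matrix Cfsg.Agent.Helper86.Spec4

/-- an element of the elementary abelian group `(Z/r)^m` has order `1` or `r`. -/
theorem orderOf_elemAb_h22 {r m : ℕ} (hr : r.Prime) (v : Multiplicative (Fin m → ZMod r)) :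
    orderOf v = 1 ∨ orderOf v = r := by
  have h1 : v ^ r = 1 := by
    apply Multiplicative.toAdd.injective
    rw [toAdd_pow, toAdd_one]
    funext i
    simp
  exact (Nat.dvd_prime hr).1 (orderOf_dvd_of_pow_eq_one h1)

/-- `lcm l o` for `o ∈ {1, r}`. -/
theorem lcm_elemAb_h22 {r : ℕ} (hr : r.Prime) (l o : ℕ) (ho : o = 1 ∨ o = r) :
    Nat.lcm l o = l ∨ (¬ r ∣ l ∧ Nat.lcm l o = r * l) := by
  rcases ho with rfl | rfl
  · left; simp
  · by_cases hd : o ∣ l
    · left
      exact Nat.lcm_eq_left_iff_dvd.2 hd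
    · right
      refine ⟨hd, ?_⟩
      have hc : Nat.Coprime l o := ((Nat.Prime.coprime_iff_not_dvd hr).2 hd).symm
      rw [hc.lcm_eq_mul, mul_comm]

section abstract

variable {L : Type*} [Group L] [Finite L]

/-- (A3) from the lcm statement to the spectra, three factors. -/
theorem range_eq_three {r m : ℕ} (hr : r.Prime)
    (h : ∀ x y z : L, ¬ r ∣ Nat.lcm (orderOf x) (Nat.lcm (orderOf y) (orderOf z)) →
      ∃ x' y' z' : L, Nat.lcm (orderOf x') (Nat.lcm (orderOf y') (orderOf z')) =
        r * Nat.lcm (orderOf x) (Nat.lcm (orderOf y) (orderOf z))) :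
    Set.range (orderOf : L × L × L × Multiplicative (Fin m → ZMod r) → ℕ) =
      Set.range (orderOf : L × L × L → ℕ) := by
  apply Set.eq_of_subset_of_subset
  · rintro _ ⟨⟨x, y, z, v⟩, rfl⟩
    have e1 : orderOf (x, y, z, v) =
        Nat.lcm (Nat.lcm (orderOf x) (Nat.lcm (orderOf y) (orderOf z))) (orderOf v) := by
      simp only [Prod.orderOf, Nat.lcm_assoc]
    rcases lcm_elemAb_h22 hr (Nat.lcm (orderOf x) (Nat.lcm (orderOf y) (orderOf z))) _
      (orderOf_elemAb_h22 hr v) with h1 | ⟨h1, h2⟩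
    · refine ⟨(x, y, z), ?_⟩
      show orderOf (x, y, z) = orderOf (x, y, z, v)
      rw [e1, h1]
      simp only [Prod.orderOf]
    · obtain ⟨x', y', z', h3⟩ := h x y z h1
      refine ⟨(x', y', z'), ?_⟩
      show orderOf (x', y', z') = orderOf (x, y, z, v)
      rw [e1, h2, ← h3]
      simp only [Prod.orderOf]
  · rintro _ ⟨⟨x, y, z⟩, rfl⟩
    refine ⟨(x, y, z, 1), ?_⟩
    show orderOf (x, y, z, (1 : Multiplicative (Fin m → ZMod r))) = orderOf (x, y, z)
    simp only [Prod.orderOf, orderOf_one, Nat.lcm_one_right]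

end abstract

end Cfsg.Agent.Helper22.Spec4
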