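import Mathlib
import Cfsg.Agent.Helper86.Spec4.Defs
import Cfsg.Agent.Helper22.Spec4A3

set_option autoImplicit false
set_option linter.unusedSectionVars false

/-!
# S2510 piece (A4) for helper86 (#10327): from the lcm statement to the spectra, two factors
-/

namespace Cfsg.Agent.Helper22.Spec4

open Matrix Cfsg.Agent.Helper86.Spec4

section abstract

variable {L : Type*} [Group L] [Finite L]

/-- (A4) from the lcm statement to the spectra, two factors. -/
theorem range_eq_two {r m : ℕ} (hr : r.Prime)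
    (h : ∀ x y : L, ¬ r ∣ Nat.lcm (orderOf x) (orderOf y) →
      ∃ x' y' : L, Nat.lcm (orderOf x') (orderOf y') = r * Nat.lcm (orderOf x) (orderOf y)) :
    Set.range (orderOf : L × L × Multiplicative (Fin m → ZMod r) → ℕ) =
      Set.range (orderOf : L × L → ℕ) := by
  apply Set.eq_of_subset_of_subset
  · rintro _ ⟨⟨x, y, v⟩, rfl⟩
    have e1 : orderOf (x, y, v) = Nat.lcm (Nat.lcm (orderOf x) (orderOf y)) (orderOf v) := by
      simp only [Prod.orderOf, Nat.lcm_assoc]
    rcases lcm_elemAb_h22 hr (Nat.lcm (orderOf x) (orderOf y)) _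
      (orderOf_elemAb_h22 hr v) with h1 | ⟨h1, h2⟩
    · refine ⟨(x, y), ?_⟩
      show orderOf (x, y) = orderOf (x, y, v)
      rw [e1, h1]
      simp only [Prod.orderOf]
    · obtain ⟨x', y', h3⟩ := h x y h1
      refine ⟨(x', y'), ?_⟩
      show orderOf (x', y') = orderOf (x, y, v)
      rw [e1, h2, ← h3]
      simp only [Prod.orderOf]
  · rintro _ ⟨⟨x, y⟩, rfl⟩
    refine ⟨(x, y, 1), ?_⟩
    show orderOf (x, y, (1 : Multiplicative (Fin m → ZMod r))) = orderOf (x, y)
    simp only [Prod.orderOf, orderOf_one, Nat.lcm_one_right]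

end abstract

end Cfsg.Agent.Helper22.Spec4
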