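import Mathlib
import Cfsg.Agent.Helper44.IrredOrder

/-!
Helper22, for helper13 (S5977/S5978), pieces (PO)/(PE): a monic irreducible factor `P` of the `r`-th cyclotomic
polynomial `∑_{j<r} X^j` over a finite field `F`, `r ∤ |F|` prime, has degree `orderOf (|F| : ZMod r)`; common part.
-/

set_option autoImplicit false
set_option linter.unusedSectionVars false
set_option linter.unusedVariables false

namespace Cfsg.Agent.Helper22.QFEPoly

open Polynomial

universe u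

variable {F : Type u} [Field F] [Fintype F]

theorem natCast_ne_zero_of_not_dvd_card (r : ℕ) (hr : r.Prime) (hrq : ¬ r ∣ Fintype.card F) :
    (r : F) ≠ 0 := by
  intro h0
  obtain ⟨p, hp⟩ := CharP.exists F
  obtain ⟨n, hpp, hn⟩ := FiniteField.card F p
  rw [CharP.cast_eq_zero_iff F p r] at h0
  have : p = r := (Nat.prime_dvd_prime_iff_eq hpp hr).1 h0
  apply hrq
  rw [hn, ← this]
  exact dvd_pow_self p n.ne_zero

theorem geom_dvd (r : ℕ) : (∑ j ∈ Finset.range r, (X : F[X]) ^ j) ∣ (X ^ r - 1 : F[X]) :=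
  ⟨X - 1, by rw [mul_comm]; exact (mul_geom_sum X r).symm⟩

theorem eval_one_geom (r : ℕ) : eval 1 (∑ j ∈ Finset.range r, (X : F[X]) ^ j) = (r : F) := by
  simp [eval_finsetSum]

theorem X_pow_sub_one_dvd (r : ℕ) (hr : r.Prime) (hrq : ¬ r ∣ Fintype.card F) :
    (X ^ r - 1 : F[X]) ∣
      X ^ (Nat.card F) ^ (orderOf ((Fintype.card F : ℕ) : ZMod r)) - X := by
  have : Fact r.Prime := ⟨hr⟩
  set q := Fintype.card F with hq
  set i := orderOf ((q : ℕ) : ZMod r) with hi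
  have hq1 : 1 ≤ q ^ i := Nat.one_le_pow _ _ Fintype.card_pos
  have hdvd : r ∣ q ^ i - 1 := by
    rw [← ZMod.natCast_eq_zero_iff, Nat.cast_sub hq1, Nat.cast_pow, Nat.cast_one, sub_eq_zero]
    exact pow_orderOf_eq_one _
  obtain ⟨k, hk⟩ := hdvd
  have e1 : (X : F[X]) ^ (Nat.card F) ^ i - X = X * (X ^ (q ^ i - 1) - 1) := by
    rw [Nat.card_eq_fintype_card, mul_sub, mul_one, ← pow_succ', Nat.sub_add_cancel hq1]
  rw [e1, hk]
  exact Dvd.dvd.mul_left (pow_one_sub_dvd_pow_mul_sub_one X r k) X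

/-- a monic irreducible factor of the right degree -/
theorem exists_factor (r : ℕ) (hr : r.Prime) (hr2 : r ≠ 2) (hrq : ¬ r ∣ Fintype.card F) :
    ∃ P : F[X], P.Monic ∧ Irreducible P ∧ P ∣ ∑ j ∈ Finset.range r, (X : F[X]) ^ j ∧
      P.natDegree = orderOf ((Fintype.card F : ℕ) : ZMod r) := by
  classical
  have hrF : (r : F) ≠ 0 := natCast_ne_zero_of_not_dvd_card r hr hrq
  set Φ : F[X] := ∑ j ∈ Finset.range r, (X : F[X]) ^ j with hΦ
  have hmonic : Φ.Monic := monic_geom_sum_X hr.ne_zero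
  have hΦ0 : Φ ≠ 0 := hmonic.ne_zero
  have hΦu : ¬ IsUnit Φ := by
    intro hu
    have h1 : Φ = 1 := hmonic.eq_one_of_isUnit hu
    have h2 : eval 1 Φ = (r : F) := eval_one_geom r
    rw [h1, eval_one] at h2
    have h3 : ((r - 1 : ℕ) : F) = 0 := by
      rw [Nat.cast_sub hr.one_le, ← h2]; simp
    have h4 : Φ.coeff 1 = 1 := by
      rw [hΦ, finsetSum_coeff]
      have h5 : 1 ∈ Finset.range r := Finset.mem_range.2 hr.one_lt
      rw [Finset.sum_eq_single_of_mem 1 h5]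
      · simp
      · intro b _ hb
        rw [coeff_X_pow, if_neg (Ne.symm hb)]
    rw [h1, coeff_one] at h4
    simp at h4
  obtain ⟨π, hπ, hπΦ⟩ := WfDvdMonoid.exists_irreducible_factor hΦu hΦ0
  have hπ0 : π ≠ 0 := hπ.ne_zero
  have hlc : π.leadingCoeff ≠ 0 := leadingCoeff_ne_zero.2 hπ0
  set P : F[X] := π * C π.leadingCoeff⁻¹ with hP
  have hPmonic : P.Monic := monic_mul_leadingCoeff_inv hπ0
  have hassoc : Associated π P :=
    ⟨⟨C π.leadingCoeff⁻¹, C π.leadingCoeff, by rw [← C_mul, inv_mul_cancel₀ hlc, C_1],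
      by rw [← C_mul, mul_inv_cancel₀ hlc, C_1]⟩, rfl⟩
  have hPirr : Irreducible P := hassoc.irreducible hπ
  have hPΦ : P ∣ Φ := hassoc.symm.dvd.trans hπΦ
  refine ⟨P, hPmonic, hPirr, hPΦ, ?_⟩
  apply Nat.dvd_antisymm
  · apply hPirr.natDegree_dvd_of_dvd_X_pow_card_pow_sub_X
    exact (hPΦ.trans (geom_dvd r)).trans (X_pow_sub_one_dvd r hr hrq)
  · exact Cfsg.Agent.Helper44.orderOf_dvd_natDegree_of_dvd_geom_sum rfl hr hrF P hPirr hPΦ

theorem eval_one_ne_zero (r : ℕ) (hr : r.Prime) (hrq : ¬ r ∣ Fintype.card F) {P : F[X]}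
    (hP : P ∣ ∑ j ∈ Finset.range r, (X : F[X]) ^ j) : eval 1 P ≠ 0 := by
  intro h0
  obtain ⟨c, hc⟩ := hP
  have h1 := eval_one_geom (F := F) r
  rw [hc, eval_mul, h0, zero_mul] at h1
  exact natCast_ne_zero_of_not_dvd_card r hr hrq h1.symm

theorem coeff_zero_ne_zero (r : ℕ) (hr : r.Prime) {P : F[X]}
    (hP : P ∣ (X ^ r - 1 : F[X])) : P.coeff 0 ≠ 0 := by
  intro h0
  obtain ⟨c, hc⟩ := hP
  have h1 : (X ^ r - 1 : F[X]).coeff 0 = -1 := by
    rw [coeff_sub, coeff_X_pow, if_neg hr.ne_zero.symm, coeff_one_zero, zero_sub]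
  rw [hc, mul_coeff_zero, h0, zero_mul] at h1
  exact one_ne_zero (neg_eq_zero.1 h1.symm)

theorem eval_one_reverse (P : F[X]) : eval 1 P.reverse = eval 1 P := by
  haveI : Invertible (1 : F) := invertibleOne
  have h := eval₂_reverse_mul_pow (RingHom.id F) (1 : F) P
  simpa [eval₂_id, invOf_one] using h

theorem not_X_sub_one_dvd {g : F[X]} (hg : eval 1 g ≠ 0) : ¬ (X - 1 : F[X]) ∣ g := by
  intro h
  apply hg
  obtain ⟨c, hc⟩ := h
  rw [hc, eval_mul]
  simp

end Cfsg.Agent.Helper22.QFEPoly
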