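import Mathlib
import Cfsg.Agent.Helper22.QFEPoly

/-!
Helper22, for helper13 (S5977/S5978), pieces (PO)/(PE): self-reciprocity of the irreducible factors when the order
of `|F|` mod `r` is even; the product `P * P̃` in general.
-/

set_option autoImplicit false
set_option linter.unusedSectionVars false
set_option linter.unusedVariables false

namespace Cfsg.Agent.Helper22.QFEPoly

open Polynomial

universe u

variable {F : Type u} [Field F] [Fintype F]

theorem expand_card_pow (P : F[X]) (h : ℕ) :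
    expand F (Fintype.card F ^ h) P = P ^ (Fintype.card F ^ h) := by
  induction h with
  | zero => simp
  | succ n ih =>
    rw [pow_succ, expand_mul, FiniteField.expand_card, map_pow, ih, ← pow_mul]

theorem orderOf_pos_of_not_dvd (r : ℕ) (hr : r.Prime) (hrq : ¬ r ∣ Fintype.card F) :
    0 < orderOf ((Fintype.card F : ℕ) : ZMod r) := by
  have : Fact r.Prime := ⟨hr⟩
  have hne : ((Fintype.card F : ℕ) : ZMod r) ≠ 0 := by
    rw [Ne, ZMod.natCast_eq_zero_iff]
    exact hrq
  rw [orderOf_pos_iff, isOfFinOrder_iff_pow_eq_one]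
  exact ⟨r - 1, Nat.sub_pos_of_lt hr.one_lt, ZMod.pow_card_sub_one_eq_one hne⟩

theorem dvd_pow_half_add_one (r : ℕ) (hr : r.Prime) (hrq : ¬ r ∣ Fintype.card F) (h : ℕ)
    (hh : orderOf ((Fintype.card F : ℕ) : ZMod r) = h + h) : r ∣ Fintype.card F ^ h + 1 := by
  have : Fact r.Prime := ⟨hr⟩
  have hpos := orderOf_pos_of_not_dvd (F := F) r hr hrq
  set q := Fintype.card F with hq
  set a : ZMod r := ((q : ℕ) : ZMod r) ^ h with ha
  have haa : a * a = 1 := by
    rw [ha, ← pow_add, ← hh]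
    exact pow_orderOf_eq_one _
  have hne1 : a ≠ 1 := by
    intro h1
    have h2 : orderOf ((q : ℕ) : ZMod r) ∣ h := orderOf_dvd_of_pow_eq_one h1
    rw [hh] at h2 hpos
    have h3 : h + h ≤ h := Nat.le_of_dvd (by omega) h2
    omega
  have hm1 : a = -1 := by
    rcases mul_self_eq_one_iff.1 haa with h1 | h1
    · exact absurd h1 hne1
    · exact h1
  rw [← ZMod.natCast_eq_zero_iff, Nat.cast_add, Nat.cast_pow, Nat.cast_one, ← ha, hm1]
  ring

/-- `P` irreducible dividing `X^r - 1`, `P(1) ≠ 0`, `r ∣ q^h + 1`: `P` is self-reciprocal -/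
theorem reverse_eq_self (r : ℕ) (hr : r.Prime) {P : F[X]} (hPi : Irreducible P)
    (hPX : P ∣ (X ^ r - 1 : F[X])) (hP1 : eval 1 P ≠ 0) (h : ℕ)
    (hrh : r ∣ Fintype.card F ^ h + 1) : P.reverse = P := by
  classical
  haveI : Fact (Irreducible P) := ⟨hPi⟩
  set ζ : AdjoinRoot P := AdjoinRoot.root P with hζ
  have hroot : ∀ g : F[X], P ∣ g → aeval ζ g = 0 := by
    intro g hg
    rw [AdjoinRoot.aeval_eq]
    exact AdjoinRoot.mk_eq_zero.2 hg
  have hζr : ζ ^ r = 1 := by
    have h1 := hroot _ hPX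
    simp only [map_sub, map_pow, aeval_X, map_one] at h1
    exact sub_eq_zero.1 h1
  have hζ0 : ζ ≠ 0 := by
    intro h0
    rw [h0, zero_pow hr.ne_zero] at hζr
    exact zero_ne_one hζr
  have hinv : ζ ^ (Fintype.card F ^ h) = ζ⁻¹ := by
    apply eq_inv_of_mul_eq_one_left
    rw [← pow_succ]
    obtain ⟨k, hk⟩ := hrh
    rw [hk, pow_mul, hζr, one_pow]
  have hP0 : aeval ζ⁻¹ P = 0 := by
    rw [← hinv, ← expand_aeval, expand_card_pow, map_pow, hroot P dvd_rfl]
    exact zero_pow (pow_ne_zero _ Fintype.card_ne_zero)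
  have hrev : aeval ζ P.reverse = 0 := by
    haveI : Invertible (ζ⁻¹) := invertibleOfNonzero (inv_ne_zero hζ0)
    have h1 := (eval₂_reverse_eq_zero_iff (algebraMap F (AdjoinRoot P)) (ζ⁻¹) P).2
      (by rw [← aeval_def]; exact hP0)
    rw [invOf_eq_inv, inv_inv] at h1
    rw [aeval_def]
    exact h1
  have hdvd : P ∣ P.reverse := by
    rw [AdjoinRoot.aeval_eq] at hrev
    exact AdjoinRoot.mk_eq_zero.1 hrev
  obtain ⟨s, hs⟩ := hdvd
  have hP0' : P ≠ 0 := hPi.ne_zero
  have hrev0 : P.reverse ≠ 0 := by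
    rw [Ne, reverse_eq_zero]
    exact hP0'
  have hs0 : s ≠ 0 := by
    rintro rfl
    rw [mul_zero] at hs
    exact hrev0 hs
  have hdeg : s.natDegree = 0 := by
    have h1 := reverse_natDegree_le P
    rw [hs, natDegree_mul hP0' hs0] at h1
    omega
  obtain ⟨c, hc⟩ : ∃ c : F, s = C c := ⟨s.coeff 0, eq_C_of_natDegree_eq_zero hdeg⟩
  have h1 : eval 1 P.reverse = eval 1 P := eval_one_reverse P
  rw [hs, hc, eval_mul, eval_C] at h1
  have hc1 : c = 1 := by
    have h2 : eval 1 P * c = eval 1 P * 1 := by rw [h1, mul_one]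
    exact mul_left_cancel₀ hP1 h2
  rw [hs, hc, hc1, C_1, mul_one]

theorem reverse_X_pow_sub_one (r : ℕ) (hr : r ≠ 0) :
    (X ^ r - 1 : F[X]).reverse = -(X ^ r - 1) := by
  have hdeg : (X ^ r - 1 : F[X]).natDegree = r := by
    have := natDegree_X_pow_sub_C (R := F) (n := r) (r := 1)
    rwa [C_1] at this
  unfold reverse
  rw [hdeg, reflect_sub, reflect_monomial, reflect_one, revAt_le le_rfl, Nat.sub_self, pow_zero]
  ring

theorem reverse_reverse_of_coeff_zero_ne {P : F[X]} (h0 : P.coeff 0 ≠ 0) :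
    P.reverse.reverse = P := by
  have hP : P ≠ 0 := by
    rintro rfl
    simp at h0
  have htd : P.natTrailingDegree = 0 := natTrailingDegree_eq_zero.2 (Or.inr h0)
  have hdeg : P.reverse.natDegree = P.natDegree := by
    rw [reverse_natDegree, htd, Nat.sub_zero]
  have e1 : P.reverse.reverse = reflect P.reverse.natDegree (reflect P.natDegree P) := rfl
  rw [e1, hdeg, reflect_reflect]

/-- the self-reciprocal product `P * P̃` -/
theorem exists_poly_general (r : ℕ) (hr : r.Prime) (hr2 : r ≠ 2) (hrq : ¬ r ∣ Fintype.card F) :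
    ∃ g : F[X], g.Monic ∧ g.natDegree = 2 * orderOf ((Fintype.card F : ℕ) : ZMod r) ∧
      g.reverse = g ∧
      (∀ P : F[X], P.Monic → Irreducible P → P ∣ g → P ∣ (X ^ r - 1 : F[X])) ∧
      ¬ (X - 1 : F[X]) ∣ g := by
  classical
  obtain ⟨P, hPm, hPi, hPΦ, hPd⟩ := exists_factor (F := F) r hr hr2 hrq
  have hPX : P ∣ (X ^ r - 1 : F[X]) := hPΦ.trans (geom_dvd r)
  have hP1 : eval 1 P ≠ 0 := eval_one_ne_zero r hr hrq hPΦ
  have hc0 : P.coeff 0 ≠ 0 := coeff_zero_ne_zero r hr hPX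
  have hP0 : P ≠ 0 := hPi.ne_zero
  set c : F := P.coeff 0 with hc
  have htd : P.natTrailingDegree = 0 := natTrailingDegree_eq_zero.2 (Or.inr hc0)
  have hrevdeg : P.reverse.natDegree = P.natDegree := by
    rw [reverse_natDegree, htd, Nat.sub_zero]
  have hrevlc : P.reverse.leadingCoeff = c := by
    rw [reverse_leadingCoeff, trailingCoeff, htd]
  have hrev0 : P.reverse ≠ 0 := by
    rw [Ne, reverse_eq_zero]
    exact hP0
  set Pt : F[X] := C c⁻¹ * P.reverse with hPt
  have hci : c⁻¹ ≠ 0 := inv_ne_zero hc0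
  have hPtm : Pt.Monic := by
    unfold Monic
    rw [hPt, leadingCoeff_mul, leadingCoeff_C, hrevlc, inv_mul_cancel₀ hc0]
  have hPtdeg : Pt.natDegree = P.natDegree := by
    rw [hPt, natDegree_C_mul hci, hrevdeg]
  have hPtX : Pt ∣ (X ^ r - 1 : F[X]) := by
    obtain ⟨S, hS⟩ := hPX
    have h1 : (X ^ r - 1 : F[X]).reverse = P.reverse * S.reverse := by
      rw [hS, reverse_mul_of_domain]
    rw [reverse_X_pow_sub_one r hr.ne_zero] at h1
    refine ⟨C c * (-S.reverse), ?_⟩
    have h2 : Pt * (C c * (-S.reverse)) = (C c⁻¹ * C c) * (-(P.reverse * S.reverse)) := by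
      rw [hPt]; ring
    rw [h2, ← h1, ← C_mul, inv_mul_cancel₀ hc0, C_1, one_mul, neg_neg]
  refine ⟨P * Pt, hPm.mul hPtm, ?_, ?_, ?_, ?_⟩
  · rw [natDegree_mul hP0 hPtm.ne_zero, hPtdeg, hPd]
    ring
  · rw [reverse_mul_of_domain, hPt, reverse_mul_of_domain, reverse_C,
      reverse_reverse_of_coeff_zero_ne hc0]
    ring
  · intro P' _ hP'i hdvd
    rcases hP'i.prime.dvd_or_dvd hdvd with h | h
    · exact h.trans hPX
    · exact h.trans hPtX
  · apply not_X_sub_one_dvd
    rw [eval_mul, hPt, eval_mul, eval_C, eval_one_reverse]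
    exact mul_ne_zero hP1 (mul_ne_zero hci hP1)

end Cfsg.Agent.Helper22.QFEPoly
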