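import Mathlib
import Cfsg.Agent.Helper22.QFEPoly2

/-!
Helper22, for helper13 (S5977/S5978, WANTED #8823), piece (PE) `exists_poly_even`: statement verbatim from
`Cfsg/Agent/Helper13/QFESkel.lean`.
-/

set_option autoImplicit false

namespace Cfsg.Agent.Helper22.QFEPE

open Matrix Polynomial Cfsg.Agent.Helper22.QFEPoly

universe u

variable {F : Type u} [Field F]

/-- (POLY-even) -/
theorem exists_poly_even [Fintype F] (r : ℕ) (hr : r.Prime) (hr2 : r ≠ 2)
    (hrq : ¬ r ∣ Fintype.card F) (heven : Even (orderOf ((Fintype.card F : ℕ) : ZMod r))) :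
    ∃ g : F[X], g.Monic ∧ g.natDegree = orderOf ((Fintype.card F : ℕ) : ZMod r) ∧
      g.reverse = g ∧
      (∀ P : F[X], P.Monic → Irreducible P → P ∣ g → P ∣ (X ^ r - 1 : F[X])) ∧
      ¬ (X - 1 : F[X]) ∣ g := by
  obtain ⟨P, hPm, hPi, hPΦ, hPd⟩ := exists_factor (F := F) r hr hr2 hrq
  have hPX : P ∣ (X ^ r - 1 : F[X]) := hPΦ.trans (geom_dvd r)
  have hP1 : eval 1 P ≠ 0 := eval_one_ne_zero r hr hrq hPΦ
  obtain ⟨h, hh⟩ := heven
  refine ⟨P, hPm, hPd, ?_, fun P' _ _ hd => hd.trans hPX, not_X_sub_one_dvd hP1⟩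
  exact reverse_eq_self r hr hPi hPX hP1 h (dvd_pow_half_add_one r hr hrq h hh)

end Cfsg.Agent.Helper22.QFEPE
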