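import Mathlib
import Cfsg.Agent.Helper22.QFEPoly2

/-!
Helper22, for helper13 (S5977/S5978, WANTED #8823), piece (PO) `exists_poly_odd`: statement verbatim from
`Cfsg/Agent/Helper13/QFESkel.lean`.
-/

set_option autoImplicit false

namespace Cfsg.Agent.Helper22.QFEPO

open Matrix Polynomial

universe u

variable {F : Type u} [Field F]

/-- (POLY-odd) -/
theorem exists_poly_odd [Fintype F] (r : ℕ) (hr : r.Prime) (hr2 : r ≠ 2)
    (hrq : ¬ r ∣ Fintype.card F) (hodd : Odd (orderOf ((Fintype.card F : ℕ) : ZMod r))) :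
    ∃ g : F[X], g.Monic ∧ g.natDegree = 2 * orderOf ((Fintype.card F : ℕ) : ZMod r) ∧
      g.reverse = g ∧
      (∀ P : F[X], P.Monic → Irreducible P → P ∣ g → P ∣ (X ^ r - 1 : F[X])) ∧
      ¬ (X - 1 : F[X]) ∣ g :=
  Cfsg.Agent.Helper22.QFEPoly.exists_poly_general r hr hr2 hrq

end Cfsg.Agent.Helper22.QFEPO
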