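import Mathlib
import Cfsg.Agent.Helper13.Sp4O.Defs

set_option autoImplicit false

/-!
# S2281 (n = 2, q odd) piece (GEN) for helper13 (#10428): a nonzero generator of a finite field as a ring
-/

namespace Cfsg.Agent.Helper22.Sp4O

open Matrix Cfsg.Agent.Helper13.Sp4O

variable {F : Type*} [Field F]

/-- (GEN) -/
theorem exists_gen [Fintype F] : ∃ θ : F, θ ≠ 0 ∧ Subring.closure {θ} = (⊤ : Subring F) := by
  obtain ⟨g, hg⟩ := IsCyclic.exists_generator (α := Fˣ)
  refine ⟨(g : F), g.ne_zero, ?_⟩
  rw [eq_top_iff]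
  intro x _
  by_cases hx : x = 0
  · rw [hx]
    exact Subring.zero_mem _
  · have hu := hg (Units.mk0 x hx)
    rw [← mem_powers_iff_mem_zpowers] at hu
    obtain ⟨n, hn⟩ := hu
    have hxn : x = (g : F) ^ n := by
      have h := congrArg (fun u : Fˣ => (u : F)) hn
      simpa using h.symm
    rw [hxn]
    exact Subring.pow_mem _ (Subring.subset_closure (Set.mem_singleton _)) n

end Cfsg.Agent.Helper22.Sp4O
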