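import Mathlib
import Cfsg.Agent.Helper13.Sp4O.Defs

set_option autoImplicit false

/-!
# S2281 (n = 2, q odd) piece (TVZ) for helper13 (#10428): transvections `t_{w,c}` with `w ∈ <e2, f2>`
-/

namespace Cfsg.Agent.Helper22.Sp4O

open Matrix Cfsg.Agent.Helper13.Sp4O

variable {F : Type*} [Field F]

/-- (TVZ) -/
theorem tv_mem_of_coords_zero (H : Subgroup (Sp4 F)) (hQe : ∀ a b z : F, MeS a b z ∈ H)
    (hE : ∀ w : V4 F, w (Sum.inr 0) ≠ 0 → ∀ c : F, tvS w c ∈ H)
    (w : V4 F) (h1 : w (Sum.inr 0) = 0) (h2 : w (Sum.inl 0) = 0) (c : F) : tvS w c ∈ H := by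
  -- conjugation by `Me a' b' 0`
  have key : ∀ a' b' : F, (Me a' b' 0 *ᵥ w) (Sum.inr 0) ≠ 0 → tvS w c ∈ H := by
    intro a' b' hne
    have ht' := hE _ hne c
    have hg := hQe a' b' 0
    have hconj : MeS a' b' 0 * tvS w c = tvS (Me a' b' 0 *ᵥ w) c * MeS a' b' 0 := by
      apply Subtype.ext
      show Me a' b' 0 * Cfsg.sympTransvection 2 w c =
        Cfsg.sympTransvection 2 (Me a' b' 0 *ᵥ w) c * Me a' b' 0
      have hA := Me_mem a' b' (0 : F)
      have hdet : IsUnit (Me a' b' (0 : F)).det := SymplecticGroup.symplectic_det hA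
      rw [← Cfsg.Agent.Helper13.SpE.sympTransvection_conj_gen _ hA,
        Matrix.nonsing_inv_mul_cancel_right _ _ hdet]
    have hrw : tvS w c = (MeS a' b' 0)⁻¹ * tvS (Me a' b' 0 *ᵥ w) c * MeS a' b' 0 := by
      rw [mul_assoc, ← hconj, inv_mul_cancel_left]
    rw [hrw]
    exact H.mul_mem (H.mul_mem (H.inv_mem hg) ht') hg
  have hcoord : ∀ a' b' : F, (Me a' b' 0 *ᵥ w) (Sum.inr 0) =
      -(a' * w (Sum.inl 1)) + b' * w (Sum.inr 1) := by
    intro a' b'
    rw [Me_mulVec]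
    simp [h1, h2, Cfsg.Agent.Helper13.sympForm_add_right, Cfsg.Agent.Helper13.sympForm_smul_right]
  by_cases hr : w (Sum.inr 1) = 0
  · by_cases hl : w (Sum.inl 1) = 0
    · have hw : w = 0 := by
        apply vec_ext <;> simp [h1, h2, hr, hl]
      subst hw
      have h0 : tvS (0 : V4 F) c = 1 := by
        apply Subtype.ext
        show Cfsg.sympTransvection 2 (0 : V4 F) c = 1
        simp [Cfsg.sympTransvection]
      rw [h0]
      exact H.one_mem
    · apply key (-(w (Sum.inl 1))⁻¹) 0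
      rw [hcoord]
      simp [hl]
  · apply key 0 (w (Sum.inr 1))⁻¹
    rw [hcoord]
    simp [hr]

end Cfsg.Agent.Helper22.Sp4O
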