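import Mathlib
import Cfsg.Prelude.Def_Local
import Cfsg.Agent.Helper22.PComponent4
import Cfsg.Agent.Helper22.Coprime
import Cfsg.Agent.S1326

set_option autoImplicit false
open scoped commutatorElement

/-!
`p`-constraint and the `p`-layer (helper22).
-/

namespace Cfsg.Agent.Helper22

open Cfsg Cfsg.Agent.Helper21

/-- If `O_{p'}(H) = 1` then `F(H)` is a `p`-group. -/
theorem isPGroup_fittingSubgroup_of_pPrimeCore_eq_bot {H : Type*} [Group H] [Finite H] (p : ℕ)
    [Fact p.Prime] (h : pPrimeCore p H = ⊥) : IsPGroup p ↥(fittingSubgroup H) := by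
  have hnil : Group.IsNilpotent ↥(fittingSubgroup H) := Cfsg.Agent.Lib.isNilpotent_fittingSubgroup
  have hcard : ∀ {q : ℕ}, q.Prime → q ∣ Nat.card ↥(fittingSubgroup H) → q = p := by
    intro q hq hqd
    by_contra hne
    haveI : Fact q.Prime := ⟨hq⟩
    obtain ⟨S⟩ : Nonempty (Sylow q ↥(fittingSubgroup H)) := inferInstance
    have hSn : (S : Subgroup ↥(fittingSubgroup H)).Normal := inferInstance
    haveI hSc : (S : Subgroup ↥(fittingSubgroup H)).Characteristic :=
      Sylow.characteristic_of_normal S hSn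
    have hN : ((S : Subgroup ↥(fittingSubgroup H)).map (fittingSubgroup H).subtype).Normal :=
      ConjAct.normal_of_characteristic_of_normal
    have hcop : (Nat.card ↥((S : Subgroup ↥(fittingSubgroup H)).map
        (fittingSubgroup H).subtype)).Coprime p := by
      rw [← Nat.card_congr ((S : Subgroup ↥(fittingSubgroup H)).equivMapOfInjective
        (fittingSubgroup H).subtype (fittingSubgroup H).subtype_injective).toEquiv]
      obtain ⟨k, hk⟩ := IsPGroup.iff_card.mp S.2
      rw [hk]
      exact Nat.Coprime.pow_left k ((Nat.coprime_primes hq (Fact.out : p.Prime)).mpr hne)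
    have hle := Cfsg.Agent.Lib.le_pPrimeCore hN hcop
    rw [h, le_bot_iff, Subgroup.map_eq_bot_iff_of_injective _ (fittingSubgroup H).subtype_injective]
      at hle
    exact S.ne_bot_of_dvd_card hqd hle
  have h0 : Nat.card ↥(fittingSubgroup H) ≠ 0 := Nat.card_pos.ne'
  exact IsPGroup.of_card (Nat.eq_prime_pow_of_unique_prime_dvd h0 hcard)

/-- If `O_{p'}(H) = 1` then `F(H) = O_p(H)`. -/
theorem fittingSubgroup_eq_pCore_of_pPrimeCore_eq_bot {H : Type*} [Group H] [Finite H] (p : ℕ)
    [Fact p.Prime] (h : pPrimeCore p H = ⊥) : fittingSubgroup H = pCore p H :=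
  le_antisymm
    (Cfsg.Agent.Lib.le_pCore inferInstance (isPGroup_fittingSubgroup_of_pPrimeCore_eq_bot p h))
    (Cfsg.Agent.Lib.pCore_le_fittingSubgroup p)

/-- If `O_{p'}(H) = 1`: `E(H) = 1` iff `C_H(O_p(H)) ≤ O_p(H)`. -/
theorem layer_eq_bot_iff_centralizer_pCore_le {H : Type*} [Group H] [Finite H] (p : ℕ)
    [Fact p.Prime] (h : pPrimeCore p H = ⊥) :
    layer H = ⊥ ↔ Subgroup.centralizer (pCore p H : Set H) ≤ pCore p H := by
  rw [← Cfsg.Agent.S1326.result, fittingSubgroup_eq_pCore_of_pPrimeCore_eq_bot p h]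

variable {G : Type*} [Group G]

/-- The `p`-layer is trivial iff `G / O_{p'}(G)` has trivial layer. -/
theorem pLayer_eq_bot_iff [Finite G] (p : ℕ) [Fact p.Prime] :
    pLayer p G = ⊥ ↔ layer (G ⧸ pPrimeCore p G) = ⊥ := by
  constructor
  · intro h
    rw [layer_quotient_eq_map_pLayer p, h, Subgroup.map_bot]
  · intro h
    unfold pLayer
    rw [eq_bot_iff]
    apply sSup_le
    intro K hK
    exfalso
    exact (layer_eq_bot_iff.mp h) _ (IsPComponent.isComponent_map hK)

theorem pPrimePCore_eq_comap (p : ℕ) :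
    pPrimePCore p G = (pCore p (G ⧸ pPrimeCore p G)).comap (QuotientGroup.mk' (pPrimeCore p G)) :=
  rfl

/-- The image of a Sylow `p`-subgroup of `O_{p',p}(G)` is `O_p(G / O_{p'}(G))`. -/
theorem map_sylow_pPrimePCore [Finite G] (p : ℕ) [Fact p.Prime] (P : Sylow p ↥(pPrimePCore p G)) :
    ((P : Subgroup ↥(pPrimePCore p G)).map (pPrimePCore p G).subtype).map
      (QuotientGroup.mk' (pPrimeCore p G)) = pCore p (G ⧸ pPrimeCore p G) := by
  have hMmap : (pPrimePCore p G).map (QuotientGroup.mk' (pPrimeCore p G)) =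
      pCore p (G ⧸ pPrimeCore p G) :=
    Subgroup.map_comap_eq_self_of_surjective (QuotientGroup.mk'_surjective _) _
  apply le_antisymm
  · rw [← hMmap]
    exact Subgroup.map_mono (Subgroup.map_subtype_le _)
  · rw [← hMmap]
    -- the image of P under M → M.map π is a Sylow subgroup of a p-group
    have hsurj : Function.Surjective
        ((QuotientGroup.mk' (pPrimeCore p G)).subgroupMap (pPrimePCore p G)) :=
      MonoidHom.subgroupMap_surjective _ _
    let Q : Sylow p ↥((pPrimePCore p G).map (QuotientGroup.mk' (pPrimeCore p G))) :=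
      Sylow.mapSurjective hsurj P
    have hpg : IsPGroup p ↥((pPrimePCore p G).map (QuotientGroup.mk' (pPrimeCore p G))) := by
      rw [hMmap]; exact Cfsg.Agent.Lib.isPGroup_pCore p
    have hQtop : (Q : Subgroup ↥((pPrimePCore p G).map (QuotientGroup.mk' (pPrimeCore p G)))) = ⊤ := by
      have : IsPGroup p ↥(⊤ : Subgroup ↥((pPrimePCore p G).map
          (QuotientGroup.mk' (pPrimeCore p G)))) := hpg.to_subgroup ⊤
      exact (Q.3 this le_top).symm
    rintro y hy
    have hy' : (⟨y, hy⟩ : ↥((pPrimePCore p G).map (QuotientGroup.mk' (pPrimeCore p G)))) ∈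
        (Q : Subgroup ↥((pPrimePCore p G).map (QuotientGroup.mk' (pPrimeCore p G)))) := by
      rw [hQtop]; trivial
    rw [Sylow.coe_mapSurjective] at hy'
    obtain ⟨m, hm, hmy⟩ := hy'
    refine ⟨(m : G), ⟨m, hm, rfl⟩, ?_⟩
    exact congrArg Subtype.val hmy

/-- `G` is `p`-constrained iff `O_p` of `G / O_{p'}(G)` contains its centralizer. -/
theorem isPConstrained_iff [Finite G] (p : ℕ) [Fact p.Prime] :
    IsPConstrained p G ↔
      Subgroup.centralizer (pCore p (G ⧸ pPrimeCore p G) : Set (G ⧸ pPrimeCore p G)) ≤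
        pCore p (G ⧸ pPrimeCore p G) := by
  constructor
  · intro hcon cbar hcbar
    obtain ⟨c, rfl⟩ := QuotientGroup.mk'_surjective (pPrimeCore p G) cbar
    obtain ⟨P⟩ : Nonempty (Sylow p ↥(pPrimePCore p G)) := inferInstance
    have hP'p : IsPGroup p ↥((P : Subgroup ↥(pPrimePCore p G)).map (pPrimePCore p G).subtype) :=
      P.2.map _
    have hmapP' := map_sylow_pPrimePCore p P
    have hOcop : ¬ p ∣ Nat.card ↥(pPrimeCore p G) :=
      not_dvd_of_coprime_card (Cfsg.Agent.Lib.card_pPrimeCore_coprime p)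
    -- P' stabilizes the coset c O
    obtain ⟨o, ho, hfix⟩ := exists_fixed_in_coset p
      ((P : Subgroup ↥(pPrimePCore p G)).map (pPrimePCore p G).subtype) (pPrimeCore p G)
      hP'p hOcop c (by
      intro z hz o ho
      have hzc : QuotientGroup.mk' (pPrimeCore p G) z * QuotientGroup.mk' (pPrimeCore p G) c =
          QuotientGroup.mk' (pPrimeCore p G) c * QuotientGroup.mk' (pPrimeCore p G) z := by
        have hz' : QuotientGroup.mk' (pPrimeCore p G) z ∈ pCore p (G ⧸ pPrimeCore p G) := by
          rw [← hmapP']; exact Subgroup.mem_map_of_mem _ hz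
        exact Subgroup.mem_centralizer_iff.mp hcbar _ hz'
      rw [← QuotientGroup.eq_one_iff, ← QuotientGroup.mk'_apply]
      have ho1 : QuotientGroup.mk' (pPrimeCore p G) o = 1 := by
        rw [QuotientGroup.mk'_apply, QuotientGroup.eq_one_iff]; exact ho
      simp only [map_mul, map_inv, ho1, mul_one]
      rw [hzc]; group)
    have hcent : c * o ∈ Subgroup.centralizer
        (((P : Subgroup ↥(pPrimePCore p G)).map (pPrimePCore p G).subtype : Subgroup G) : Set G) := by
      rw [Subgroup.mem_centralizer_iff]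
      intro z hz
      have := hfix z hz
      calc z * (c * o) = (z * (c * o) * z⁻¹) * z := by group
        _ = c * o * z := by rw [this]
    have hM : c * o ∈ pPrimePCore p G := hcon P hcent
    have hM' : QuotientGroup.mk' (pPrimeCore p G) (c * o) ∈ pCore p (G ⧸ pPrimeCore p G) := hM
    have ho1 : QuotientGroup.mk' (pPrimeCore p G) o = 1 := by
      rw [QuotientGroup.mk'_apply, QuotientGroup.eq_one_iff]; exact ho
    rw [map_mul, ho1, mul_one] at hM'
    exact hM'
  · intro h P c hc
    show QuotientGroup.mk' (pPrimeCore p G) c ∈ pCore p (G ⧸ pPrimeCore p G)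
    apply h
    rw [Subgroup.mem_centralizer_iff]
    intro y hy
    have hy' : y ∈ ((P : Subgroup ↥(pPrimePCore p G)).map (pPrimePCore p G).subtype).map
        (QuotientGroup.mk' (pPrimeCore p G)) := by
      rw [map_sylow_pPrimePCore p P]; exact hy
    obtain ⟨x, hx, rfl⟩ := hy'
    have := Subgroup.mem_centralizer_iff.mp hc x hx
    rw [← map_mul, ← map_mul, this]

/-- **`p`-constrained iff trivial `p`-layer.** -/
theorem isPConstrained_iff_pLayer_eq_bot [Finite G] (p : ℕ) [Fact p.Prime] :
    IsPConstrained p G ↔ pLayer p G = ⊥ := by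
  rw [isPConstrained_iff, pLayer_eq_bot_iff,
    layer_eq_bot_iff_centralizer_pCore_le p (pPrimeCore_quotient_eq_bot p)]

end Cfsg.Agent.Helper22
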