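import Cfsg.Agent.Helper19.E8C.Facts
import Cfsg.Agent.Helper18.BNStruct

/-!
S5751 (helper19's E8C farm #13279), piece (EQ): the coordinates of the conjugates by `n_i`.
-/

set_option autoImplicit false

namespace Cfsg.Agent.Helper22.E8C

open Cfsg Cfsg.Lie Cfsg.Agent.Helper18 Cfsg.Agent.Helper19.Poinc Cfsg.Agent.Helper19.E8C

variable {F : Type*} [Field F]

/-- `±1 = 1` in characteristic `2` -/
theorem EQ_eta (h2 : (2 : F) = 0) (η : ℤ) (hη : η = 1 ∨ η = -1) : ((η : ℤ) : F) = 1 := by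
  rcases hη with rfl | rfl
  · simp
  · have : (-1 : F) = 1 := by
      rw [neg_eq_iff_add_eq_zero, one_add_one_eq_two, h2]
    simpa using this

/-- the reflection is injective on the roots -/
theorem EQ_reflect_inj (i : ℕ) (hi : i < chevE8.rank) (r s : ℕ) (hr : r < chevE8.nroots)
    (hs : s < chevE8.nroots) (h : chevE8.reflectRoot i r = chevE8.reflectRoot i s) : r = s := by
  rw [← reflectRoot_reflectRoot chevE8 hE8 i r hi hr, h, reflectRoot_reflectRoot chevE8 hE8 i s hi hs]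

/-- conjugation of a root element by `n_i` and by `n_i⁻¹` (characteristic `2`) -/
theorem EQ_conj_gen (h31 : NConjHyp chevE8 F) (h2 : (2 : F) = 0) (i : ℕ) (hi : i < chevE8.rank)
    (s : ℕ) (hs : s < chevE8.nroots) (t : F) :
    npGL chevE8 F i * xGL chevE8 F s t * (npGL chevE8 F i)⁻¹ = xGL chevE8 F (chevE8.reflectRoot i s) t ∧
    (npGL chevE8 F i)⁻¹ * xGL chevE8 F s t * npGL chevE8 F i = xGL chevE8 F (chevE8.reflectRoot i s) t := by
  constructor
  · obtain ⟨η, hη, h⟩ := nGL_conj_xGL chevE8 hE8 h31 i s hi hs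
    have h1 := h t
    rw [EQ_eta h2 η hη, one_mul] at h1
    rw [h1, mul_inv_cancel_right]
  · have hs' := reflectRoot_lt chevE8 hE8 i s hi hs
    obtain ⟨η, hη, h⟩ := nGL_conj_xGL chevE8 hE8 h31 i (chevE8.reflectRoot i s) hi hs'
    have h1 := h t
    rw [EQ_eta h2 η hη, one_mul, reflectRoot_reflectRoot chevE8 hE8 i s hi hs] at h1
    -- `n x_{ρ s}(t) = x_s(t) n`
    change (npGL chevE8 F i)⁻¹ * xGL chevE8 F s t * npGL chevE8 F i = _
    rw [mul_assoc]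
    change (npGL chevE8 F i)⁻¹ * (xGL chevE8 F s t * wordGL chevE8 F (chevE8.nWord (chevE8.simple i) (1 : F))) = _
    rw [← h1, ← mul_assoc]
    change (npGL chevE8 F i)⁻¹ * npGL chevE8 F i * _ = _
    rw [inv_mul_cancel, one_mul]

/-- (EQ) -/
theorem cmp_conj (h31 : NConjHyp chevE8 F) (h2 : (2 : F) = 0) (hc : CmpFacts F) (i : ℕ) (hi : i < chevE8.rank)
    (m m' : ℕ) (hm : 1 ≤ m) (hm' : 1 ≤ m')
    (hlv : ∀ s < chevE8.nroots, (m : ℤ) ≤ lev s → (m' : ℤ) ≤ lev (chevE8.reflectRoot i s))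
    (g : GL chevE8.Idx F) (hg : g ∈ UL F m) (r : ℕ) (hr : r < chevE8.nroots) (hlev : lev r = (m : ℤ))
    (hlev' : lev (chevE8.reflectRoot i r) = (m' : ℤ)) :
    cmp (npGL chevE8 F i * g * (npGL chevE8 F i)⁻¹) (chevE8.reflectRoot i r) (jOdd (chevE8.reflectRoot i r)) =
        cmp g r (jOdd r) ∧
      cmp ((npGL chevE8 F i)⁻¹ * g * npGL chevE8 F i) (chevE8.reflectRoot i r) (jOdd (chevE8.reflectRoot i r)) =
        cmp g r (jOdd r) := by
  set n : GL chevE8.Idx F := npGL chevE8 F i with hn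
  set ρr : ℕ := chevE8.reflectRoot i r with hρr
  have hρr_lt : ρr < chevE8.nroots := reflectRoot_lt chevE8 hE8 i r hi hr
  -- the statement for all `g ∈ UL m`, by closure induction
  have key : ∀ g : GL chevE8.Idx F, g ∈ UL F m →
      (n * g * n⁻¹ ∈ UL F m' ∧ n⁻¹ * g * n ∈ UL F m') ∧
      (cmp (n * g * n⁻¹) ρr (jOdd ρr) = cmp g r (jOdd r) ∧
        cmp (n⁻¹ * g * n) ρr (jOdd ρr) = cmp g r (jOdd r)) := by
    intro g hg
    unfold UL at hg
    induction hg using Subgroup.closure_induction with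
    | mem x hx =>
      obtain ⟨s, t, hs, hms, rfl⟩ := hx
      have hs' := reflectRoot_lt chevE8 hE8 i s hi hs
      obtain ⟨e1, e2⟩ := EQ_conj_gen h31 h2 i hi s hs t
      rw [e1, e2]
      refine ⟨⟨xGL_mem_UL F _ hs' m' (hlv s hs hms) t, xGL_mem_UL F _ hs' m' (hlv s hs hms) t⟩, ?_⟩
      have hval : cmp (xGL chevE8 F (chevE8.reflectRoot i s) t) ρr (jOdd ρr) =
          cmp (xGL chevE8 F s t) r (jOdd r) := by
        by_cases hrs : r = s
        · subst hrs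
          rw [hc.gen_self h2 _ hρr_lt t, hc.gen_self h2 r hr t]
        · have hne : ρr ≠ chevE8.reflectRoot i s := fun h => hrs (EQ_reflect_inj i hi r s hr hs h)
          rw [hc.gen_ne _ hs' t ρr hρr_lt hne, hc.gen_ne s hs t r hr hrs]
      exact ⟨hval, hval⟩
    | one =>
      refine ⟨⟨?_, ?_⟩, ?_, ?_⟩
      · rw [mul_one, mul_inv_cancel]; exact Subgroup.one_mem _
      · rw [mul_one, inv_mul_cancel]; exact Subgroup.one_mem _
      · rw [mul_one, mul_inv_cancel, hc.one, hc.one]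
      · rw [mul_one, inv_mul_cancel, hc.one, hc.one]
    | mul x y hx hy ihx ihy =>
      obtain ⟨⟨hx1, hx2⟩, ex1, ex2⟩ := ihx
      obtain ⟨⟨hy1, hy2⟩, ey1, ey2⟩ := ihy
      have hxm : x ∈ UL F m := hx
      have hym : y ∈ UL F m := hy
      have e1 : n * (x * y) * n⁻¹ = (n * x * n⁻¹) * (n * y * n⁻¹) := by group
      have e2 : n⁻¹ * (x * y) * n = (n⁻¹ * x * n) * (n⁻¹ * y * n) := by group
      rw [e1, e2]
      refine ⟨⟨Subgroup.mul_mem _ hx1 hy1, Subgroup.mul_mem _ hx2 hy2⟩, ?_, ?_⟩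
      · rw [hc.mul_UL m' hm' _ _ hx1 hy1 ρr (jOdd ρr) hlev', hc.mul_UL m hm x y hxm hym r (jOdd r) hlev,
          ex1, ey1]
      · rw [hc.mul_UL m' hm' _ _ hx2 hy2 ρr (jOdd ρr) hlev', hc.mul_UL m hm x y hxm hym r (jOdd r) hlev,
          ex2, ey2]
    | inv x hx ihx =>
      obtain ⟨⟨hx1, hx2⟩, ex1, ex2⟩ := ihx
      have hxm : x ∈ UL F m := hx
      have e1 : n * x⁻¹ * n⁻¹ = (n * x * n⁻¹)⁻¹ := by group
      have e2 : n⁻¹ * x⁻¹ * n = (n⁻¹ * x * n)⁻¹ := by group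
      rw [e1, e2]
      refine ⟨⟨Subgroup.inv_mem _ hx1, Subgroup.inv_mem _ hx2⟩, ?_, ?_⟩
      · rw [hc.inv_UL m' hm' _ hx1 ρr (jOdd ρr) hlev', hc.inv_UL m hm x hxm r (jOdd r) hlev, ex1]
      · rw [hc.inv_UL m' hm' _ hx2 ρr (jOdd ρr) hlev', hc.inv_UL m hm x hxm r (jOdd r) hlev, ex2]
  exact (key g hg).2

end Cfsg.Agent.Helper22.E8C
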