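import Cfsg.Agent.Helper19.FH.Defs

/-!
# Piece (BR) of board #5717 (helper19, S1142 Feit-Higman): the braid relation in the
two-dimensional model
-/

set_option autoImplicit false

namespace Cfsg.Agent.Helper22.FHBR

open Cfsg.Agent.Helper19.FH Matrix

/-- The sequence `p 0 = 0`, `p 1 = 1`, `p (k+2) = τ p (k+1) - c p k`. -/
def pseq (τ c : ℝ) : ℕ → ℝ
  | 0 => 0
  | 1 => 1
  | (k + 2) => τ * pseq τ c (k + 1) - c * pseq τ c k

@[simp] theorem pseq_zero (τ c : ℝ) : pseq τ c 0 = 0 := rfl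
@[simp] theorem pseq_one (τ c : ℝ) : pseq τ c 1 = 1 := rfl
theorem pseq_succ_succ (τ c : ℝ) (k : ℕ) :
    pseq τ c (k + 2) = τ * pseq τ c (k + 1) - c * pseq τ c k := rfl
theorem pseq_two (τ c : ℝ) : pseq τ c 2 = τ := by
  show τ * 1 - c * 0 = τ
  ring

/-- Powers of an element satisfying a quadratic relation. -/
theorem pow_succ_of_quadratic {A : Type*} [Ring A] [Algebra ℝ A] (S : A) (τ c : ℝ)
    (hS : S * S = τ • S - c • (1 : A)) (k : ℕ) :
    S ^ (k + 1) = pseq τ c (k + 1) • S - (c * pseq τ c k) • (1 : A) := by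
  induction k with
  | zero =>
    show S ^ 1 = (1 : ℝ) • S - (c * 0) • (1 : A)
    rw [pow_one, one_smul, mul_zero, zero_smul, sub_zero]
  | succ k ih =>
    rw [pow_succ, ih, sub_mul, smul_mul_assoc, hS, smul_mul_assoc, one_mul, pseq_succ_succ]
    module

theorem alt_two_mul {M : Type*} [Monoid M] (x y : M) (m : ℕ) : alt x y (2 * m) = (x * y) ^ m := by
  induction m with
  | zero => simp
  | succ m ih =>
    have : 2 * (m + 1) = (2 * m + 1) + 1 := by ring
    rw [this, alt_succ, alt_succ, ih, pow_succ', mul_assoc]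

theorem alt_two_mul_add_one {M : Type*} [Monoid M] (x y : M) (m : ℕ) :
    alt x y (2 * m + 1) = x * (y * x) ^ m := by
  rw [alt_succ, alt_two_mul]

/-- Trigonometric form of the sequence. -/
theorem pseq_trig (r φ : ℝ) (k : ℕ) :
    pseq (2 * r * Real.cos φ) (r ^ 2) (k + 1) * Real.sin φ = r ^ k * Real.sin ((k + 1 : ℕ) * φ) := by
  induction k using Nat.twoStepInduction with
  | zero => simp
  | one =>
    show pseq _ _ 2 * Real.sin φ = _
    rw [pseq_two]
    have : ((1 + 1 : ℕ) : ℝ) * φ = 2 * φ := by push_cast; ring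
    rw [this, Real.sin_two_mul]; ring
  | more k ih1 ih2 =>
    rw [pseq_succ_succ, sub_mul, mul_assoc, ih2, mul_assoc (r ^ 2), ih1]
    have e3 : ((k + 1 + 1 + 1 : ℕ) : ℝ) * φ = ((k + 1 + 1 : ℕ) : ℝ) * φ + φ := by push_cast; ring
    have e1 : ((k + 1 : ℕ) : ℝ) * φ = ((k + 1 + 1 : ℕ) : ℝ) * φ - φ := by push_cast; ring
    rw [e3, e1, Real.sin_add, Real.sin_sub]
    ring

/-- Positivity for `τ ≥ 2r`. -/
theorem pseq_pos_aux (r τ : ℝ) (hr : 0 < r) (hτ : 2 * r ≤ τ) (k : ℕ) :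
    0 ≤ pseq τ (r ^ 2) k ∧ r ^ k ≤ pseq τ (r ^ 2) (k + 1) - r * pseq τ (r ^ 2) k := by
  induction k with
  | zero => simp
  | succ k ih =>
    obtain ⟨h1, h2⟩ := ih
    have hrk : 0 < r ^ k := pow_pos hr k
    have h3 : 0 ≤ pseq τ (r ^ 2) (k + 1) := by nlinarith
    refine ⟨h3, ?_⟩
    rw [pseq_succ_succ, pow_succ]
    nlinarith

theorem pseq_neg (τ c : ℝ) (k : ℕ) : pseq (-τ) c k = (-1) ^ (k + 1) * pseq τ c k := by
  induction k using Nat.twoStepInduction with
  | zero => simp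
  | one => simp
  | more k ih1 ih2 =>
    rw [pseq_succ_succ, pseq_succ_succ, ih1, ih2]
    ring


/-- The trace of `mod₁ a lam * mod₂ b`. -/
def tauL (a b lam : ℝ) : ℝ := (a + 1) * (b + 1) * lam - a - b

theorem R_quadratic (a b lam : ℝ) :
    (mod₁ a lam * mod₂ b) * (mod₁ a lam * mod₂ b) =
      tauL a b lam • (mod₁ a lam * mod₂ b) - (a * b) • (1 : Matrix (Fin 2) (Fin 2) ℝ) := by
  ext i j
  fin_cases i <;> fin_cases j <;>
    simp [mod₁, mod₂, tauL, Matrix.mul_apply, Fin.sum_univ_two] <;> ring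

theorem R'_quadratic (a b lam : ℝ) :
    (mod₂ b * mod₁ a lam) * (mod₂ b * mod₁ a lam) =
      tauL a b lam • (mod₂ b * mod₁ a lam) - (a * b) • (1 : Matrix (Fin 2) (Fin 2) ℝ) := by
  ext i j
  fin_cases i <;> fin_cases j <;>
    simp [mod₁, mod₂, tauL, Matrix.mul_apply, Fin.sum_univ_two] <;> ring

theorem comm_entry (a b lam : ℝ) :
    (mod₁ a lam * mod₂ b - mod₂ b * mod₁ a lam) 0 1 = (a + 1) * (b + 1) * lam := by
  simp [mod₁, mod₂, Matrix.mul_apply, Fin.sum_univ_two]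
  ring

theorem sub_entry (a b lam : ℝ) : (mod₁ a lam - mod₂ b) 1 0 = -(b + 1) := by
  simp [mod₁, mod₂]

theorem odd_identity (a lam : ℝ) :
    mod₁ a lam * (mod₂ a * mod₁ a lam) - mod₂ a * (mod₁ a lam * mod₂ a) =
      (tauL a a lam + a) • (mod₁ a lam - mod₂ a) := by
  ext i j
  fin_cases i <;> fin_cases j <;>
    simp [mod₁, mod₂, tauL, Matrix.mul_apply, Fin.sum_univ_two] <;> ring


theorem braid_even_iff (a b lam : ℝ) (ha : a + 1 ≠ 0) (hb : b + 1 ≠ 0) (h0 : lam ≠ 0) (m : ℕ) :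
    alt (mod₁ a lam) (mod₂ b) (2 * (m + 1)) = alt (mod₂ b) (mod₁ a lam) (2 * (m + 1)) ↔
      pseq (tauL a b lam) (a * b) (m + 1) = 0 := by
  rw [alt_two_mul, alt_two_mul, pow_succ_of_quadratic _ _ _ (R_quadratic a b lam),
    pow_succ_of_quadratic _ _ _ (R'_quadratic a b lam)]
  constructor
  · intro h
    have h2 : pseq (tauL a b lam) (a * b) (m + 1) •
        (mod₁ a lam * mod₂ b - mod₂ b * mod₁ a lam) = 0 := by
      rw [smul_sub]
      have := sub_eq_zero.mpr h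
      rw [← this]
      abel
    have h3 := congrFun (congrFun h2 0) 1
    rw [Matrix.smul_apply, comm_entry, smul_eq_mul, Matrix.zero_apply] at h3
    rcases mul_eq_zero.mp h3 with h | h
    · exact h
    · exact absurd h (mul_ne_zero (mul_ne_zero ha hb) h0)
  · intro h
    rw [h, zero_smul, zero_smul]

theorem braid_odd_iff (a lam : ℝ) (ha : a + 1 ≠ 0) (m : ℕ) :
    alt (mod₁ a lam) (mod₂ a) (2 * (m + 1) + 1) = alt (mod₂ a) (mod₁ a lam) (2 * (m + 1) + 1) ↔
      pseq (tauL a a lam) (a * a) (m + 2) + a * pseq (tauL a a lam) (a * a) (m + 1) = 0 := by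
  rw [alt_two_mul_add_one, alt_two_mul_add_one, pow_succ_of_quadratic _ _ _ (R_quadratic a a lam),
    pow_succ_of_quadratic _ _ _ (R'_quadratic a a lam)]
  have key : mod₁ a lam * (pseq (tauL a a lam) (a * a) (m + 1) • (mod₂ a * mod₁ a lam) -
        (a * a * pseq (tauL a a lam) (a * a) m) • (1 : Matrix (Fin 2) (Fin 2) ℝ)) -
      mod₂ a * (pseq (tauL a a lam) (a * a) (m + 1) • (mod₁ a lam * mod₂ a) -
        (a * a * pseq (tauL a a lam) (a * a) m) • (1 : Matrix (Fin 2) (Fin 2) ℝ)) =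
      (pseq (tauL a a lam) (a * a) (m + 2) + a * pseq (tauL a a lam) (a * a) (m + 1)) •
        (mod₁ a lam - mod₂ a) := by
    rw [mul_sub, mul_sub, mul_smul_comm, mul_smul_comm, mul_smul_comm, mul_smul_comm, mul_one,
      mul_one]
    have e : pseq (tauL a a lam) (a * a) (m + 1) • (mod₁ a lam * (mod₂ a * mod₁ a lam)) -
        (a * a * pseq (tauL a a lam) (a * a) m) • mod₁ a lam -
        (pseq (tauL a a lam) (a * a) (m + 1) • (mod₂ a * (mod₁ a lam * mod₂ a)) -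
        (a * a * pseq (tauL a a lam) (a * a) m) • mod₂ a) =
        pseq (tauL a a lam) (a * a) (m + 1) • (mod₁ a lam * (mod₂ a * mod₁ a lam) -
          mod₂ a * (mod₁ a lam * mod₂ a)) -
        (a * a * pseq (tauL a a lam) (a * a) m) • (mod₁ a lam - mod₂ a) := by
      simp only [smul_sub]; abel
    rw [e, odd_identity, pseq_succ_succ, smul_smul, ← sub_smul]
    congr 1
    ring
  constructor
  · intro h
    have h2 := sub_eq_zero.mpr h
    rw [key] at h2
    have h3 := congrFun (congrFun h2 1) 0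
    rw [Matrix.smul_apply, sub_entry, smul_eq_mul, Matrix.zero_apply] at h3
    rcases mul_eq_zero.mp h3 with h | h
    · exact h
    · exact absurd (neg_eq_zero.mp h) ha
  · intro h
    have h2 := key
    rw [h, zero_smul] at h2
    exact sub_eq_zero.mp h2


/-- Parametrisation of `(-2r, 2r)` by the cosine. -/
theorem exists_angle (r τ : ℝ) (hr : 0 < r) (h1 : -(2 * r) < τ) (h2 : τ < 2 * r) :
    ∃ φ : ℝ, 0 < φ ∧ φ < Real.pi ∧ τ = 2 * r * Real.cos φ := by
  have hx1 : -1 < τ / (2 * r) := by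
    rw [lt_div_iff₀ (by positivity)]; linarith
  have hx2 : τ / (2 * r) < 1 := by
    rw [div_lt_iff₀ (by positivity)]; linarith
  refine ⟨Real.arccos (τ / (2 * r)), Real.arccos_pos.mpr hx2, Real.arccos_lt_pi.mpr hx1, ?_⟩
  rw [Real.cos_arccos hx1.le hx2.le]
  field_simp

theorem pseq_succ_pos (r τ : ℝ) (hr : 0 < r) (hτ : 2 * r ≤ τ) (k : ℕ) :
    0 < pseq τ (r ^ 2) (k + 1) := by
  obtain ⟨h1, h2⟩ := pseq_pos_aux r τ hr hτ k
  have : 0 < r ^ k := pow_pos hr k
  nlinarith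

theorem pseq_eq_zero_iff (r τ : ℝ) (hr : 0 < r) (m : ℕ) :
    pseq τ (r ^ 2) (m + 1) = 0 ↔
      ∃ j : ℕ, 0 < j ∧ j < m + 1 ∧ τ = 2 * r * Real.cos (Real.pi * j / ((m + 1 : ℕ) : ℝ)) := by
  have hm : (0 : ℝ) < ((m + 1 : ℕ) : ℝ) := by exact_mod_cast Nat.succ_pos m
  constructor
  · intro h
    rcases le_or_gt (2 * r) τ with h1 | h1
    · exact absurd h (pseq_succ_pos r τ hr h1 m).ne'
    rcases le_or_gt τ (-(2 * r)) with h2 | h2
    · exfalso
      have h3 := pseq_neg (-τ) (r ^ 2) (m + 1)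
      rw [neg_neg, h] at h3
      have h4 := (pseq_succ_pos r (-τ) hr (by linarith) m).ne'
      have h5 : ((-1 : ℝ)) ^ (m + 1 + 1) ≠ 0 := pow_ne_zero _ (by norm_num)
      exact (mul_ne_zero h5 h4) h3.symm
    obtain ⟨φ, hφ0, hφπ, rfl⟩ := exists_angle r τ hr h2 h1
    have h3 := pseq_trig r φ m
    rw [h, zero_mul] at h3
    have h4 : Real.sin (((m + 1 : ℕ) : ℝ) * φ) = 0 := by
      rcases mul_eq_zero.mp h3.symm with h | h
      · exact absurd h (pow_pos hr m).ne'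
      · exact h
    obtain ⟨z, hz⟩ := Real.sin_eq_zero_iff.mp h4
    have hz0 : 0 < z := by
      have : (0 : ℝ) < (z : ℝ) * Real.pi := by rw [hz]; positivity
      have := (mul_pos_iff_of_pos_right Real.pi_pos).mp this
      exact_mod_cast this
    have hzm : z < (m + 1 : ℕ) := by
      have : (z : ℝ) * Real.pi < ((m + 1 : ℕ) : ℝ) * Real.pi := by
        rw [hz]; exact mul_lt_mul_of_pos_left hφπ hm
      have := lt_of_mul_lt_mul_right this Real.pi_pos.le
      exact_mod_cast this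
    refine ⟨z.toNat, by omega, by omega, ?_⟩
    have hzc : ((z.toNat : ℕ) : ℝ) = (z : ℝ) := by
      have : ((z.toNat : ℕ) : ℤ) = z := Int.toNat_of_nonneg hz0.le
      exact_mod_cast this
    rw [hzc]
    congr 2
    rw [mul_comm Real.pi, hz]
    field_simp
  · rintro ⟨j, hj0, hjm, rfl⟩
    set φ : ℝ := Real.pi * j / ((m + 1 : ℕ) : ℝ) with hφ
    have hj0' : (0 : ℝ) < (j : ℝ) := by exact_mod_cast hj0
    have hjm' : (j : ℝ) < ((m + 1 : ℕ) : ℝ) := by exact_mod_cast hjm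
    have hφ0 : 0 < φ := by rw [hφ]; positivity
    have hφπ : φ < Real.pi := by
      rw [hφ, div_lt_iff₀ hm]
      exact mul_lt_mul_of_pos_left hjm' Real.pi_pos
    have hsin : 0 < Real.sin φ := Real.sin_pos_of_pos_of_lt_pi hφ0 hφπ
    have h3 := pseq_trig r φ m
    have h4 : ((m + 1 : ℕ) : ℝ) * φ = (j : ℝ) * Real.pi := by
      rw [hφ]; field_simp
    rw [h4, Real.sin_nat_mul_pi, mul_zero] at h3
    rcases mul_eq_zero.mp h3 with h | h
    · exact h
    · exact absurd h hsin.ne'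

theorem sin_add_sin' (u v : ℝ) :
    Real.sin (u + v) + Real.sin (u - v) = 2 * Real.sin u * Real.cos v := by
  rw [Real.sin_add, Real.sin_sub]; ring

theorem pseq_add_trig (r φ : ℝ) (m : ℕ) :
    (pseq (2 * r * Real.cos φ) (r ^ 2) (m + 2) + r * pseq (2 * r * Real.cos φ) (r ^ 2) (m + 1)) *
      Real.sin φ =
    r ^ (m + 1) * (2 * Real.sin (((2 * m + 3 : ℕ) : ℝ) * φ / 2) * Real.cos (φ / 2)) := by
  have h1 := pseq_trig r φ (m + 1)
  have h2 := pseq_trig r φ m
  rw [add_mul, h1, mul_assoc, h2, ← sin_add_sin']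
  have e1 : ((m + 1 + 1 : ℕ) : ℝ) * φ = ((2 * m + 3 : ℕ) : ℝ) * φ / 2 + φ / 2 := by
    push_cast; ring
  have e2 : ((m + 1 : ℕ) : ℝ) * φ = ((2 * m + 3 : ℕ) : ℝ) * φ / 2 - φ / 2 := by
    push_cast; ring
  rw [e1, e2]
  ring

theorem pseq_add_eq_zero_iff (r τ : ℝ) (hr : 0 < r) (m : ℕ) :
    pseq τ (r ^ 2) (m + 2) + r * pseq τ (r ^ 2) (m + 1) = 0 ↔
      ∃ j : ℕ, 0 < j ∧ 2 * j < 2 * m + 3 ∧
        τ = 2 * r * Real.cos (2 * Real.pi * j / ((2 * m + 3 : ℕ) : ℝ)) := by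
  have hm : (0 : ℝ) < ((2 * m + 3 : ℕ) : ℝ) := by exact_mod_cast Nat.succ_pos _
  constructor
  · intro h
    rcases le_or_gt (2 * r) τ with h1 | h1
    · exfalso
      have h3 := pseq_succ_pos r τ hr h1 (m + 1)
      have h4 := pseq_succ_pos r τ hr h1 m
      have : 0 < pseq τ (r ^ 2) (m + 2) + r * pseq τ (r ^ 2) (m + 1) := by positivity
      exact this.ne' h
    rcases le_or_gt τ (-(2 * r)) with h2 | h2
    · exfalso
      have h3 := pseq_neg (-τ) (r ^ 2) (m + 2)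
      have h4 := pseq_neg (-τ) (r ^ 2) (m + 1)
      rw [neg_neg] at h3 h4
      rw [h3, h4] at h
      obtain ⟨-, h5⟩ := pseq_pos_aux r (-τ) hr (by linarith) (m + 1)
      have h6 : 0 < r ^ (m + 1) := pow_pos hr _
      have h7 : ((-1 : ℝ)) ^ (m + 2 + 1) * (pseq (-τ) (r ^ 2) (m + 2) -
          r * pseq (-τ) (r ^ 2) (m + 1)) = 0 := by
        rw [← h]; ring
      have h8 : ((-1 : ℝ)) ^ (m + 2 + 1) ≠ 0 := pow_ne_zero _ (by norm_num)
      rcases mul_eq_zero.mp h7 with h9 | h9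
      · exact h8 h9
      · have : m + 1 + 1 = m + 2 := rfl
        rw [this] at h5
        linarith
    obtain ⟨φ, hφ0, hφπ, rfl⟩ := exists_angle r τ hr h2 h1
    have h3 := pseq_add_trig r φ m
    rw [h, zero_mul] at h3
    have hcos : 0 < Real.cos (φ / 2) :=
      Real.cos_pos_of_mem_Ioo ⟨by linarith, by linarith⟩
    have h4 : Real.sin (((2 * m + 3 : ℕ) : ℝ) * φ / 2) = 0 := by
      rcases mul_eq_zero.mp h3.symm with h | h
      · exact absurd h (pow_pos hr _).ne'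
      · rcases mul_eq_zero.mp h with h | h
        · rcases mul_eq_zero.mp h with h | h
          · norm_num at h
          · exact h
        · exact absurd h hcos.ne'
    obtain ⟨z, hz⟩ := Real.sin_eq_zero_iff.mp h4
    have hz0 : 0 < z := by
      have : (0 : ℝ) < (z : ℝ) * Real.pi := by rw [hz]; positivity
      have := (mul_pos_iff_of_pos_right Real.pi_pos).mp this
      exact_mod_cast this
    have hzm : 2 * z < (2 * m + 3 : ℕ) := by
      have : (2 * (z : ℝ)) * Real.pi < ((2 * m + 3 : ℕ) : ℝ) * Real.pi := by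
        have e : (2 * (z : ℝ)) * Real.pi = 2 * ((z : ℝ) * Real.pi) := by ring
        rw [e, hz]
        have := mul_lt_mul_of_pos_left hφπ hm
        linarith
      have := lt_of_mul_lt_mul_right this Real.pi_pos.le
      exact_mod_cast this
    refine ⟨z.toNat, by omega, by omega, ?_⟩
    have hzc : ((z.toNat : ℕ) : ℝ) = (z : ℝ) := by
      have : ((z.toNat : ℕ) : ℤ) = z := Int.toNat_of_nonneg hz0.le
      exact_mod_cast this
    rw [hzc]
    congr 2
    have : 2 * Real.pi * (z : ℝ) = 2 * ((z : ℝ) * Real.pi) := by ring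
    rw [this, hz]
    field_simp
  · rintro ⟨j, hj0, hjm, rfl⟩
    set φ : ℝ := 2 * Real.pi * j / ((2 * m + 3 : ℕ) : ℝ) with hφ
    have hj0' : (0 : ℝ) < (j : ℝ) := by exact_mod_cast hj0
    have hjm' : 2 * (j : ℝ) < ((2 * m + 3 : ℕ) : ℝ) := by exact_mod_cast hjm
    have hφ0 : 0 < φ := by rw [hφ]; positivity
    have hφπ : φ < Real.pi := by
      rw [hφ, div_lt_iff₀ hm]
      have := mul_lt_mul_of_pos_left hjm' Real.pi_pos
      linarith
    have hsin : 0 < Real.sin φ := Real.sin_pos_of_pos_of_lt_pi hφ0 hφπ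
    have h3 := pseq_add_trig r φ m
    have h4 : ((2 * m + 3 : ℕ) : ℝ) * φ / 2 = (j : ℝ) * Real.pi := by
      rw [hφ]; field_simp
    rw [h4, Real.sin_nat_mul_pi, mul_zero, zero_mul, mul_zero] at h3
    rcases mul_eq_zero.mp h3 with h | h
    · exact h
    · exact absurd h hsin.ne'


theorem lam_eq_lamOf_iff (a b lam τ : ℝ) (ha : a + 1 ≠ 0) (hb : b + 1 ≠ 0) :
    lam = lamOf a b τ ↔ tauL a b lam = τ := by
  unfold lamOf tauL
  have h : (a + 1) * (b + 1) ≠ 0 := mul_ne_zero ha hb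
  rw [eq_div_iff h]
  constructor <;> intro h' <;> linarith

theorem braid_iff (n : ℕ) (hn : 2 ≤ n) (a b lam : ℝ) (ha : 0 < a) (hb : 0 < b)
    (hodd : Odd n → a = b) (h0 : lam ≠ 0) (h1 : lam ≠ 1) :
    alt (mod₁ a lam) (mod₂ b) n = alt (mod₂ b) (mod₁ a lam) n ↔
      ∃ j : ℕ, 0 < j ∧ 2 * j < n ∧ lam = lamOf a b (tauOf n a b j) := by
  have ha1 : a + 1 ≠ 0 := by linarith
  have hb1 : b + 1 ≠ 0 := by linarith
  have hr : 0 < Real.sqrt (a * b) := Real.sqrt_pos.mpr (mul_pos ha hb)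
  have hr2 : Real.sqrt (a * b) ^ 2 = a * b := Real.sq_sqrt (mul_pos ha hb).le
  rcases Nat.even_or_odd' n with ⟨m, rfl | rfl⟩
  · -- even
    obtain ⟨m, rfl⟩ : ∃ m', m = m' + 1 := ⟨m - 1, by omega⟩
    rw [braid_even_iff a b lam ha1 hb1 h0 m, ← hr2, pseq_eq_zero_iff _ _ hr m]
    constructor
    · rintro ⟨j, hj0, hjm, hτ⟩
      refine ⟨j, hj0, by omega, ?_⟩
      rw [lam_eq_lamOf_iff a b lam _ ha1 hb1, hτ]
      unfold tauOf
      congr 2
      push_cast
      field_simp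
    · rintro ⟨j, hj0, hjm, hlam⟩
      refine ⟨j, hj0, by omega, ?_⟩
      rw [lam_eq_lamOf_iff a b lam _ ha1 hb1] at hlam
      rw [hlam]
      unfold tauOf
      congr 2
      push_cast
      field_simp
  · -- odd
    obtain ⟨m, rfl⟩ : ∃ m', m = m' + 1 := ⟨m - 1, by omega⟩
    have hab : a = b := hodd ⟨m + 1, rfl⟩
    subst hab
    have hra : Real.sqrt (a * a) = a := Real.sqrt_mul_self ha.le
    have hr2' : a * a = a ^ 2 := by ring
    rw [braid_odd_iff a lam ha1 m, hr2', pseq_add_eq_zero_iff a _ ha m]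
    constructor
    · rintro ⟨j, hj0, hjm, hτ⟩
      refine ⟨j, hj0, by omega, ?_⟩
      rw [lam_eq_lamOf_iff a a lam _ ha1 ha1, hτ]
      unfold tauOf
      rw [hra]
      congr 2
    · rintro ⟨j, hj0, hjm, hlam⟩
      refine ⟨j, hj0, by omega, ?_⟩
      rw [lam_eq_lamOf_iff a a lam _ ha1 ha1] at hlam
      rw [hlam]
      unfold tauOf
      rw [hra]
      congr 2

end Cfsg.Agent.Helper22.FHBR
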