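import Mathlib
import Cfsg.Agent.Helper46.RSp.Defs

set_option autoImplicit false
set_option linter.unusedSectionVars false
set_option linter.unusedVariables false

/-!
# S2281 (n ≥ 3) piece (SMAT) for helper46 (#10461): the Weyl element `s`
-/

namespace Cfsg.Agent.Helper22.RSp

open Matrix Cfsg.Agent.Helper13 Cfsg.Agent.Helper46.RSp

variable {K : Type*} [Field K] {j : ℕ}

local notation "Vec" => (Fin (j + 3) ⊕ Fin (j + 3) → K)
local notation "Mat" => Matrix (Fin (j + 3) ⊕ Fin (j + 3)) (Fin (j + 3) ⊕ Fin (j + 3)) K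
local notation "Mk" => Matrix (Fin (j + 3)) (Fin (j + 3)) K
local notation "SpG" => Matrix.symplecticGroup (Fin (j + 3)) K
local notation "B" => Cfsg.sympForm (j + 3) K

theorem sM_mulVec (x : Vec) : (sM : Mat) *ᵥ x = fun y =>
    if y = Sum.inr i1 then x (Sum.inl i1) else if y = Sum.inl i1 then -x (Sum.inr i1) else x y := by
  funext y
  by_cases h1 : y = Sum.inr i1
  · simp [Matrix.mulVec, dotProduct, sM, h1]
  · by_cases h2 : y = Sum.inl i1
    · simp [Matrix.mulVec, dotProduct, sM, h2]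
    · simp [Matrix.mulVec, dotProduct, sM, h1, h2]

theorem sM_mem : (sM : Mat) ∈ SpG := by
  rw [mem_symplecticGroup_iff_preserves]
  intro u v
  rw [sympForm_eq_sum, sympForm_eq_sum]
  refine Finset.sum_congr rfl fun i _ => ?_
  rw [sM_mulVec, sM_mulVec]
  by_cases hi : i = i1
  · subst hi
    simp
    ring
  · have h1 : (Sum.inr i : Fin (j + 3) ⊕ Fin (j + 3)) ≠ Sum.inr i1 := fun h => hi (Sum.inr.inj h)
    have h2 : (Sum.inl i : Fin (j + 3) ⊕ Fin (j + 3)) ≠ Sum.inl i1 := fun h => hi (Sum.inl.inj h)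
    simp [hi]

end Cfsg.Agent.Helper22.RSp
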