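import Cfsg.Agent.Helper20.U11.Defs
import Cfsg.Agent.Helper7.M11S5

/-!
# Piece (D1) of board #5328 (helper20, S0420): the concrete 12-point representation of the
stabiliser of the standard dodecad and a point, with the ten candidate elements of order 4
-/

set_option autoImplicit false

namespace Cfsg.Agent.Helper22.M11Conc

open Cfsg Cfsg.Agent.Helper7 Cfsg.Agent.Helper20.U11

/-- Slot of a label in a labelling list: `none ↦ 0`, `some j ↦ j + 1`. -/
def slot : Option (ZMod 11) → ℕ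
  | none => 0
  | some j => ZMod.val j + 1

/-- The point with a given label. -/
def lab (E : List ℕ) (l : Option (ZMod 11)) : GolayPt := pt (E.getD (slot l) 0)

/-- The label of a point. -/
def unlab (E : List ℕ) (p : GolayPt) : Option (ZMod 11) :=
  match E.idxOf (idx p) with
  | 0 => none
  | k + 1 => some ((k : ℕ) : ZMod 11)

/-- A labelling of the 12 points off the standard dodecad. -/
structure Good (E : List ℕ) : Prop where
  ul : ∀ l : Option (ZMod 11), unlab E (lab E l) = l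
  lu : ∀ p : GolayPt, d0c.testBit (idx p) = true → lab E (unlab E p) = p
  off : ∀ l : Option (ZMod 11), d0c.testBit (idx (lab E l)) = true

def EA : List ℕ := [19, 10, 22, 20, 7, 11, 23, 21, 5, 15, 17, 14]
def EB : List ℕ := [19, 10, 14, 17, 15, 5, 21, 23, 11, 7, 20, 22]

set_option maxRecDepth 100000 in
theorem good_EA : Good EA := ⟨by decide +kernel, by decide +kernel, by decide +kernel⟩

set_option maxRecDepth 100000 in
theorem good_EB : Good EB := ⟨by decide +kernel, by decide +kernel, by decide +kernel⟩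


variable {E : List ℕ}

theorem off_apply (hE : Good E) {g : Equiv.Perm GolayPt} (hg : g ∈ M12) (l : Option (ZMod 11)) :
    d0c.testBit (idx (g (lab E l))) = true :=
  M12_inv_c g hg _ (hE.off l)

theorem lab_unlab_apply (hE : Good E) {g : Equiv.Perm GolayPt} (hg : g ∈ M12)
    (l : Option (ZMod 11)) : lab E (unlab E (g (lab E l))) = g (lab E l) :=
  hE.lu _ (off_apply hE hg l)

/-- The permutation of the labels induced by an element of `M12`. -/
def repPerm (hE : Good E) (g : Equiv.Perm GolayPt) (hg : g ∈ M12) :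
    Equiv.Perm (Option (ZMod 11)) where
  toFun l := unlab E (g (lab E l))
  invFun l := unlab E (g⁻¹ (lab E l))
  left_inv l := by
    show unlab E (g⁻¹ (lab E (unlab E (g (lab E l))))) = l
    rw [lab_unlab_apply hE hg]
    simp [hE.ul]
  right_inv l := by
    show unlab E (g (lab E (unlab E (g⁻¹ (lab E l))))) = l
    rw [lab_unlab_apply hE (M12.inv_mem hg)]
    simp [hE.ul]

theorem repPerm_apply (hE : Good E) (g : Equiv.Perm GolayPt) (hg : g ∈ M12)
    (l : Option (ZMod 11)) : repPerm hE g hg l = unlab E (g (lab E l)) := rfl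

/-- The action of the stabiliser of the standard dodecad and the point `0` on the labels. -/
def rep (hE : Good E) : ↥(fixG M12 [0]) →* Equiv.Perm (Option (ZMod 11)) where
  toFun g := repPerm hE g.1 g.2.1
  map_one' := by
    refine Equiv.ext (fun l => ?_)
    rw [repPerm_apply]
    show unlab E (lab E l) = l
    exact hE.ul l
  map_mul' g h := by
    refine Equiv.ext (fun l => ?_)
    rw [Equiv.Perm.mul_apply, repPerm_apply, repPerm_apply, repPerm_apply,
      lab_unlab_apply hE h.2.1]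
    rfl

theorem rep_apply (hE : Good E) (g : ↥(fixG M12 [0])) (l : Option (ZMod 11)) :
    rep hE g l = unlab E ((g : Equiv.Perm GolayPt) (lab E l)) := rfl

theorem m11Tabs_faithful :
    m11Tabs.all (fun l => !fixesMask d0c l || l == idT) = true := by decide +kernel

theorem rep_injective (hE : Good E) : Function.Injective (rep hE) := by
  rw [injective_iff_map_eq_one]
  intro g hg
  have hfix : ∀ p : GolayPt, d0c.testBit (idx p) = true → (g : Equiv.Perm GolayPt) p = p := by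
    intro p hp
    have h1 : rep hE g (unlab E p) = unlab E p := by rw [hg]; rfl
    rw [rep_apply, hE.lu p hp] at h1
    have h2 := congrArg (lab E) h1
    rw [hE.lu p hp, hE.lu _ (M12_inv_c g.1 g.2.1 p hp)] at h2
    exact h2
  obtain ⟨l, hl, hlt⟩ := m11_sift g.1 g.2
  have h3 : fixesMask d0c l = true := (fixesMask_iff hlt).mpr hfix
  have h4 := List.all_eq_true.mp m11Tabs_faithful l hl
  rw [h3] at h4
  simp only [Bool.not_true, Bool.false_or, beq_iff_eq] at h4
  rw [h4] at hlt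
  exact Subtype.ext (hlt.inj isTable_one)

theorem exists_of_table (hE : Good E) (l : List ℕ) (hl : l ∈ m11Tabs)
    (F : Option (ZMod 11) → Option (ZMod 11))
    (hF : ∀ p, unlab E (pt (l.getD (idx (lab E p)) 0)) = F p) :
    ∃ g, ∀ p, rep hE g p = F p := by
  obtain ⟨g, hg, ht⟩ := tabled_m11Tabs l hl
  refine ⟨⟨g, hg⟩, fun p => ?_⟩
  rw [rep_apply]
  show unlab E (g (lab E p)) = F p
  rw [ht.apply]
  exact hF p


/-- Table of an element of order 11. -/
def tX : List ℕ := [0, 2, 3, 6, 1, 15, 12, 11, 4, 16, 22, 23, 9, 18, 10, 17, 13, 14, 8, 19, 7, 5, 20, 21]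
/-- Table of its inverse. -/
def tXi : List ℕ := [0, 4, 1, 2, 8, 21, 3, 20, 18, 12, 14, 7, 6, 16, 17, 5, 9, 15, 13, 19, 22, 23, 10, 11]
/-- Table of an element of order 5 normalising it. -/
def tV : List ℕ := [0, 1, 6, 16, 18, 14, 8, 17, 9, 12, 10, 22, 2, 4, 15, 20, 13, 23, 3, 19, 21, 5, 7, 11]
/-- Table of an element of order 4 (number 0). -/
def tC0 : List ℕ := [0, 1, 2, 4, 18, 17, 8, 5, 12, 6, 19, 14, 9, 13, 11, 7, 3, 15, 16, 10, 23, 22, 20, 21]
/-- Table of an element of order 4 (number 1). -/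
def tC1 : List ℕ := [0, 1, 6, 18, 3, 23, 9, 14, 2, 8, 19, 15, 12, 4, 22, 17, 16, 20, 13, 10, 11, 7, 21, 5]
/-- Table of an element of order 4 (number 2). -/
def tC2 : List ℕ := [0, 1, 8, 3, 16, 11, 12, 15, 6, 9, 19, 20, 2, 18, 7, 23, 13, 21, 4, 10, 22, 17, 5, 14]
/-- Table of an element of order 4 (number 3). -/
def tC3 : List ℕ := [0, 1, 9, 16, 13, 22, 2, 20, 8, 12, 19, 21, 6, 3, 17, 11, 4, 5, 18, 10, 7, 23, 14, 15]
/-- Table of an element of order 4 (number 4). -/
def tC4 : List ℕ := [0, 1, 12, 13, 4, 7, 6, 21, 9, 2, 19, 5, 8, 16, 23, 22, 18, 14, 3, 10, 17, 11, 15, 20]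
theorem tabs_mem : ∀ l ∈ [tX, tXi, tV, tC0, tC1, tC2, tC3, tC4], l ∈ m11Tabs := by decide +kernel
theorem tX_mem : tX ∈ m11Tabs := tabs_mem _ (by simp)
theorem tXi_mem : tXi ∈ m11Tabs := tabs_mem _ (by simp)
theorem tV_mem : tV ∈ m11Tabs := tabs_mem _ (by simp)
theorem tC0_mem : tC0 ∈ m11Tabs := tabs_mem _ (by simp)
theorem tC1_mem : tC1 ∈ m11Tabs := tabs_mem _ (by simp)
theorem tC2_mem : tC2 ∈ m11Tabs := tabs_mem _ (by simp)
theorem tC3_mem : tC3 ∈ m11Tabs := tabs_mem _ (by simp)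
theorem tC4_mem : tC4 ∈ m11Tabs := tabs_mem _ (by simp)

set_option maxRecDepth 100000 in
theorem xA : ∀ p, unlab EA (pt (tX.getD (idx (lab EA p)) 0)) = x0f p := by decide +kernel
set_option maxRecDepth 100000 in
theorem vA : ∀ p, unlab EA (pt (tV.getD (idx (lab EA p)) 0)) = v0f p := by decide +kernel
set_option maxRecDepth 100000 in
theorem xB : ∀ p, unlab EB (pt (tXi.getD (idx (lab EB p)) 0)) = x0f p := by decide +kernel
set_option maxRecDepth 100000 in
theorem vB : ∀ p, unlab EB (pt (tV.getD (idx (lab EB p)) 0)) = v0f p := by decide +kernel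
set_option maxRecDepth 100000 in
theorem cA_2_5 : ∀ p, unlab EA (pt (tC0.getD (idx (lab EA p)) 0)) = candFun 2 5 p := by decide +kernel
set_option maxRecDepth 100000 in
theorem cA_6_4 : ∀ p, unlab EA (pt (tC1.getD (idx (lab EA p)) 0)) = candFun 6 4 p := by decide +kernel
set_option maxRecDepth 100000 in
theorem cA_7_1 : ∀ p, unlab EA (pt (tC2.getD (idx (lab EA p)) 0)) = candFun 7 1 p := by decide +kernel
set_option maxRecDepth 100000 in
theorem cA_10_3 : ∀ p, unlab EA (pt (tC3.getD (idx (lab EA p)) 0)) = candFun 10 3 p := by decide +kernel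
set_option maxRecDepth 100000 in
theorem cA_8_9 : ∀ p, unlab EA (pt (tC4.getD (idx (lab EA p)) 0)) = candFun 8 9 p := by decide +kernel
set_option maxRecDepth 100000 in
theorem cB_7_3 : ∀ p, unlab EB (pt (tC0.getD (idx (lab EB p)) 0)) = candFun 7 3 p := by decide +kernel
set_option maxRecDepth 100000 in
theorem cB_10_9 : ∀ p, unlab EB (pt (tC1.getD (idx (lab EB p)) 0)) = candFun 10 9 p := by decide +kernel
set_option maxRecDepth 100000 in
theorem cB_8_5 : ∀ p, unlab EB (pt (tC2.getD (idx (lab EB p)) 0)) = candFun 8 5 p := by decide +kernel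
set_option maxRecDepth 100000 in
theorem cB_2_4 : ∀ p, unlab EB (pt (tC3.getD (idx (lab EB p)) 0)) = candFun 2 4 p := by decide +kernel
set_option maxRecDepth 100000 in
theorem cB_6_1 : ∀ p, unlab EB (pt (tC4.getD (idx (lab EB p)) 0)) = candFun 6 1 p := by decide +kernel

theorem conc_A (r r2 : ZMod 11) (l : List ℕ) (hl : l ∈ m11Tabs)
    (h : ∀ p, unlab EA (pt (l.getD (idx (lab EA p)) 0)) = candFun r r2 p) :
    ∃ σ : ↥(fixG M12 [0]) →* Equiv.Perm (Option (ZMod 11)), Function.Injective σ ∧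
      (∃ g, ∀ p, σ g p = x0f p) ∧ (∃ g, ∀ p, σ g p = v0f p) ∧ ∃ g, ∀ p, σ g p = candFun r r2 p :=
  ⟨rep good_EA, rep_injective good_EA, exists_of_table good_EA tX tX_mem _ xA,
    exists_of_table good_EA tV tV_mem _ vA, exists_of_table good_EA l hl _ h⟩

theorem conc_B (r r2 : ZMod 11) (l : List ℕ) (hl : l ∈ m11Tabs)
    (h : ∀ p, unlab EB (pt (l.getD (idx (lab EB p)) 0)) = candFun r r2 p) :
    ∃ σ : ↥(fixG M12 [0]) →* Equiv.Perm (Option (ZMod 11)), Function.Injective σ ∧
      (∃ g, ∀ p, σ g p = x0f p) ∧ (∃ g, ∀ p, σ g p = v0f p) ∧ ∃ g, ∀ p, σ g p = candFun r r2 p :=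
  ⟨rep good_EB, rep_injective good_EB, exists_of_table good_EB tXi tXi_mem _ xB,
    exists_of_table good_EB tV tV_mem _ vB, exists_of_table good_EB l hl _ h⟩

theorem exists_conc_rep (r r2 : ZMod 11) (hr : (r, r2) ∈ goodPairs) :
    ∃ σ : ↥(Cfsg.Agent.Helper7.fixG Cfsg.Agent.Helper7.M12 [0]) →* Equiv.Perm (Option (ZMod 11)),
      Function.Injective σ ∧ (∃ g, ∀ p, σ g p = x0f p) ∧ (∃ g, ∀ p, σ g p = v0f p) ∧
        ∃ g, ∀ p, σ g p = candFun r r2 p := by
  simp only [goodPairs, List.mem_cons, Prod.mk.injEq, List.not_mem_nil, or_false] at hr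
  rcases hr with ⟨rfl, rfl⟩ | ⟨rfl, rfl⟩ | ⟨rfl, rfl⟩ | ⟨rfl, rfl⟩ | ⟨rfl, rfl⟩ | ⟨rfl, rfl⟩ | ⟨rfl, rfl⟩ | ⟨rfl, rfl⟩ | ⟨rfl, rfl⟩ | ⟨rfl, rfl⟩
  · exact conc_B _ _ tC3 tC3_mem cB_2_4
  · exact conc_A _ _ tC0 tC0_mem cA_2_5
  · exact conc_B _ _ tC4 tC4_mem cB_6_1
  · exact conc_A _ _ tC1 tC1_mem cA_6_4
  · exact conc_A _ _ tC2 tC2_mem cA_7_1
  · exact conc_B _ _ tC0 tC0_mem cB_7_3
  · exact conc_B _ _ tC2 tC2_mem cB_8_5
  · exact conc_A _ _ tC4 tC4_mem cA_8_9
  · exact conc_A _ _ tC3 tC3_mem cA_10_3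
  · exact conc_B _ _ tC1 tC1_mem cB_10_9

end Cfsg.Agent.Helper22.M11Conc
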