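import Mathlib
import Cfsg.Agent.Helper21.THDefs
import Cfsg.Agent.Lib.Cores

/-!
# Piece (T2) of board #5569 (helper21, S3797): the normalizer of a Sylow 2-subgroup controls fusion
of involutions when `O_{2',2}(G)` has odd index
-/

set_option autoImplicit false

namespace Cfsg.Agent.Helper22.THT2

open Subgroup Cfsg Cfsg.Agent.Helper21.TH

universe u

variable {G : Type u} [Group G] [Finite G]

omit [Finite G] in
theorem mem_of_coprime_index {N : Subgroup G} [N.Normal] {x : G}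
    (h : (orderOf x).Coprime N.index) : x ∈ N := by
  obtain ⟨m, hm⟩ := exists_pow_eq_self_of_coprime h.symm
  rw [← hm]
  exact N.pow_mem (N.pow_index_mem x) m

theorem sylow_trans (hsol : Group.IsSolvable G) (S : Sylow 2 G) (h1 : OneClass G)
    (hcore : ¬ 2 ∣ (pCore 2 (G ⧸ pPrimeCore 2 G)).index) :
    ∀ x y : G, x ∈ (S : Subgroup G) → y ∈ (S : Subgroup G) → x ≠ 1 → x ^ 2 = 1 → y ≠ 1 →
      y ^ 2 = 1 → ∃ n ∈ normalizer ((S : Subgroup G) : Set G), n * x * n⁻¹ = y := by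
  intro x y hxS hyS hx1 hx2 hy1 hy2
  have hsurj : Function.Surjective (QuotientGroup.mk' (pPrimeCore 2 G)) :=
    QuotientGroup.mk'_surjective _
  set M : Subgroup G := (pCore 2 (G ⧸ pPrimeCore 2 G)).comap (QuotientGroup.mk' (pPrimeCore 2 G))
    with hM
  have hMidx : M.index = (pCore 2 (G ⧸ pPrimeCore 2 G)).index :=
    Subgroup.index_comap_of_surjective _ hsurj
  -- `S ≤ M`
  have hSM : (S : Subgroup G) ≤ M := by
    intro s hs
    apply mem_of_coprime_index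
    rw [hMidx]
    obtain ⟨j, hj⟩ := S.isPGroup' ⟨s, hs⟩
    have hj' : s ^ 2 ^ j = 1 := by
      have := congrArg Subtype.val hj
      rwa [Subgroup.coe_pow] at this
    exact Nat.Coprime.coprime_dvd_left (orderOf_dvd_of_pow_eq_one hj')
      (Nat.Coprime.pow_left j ((Nat.Prime.coprime_iff_not_dvd Nat.prime_two).mpr hcore))
  -- Frattini
  have hfrat : normalizer ((S : Subgroup G) : Set G) ⊔ M = ⊤ := Sylow.normalizer_sup_eq_top' S hSM
  obtain ⟨g, hg⟩ := isConj_iff.mp (h1 x y hx1 hx2 hy1 hy2)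
  have hgmem : g ∈ ((normalizer ((S : Subgroup G) : Set G) ⊔ M : Subgroup G) : Set G) := by
    rw [hfrat]; trivial
  rw [Subgroup.mul_normal] at hgmem
  obtain ⟨n, hn, m, hm, rfl⟩ := Set.mem_mul.mp hgmem
  -- `m = s * o` with `s ∈ S`, `o ∈ O`
  have hmbar : QuotientGroup.mk' (pPrimeCore 2 G) m ∈
      ((S.mapSurjective hsurj : Sylow 2 (G ⧸ pPrimeCore 2 G)) : Subgroup (G ⧸ pPrimeCore 2 G)) :=
    Cfsg.Agent.Lib.pCore_le_sylow (S.mapSurjective hsurj) hm
  rw [Sylow.coe_mapSurjective] at hmbar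
  obtain ⟨s, hs, hsm⟩ := hmbar
  have ho : s⁻¹ * m ∈ pPrimeCore 2 G := QuotientGroup.eq.mp hsm
  set o := s⁻¹ * m with hodef
  have hmso : m = s * o := by rw [hodef]; group
  -- `n * s` normalizes `S`
  have hns : n * s ∈ normalizer ((S : Subgroup G) : Set G) :=
    Subgroup.mul_mem _ hn (Subgroup.le_normalizer hs)
  refine ⟨n * s, hns, ?_⟩
  -- `y' := (n s)⁻¹ y (n s) = o x o⁻¹ ∈ S`
  have hy' : o * x * o⁻¹ = (n * s)⁻¹ * y * (n * s) := by
    rw [← hg, hmso]; group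
  have hy'S : o * x * o⁻¹ ∈ (S : Subgroup G) := by
    rw [hy']
    have := (Subgroup.mem_set_normalizer_iff''.mp hns y).mp hyS
    exact this
  -- `x⁻¹ * (o x o⁻¹) ∈ O ⊓ S = ⊥`
  have hO : x⁻¹ * (o * x * o⁻¹) ∈ pPrimeCore 2 G := by
    have h2 : x⁻¹ * o * x⁻¹⁻¹ ∈ pPrimeCore 2 G :=
      (inferInstance : (pPrimeCore 2 G).Normal).conj_mem o ho x⁻¹
    have h3 := Subgroup.mul_mem _ h2 (Subgroup.inv_mem _ ho)
    have e : x⁻¹ * o * x⁻¹⁻¹ * o⁻¹ = x⁻¹ * (o * x * o⁻¹) := by group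
    rwa [e] at h3
  have hSS : x⁻¹ * (o * x * o⁻¹) ∈ (S : Subgroup G) :=
    Subgroup.mul_mem _ (Subgroup.inv_mem _ hxS) hy'S
  have hdisj : (S : Subgroup G) ⊓ pPrimeCore 2 G = ⊥ := by
    apply (Subgroup.disjoint_of_coprime_natCard _).eq_bot
    obtain ⟨k, hk⟩ := IsPGroup.iff_card.mp S.isPGroup'
    rw [hk]
    exact Nat.Coprime.pow_left k (Cfsg.Agent.Lib.card_pPrimeCore_coprime 2).symm
  have h1' : x⁻¹ * (o * x * o⁻¹) = 1 := by
    have : x⁻¹ * (o * x * o⁻¹) ∈ (S : Subgroup G) ⊓ pPrimeCore 2 G := ⟨hSS, hO⟩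
    rwa [hdisj, Subgroup.mem_bot] at this
  have hxx : o * x * o⁻¹ = x := by
    have := congrArg (fun t => x * t) h1'
    simpa using this
  -- conclude
  have : (n * s)⁻¹ * y * (n * s) = x := hy'.symm.trans hxx
  rw [← this]; group

end Cfsg.Agent.Helper22.THT2
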