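import Mathlib
import Cfsg.Agent.Helper21.Quasisimple
import Cfsg.Agent.Helper22.Conj

/-!
# Subgroups of the alternating group supported on a finset
-/

set_option autoImplicit false

namespace Cfsg.Agent.Helper22

open Equiv Equiv.Perm

variable {α : Type*} [Fintype α] [DecidableEq α]

/-- The even permutations supported in `s`. -/
def supA (s : Finset α) : Subgroup (alternatingGroup α) := (alternatingGroup.ofSubtype s).range

theorem mem_supA {s : Finset α} {k : alternatingGroup α} :
    k ∈ supA s ↔ (k : Perm α).support ⊆ s :=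
  alternatingGroup.mem_range_ofSubtype_iff s k

theorem mem_supA_iff_fix {s : Finset α} {k : alternatingGroup α} :
    k ∈ supA s ↔ ∀ a, a ∉ s → (k : Perm α) a = a := by
  rw [mem_supA]
  constructor
  · intro h a ha
    by_contra hne
    exact ha (h (Perm.mem_support.mpr hne))
  · intro h a ha
    by_contra has
    exact (Perm.mem_support.mp ha) (h a has)

theorem supA_mono {s t : Finset α} (h : s ⊆ t) : supA s ≤ supA t := by
  intro k hk
  rw [mem_supA] at hk ⊢
  exact hk.trans h

theorem supA_inf (s t : Finset α) : supA s ⊓ supA t = supA (s ∩ t) := by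
  ext k
  rw [Subgroup.mem_inf, mem_supA, mem_supA, mem_supA, Finset.subset_inter_iff]

/-- The 3-cycle `a → c → b → a`. -/
def tc (a b c : α) (hab : a ≠ b) (hac : a ≠ c) (hbc : b ≠ c) : alternatingGroup α :=
  ⟨swap a b * swap a c, (isThreeCycle_swap_mul_swap_same hab hac hbc).mem_alternatingGroup⟩

theorem tc_apply_a {a b c : α} (hab : a ≠ b) (hac : a ≠ c) (hbc : b ≠ c) :
    (tc a b c hab hac hbc : Perm α) a = c := by
  simp only [tc, Perm.mul_apply, swap_apply_left]
  exact swap_apply_of_ne_of_ne hac.symm hbc.symm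

theorem tc_apply_c {a b c : α} (hab : a ≠ b) (hac : a ≠ c) (hbc : b ≠ c) :
    (tc a b c hab hac hbc : Perm α) c = b := by
  simp only [tc, Perm.mul_apply, swap_apply_right, swap_apply_left]

theorem tc_apply_of_ne {a b c x : α} (hab : a ≠ b) (hac : a ≠ c) (hbc : b ≠ c)
    (hxa : x ≠ a) (hxb : x ≠ b) (hxc : x ≠ c) : (tc a b c hab hac hbc : Perm α) x = x := by
  simp only [tc, Perm.mul_apply]
  rw [swap_apply_of_ne_of_ne hxa hxc, swap_apply_of_ne_of_ne hxa hxb]

theorem tc_mem_supA {s : Finset α} {a b c : α} (hab : a ≠ b) (hac : a ≠ c) (hbc : b ≠ c)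
    (ha : a ∈ s) (hb : b ∈ s) (hc : c ∈ s) : tc a b c hab hac hbc ∈ supA s := by
  rw [mem_supA_iff_fix]
  intro x hx
  apply tc_apply_of_ne
  · rintro rfl; exact hx ha
  · rintro rfl; exact hx hb
  · rintro rfl; exact hx hc

/-- Elements supported in `sᶜ` centralize `supA s`. -/
theorem supA_compl_le_centralizer (s : Finset α) :
    supA sᶜ ≤ Subgroup.centralizer (supA s : Set (alternatingGroup α)) := by
  intro k hk
  rw [Subgroup.mem_centralizer_iff]
  intro h hh
  rw [SetLike.mem_coe, mem_supA] at hh
  rw [mem_supA] at hk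
  have hd : Perm.Disjoint (h : Perm α) (k : Perm α) := by
    rw [Perm.disjoint_iff_disjoint_support]
    exact Finset.disjoint_of_subset_left hh
      (Finset.disjoint_of_subset_right hk disjoint_compl_right)
  apply Subtype.ext
  simpa using hd.commute.eq

/-- The centralizer of `supA s` is `supA sᶜ`, if `s` has at least 4 elements. -/
theorem centralizer_supA {s : Finset α} (hs : 4 ≤ s.card) :
    Subgroup.centralizer (supA s : Set (alternatingGroup α)) = supA sᶜ := by
  apply le_antisymm _ (supA_compl_le_centralizer s)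
  intro k hk
  rw [Subgroup.mem_centralizer_iff] at hk
  rw [mem_supA_iff_fix]
  intro a ha
  rw [Finset.mem_compl, not_not] at ha
  by_contra hne
  by_cases hka : (k : Perm α) a ∈ s
  · -- `b = k a ∈ s`, `b ≠ a`: choose `c, d ∈ s` outside `{a, b}`
    have hcard : 1 < ((s.erase a).erase ((k : Perm α) a)).card := by
      have h1 : (s.erase a).card = s.card - 1 := Finset.card_erase_of_mem ha
      have h2 : ((s.erase a).erase ((k : Perm α) a)).card = (s.erase a).card - 1 :=
        Finset.card_erase_of_mem (Finset.mem_erase.mpr ⟨hne, hka⟩)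
      omega
    obtain ⟨c, hc, d, hd, hcd⟩ := Finset.one_lt_card.mp hcard
    rw [Finset.mem_erase, Finset.mem_erase] at hc hd
    obtain ⟨hcb, hca, hcs⟩ := hc
    obtain ⟨hdb, hda, hds⟩ := hd
    have hσ := hk _ (tc_mem_supA (Ne.symm hcb) (Ne.symm hdb) hcd hka hcs hds)
    have h1 := congrArg (fun g : alternatingGroup α => (g : Perm α) a) hσ
    simp only [Subgroup.coe_mul, Perm.mul_apply] at h1
    rw [tc_apply_a, tc_apply_of_ne _ _ _ (Ne.symm hne) (Ne.symm hca) (Ne.symm hda)] at h1
    exact hdb h1
  · -- `k a ∉ s`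
    have hcard : 1 < (s.erase a).card := by
      have h1 : (s.erase a).card = s.card - 1 := Finset.card_erase_of_mem ha
      omega
    obtain ⟨b, hb, c, hc, hbc⟩ := Finset.one_lt_card.mp hcard
    rw [Finset.mem_erase] at hb hc
    have hσ := hk _ (tc_mem_supA (Ne.symm hb.1) (Ne.symm hc.1) hbc ha hb.2 hc.2)
    have h1 := congrArg (fun g : alternatingGroup α => (g : Perm α) a) hσ
    simp only [Subgroup.coe_mul, Perm.mul_apply] at h1
    rw [tc_apply_a] at h1
    have h2 : (tc a b c (Ne.symm hb.1) (Ne.symm hc.1) hbc : Perm α) ((k : Perm α) a) =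
        (k : Perm α) a := by
      apply tc_apply_of_ne
      · exact hne
      · rintro h; exact hka (h ▸ hb.2)
      · rintro h; exact hka (h ▸ hc.2)
    rw [h2] at h1
    exact hc.1 ((k : Perm α).injective h1.symm)

/-- Conjugating `supA s` by `g` gives `supA (g '' s)`. -/
theorem map_conj_supA (g : alternatingGroup α) (s : Finset α) :
    (supA s).map (MulAut.conj g).toMonoidHom = supA (s.image ⇑(g : Perm α)) := by
  ext k
  rw [mem_map_conj_iff, mem_supA_iff_fix, mem_supA_iff_fix]
  constructor
  · intro h b hb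
    have hb' : (g : Perm α)⁻¹ b ∉ s := by
      intro hmem
      apply hb
      rw [Finset.mem_image]
      exact ⟨_, hmem, by simp⟩
    have := h _ hb'
    simp only [Subgroup.coe_mul, Subgroup.coe_inv, Perm.mul_apply] at this
    have h2 := congrArg (g : Perm α) this
    simpa using h2
  · intro h a ha
    have ha' : (g : Perm α) a ∉ s.image ⇑(g : Perm α) := by
      intro hmem
      rw [Finset.mem_image] at hmem
      obtain ⟨a', ha', hga⟩ := hmem
      exact ha ((g : Perm α).injective hga ▸ ha')
    have := h _ ha'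
    simp only [Subgroup.coe_mul, Subgroup.coe_inv, Perm.mul_apply]
    rw [this]
    simp

/-- An even permutation supported on at most 3 points has order dividing 3. -/
theorem pow_three_eq_one_of_mem_supA {s : Finset α} (hs : s.card ≤ 3) {k : alternatingGroup α}
    (hk : k ∈ supA s) : k ^ 3 = 1 := by
  rw [mem_supA] at hk
  have hcard : (k : Perm α).support.card ≤ 3 := (Finset.card_le_card hk).trans hs
  have hsign : Perm.sign (k : Perm α) = 1 := Perm.mem_alternatingGroup.mp k.2
  apply Subtype.ext
  rw [Subgroup.coe_pow, Subgroup.coe_one]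
  have h4 : (k : Perm α).support.card = 0 ∨ (k : Perm α).support.card = 1 ∨
      (k : Perm α).support.card = 2 ∨ (k : Perm α).support.card = 3 := by omega
  rcases h4 with h | h | h | h
  · rw [Perm.card_support_eq_zero] at h
    rw [h, one_pow]
  · exact absurd h (Perm.card_support_ne_one _)
  · rw [Perm.card_support_eq_two] at h
    rw [h.sign_eq] at hsign
    exact absurd hsign (by decide)
  · rw [card_support_eq_three_iff] at h
    rw [← h.orderOf]
    exact pow_orderOf_eq_one _

theorem odd_card_supA {s : Finset α} (hs : s.card ≤ 3) : Odd (Nat.card ↥(supA s)) := by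
  have hp : IsPGroup 3 ↥(supA s) := by
    intro k
    refine ⟨1, ?_⟩
    apply Subtype.ext
    have := pow_three_eq_one_of_mem_supA hs k.2
    simpa using this
  haveI : Fact (Nat.Prime 3) := ⟨by norm_num⟩
  obtain ⟨m, hm⟩ := hp.exists_card_eq
  rw [hm]
  exact Odd.pow (by decide)

/-- `supA s ≃* alternatingGroup s`. -/
noncomputable def supAEquiv (s : Finset α) : alternatingGroup ↥s ≃* ↥(supA s) :=
  MonoidHom.ofInjective (alternatingGroup.ofSubtype_injective (s := s))

end Cfsg.Agent.Helper22

namespace Cfsg.Agent.Helper22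

open Equiv Equiv.Perm Cfsg
open scoped commutatorElement

/-- A non-abelian simple group is quasisimple. -/
theorem isQuasisimple_of_isSimpleGroup {X : Type*} [Group X] (hs : IsSimpleGroup X)
    (hna : ∃ x y : X, x * y ≠ y * x) : IsQuasisimple X := by
  obtain ⟨x, y, hxy⟩ := hna
  have hcomm : commutator X = ⊤ := by
    rcases (inferInstance : (commutator X).Normal).eq_bot_or_eq_top with h | h
    · exfalso
      apply hxy
      have h1 : ⁅x, y⁆ ∈ commutator X := Subgroup.commutator_mem_commutator
        (Subgroup.mem_top x) (Subgroup.mem_top y)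
      rw [h, Subgroup.mem_bot, commutatorElement_def] at h1
      calc x * y = (x * y * x⁻¹ * y⁻¹) * (y * x) := by group
        _ = y * x := by rw [h1, one_mul]
    · exact h
  have hcen : Subgroup.center X = ⊥ := by
    rcases (inferInstance : (Subgroup.center X).Normal).eq_bot_or_eq_top with h | h
    · exact h
    · exfalso
      apply hxy
      have : y ∈ Subgroup.center X := by rw [h]; trivial
      exact Subgroup.mem_center_iff.mp this x
  refine ⟨⟨hcomm⟩, ?_⟩
  haveI : Nontrivial (X ⧸ Subgroup.center X) := by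
    rw [hcen]
    exact (QuotientGroup.quotientBot (G := X)).toEquiv.nontrivial
  exact IsSimpleGroup.isSimpleGroup_of_surjective (QuotientGroup.mk' (Subgroup.center X))
    (QuotientGroup.mk'_surjective _)

variable {α : Type*} [Fintype α] [DecidableEq α]

/-- `supA s` is quasisimple when `s` has at least 5 elements. -/
theorem isQuasisimple_supA {s : Finset α} (hs : 5 ≤ s.card) : IsQuasisimple ↥(supA s) := by
  have hcard : Nat.card ↥s = s.card := by simp
  have h1 : IsSimpleGroup (alternatingGroup ↥s) :=
    alternatingGroup.isSimpleGroup (by rw [hcard]; exact hs)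
  have h2 : ∃ x y : alternatingGroup ↥s, x * y ≠ y * x := by
    by_contra hcon
    push Not at hcon
    have : IsMulCommutative (alternatingGroup ↥s) := ⟨⟨hcon⟩⟩
    rw [alternatingGroup.isMulCommutative_iff_card_le_three, hcard] at this
    omega
  exact Cfsg.Agent.Helper21.IsQuasisimple.of_mulEquiv (supAEquiv s)
    (isQuasisimple_of_isSimpleGroup h1 h2)

/-- Two supported subgroups that do not commute. -/
theorem commutator_supA_ne_bot {s t : Finset α} (hs : 3 ≤ s.card) (ht : 3 ≤ t.card)
    {a b : α} (has : a ∈ s) (hat : a ∈ t) (hbs : b ∈ s) (hbt : b ∉ t) :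
    ⁅supA s, supA t⁆ ≠ ⊥ := by
  have hab : a ≠ b := by rintro rfl; exact hbt hat
  -- `c ∈ s` outside `{a, b}`
  have hc : ∃ c ∈ s, c ≠ a ∧ c ≠ b := by
    have hcard : 0 < ((s.erase a).erase b).card := by
      have h1 : (s.erase a).card = s.card - 1 := Finset.card_erase_of_mem has
      have h2 : ((s.erase a).erase b).card = (s.erase a).card - 1 :=
        Finset.card_erase_of_mem (Finset.mem_erase.mpr ⟨hab.symm, hbs⟩)
      omega
    obtain ⟨c, hc⟩ := Finset.card_pos.mp hcard
    rw [Finset.mem_erase, Finset.mem_erase] at hc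
    exact ⟨c, hc.2.2, hc.2.1, hc.1⟩
  obtain ⟨c, hcs, hca, hcb⟩ := hc
  -- `d, e ∈ t` outside `{a}`
  have hde : ∃ d ∈ t, ∃ e ∈ t, d ≠ a ∧ e ≠ a ∧ d ≠ e := by
    have hcard : 1 < (t.erase a).card := by
      have h1 : (t.erase a).card = t.card - 1 := Finset.card_erase_of_mem hat
      omega
    obtain ⟨d, hd, e, he, hde⟩ := Finset.one_lt_card.mp hcard
    rw [Finset.mem_erase] at hd he
    exact ⟨d, hd.2, e, he.2, hd.1, he.1, hde⟩
  obtain ⟨d, hdt, e, het, hda, hea, hde⟩ := hde
  have hbd : b ≠ d := by rintro rfl; exact hbt hdt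
  have hbe : b ≠ e := by rintro rfl; exact hbt het
  intro hbot
  rw [Subgroup.commutator_eq_bot_iff_le_centralizer] at hbot
  have hx : tc a c b (Ne.symm hca) hab hcb ∈ supA s :=
    tc_mem_supA _ _ _ has hcs hbs
  have hy : tc a d e (Ne.symm hda) (Ne.symm hea) hde ∈ supA t := tc_mem_supA _ _ _ hat hdt het
  have hcomm := Subgroup.mem_centralizer_iff.mp (hbot hx) _ hy
  have h1 := congrArg (fun g : alternatingGroup α => (g : Perm α) a) hcomm
  simp only [Subgroup.coe_mul, Perm.mul_apply] at h1
  rw [tc_apply_a, tc_apply_a, tc_apply_of_ne _ _ _ hab.symm hbd hbe] at h1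
  -- h1 : y b... 
  have h2 : (tc a c b (Ne.symm hca) hab hcb : Perm α) e = b := h1.symm
  have h3 : (tc a c b (Ne.symm hca) hab hcb : Perm α) a = b := tc_apply_a _ _ _
  exact hea ((tc a c b (Ne.symm hca) hab hcb : Perm α).injective
    (h2.trans h3.symm))

end Cfsg.Agent.Helper22
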