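-- helper22: piece (C-odd) of #5812/#5817 for helper34 (S4067): fusing data, odd least prime.
import Mathlib
import Cfsg.Agent.Helper34.AutOrb.Defs
import Cfsg.Agent.Helper11.AutOrbB

set_option autoImplicit false

namespace Cfsg.Agent.Helper22.AutOrbCodd

open Cfsg.Agent.Helper34.AutOrb

variable {G : Type*} [Group G]

theorem comm_mem (h g : G) : h * g * h⁻¹ * g⁻¹ ∈ commutator G := by
  have := Subgroup.commutator_mem_commutator (Subgroup.mem_top h) (Subgroup.mem_top g)
  rwa [commutatorElement_def] at this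

/-- Moving `g` past `h ^ k` when `h * g = c * g * h` with `c` central. -/
theorem pow_mul_comm_aux (c h g : G) (hc : ∀ x : G, x * c = c * x) (e : h * g = c * g * h)
    (k : ℕ) : h ^ k * g = c ^ k * g * h ^ k := by
  induction k with
  | zero => simp
  | succ k ih =>
    calc h ^ (k + 1) * g = h ^ k * (h * g) := by rw [pow_succ, mul_assoc]
      _ = h ^ k * (c * g * h) := by rw [e]
      _ = (h ^ k * c) * g * h := by simp only [mul_assoc]
      _ = (c * h ^ k) * g * h := by rw [hc (h ^ k)]
      _ = c * (h ^ k * g) * h := by simp only [mul_assoc]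
      _ = c * (c ^ k * g * h ^ k) * h := by rw [ih]
      _ = c ^ (k + 1) * g * h ^ (k + 1) := by
        rw [pow_succ' c, pow_succ h]; simp only [mul_assoc]

/-- The power formula when `h * g = c * g * h` with `c` central. -/
theorem mul_pow_aux (c g h : G) (hc : ∀ x : G, x * c = c * x) (e : h * g = c * g * h)
    (k : ℕ) : (g * h) ^ k = g ^ k * h ^ k * c ^ (Nat.choose k 2) := by
  have hcp : ∀ (j : ℕ) (x : G), x * c ^ j = c ^ j * x := by
    intro j x
    have : Commute x c := hc x
    exact (this.pow_right j).eq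
  induction k with
  | zero => simp
  | succ k ih =>
    have hch : Nat.choose (k + 1) 2 = Nat.choose k 2 + k := by
      rw [show (2 : ℕ) = 1 + 1 from rfl, Nat.choose_succ_succ, Nat.choose_one_right, add_comm]
    have e1 := pow_mul_comm_aux c h g hc e k
    calc (g * h) ^ (k + 1) = (g * h) ^ k * (g * h) := pow_succ _ _
      _ = g ^ k * h ^ k * c ^ (Nat.choose k 2) * (g * h) := by rw [ih]
      _ = g ^ k * h ^ k * (c ^ (Nat.choose k 2) * (g * h)) := by
        simp only [mul_assoc]
      _ = g ^ k * h ^ k * ((g * h) * c ^ (Nat.choose k 2)) := by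
        rw [hcp (Nat.choose k 2) (g * h)]
      _ = g ^ k * (h ^ k * g) * h * c ^ (Nat.choose k 2) := by
        simp only [mul_assoc]
      _ = g ^ k * (c ^ k * g * h ^ k) * h * c ^ (Nat.choose k 2) := by rw [e1]
      _ = (g ^ k * c ^ k) * (g * h ^ k * h * c ^ (Nat.choose k 2)) := by simp only [mul_assoc]
      _ = (c ^ k * g ^ k) * (g * h ^ k * h * c ^ (Nat.choose k 2)) := by rw [hcp k (g ^ k)]
      _ = c ^ k * ((g ^ k * g) * (h ^ k * h) * c ^ (Nat.choose k 2)) := by simp only [mul_assoc]
      _ = ((g ^ k * g) * (h ^ k * h) * c ^ (Nat.choose k 2)) * c ^ k := by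
        rw [hcp k]
      _ = g ^ (k + 1) * h ^ (k + 1) * c ^ (Nat.choose (k + 1) 2) := by
        rw [hch, pow_add c, pow_succ g, pow_succ h]
        simp only [mul_assoc]

/-- In class two, `x ↦ x * g * x⁻¹ * g⁻¹` is a homomorphism. -/
noncomputable def commHom (hB1 : commutator G ≤ Subgroup.center G) (g : G) : G →* G :=
  MonoidHom.mk' (fun x => x * g * x⁻¹ * g⁻¹) (by
    intro x y
    have hc : ∀ z : G, z * (y * g * y⁻¹ * g⁻¹) = (y * g * y⁻¹ * g⁻¹) * z :=
      fun z => Subgroup.mem_center_iff.mp (hB1 (comm_mem y g)) z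
    calc x * y * g * (x * y)⁻¹ * g⁻¹ = x * (y * g * y⁻¹ * g⁻¹) * (g * x⁻¹ * g⁻¹) := by group
      _ = (y * g * y⁻¹ * g⁻¹) * x * (g * x⁻¹ * g⁻¹) := by rw [hc x]
      _ = (y * g * y⁻¹ * g⁻¹) * (x * g * x⁻¹ * g⁻¹) := by group
      _ = (x * g * x⁻¹ * g⁻¹) * (y * g * y⁻¹ * g⁻¹) := (hc _).symm)

@[simp] theorem commHom_apply (hB1 : commutator G ≤ Subgroup.center G) (g x : G) :
    commHom hB1 g x = x * g * x⁻¹ * g⁻¹ := rfl

theorem mem_ker_commHom (hB1 : commutator G ≤ Subgroup.center G) (g x : G) :
    x ∈ (commHom hB1 g).ker ↔ x * g = g * x := by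
  rw [MonoidHom.mem_ker, commHom_apply]
  constructor
  · intro h
    have : x * g * x⁻¹ = g := by
      rw [← mul_inv_eq_one]; exact h
    calc x * g = x * g * x⁻¹ * x := by group
      _ = g * x := by rw [this]
  · intro h
    rw [h]; group

theorem range_commHom_le (hB1 : commutator G ≤ Subgroup.center G) (g : G) :
    (commHom hB1 g).range ≤ commutator G := by
  rintro _ ⟨x, rfl⟩
  exact comm_mem x g

/-- The `p`-th power map is a homomorphism in class two when commutators are killed by
`choose p 2`. -/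
noncomputable def powHom (hB1 : commutator G ≤ Subgroup.center G) (p : ℕ)
    (hch : ∀ c ∈ commutator G, c ^ (Nat.choose p 2) = 1) : G →* G :=
  MonoidHom.mk' (fun x => x ^ p) (by
    intro x y
    have hc : ∀ z : G, z * (y * x * y⁻¹ * x⁻¹) = (y * x * y⁻¹ * x⁻¹) * z :=
      fun z => Subgroup.mem_center_iff.mp (hB1 (comm_mem y x)) z
    have := mul_pow_aux (y * x * y⁻¹ * x⁻¹) x y hc (by group) p
    rw [this, hch _ (comm_mem y x), mul_one])

@[simp] theorem powHom_apply (hB1 : commutator G ≤ Subgroup.center G) (p : ℕ)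
    (hch : ∀ c ∈ commutator G, c ^ (Nat.choose p 2) = 1) (x : G) :
    powHom hB1 p hch x = x ^ p := rfl

theorem exists_fuseData_of [Finite G] {p : ℕ} (hp : p.Prime) (hp2 : p ≠ 2)
    (hna : ¬ IsMulCommutative G) (hc : Nat.card (commutator G) = p)
    (hB1 : commutator G ≤ Subgroup.center G)
    (hB3 : p ^ 2 * Nat.card (Subgroup.center G) ≤ Nat.card G) :
    Nonempty (FuseData G p) := by
  have hcp : ∀ c ∈ commutator G, c ^ p = 1 := by
    intro c hcm
    have h1 : (⟨c, hcm⟩ : commutator G) ^ Nat.card (commutator G) = 1 := pow_card_eq_one'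
    rw [hc] at h1
    have := congrArg Subtype.val h1
    simpa using this
  have h2p : 2 < p := lt_of_le_of_ne hp.two_le (Ne.symm hp2)
  have hch : ∀ c ∈ commutator G, c ^ (Nat.choose p 2) = 1 := by
    intro c hcm
    obtain ⟨t, ht⟩ := hp.dvd_choose_self (by norm_num) h2p
    rw [ht, pow_mul, hcp c hcm, one_pow]
  set φ := powHom hB1 p hch with hφ
  -- the range of φ is central
  have hrange : φ.range ≤ Subgroup.center G := by
    rintro _ ⟨x, rfl⟩
    rw [Subgroup.mem_center_iff]
    intro h
    have hcz : ∀ z : G, z * (x * h * x⁻¹ * h⁻¹) = (x * h * x⁻¹ * h⁻¹) * z :=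
      fun z => Subgroup.mem_center_iff.mp (hB1 (comm_mem x h)) z
    have := pow_mul_comm_aux (x * h * x⁻¹ * h⁻¹) x h hcz (by group) p
    rw [hcp _ (comm_mem x h), one_mul] at this
    rw [hφ, powHom_apply]
    exact this.symm
  -- counting
  have hcard : Nat.card φ.ker * Nat.card φ.range = Nat.card G := by
    rw [← Subgroup.index_ker]; exact Subgroup.card_mul_index _
  have hle : Nat.card φ.range ≤ Nat.card (Subgroup.center G) := Subgroup.card_le_of_le hrange
  have hZpos : 0 < Nat.card (Subgroup.center G) := Nat.card_pos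
  have hker : p ^ 2 ≤ Nat.card φ.ker := by
    have h1 : p ^ 2 * Nat.card (Subgroup.center G) ≤
        Nat.card φ.ker * Nat.card (Subgroup.center G) :=
      calc p ^ 2 * Nat.card (Subgroup.center G) ≤ Nat.card G := hB3
        _ = Nat.card φ.ker * Nat.card φ.range := hcard.symm
        _ ≤ Nat.card φ.ker * Nat.card (Subgroup.center G) := Nat.mul_le_mul_left _ hle
    exact Nat.le_of_mul_le_mul_right h1 hZpos
  -- pick m
  have hm : ∃ m ∈ φ.ker, m ∉ commutator G := by
    by_contra hcon
    push_neg at hcon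
    have hle' : φ.ker ≤ commutator G := hcon
    have h1 : Nat.card φ.ker ≤ p := hc ▸ Subgroup.card_le_of_le hle'
    have h2 : p < p ^ 2 := by nlinarith [hp.two_le]
    omega
  obtain ⟨m, hmker, hmG'⟩ := hm
  have hmp : m ^ p = 1 := by
    have := MonoidHom.mem_ker.mp hmker
    rwa [hφ, powHom_apply] at this
  -- a noncentral element
  have hnc : ∃ g : G, g ∉ Subgroup.center G := by
    by_contra hcon
    push_neg at hcon
    exact hna ⟨⟨fun a b => (Subgroup.mem_center_iff.mp (hcon b) a)⟩⟩
  -- choose g₀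
  obtain ⟨g₀, hg₀, hmg₀⟩ : ∃ g₀ : G, g₀ ∉ Subgroup.center G ∧
      (m ∈ Subgroup.center G ∨ m = g₀) := by
    by_cases hmZ : m ∈ Subgroup.center G
    · obtain ⟨g, hg⟩ := hnc
      exact ⟨g, hg, Or.inl hmZ⟩
    · exact ⟨m, hmZ, Or.inr rfl⟩
  set ψ := commHom hB1 g₀ with hψ
  have hidx : ψ.ker.index = p := by
    have h1 : ψ.ker.index ∣ p := by
      rw [Subgroup.index_ker, ← hc]
      exact Subgroup.card_dvd_of_le (range_commHom_le hB1 g₀)
    rcases (Nat.dvd_prime hp).mp h1 with h | h
    · exfalso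
      rw [Subgroup.index_eq_one] at h
      apply hg₀
      rw [Subgroup.mem_center_iff]
      intro x
      have : x ∈ ψ.ker := h ▸ Subgroup.mem_top x
      exact (mem_ker_commHom hB1 g₀ x).mp this
    · exact h
  have hZM : Subgroup.center G ≤ ψ.ker := by
    intro z hz
    rw [hψ, mem_ker_commHom]
    exact (Subgroup.mem_center_iff.mp hz g₀).symm
  refine ⟨{
    M := ψ.ker
    m := m
    normal := MonoidHom.normal_ker ψ
    index_eq := hidx
    center_le := hZM
    m_mem := ?_
    m_comm := ?_
    pow_eq := ?_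
    m_not_mem := hmG'
    m_pow_mem := by rw [hmp]; exact one_mem _ }⟩
  · rcases hmg₀ with h | h
    · exact hZM h
    · rw [hψ, mem_ker_commHom, h]
  · intro u hu
    rcases hmg₀ with h | h
    · exact (Subgroup.mem_center_iff.mp h u).symm
    · rw [h]
      exact ((mem_ker_commHom hB1 g₀ u).mp hu).symm
  · intro y _
    have := map_mul φ y m
    rw [hφ] at this
    simp only [powHom_apply] at this
    rw [this, hmp, mul_one]

/-- (C-odd) Fusing data for a finite nonabelian group whose commutator subgroup has order the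
least prime divisor `p` of `|G|`, `p` odd. -/
theorem exists_fuseData_odd {G : Type*} [Group G] [Finite G] (hna : ¬ IsMulCommutative G)
    (hc : Nat.card (commutator G) = (Nat.card G).minFac) (h2 : (Nat.card G).minFac ≠ 2) :
    Nonempty (FuseData G (Nat.card G).minFac) := by
  have hn1 : Nat.card G ≠ 1 := by
    intro h1
    apply hna
    have : Subsingleton G := (Nat.card_eq_one_iff_unique.mp h1).1
    exact ⟨⟨fun a b => Subsingleton.elim _ _⟩⟩
  exact exists_fuseData_of (Nat.minFac_prime hn1) h2 hna hc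
    (Cfsg.Agent.Helper11.AutOrbB.commutator_le_center hc)
    (Cfsg.Agent.Helper11.AutOrbB.sq_mul_card_center_le hna)

end Cfsg.Agent.Helper22.AutOrbCodd
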