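import Mathlib
import Cfsg.Agent.Helper29.BG11A
import Cfsg.Agent.Helper63.CountP
import Cfsg.Agent.Helper76.PGroup
import Cfsg.Agent.Helper68.BG12A
import Cfsg.Agent.Helper23.Sup
import Cfsg.Agent.Helper1.Compl

set_option autoImplicit false
set_option linter.unusedSectionVars false
set_option linter.unusedVariables false
set_option linter.style.haveILetI false

/-!
# B-G Theorem 12.7 (statement S1419), part A: group-theoretic lemmas (helper22)

General lemmas used in the proof of B-G 12.7: powers of `p`-elements, a pigeonhole principle on the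
`p + 1` points of an elementary abelian group of order `p ^ 2`, `p`-elements normalizing a group of
order `p`, and conjugating a `q`-subgroup into a complement of a normal `q'`-subgroup.
-/

namespace Cfsg.Agent.Helper22.BG127

open Cfsg Cfsg.Agent.Helper29.BG10

variable {G : Type*} [Group G] [Finite G]

/-- an element of `p`-power order lies in any subgroup containing one of its powers of exponent
prime to `p` -/
theorem mem_of_pow_mem {p : ℕ} [Fact p.Prime] {y : G} {n : ℕ} (hy : y ^ (p ^ n) = 1) {j : ℕ}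
    (hj : ¬ p ∣ j) {M : Subgroup G} (h : y ^ j ∈ M) : y ∈ M := by
  have hpp : p.Prime := Fact.out
  have h1 : orderOf y ∣ p ^ n := orderOf_dvd_of_pow_eq_one hy
  have h2 : j.Coprime (orderOf y) := by
    have : j.Coprime (p ^ n) :=
      Nat.Coprime.pow_right n ((Nat.Prime.coprime_iff_not_dvd hpp).mpr hj).symm
    exact Nat.Coprime.coprime_dvd_right h1 this
  obtain ⟨m, hm⟩ := exists_pow_eq_self_of_coprime h2
  rw [← hm]
  exact M.pow_mem h m

theorem mem_of_inv_pow_mul_pow_mem {p : ℕ} [Fact p.Prime] {y : G} {n : ℕ} (hy : y ^ (p ^ n) = 1)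
    {k l : ℕ} (hk : k < p) (hl : l < p) (hkl : k ≠ l) {M : Subgroup G}
    (h : (y ^ k)⁻¹ * y ^ l ∈ M) : y ∈ M := by
  have hpp : p.Prime := Fact.out
  rcases lt_or_gt_of_ne hkl with h1 | h1
  · have e : y ^ l = y ^ k * y ^ (l - k) := by rw [← pow_add, Nat.add_sub_cancel' h1.le]
    have e2 : (y ^ k)⁻¹ * y ^ l = y ^ (l - k) := by rw [e]; group
    rw [e2] at h
    refine mem_of_pow_mem hy ?_ h
    intro hd
    have := Nat.le_of_dvd (by omega) hd
    omega
  · have e : y ^ k = y ^ l * y ^ (k - l) := by rw [← pow_add, Nat.add_sub_cancel' h1.le]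
    have e2 : ((y ^ k)⁻¹ * y ^ l)⁻¹ = y ^ (k - l) := by rw [e]; group
    have h' := M.inv_mem h
    rw [e2] at h'
    refine mem_of_pow_mem hy ?_ h'
    intro hd
    have := Nat.le_of_dvd (by omega) hd
    omega

/-- powers of an element of the normalizer stay in the normalizer: `cj (y ^ k) A = A` -/
theorem cj_pow_eq_self {A : Subgroup G} {y : G} (hy : y ∈ Subgroup.normalizer (A : Set G))
    (k : ℕ) : cj (y ^ k) A = A :=
  Cfsg.Agent.Helper29.BG10.cj_eq_of_mem_normalizer (Subgroup.pow_mem _ hy k)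

/-- **pigeonhole on the points of `A`**: among the `2p` conjugates of two points of `A` under the
powers `y ^ k`, `k < p`, of an element `y` of `N(A)`, two coincide. -/
theorem pigeonhole_points {p : ℕ} [Fact p.Prime] {A : Subgroup G}
    (hA : Cfsg.IsElementaryAbelian p A) (hA2 : Nat.card A = p ^ 2) {y : G}
    (hy : y ∈ Subgroup.normalizer (A : Set G)) (X : Fin 2 → Subgroup G) (hX : ∀ i, X i ≤ A)
    (hXc : ∀ i, Nat.card (X i) = p) :
    ∃ a b : Fin 2 × Fin p, a ≠ b ∧
      cj (y ^ (a.2 : ℕ)) (X a.1) = cj (y ^ (b.2 : ℕ)) (X b.1) := by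
  have hpp : p.Prime := Fact.out
  have hle : ∀ a : Fin 2 × Fin p, cj (y ^ (a.2 : ℕ)) (X a.1) ≤ A := by
    intro a
    have := cj_mono (g := y ^ (a.2 : ℕ)) (hX a.1)
    rwa [cj_pow_eq_self hy] at this
  let F : Fin 2 × Fin p → {D : Subgroup ↥A // Nat.card D = p} := fun a =>
    ⟨(cj (y ^ (a.2 : ℕ)) (X a.1)).subgroupOf A, by
      rw [Cfsg.Agent.Helper1.card_subgroupOf_of_le (hle a), card_cj, hXc]⟩
  have hcard : Nat.card {D : Subgroup ↥A // Nat.card D = p} = p + 1 := by
    apply Cfsg.Agent.Helper63.card_subgroups_card_eq_prime hA2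
    intro x
    exact Subtype.ext (by simpa using hA.2 x.1 x.2)
  haveI : Fintype {D : Subgroup ↥A // Nat.card D = p} := Fintype.ofFinite _
  have hlt : Fintype.card {D : Subgroup ↥A // Nat.card D = p} < Fintype.card (Fin 2 × Fin p) := by
    rw [← Nat.card_eq_fintype_card, hcard, Fintype.card_prod, Fintype.card_fin, Fintype.card_fin]
    have := hpp.two_le
    omega
  obtain ⟨a, b, hab, hF⟩ := Fintype.exists_ne_map_eq_of_card_lt F hlt
  refine ⟨a, b, hab, ?_⟩
  have h1 : (cj (y ^ (a.2 : ℕ)) (X a.1)).subgroupOf A = (cj (y ^ (b.2 : ℕ)) (X b.1)).subgroupOf A :=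
    congrArg Subtype.val hF
  have h2 := congrArg (Subgroup.map A.subtype) h1
  rwa [Subgroup.subgroupOf_map_subtype, Subgroup.subgroupOf_map_subtype,
    inf_eq_left.mpr (hle a), inf_eq_left.mpr (hle b)] at h2

theorem cj_injective {g : G} {X Y : Subgroup G} (h : cj g X = cj g Y) : X = Y := by
  have := congrArg (cj g⁻¹) h
  rwa [cj_inv_cj, cj_inv_cj] at this

theorem cj_inv_mul_eq {u v : G} {X Y : Subgroup G} (h : cj v X = cj u Y) :
    cj (u⁻¹ * v) X = Y := by
  rw [cj_mul, h, cj_inv_cj]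

/-- two distinct points `X₀ ≠ X₁` of `A` and `y ∈ N(A)`: some `g = (y ^ k)⁻¹ * y ^ l` with
`k ≠ l` below `p` fixes `X₀`, or fixes `X₁`, or maps `X₀` to `X₁`. -/
theorem points_dichotomy {p : ℕ} [Fact p.Prime] {A : Subgroup G}
    (hA : Cfsg.IsElementaryAbelian p A) (hA2 : Nat.card A = p ^ 2) {y : G}
    (hy : y ∈ Subgroup.normalizer (A : Set G)) {X₀ X₁ : Subgroup G} (h₀ : X₀ ≤ A)
    (h₀c : Nat.card X₀ = p) (h₁ : X₁ ≤ A) (h₁c : Nat.card X₁ = p) (hne : X₀ ≠ X₁) :
    ∃ k l : ℕ, k < p ∧ l < p ∧ k ≠ l ∧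
      (cj ((y ^ k)⁻¹ * y ^ l) X₀ = X₀ ∨ cj ((y ^ k)⁻¹ * y ^ l) X₁ = X₁ ∨
        cj ((y ^ k)⁻¹ * y ^ l) X₀ = X₁) := by
  obtain ⟨⟨i, k⟩, ⟨j, l⟩, hab, heq⟩ := pigeonhole_points hA hA2 hy ![X₀, X₁]
    (by intro i; fin_cases i <;> simpa) (by intro i; fin_cases i <;> simpa)
  have hkl : ∀ (hij : i = j), (k : ℕ) ≠ (l : ℕ) := by
    intro hij hkl
    apply hab
    rw [Prod.mk.injEq]
    exact ⟨hij, Fin.ext hkl⟩
  fin_cases i <;> fin_cases j
  · simp only [Fin.zero_eta, Matrix.cons_val_zero] at heq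
    refine ⟨l, k, l.2, k.2, (hkl rfl).symm, Or.inl (cj_inv_mul_eq heq)⟩
  · simp only [Fin.zero_eta, Fin.mk_one, Matrix.cons_val_zero, Matrix.cons_val_one] at heq
    have hkl' : (k : ℕ) ≠ (l : ℕ) := by
      intro hkl'
      rw [hkl'] at heq
      exact hne (cj_injective heq)
    refine ⟨l, k, l.2, k.2, hkl'.symm, Or.inr (Or.inr (cj_inv_mul_eq heq))⟩
  · simp only [Fin.zero_eta, Fin.mk_one, Matrix.cons_val_zero, Matrix.cons_val_one] at heq
    have hkl' : (k : ℕ) ≠ (l : ℕ) := by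
      intro hkl'
      rw [hkl'] at heq
      exact hne (cj_injective heq).symm
    refine ⟨k, l, k.2, l.2, hkl', Or.inr (Or.inr (cj_inv_mul_eq heq.symm))⟩
  · simp only [Fin.mk_one, Matrix.cons_val_one] at heq
    refine ⟨l, k, l.2, k.2, (hkl rfl).symm, Or.inr (Or.inl (cj_inv_mul_eq heq))⟩

/-- a `p`-element normalizing a subgroup of order `p` centralizes it -/
theorem mem_centralizer_of_normalizes_prime {p : ℕ} [Fact p.Prime] {g : G} {n : ℕ}
    (hg : g ^ (p ^ n) = 1) {X : Subgroup G} (hX : Nat.card X = p)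
    (hgX : g ∈ Subgroup.normalizer (X : Set G)) : g ∈ Subgroup.centralizer (X : Set G) := by
  have hpp : p.Prime := Fact.out
  have hXp : IsPGroup p X := IsPGroup.of_card (n := 1) (by rw [hX, pow_one])
  have hZp : IsPGroup p (Subgroup.zpowers g) := by
    have h1 : orderOf g ∣ p ^ n := orderOf_dvd_of_pow_eq_one hg
    obtain ⟨m, -, hm⟩ := (Nat.dvd_prime_pow hpp).mp h1
    exact IsPGroup.of_card (n := m) (by rw [Nat.card_zpowers, hm])
  have hZN : Subgroup.zpowers g ≤ Subgroup.normalizer (X : Set G) := by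
    rw [Subgroup.zpowers_le]; exact hgX
  have hT : IsPGroup p (X ⊔ Subgroup.zpowers g : Subgroup G) :=
    IsPGroup.to_sup_of_normal_left' hXp hZp hZN
  have hTN : (X ⊔ Subgroup.zpowers g : Subgroup G) ≤ Subgroup.normalizer (X : Set G) :=
    sup_le Subgroup.le_normalizer hZN
  haveI : (X.subgroupOf (X ⊔ Subgroup.zpowers g)).Normal :=
    Subgroup.normal_subgroupOf_of_le_normalizer hTN
  have hc : Nat.card (X.subgroupOf (X ⊔ Subgroup.zpowers g)) = p := by
    rw [Cfsg.Agent.Helper1.card_subgroupOf_of_le le_sup_left, hX]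
  have hcen := Cfsg.Agent.Helper76.normal_le_center_of_card_prime hT
    (X.subgroupOf (X ⊔ Subgroup.zpowers g)) hc
  rw [Subgroup.mem_centralizer_iff]
  intro x hx
  have hgT : g ∈ (X ⊔ Subgroup.zpowers g : Subgroup G) :=
    Subgroup.mem_sup_right (Subgroup.mem_zpowers g)
  have hxT : x ∈ (X ⊔ Subgroup.zpowers g : Subgroup G) := Subgroup.mem_sup_left hx
  have h1 : (⟨x, hxT⟩ : ↥(X ⊔ Subgroup.zpowers g : Subgroup G)) ∈
      Subgroup.center ↥(X ⊔ Subgroup.zpowers g : Subgroup G) :=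
    hcen (by rw [Subgroup.mem_subgroupOf]; exact hx)
  have h2 := Subgroup.mem_center_iff.mp h1 ⟨g, hgT⟩
  have h3 := congrArg Subtype.val h2
  simpa using h3.symm

/-- conjugating a `q`-subgroup of `M` into a complement `E` of a normal `q'`-subgroup `K` -/
theorem exists_cj_le_compl {M E K : Subgroup G} (hE : Cfsg.IsComplIn E K M) {q : ℕ}
    [Fact q.Prime] (hK : ¬ q ∣ Nat.card K) {B : Subgroup G} (hB : IsPGroup q B) (hBM : B ≤ M) :
    ∃ m ∈ M, cj m B ≤ E := by
  have hq : q.Prime := Fact.out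
  obtain ⟨Q₀, -, hQ₀⟩ := exists_isSylowIn_ge (p := q) (N := E) (Y := ⊥) bot_le IsPGroup.of_bot
  have hEM : E ≤ M := hE.1
  have hidx : E.relIndex M = Nat.card K := by
    have h1 := Cfsg.Agent.Helper68.BG12.card_mul_card_of_isComplIn hE
    have h2 := Cfsg.Agent.Helper31.relIndex_mul_card' hEM
    have hpos : 0 < Nat.card E := Nat.card_pos
    have : E.relIndex M * Nat.card E = Nat.card K * Nat.card E := by
      rw [h2, ← h1, mul_comm]
    exact Nat.eq_of_mul_eq_mul_right hpos this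
  have hQ₀M : IsSylowIn q Q₀ M := by
    refine ⟨hQ₀.1.trans hEM, hQ₀.2.1, ?_⟩
    rw [← Subgroup.relIndex_mul_relIndex Q₀ E M hQ₀.1 hEM, hidx]
    intro hd
    rcases (Nat.Prime.dvd_mul hq).1 hd with h | h
    · exact hQ₀.2.2 h
    · exact hK h
  obtain ⟨R, hBR, hR⟩ := exists_isSylowIn_ge hBM hB
  obtain ⟨n, hnM, hn⟩ := hQ₀M.exists_cj_eq hR
  refine ⟨n, hnM, ?_⟩
  have := cj_mono (g := n) hBR
  rw [hn] at this
  exact this.trans hQ₀.1

end Cfsg.Agent.Helper22.BG127
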