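import Mathlib
import Cfsg.Agent.Helper22.BG127a
import Cfsg.Agent.Helper22.BG126
import Cfsg.Agent.Helper64.BG126
import Cfsg.Agent.Helper53.PGroup
import Cfsg.Agent.S1324

set_option autoImplicit false
set_option linter.unusedSectionVars false
set_option linter.unusedVariables false
set_option linter.style.haveILetI false

/-!
# B-G Theorem 12.7 (statement S1419), part B: the unique point of `A` centralizing `M_σ` (helper22)

Context `Ctx M E p A`: the hypotheses of S1419 together with the Uniqueness Theorem and the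
conclusions of B-G 12.4(a) (S1416, first part) and B-G 12.5 (S1417) for all maximal subgroups.
-/

namespace Cfsg.Agent.Helper22.BG127

open Cfsg Cfsg.Agent.Helper29.BG10 Cfsg.Agent.Helper22.BG126

variable {G : Type*} [Group G] [Finite G]

/-- B-G 12.4(a) (first part of S1416) for all maximal subgroups -/
def Hyp124 (G : Type*) [Group G] : Prop :=
  ∀ L : Subgroup G, IsCoatom L → ∀ (q : ℕ) [Fact q.Prime] (B : Subgroup G), B ≤ L →
    Cfsg.IsElementaryAbelian q B → Nat.card B = q ^ 2 → Subgroup.centralizer (B : Set G) ≤ L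

/-- B-G 12.5 (S1417) for all maximal subgroups -/
def Hyp125 (G : Type*) [Group G] : Prop :=
  ∀ L : Subgroup G, IsCoatom L → ∀ (q : ℕ) [Fact q.Prime], q ∈ Cfsg.tau2 L →
    ∀ B : Subgroup G, B ≤ L → Cfsg.IsElementaryAbelian q B → Nat.card B = q ^ 2 →
    Concl125 L q B

/-- the standing hypotheses of B-G Theorem 12.7 -/
structure Ctx (M E : Subgroup G) (p : ℕ) [Fact p.Prime] (A : Subgroup G) : Prop where
  hG : Cfsg.IsMinSimpleOddOrder G
  hU : UniquenessThm G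
  hM : IsCoatom M
  hE : Cfsg.IsComplIn E (Cfsg.sigmaCore M) M
  hp : p ∈ Cfsg.tau2 M
  hS : ∀ S : Sylow p G, ¬ IsMulCommutative (S : Subgroup G)
  hAE : A ≤ E
  hAel : Cfsg.IsElementaryAbelian p A
  hAcard : Nat.card A = p ^ 2
  h124 : Hyp124 G
  h125 : Hyp125 G

/-- `X` is a bad point: it centralizes a nonidentity element of `M_σ` -/
def Bad (M X : Subgroup G) : Prop :=
  Cfsg.sigmaCore M ⊓ Subgroup.centralizer (X : Set G) ≠ ⊥

namespace Ctx

variable {M E : Subgroup G} {p : ℕ} [Fact p.Prime] {A : Subgroup G}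

section
variable (h : Ctx M E p A)
include h

theorem hAM : A ≤ M := h.hAE.trans h.hE.1

theorem hAp : IsPGroup p A := isPGroup_of_elementaryAbelian h.hAel

theorem A_ne_bot : A ≠ ⊥ := by
  have hpp : p.Prime := Fact.out
  intro hb
  have h2 := h.hAcard
  rw [hb, Subgroup.card_bot] at h2
  have := hpp.one_lt
  have : 1 < p ^ 2 := Nat.one_lt_pow (by norm_num) this
  omega

theorem c125 : Concl125 M p A := h.h125 M h.hM p h.hp A h.hAM h.hAel h.hAcard

theorem hCAM : Subgroup.centralizer (A : Set G) ≤ M :=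
  h.h124 M h.hM p A h.hAM h.hAel h.hAcard

theorem c126 :
    (E ≤ Subgroup.normalizer (A : Set G) ∧
        ∀ X : Subgroup G, X ≤ E → Nat.card X = p → X ≤ A) ∧
      (Subgroup.centralizer (A : Set G) ≤ M ⊓ Subgroup.normalizer (A : Set G) ∧
        M ⊓ Subgroup.normalizer (A : Set G) = E ∧
        ¬ Subgroup.normalizer (A : Set G) ≤ M) ∧
      ∀ X : Subgroup G, X ≤ A → Nat.card X = p →
        Cfsg.sigmaCore M ⊓ Subgroup.centralizer (X : Set G) ≠ ⊥ →
        (Subgroup.centralizer (X : Set G) ≤ M ∧ ∀ L : Subgroup G, IsCoatom L →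
          Subgroup.centralizer (X : Set G) ≤ L → L = M) :=
  cor_12_6 h.hG h.hM h.hE ⟨h.hAE, h.hAel, h.hAcard⟩ h.hCAM h.c125

theorem hEN : E ≤ Subgroup.normalizer (A : Set G) := h.c126.1.1

theorem hXA : ∀ X : Subgroup G, X ≤ E → Nat.card X = p → X ≤ A := h.c126.1.2

theorem hbad : ∀ X : Subgroup G, X ≤ A → Nat.card X = p → Bad M X →
    (Subgroup.centralizer (X : Set G) ≤ M ∧ ∀ L : Subgroup G, IsCoatom L →
      Subgroup.centralizer (X : Set G) ≤ L → L = M) := h.c126.2.2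

theorem simple : IsSimpleGroup G := h.hG.2.1

theorem M_ne_bot : M ≠ ⊥ := by
  intro hb
  apply h.A_ne_bot
  have := h.hAM
  rw [hb] at this
  exact le_bot_iff.mp this

/-- `M` is self-normalizing -/
theorem normalizer_M : Subgroup.normalizer (M : Set G) = M := by
  haveI := h.simple
  exact Cfsg.Agent.Helper64.BG126.normalizer_eq_of_coatom h.hM h.M_ne_bot le_rfl
    Subgroup.le_normalizer

theorem mem_of_cj_eq {g : G} (hg : cj g M = M) : g ∈ M := by
  have := mem_normalizer_of_cj_eq hg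
  rwa [h.normalizer_M] at this

theorem not_dvd_sigmaCore : ¬ p ∣ Nat.card (Cfsg.sigmaCore M) := by
  have hpp : p.Prime := Fact.out
  intro hd
  exact h.hp.2.1 (Cfsg.Agent.Helper29.BG11.primes_sigmaCore M p hpp hd)

theorem hMS : M ≤ Subgroup.normalizer ((Cfsg.sigmaCore M : Subgroup G) : Set G) :=
  Cfsg.Agent.Helper29.BG11.le_normalizer_sigmaCore M

theorem hSM : Cfsg.sigmaCore M ≤ M := h.hE.2.1

/-- `M_σ ≠ 1` -/
theorem sigmaCore_ne_bot : Cfsg.sigmaCore M ≠ ⊥ := by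
  haveI := h.simple
  intro hb
  have hME : M ≤ E := by
    intro m hm
    obtain ⟨e, he, s, hs, rfl⟩ := h.hE.2.2.2 m hm
    rw [hb, Subgroup.mem_bot] at hs
    rw [hs, mul_one]
    exact he
  apply h.c126.2.1.2.2
  have hMN : M ≤ Subgroup.normalizer (A : Set G) := hME.trans h.hEN
  rw [Cfsg.Agent.Helper64.BG126.normalizer_eq_of_coatom h.hM h.A_ne_bot h.hAM hMN]

/-- a `p`-element `y ∈ N(A) - M` inside a Sylow `p`-subgroup `S ≥ A` of `G`, with
`Ω₁(S ∩ M) = A` -/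
theorem exists_S' : ∃ (S : Sylow p G) (y : G), A ≤ (S : Subgroup G) ∧
    (∀ x ∈ (S : Subgroup G), x ∈ M → x ^ p = 1 → x ∈ A) ∧
    y ∈ (S : Subgroup G) ∧ y ∈ Subgroup.normalizer (A : Set G) ∧ y ∉ M ∧
    (∀ x ∈ (S : Subgroup G), x ∈ M → x ∈ Subgroup.centralizer (A : Set G)) ∧
    (∀ Y : Subgroup G, IsPGroup p Y → Y ≤ M → M ≤ Subgroup.normalizer (Y : Set G) →
      Y ≤ (S : Subgroup G)) := by
  have hpp : p.Prime := Fact.out
  obtain ⟨P, hP⟩ := exists_sylow_map_ge h.hAM h.hAp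
  obtain ⟨hPc, hP2⟩ := h.c125.2.1 P
  obtain ⟨hΩ, -⟩ := hP2 hP
  have hPp : IsPGroup p ((P : Subgroup M).map M.subtype) := P.isPGroup'.map _
  obtain ⟨S, hS⟩ := hPp.exists_le_sylow
  have hPM : (P : Subgroup M).map M.subtype ≤ M := Subgroup.map_subtype_le _
  -- `S ∩ M = P`
  have hSM : ∀ x ∈ (S : Subgroup G), x ∈ M → x ∈ (P : Subgroup M).map M.subtype := by
    intro x hxS hxM
    have h1 : IsPGroup p (((S : Subgroup G) ⊓ M).subgroupOf M) :=
      (S.isPGroup'.to_le inf_le_left).comap_subtype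
    have h2 : (P : Subgroup M) ≤ ((S : Subgroup G) ⊓ M).subgroupOf M := by
      intro z hz
      rw [Subgroup.mem_subgroupOf]
      exact ⟨hS ⟨z, hz, rfl⟩, z.2⟩
    have h3 := P.is_maximal' h1 h2
    have h4 : (⟨x, hxM⟩ : ↥M) ∈ ((S : Subgroup G) ⊓ M).subgroupOf M := by
      rw [Subgroup.mem_subgroupOf]; exact ⟨hxS, hxM⟩
    rw [h3] at h4
    exact ⟨⟨x, hxM⟩, h4, rfl⟩
  -- `P` is abelian, `S` is not
  have hPcomm : ∀ a ∈ (P : Subgroup M).map M.subtype, ∀ b ∈ (P : Subgroup M).map M.subtype,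
      a * b = b * a := by
    rintro _ ⟨a, ha, rfl⟩ _ ⟨b, hb, rfl⟩
    have := (Cfsg.Agent.Helper23.isMulCommutative_subgroup_iff (P : Subgroup M)).1 hPc a ha b hb
    exact congrArg Subtype.val this
  have hne : (P : Subgroup M).map M.subtype ≠ (S : Subgroup G) := by
    intro he
    apply h.hS S
    rw [Cfsg.Agent.Helper23.isMulCommutative_subgroup_iff]
    rw [← he]
    exact hPcomm
  have hlt : (P : Subgroup M).map M.subtype < (S : Subgroup G) := lt_of_le_of_ne hS hne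
  obtain ⟨y, hyS, hyN, hyP⟩ :=
    Cfsg.Agent.Helper53.exists_normalizer_not_mem (S : Subgroup G) _ S.isPGroup' hlt
  have hΩ' : ∀ x ∈ (S : Subgroup G), x ∈ M → x ^ p = 1 → x ∈ A := by
    intro x hxS hxM hxp
    exact (hΩ x (hSM x hxS hxM)).mp hxp
  refine ⟨S, y, hP.trans hS, hΩ', hyS, ?_, fun hyM => hyP (hSM y hyS hyM), ?_, ?_⟩
  rotate_left
  · intro x hxS hxM
    rw [Subgroup.mem_centralizer_iff]
    intro a ha
    exact hPcomm a (hP ha) x (hSM x hxS hxM)
  · intro Y hYp hYM hMY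
    exact (IsSylowIn.normal_le (isSylowIn_map_sylow P) hYp hMY hYM).trans hS
  -- `N_S(P) ≤ N(A)`
  have hN : (S : Subgroup G) ⊓ Subgroup.normalizer
      ((((P : Subgroup M).map M.subtype : Subgroup G)) : Set G) ≤
      Subgroup.normalizer (A : Set G) := by
    apply Cfsg.Agent.Helper31.AInv.le_normalizer
    rintro x ⟨hxS, hxN⟩ a ha
    have h1 : x * a * x⁻¹ ∈ (P : Subgroup M).map M.subtype :=
      (Subgroup.mem_normalizer_iff.mp hxN a).mp (hP ha)
    apply (hΩ _ h1).mp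
    rw [conj_pow, h.hAel.2 a ha, mul_one, mul_inv_cancel]
  exact hN ⟨hyS, hyN⟩

theorem exists_S : ∃ (S : Sylow p G) (y : G), A ≤ (S : Subgroup G) ∧
    (∀ x ∈ (S : Subgroup G), x ∈ M → x ^ p = 1 → x ∈ A) ∧
    y ∈ (S : Subgroup G) ∧ y ∈ Subgroup.normalizer (A : Set G) ∧ y ∉ M := by
  obtain ⟨S, y, h1, h2, h3, h4, h5, -, -⟩ := h.exists_S'
  exact ⟨S, y, h1, h2, h3, h4, h5⟩

/-- two bad points conjugate by `g` force `g ∈ M` -/
theorem mem_of_bad_cj {X : Subgroup G} (hXA : X ≤ A) (hXc : Nat.card X = p) (hb : Bad M X)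
    {g : G} (hgA : cj g X ≤ A) (hb' : Bad M (cj g X)) : g ∈ M := by
  obtain ⟨hX1, -⟩ := h.hbad X hXA hXc hb
  obtain ⟨-, hY2⟩ := h.hbad (cj g X) hgA (by rw [card_cj, hXc]) hb'
  apply h.mem_of_cj_eq
  apply hY2 (cj g M) (Cfsg.Agent.Helper29.BG11.isCoatom_cj h.hM g)
  rw [Cfsg.Agent.Helper29.BG11.centralizer_cj]
  exact cj_mono hX1

/-- at most one bad point -/
theorem bad_unique {X₀ X₁ : Subgroup G} (h₀ : X₀ ≤ A) (h₀c : Nat.card X₀ = p)
    (hb₀ : Bad M X₀) (h₁ : X₁ ≤ A) (h₁c : Nat.card X₁ = p) (hb₁ : Bad M X₁) : X₀ = X₁ := by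
  by_contra hne
  obtain ⟨S, y, hAS, hΩ, hyS, hyN, hyM⟩ := h.exists_S
  obtain ⟨n, hn⟩ := S.isPGroup' ⟨y, hyS⟩
  have hn' : y ^ (p ^ n) = 1 := by simpa using congrArg Subtype.val hn
  obtain ⟨k, l, hk, hl, hkl, hcase⟩ :=
    points_dichotomy h.hAel h.hAcard hyN h₀ h₀c h₁ h₁c hne
  apply hyM
  apply mem_of_inv_pow_mul_pow_mem hn' hk hl hkl
  rcases hcase with hc | hc | hc
  · exact h.mem_of_bad_cj h₀ h₀c hb₀ (by rw [hc]; exact h₀) (by rw [hc]; exact hb₀)
  · exact h.mem_of_bad_cj h₁ h₁c hb₁ (by rw [hc]; exact h₁) (by rw [hc]; exact hb₁)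
  · exact h.mem_of_bad_cj h₀ h₀c hb₀ (by rw [hc]; exact h₁) (by rw [hc]; exact hb₁)

/-- coprime generation: a subgroup containing all `C_{M_σ}(X)`, `X` a point of `A`, contains
`M_σ` -/
theorem sigmaCore_le_of_points (T : Subgroup G)
    (hT : ∀ X : Subgroup G, X ≤ A → Nat.card X = p →
      Cfsg.sigmaCore M ⊓ Subgroup.centralizer (X : Set G) ≤ T) : Cfsg.sigmaCore M ≤ T := by
  have hpp : p.Prime := Fact.out
  have hgen := Cfsg.Agent.S1324.result p A (Cfsg.sigmaCore M) h.hAel (by rw [h.hAcard])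
    h.not_dvd_sigmaCore (h.hAM.trans h.hMS)
  rw [hgen]
  apply iSup_le
  rintro ⟨B, hBA, hBi⟩
  show Cfsg.sigmaCore M ⊓ Subgroup.centralizer (B : Set G) ≤ T
  have h1 := Cfsg.Agent.Helper31.relIndex_mul_card' hBA
  rw [h.hAcard] at h1
  have h2 : Nat.card B ∣ p ^ 2 := Dvd.intro_left _ h1
  obtain ⟨k, hk, hBk⟩ := (Nat.dvd_prime_pow hpp).mp h2
  have hk1 : k ≠ 0 := by
    intro hk0
    rw [hk0, pow_zero] at hBk
    rw [hBk, mul_one] at h1
    rw [h1] at hBi
    have := hpp.one_lt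
    nlinarith
  rcases (by omega : k = 1 ∨ k = 2) with rfl | rfl
  · exact hT B hBA (by rw [hBk, pow_one])
  · have hBA' : B = A := Subgroup.eq_of_le_of_card_ge hBA (by rw [hBk, h.hAcard])
    rw [hBA', h.c125.2.2.2.1]
    exact bot_le

/-- a bad point exists -/
theorem exists_bad : ∃ X : Subgroup G, X ≤ A ∧ Nat.card X = p ∧ Bad M X := by
  by_contra hno
  apply h.sigmaCore_ne_bot
  rw [eq_bot_iff]
  apply h.sigmaCore_le_of_points
  intro X hXA hXc
  have : ¬ Bad M X := fun hb => hno ⟨X, hXA, hXc, hb⟩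
  unfold Bad at this
  rw [not_not] at this
  rw [this]

end

end Ctx

end Cfsg.Agent.Helper22.BG127
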