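import Mathlib
import Cfsg.Agent.Helper22.BG127b

set_option autoImplicit false
set_option linter.unusedSectionVars false
set_option linter.unusedVariables false
set_option linter.style.haveILetI false

/-!
# B-G Theorem 12.7 (statement S1419), part C: `A₀ = C_A(M_σ)` (helper22)

`A₀ = A ∩ C_G(M_σ)` has order `p`, is the unique bad point of `A`, is normal in `M`, and every
other subgroup `X` of order `p` of `E` has `C_{M_σ}(X) = 1` and `C_G(X) ⊄ M`.
-/

namespace Cfsg.Agent.Helper22.BG127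

open Cfsg Cfsg.Agent.Helper29.BG10 Cfsg.Agent.Helper22.BG126

variable {G : Type*} [Group G] [Finite G]

namespace Ctx

variable {M E : Subgroup G} {p : ℕ} [Fact p.Prime] {A : Subgroup G}

section
variable (h : Ctx M E p A)
include h

/-- `A₀ = C_A(M_σ)` has order `p`, is bad, and is the only bad point -/
theorem A0_spec :
    Nat.card ↥(A ⊓ Subgroup.centralizer (Cfsg.sigmaCore M : Set G)) = p ∧
    Bad M (A ⊓ Subgroup.centralizer (Cfsg.sigmaCore M : Set G)) ∧
    ∀ X : Subgroup G, X ≤ A → Nat.card X = p → Bad M X →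
      X = A ⊓ Subgroup.centralizer (Cfsg.sigmaCore M : Set G) := by
  have hpp : p.Prime := Fact.out
  obtain ⟨X₁, hX₁A, hX₁c, hX₁b⟩ := h.exists_bad
  have hle : Cfsg.sigmaCore M ≤ Subgroup.centralizer (X₁ : Set G) := by
    apply h.sigmaCore_le_of_points
    intro X hXA hXc
    by_cases hb : Bad M X
    · rw [h.bad_unique hXA hXc hb hX₁A hX₁c hX₁b]
      exact inf_le_right
    · unfold Bad at hb
      rw [not_not] at hb
      rw [hb]
      exact bot_le
  have hX₁A0 : X₁ ≤ A ⊓ Subgroup.centralizer (Cfsg.sigmaCore M : Set G) :=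
    le_inf hX₁A (Subgroup.le_centralizer_iff.mp hle)
  have hA0ne : A ⊓ Subgroup.centralizer (Cfsg.sigmaCore M : Set G) ≠ A := by
    intro he
    have h1 : A ≤ Subgroup.centralizer (Cfsg.sigmaCore M : Set G) := by
      rw [← he]; exact inf_le_right
    have h2 : Cfsg.sigmaCore M ≤ Subgroup.centralizer (A : Set G) :=
      Subgroup.le_centralizer_iff.mp h1
    apply h.sigmaCore_ne_bot
    rw [← h.c125.2.2.2.1]
    exact (inf_eq_left.mpr h2).symm
  have hdvd : Nat.card ↥(A ⊓ Subgroup.centralizer (Cfsg.sigmaCore M : Set G)) ∣ p ^ 2 := by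
    rw [← h.hAcard]
    exact Subgroup.card_dvd_of_le inf_le_left
  obtain ⟨k, hk, hAk⟩ := (Nat.dvd_prime_pow hpp).mp hdvd
  have hge := Subgroup.card_le_of_le hX₁A0
  rw [hX₁c] at hge
  have hk1 : k = 1 := by
    have hk0 : k ≠ 0 := by
      intro hk0
      rw [hk0, pow_zero] at hAk
      rw [hAk] at hge
      have := hpp.one_lt
      omega
    have hk2 : k ≠ 2 := by
      intro hk2
      apply hA0ne
      apply Subgroup.eq_of_le_of_card_ge inf_le_left
      rw [hAk, hk2, h.hAcard]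
    omega
  rw [hk1, pow_one] at hAk
  have heq : X₁ = A ⊓ Subgroup.centralizer (Cfsg.sigmaCore M : Set G) :=
    Subgroup.eq_of_le_of_card_ge hX₁A0 (by rw [hAk, hX₁c])
  refine ⟨hAk, ?_, ?_⟩
  · rw [← heq]; exact hX₁b
  · intro X hXA hXc hb
    rw [← heq]
    exact h.bad_unique hXA hXc hb hX₁A hX₁c hX₁b

theorem sigmaCore_le_centralizer_A0 : Cfsg.sigmaCore M ≤
    Subgroup.centralizer ((A ⊓ Subgroup.centralizer (Cfsg.sigmaCore M : Set G) : Subgroup G) :
      Set G) :=
  Subgroup.le_centralizer_iff.mp inf_le_right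

/-- part (c) of B-G 12.7 -/
theorem part_c (X : Subgroup G) (hXE : X ≤ E) (hXc : Nat.card X = p)
    (hne : X ≠ A ⊓ Subgroup.centralizer (Cfsg.sigmaCore M : Set G)) :
    Cfsg.sigmaCore M ⊓ Subgroup.centralizer (X : Set G) = ⊥ ∧
      ¬ Subgroup.centralizer (X : Set G) ≤ M := by
  have hpp : p.Prime := Fact.out
  obtain ⟨hA0c, hA0b, hA0u⟩ := h.A0_spec
  have hXA : X ≤ A := h.hXA X hXE hXc
  refine ⟨?_, ?_⟩
  · by_contra hb
    exact hne (hA0u X hXA hXc hb)
  · intro hCX
    obtain ⟨S, y, hAS, hΩ, hyS, hyN, hyM⟩ := h.exists_S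
    obtain ⟨n, hn⟩ := S.isPGroup' ⟨y, hyS⟩
    have hn' : y ^ (p ^ n) = 1 := by simpa using congrArg Subtype.val hn
    obtain ⟨k, l, hk, hl, hkl, hcase⟩ :=
      points_dichotomy h.hAel h.hAcard hyN (inf_le_left : A ⊓ _ ≤ A) hA0c hXA hXc (Ne.symm hne)
    apply hyM
    apply mem_of_inv_pow_mul_pow_mem hn' hk hl hkl
    have hgS : (y ^ k)⁻¹ * y ^ l ∈ (S : Subgroup G) :=
      Subgroup.mul_mem _ (Subgroup.inv_mem _ (Subgroup.pow_mem _ hyS k)) (Subgroup.pow_mem _ hyS l)
    have hgN : (y ^ k)⁻¹ * y ^ l ∈ Subgroup.normalizer (A : Set G) :=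
      Subgroup.mul_mem _ (Subgroup.inv_mem _ (Subgroup.pow_mem _ hyN k)) (Subgroup.pow_mem _ hyN l)
    generalize (y ^ k)⁻¹ * y ^ l = g at hcase hgS hgN ⊢
    rcases hcase with hc | hc | hc
    · exact h.mem_of_bad_cj inf_le_left hA0c hA0b (by rw [hc]; exact inf_le_left)
        (by rw [hc]; exact hA0b)
    · obtain ⟨n', hn'⟩ := S.isPGroup' ⟨g, hgS⟩
      have hn'' : g ^ (p ^ n') = 1 := by simpa using congrArg Subtype.val hn'
      exact hCX (mem_centralizer_of_normalizes_prime hn'' hXc (mem_normalizer_of_cj_eq hc))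
    · by_contra hgM
      have hco : IsCoatom (cj g⁻¹ M) := Cfsg.Agent.Helper29.BG11.isCoatom_cj h.hM g⁻¹
      have hneM : cj g⁻¹ M ≠ M := by
        intro he
        have := h.mem_of_cj_eq he
        exact hgM (by simpa using M.inv_mem this)
      have hA' : A ≤ cj g⁻¹ M := by
        rw [← cj_le_iff, cj_eq_of_mem_normalizer hgN]
        exact h.hAM
      have he := h.c125.2.2.2.2.1 (cj g⁻¹ M) hco hneM hA'
      have hle : Cfsg.sigmaCore M ≤ cj g⁻¹ M := by
        rw [← cj_le_iff]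
        refine le_trans ?_ hCX
        rw [← hc, Cfsg.Agent.Helper29.BG11.centralizer_cj]
        exact cj_mono h.sigmaCore_le_centralizer_A0
      apply h.sigmaCore_ne_bot
      rw [← he]
      exact (inf_eq_left.mpr hle).symm

/-- `A₀` is normal in `M` -/
theorem A0_normal :
    M ≤ Subgroup.normalizer
      ((A ⊓ Subgroup.centralizer (Cfsg.sigmaCore M : Set G) : Subgroup G) : Set G) := by
  have hpp : p.Prime := Fact.out
  apply Cfsg.Agent.Helper31.AInv.le_normalizer
  rintro m hm a ⟨haA, haC⟩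
  have hsup : m * a * m⁻¹ ∈ Cfsg.sigmaCore M ⊔ A :=
    (Subgroup.mem_normalizer_iff.mp (h.c125.2.2.1 hm) a).mp (Subgroup.mem_sup_right haA)
  obtain ⟨s, hs, a', ha', hx⟩ :=
    (Cfsg.Agent.Helper23.mem_sup_iff_of_le_normalizer (h.hAM.trans h.hMS)).mp hsup
  have hxC : m * a * m⁻¹ ∈ Subgroup.centralizer (Cfsg.sigmaCore M : Set G) :=
    conj_mem_centralizer (h.hMS hm) haC
  -- `a'` commutes with `s`
  have h1 := Subgroup.mem_centralizer_iff.mp hxC s hs
  rw [hx] at h1
  have hcomm : s * a' = a' * s := by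
    have : s * (s * a') = s * (a' * s) := by rw [h1]; group
    exact mul_left_cancel this
  -- `s ^ p = 1`
  have hxp : (m * a * m⁻¹) ^ p = 1 := by
    rw [conj_pow, h.hAel.2 a haA, mul_one, mul_inv_cancel]
  rw [hx, (show Commute s a' from hcomm).mul_pow, h.hAel.2 a' ha', mul_one] at hxp
  have hs1 : s = 1 := by
    have hd : orderOf s ∣ p := orderOf_dvd_of_pow_eq_one hxp
    rcases (Nat.dvd_prime hpp).mp hd with h1 | h1
    · exact orderOf_eq_one_iff.mp h1
    · exfalso
      apply h.not_dvd_sigmaCore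
      rw [← h1]
      have := orderOf_dvd_natCard (⟨s, hs⟩ : ↥(Cfsg.sigmaCore M))
      rwa [Subgroup.orderOf_mk] at this
  rw [hs1, one_mul] at hx
  rw [hx] at hxC ⊢
  exact ⟨ha', hxC⟩

end

end Ctx

end Cfsg.Agent.Helper22.BG127
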