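import Mathlib
import Cfsg.Agent.Helper22.BG127c
import Cfsg.Agent.Helper71.BG11Leaf
import Cfsg.Agent.Helper23.RankTwo
import Cfsg.Agent.S1408

set_option autoImplicit false
set_option linter.unusedSectionVars false
set_option linter.unusedVariables false
set_option linter.style.haveILetI false

/-!
# B-G Theorem 12.7 (statement S1419), part D: `τ₂(M) = {p}` (helper22)
-/

namespace Cfsg.Agent.Helper22.BG127

open Cfsg Cfsg.Agent.Helper29.BG10 Cfsg.Agent.Helper22.BG126

variable {G : Type*} [Group G] [Finite G]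

/-- B-G 10.8 (fifth part of S1414) for all maximal subgroups: normal `q`-complements in `H_σ`
for the primes `q ∉ β(H)` -/
def Hyp108 (G : Type*) [Group G] : Prop :=
  ∀ H : Subgroup G, IsCoatom H → ∀ q : ℕ, q.Prime → q ∣ Nat.card H → q ∉ Cfsg.beta H →
    Cfsg.HasNormalPComplement q ↥(Cfsg.sigmaCore H)

/-- a nontrivial `p`-group has a central element of order `p` -/
theorem exists_central_order_p {p : ℕ} [Fact p.Prime] (S : Subgroup G) (hS : IsPGroup p S)
    (hS1 : S ≠ ⊥) : ∃ z ∈ S, z ≠ 1 ∧ z ^ p = 1 ∧ ∀ g ∈ S, g * z = z * g := by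
  have hpp : p.Prime := Fact.out
  obtain ⟨b, hbS, hb1, hbc⟩ :=
    Cfsg.Agent.Helper53.exists_central_of_normalized S S hS le_rfl Subgroup.le_normalizer hS1
  obtain ⟨k, hk⟩ := (IsPGroup.iff_orderOf.mp hS) ⟨b, hbS⟩
  rw [Subgroup.orderOf_mk] at hk
  have hk0 : k ≠ 0 := by
    intro h0
    rw [h0, pow_zero, orderOf_eq_one_iff] at hk
    exact hb1 hk
  refine ⟨b ^ (p ^ (k - 1)), S.pow_mem hbS _, ?_, ?_, ?_⟩
  · apply pow_ne_one_of_lt_orderOf (pow_pos hpp.pos _).ne'
    rw [hk]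
    exact Nat.pow_lt_pow_right hpp.one_lt (by omega)
  · rw [← pow_mul, ← pow_succ, Nat.sub_add_cancel (by omega), ← hk, pow_orderOf_eq_one]
  · intro g hg
    exact ((show Commute g b from hbc g hg).pow_right _).eq

theorem isElementaryAbelian_cj {q : ℕ} {B : Subgroup G} (hB : Cfsg.IsElementaryAbelian q B)
    (g : G) : Cfsg.IsElementaryAbelian q (cj g B) :=
  Cfsg.Agent.Helper23.isElementaryAbelian_map _ hB

namespace Ctx

variable {M E : Subgroup G} {p : ℕ} [Fact p.Prime] {A : Subgroup G}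

section
variable (h : Ctx M E p A)
include h

/-- no second prime in `τ₂(M)` -/
theorem tau2_unique (h108 : Hyp108 G) {q : ℕ} (hq : q ∈ Cfsg.tau2 M) : q = p := by
  by_contra hqp
  have hpp : p.Prime := Fact.out
  haveI : Fact q.Prime := ⟨hq.1⟩
  have hqq : q.Prime := hq.1
  haveI := h.simple
  have hG := h.hG
  have hU := h.hU
  -- `B ≤ E` elementary abelian of order `q ^ 2`
  obtain ⟨B', hB'M, hB'el, hB'c⟩ := Cfsg.Agent.Helper29.BG10.exists_elementaryAbelian_sq hq.2.2.1 hq.2.2.2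
  have hqS : ¬ q ∣ Nat.card (Cfsg.sigmaCore M) := fun hd =>
    hq.2.1 (Cfsg.Agent.Helper29.BG11.primes_sigmaCore M q hqq hd)
  obtain ⟨m, hmM, hBE⟩ := exists_cj_le_compl h.hE hqS (isPGroup_of_elementaryAbelian hB'el) hB'M
  have hBel : Cfsg.IsElementaryAbelian q (cj m B') := isElementaryAbelian_cj hB'el m
  have hBc : Nat.card (cj m B') = q ^ 2 := by rw [card_cj, hB'c]
  generalize cj m B' = B at hBE hBel hBc
  have hBM : B ≤ M := hBE.trans h.hE.1
  have hBp : IsPGroup q B := isPGroup_of_elementaryAbelian hBel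
  have hCBM : Subgroup.centralizer (B : Set G) ≤ M := h.h124 M h.hM q B hBM hBel hBc
  obtain ⟨⟨hENB, hXB⟩, -, -⟩ := cor_12_6 h.hG h.hM h.hE ⟨hBE, hBel, hBc⟩ hCBM
    (h.h125 M h.hM q hq B hBM hBel hBc)
  -- `[A, B] = 1`
  have hAB : A ⊓ B = ⊥ := by
    apply Disjoint.eq_bot
    apply Subgroup.disjoint_of_coprime_natCard
    rw [h.hAcard, hBc]
    exact Nat.Coprime.pow 2 2 ((Nat.coprime_primes hpp hqq).mpr (Ne.symm hqp))
  have hcomm : ∀ a ∈ A, ∀ b ∈ B, a * b = b * a := by
    intro a ha b hb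
    have h1 : a * b * a⁻¹ * b⁻¹ ∈ A ⊓ B := by
      constructor
      · have : a * b * a⁻¹ * b⁻¹ = a * (b * a⁻¹ * b⁻¹) := by group
        rw [this]
        exact A.mul_mem ha
          ((Subgroup.mem_normalizer_iff.mp (h.hEN (hBE hb)) a⁻¹).mp (A.inv_mem ha))
      · exact B.mul_mem ((Subgroup.mem_normalizer_iff.mp (hENB (h.hAE ha)) b).mp hb)
          (B.inv_mem hb)
    rw [hAB, Subgroup.mem_bot] at h1
    have : a * b * a⁻¹ * b⁻¹ * (b * a) = 1 * (b * a) := by rw [h1]
    rw [one_mul] at this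
    rw [← this]; group
  have hBCA : B ≤ Subgroup.centralizer (A : Set G) := by
    intro b hb
    rw [Subgroup.mem_centralizer_iff]
    intro a ha
    exact hcomm a ha b hb
  -- the Sylow subgroup `S` and the element `y`
  obtain ⟨S, y, hAS, hΩ, hyS, hyN, hyM⟩ := h.exists_S
  have hSp : IsPGroup p (S : Subgroup G) := S.isPGroup'
  have hS1 : (S : Subgroup G) ≠ ⊥ := by
    intro hb
    apply h.A_ne_bot
    rw [eq_bot_iff, ← hb]
    exact hAS
  have hCSA : Subgroup.centralizer ((S : Subgroup G) : Set G) ≤ Subgroup.centralizer (A : Set G) :=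
    centralizer_le_of_le hAS
  -- `Z₀ = C_A(S)`
  have hZmem : ∀ z ∈ (S : Subgroup G), z ∈ Subgroup.centralizer ((S : Subgroup G) : Set G) →
      z ^ p = 1 → z ∈ A ⊓ Subgroup.centralizer ((S : Subgroup G) : Set G) := by
    intro z hzS hzC hzp
    exact ⟨hΩ z hzS (h.hCAM (hCSA hzC)) hzp, hzC⟩
  have hZ0 : A ⊓ Subgroup.centralizer ((S : Subgroup G) : Set G) ≠ ⊥ := by
    obtain ⟨z, hzS, hz1, hzp, hzc⟩ := exists_central_order_p (S : Subgroup G) hSp hS1
    have hzC : z ∈ Subgroup.centralizer ((S : Subgroup G) : Set G) := by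
      rw [Subgroup.mem_centralizer_iff]
      intro g hg
      exact hzc g hg
    intro hb
    have := hZmem z hzS hzC hzp
    rw [hb, Subgroup.mem_bot] at this
    exact hz1 this
  have hZ1 : A ⊓ Subgroup.centralizer ((S : Subgroup G) : Set G) ≠ ⊤ := by
    intro ht
    apply h.hM.1
    rw [eq_top_iff, ← ht]
    exact inf_le_left.trans h.hAM
  obtain ⟨H, hH, hNH⟩ := (eq_top_or_exists_le_coatom _).resolve_left
    (Cfsg.Agent.Helper31.bgt_normalizer_ne_top_of_simple hZ0 hZ1)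
  have hCZH : Subgroup.centralizer
      ((A ⊓ Subgroup.centralizer ((S : Subgroup G) : Set G) : Subgroup G) : Set G) ≤ H :=
    (Subgroup.centralizer_le_normalizer _).trans hNH
  have hSH : (S : Subgroup G) ≤ H := by
    refine le_trans ?_ hCZH
    intro s hs
    rw [Subgroup.mem_centralizer_iff]
    intro z hz
    exact (Subgroup.mem_centralizer_iff.mp hz.2 s hs).symm
  have hNSH : Subgroup.normalizer ((S : Subgroup G) : Set G) ≤ H := by
    refine le_trans ?_ hNH
    apply Cfsg.Agent.Helper31.AInv.le_normalizer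
    rintro g hg z ⟨hzA, hzC⟩
    apply hZmem
    · exact (Subgroup.mem_normalizer_iff.mp hg z).mp (hAS hzA)
    · exact conj_mem_centralizer hg hzC
    · rw [conj_pow, h.hAel.2 z hzA, mul_one, mul_inv_cancel]
  have hBH : B ≤ H := by
    refine le_trans hBCA (le_trans ?_ hCZH)
    exact centralizer_le_of_le inf_le_left
  have hAH : A ≤ H := hAS.trans hSH
  have hHM : M ≠ H := by
    intro he
    apply hyM
    rw [he]
    exact hSH hyS
  -- `p ∈ σ(H)`
  have hSyl : IsSylowIn p (S : Subgroup G) H :=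
    Cfsg.Agent.Helper71.BG11.isSylowIn_of_top
      ⟨le_top, hSp, by rw [Subgroup.relIndex_top_right]; exact S.not_dvd_index⟩ hSH
  have hpH : p ∣ Nat.card H := by
    have h1 : Nat.card A ∣ Nat.card H := Subgroup.card_dvd_of_le hAH
    rw [h.hAcard] at h1
    exact (dvd_pow_self p (by norm_num)).trans h1
  have hpσ : p ∈ Cfsg.sigma H :=
    Cfsg.Agent.Helper29.BG11.mem_sigma_iff.2 ⟨hpH, S, hSyl, hNSH⟩
  have hSσ : (S : Subgroup G) ≤ Cfsg.sigmaCore H :=
    Cfsg.Agent.Helper29.BG11.le_sigmaCore_of_isPGroup hG hU hH hpσ hSp hSH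
  have hqH : q ∣ Nat.card H := by
    have h1 : Nat.card B ∣ Nat.card H := Subgroup.card_dvd_of_le hBH
    rw [hBc] at h1
    exact (dvd_pow_self q (by norm_num)).trans h1
  by_cases hqσ : q ∈ Cfsg.sigma H
  · -- `q ∈ σ(H)`
    have hBσ : B ≤ Cfsg.sigmaCore H :=
      Cfsg.Agent.Helper29.BG11.le_sigmaCore_of_isPGroup hG hU hH hqσ hBp hBH
    have hqβ : q ∉ Cfsg.beta H := fun hb =>
      (Cfsg.Agent.S1408.result hG M h.hM q hq.2.1 hq.2.2.1 hq.2.2.2).1 hb.2
    obtain ⟨Q, N, hNn, hNQ⟩ := h108 H hH q hqq hqH hqβ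
    haveI := hNn
    -- `|N|` is prime to `q` and `|X : N|` is a power of `q`
    have hidx : N.index = Nat.card (Q : Subgroup ↥(Cfsg.sigmaCore H)) := by
      have h1 := hNQ.card_mul_card
      have h2 := N.card_mul_index
      have hpos : 0 < Nat.card N := Nat.card_pos
      have : Nat.card N * N.index = Nat.card N * Nat.card (Q : Subgroup ↥(Cfsg.sigmaCore H)) := by
        rw [h1, h2]
      exact Nat.eq_of_mul_eq_mul_left hpos this
    have hNcop : ¬ q ∣ Nat.card N := by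
      have h1 := hNQ.index_eq_card
      rw [← h1]
      exact Q.not_dvd_index
    have hidxp : (N.index).Coprime p := by
      rw [hidx]
      obtain ⟨k, hk⟩ := IsPGroup.iff_card.mp Q.isPGroup'
      rw [hk]
      exact Nat.Coprime.pow_left k ((Nat.coprime_primes hqq hpp).mpr hqp)
    -- `y ∈ N`
    have hyσ : y ∈ Cfsg.sigmaCore H := hSσ hyS
    have hyN' : (⟨y, hyσ⟩ : ↥(Cfsg.sigmaCore H)) ∈ N := by
      have hZp : IsPGroup p (Subgroup.zpowers (⟨y, hyσ⟩ : ↥(Cfsg.sigmaCore H))) := by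
        obtain ⟨n, hn⟩ := hSp ⟨y, hyS⟩
        have hn' : y ^ (p ^ n) = 1 := by simpa using congrArg Subtype.val hn
        have h1 : orderOf (⟨y, hyσ⟩ : ↥(Cfsg.sigmaCore H)) ∣ p ^ n := by
          rw [Subgroup.orderOf_mk]
          exact orderOf_dvd_of_pow_eq_one hn'
        obtain ⟨m', -, hm'⟩ := (Nat.dvd_prime_pow hpp).mp h1
        exact IsPGroup.of_card (n := m') (by rw [Nat.card_zpowers, hm'])
      exact Cfsg.Agent.Helper29.BG10.le_of_index_coprime N hidxp _ hZp
        (Subgroup.mem_zpowers _)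
    -- `y` normalizes `B`
    have hyB : cj y B ≤ B := by
      have h1 : cj y B ≤ E := by
        have h2 : cj y B ≤ Subgroup.centralizer (A : Set G) := by
          have h3 := cj_mono (g := y) hBCA
          rwa [← Cfsg.Agent.Helper29.BG11.centralizer_cj, cj_eq_of_mem_normalizer hyN] at h3
        refine h2.trans ?_
        have := h.c126.2.1.1
        rwa [h.c126.2.1.2.1] at this
      intro b hb
      by_cases hb1 : b = 1
      · rw [hb1]; exact B.one_mem
      · have hbq : b ^ q = 1 := (isElementaryAbelian_cj hBel y).2 b hb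
        have hcard : Nat.card (Subgroup.zpowers b) = q := by
          rw [Nat.card_zpowers]
          exact orderOf_eq_prime hbq hb1
        have hle : Subgroup.zpowers b ≤ E := by
          rw [Subgroup.zpowers_le]; exact h1 hb
        exact hXB _ hle hcard (Subgroup.mem_zpowers b)
    have hyNB : y ∈ Subgroup.normalizer (B : Set G) := by
      apply mem_normalizer_of_cj_eq
      exact Subgroup.eq_of_le_of_card_ge hyB (by rw [card_cj])
    -- `y` centralizes `B`
    have hyCB : y ∈ Subgroup.centralizer (B : Set G) := by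
      rw [Subgroup.mem_centralizer_iff]
      intro b hb
      have hbσ : b ∈ Cfsg.sigmaCore H := hBσ hb
      have hcB : b * y * b⁻¹ * y⁻¹ ∈ B := by
        have : b * y * b⁻¹ * y⁻¹ = b * (y * b⁻¹ * y⁻¹) := by group
        rw [this]
        exact B.mul_mem hb ((Subgroup.mem_normalizer_iff.mp hyNB b⁻¹).mp (B.inv_mem hb))
      have hcN : (⟨b, hbσ⟩ * ⟨y, hyσ⟩ * ⟨b, hbσ⟩⁻¹ * ⟨y, hyσ⟩⁻¹ : ↥(Cfsg.sigmaCore H)) ∈ N :=
        N.mul_mem (hNn.conj_mem _ hyN' _) (N.inv_mem hyN')
      have ho1 : orderOf (b * y * b⁻¹ * y⁻¹) ∣ q ^ 2 := by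
        rw [← hBc]
        have := orderOf_dvd_natCard (⟨_, hcB⟩ : ↥B)
        rwa [Subgroup.orderOf_mk] at this
      have ho2 : orderOf (b * y * b⁻¹ * y⁻¹) ∣ Nat.card N := by
        have := orderOf_dvd_natCard (⟨_, hcN⟩ : ↥N)
        rw [Subgroup.orderOf_mk] at this
        have e : orderOf (⟨b, hbσ⟩ * ⟨y, hyσ⟩ * ⟨b, hbσ⟩⁻¹ * ⟨y, hyσ⟩⁻¹ : ↥(Cfsg.sigmaCore H)) =
            orderOf (b * y * b⁻¹ * y⁻¹) := by
          rw [← Subgroup.orderOf_coe]
          rfl
        rwa [e] at this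
      have hcop : (q ^ 2).Coprime (Nat.card N) :=
        Nat.Coprime.pow_left 2 ((Nat.Prime.coprime_iff_not_dvd hqq).mpr hNcop)
      have ho : orderOf (b * y * b⁻¹ * y⁻¹) = 1 := Nat.eq_one_of_dvd_coprimes hcop ho1 ho2
      rw [orderOf_eq_one_iff] at ho
      have : b * y * b⁻¹ * y⁻¹ * (y * b) = 1 * (y * b) := by rw [ho]
      rw [one_mul] at this
      rw [← this]; group
    exact hyM (hCBM hyCB)
  · -- `q ∉ σ(H)`: then `q ∈ τ₂(H)` and B-G 12.5(e) applies to `(H, q, B)`
    have hr1 : ¬ Cfsg.PRankLE q 1 ↥H := by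
      rw [Cfsg.Agent.Helper23.not_pRankLE_subgroup_iff]
      refine ⟨B, hBH, hBel, ?_⟩
      rw [hBc, pow_one]
      have := hqq.one_lt
      nlinarith
    have hr2 : Cfsg.PRankLE q 2 ↥H := by
      by_contra hr2
      exact hqσ (Cfsg.Agent.Helper29.BG10.alpha_subset_sigma hG hU hH ⟨hqq, hr2⟩)
    have hqτ : q ∈ Cfsg.tau2 H := ⟨hqq, hqσ, hr2, hr1⟩
    have he := (h.h125 H hH q hqτ B hBH hBel hBc).2.2.2.2.1 M h.hM hHM hBM
    apply h.A_ne_bot
    rw [eq_bot_iff, ← he]
    exact le_inf (hAS.trans hSσ) h.hAM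

/-- part (a) of B-G 12.7 -/
theorem tau2_eq (h108 : Hyp108 G) : Cfsg.tau2 M = {p} := by
  ext q
  constructor
  · intro hq
    exact h.tau2_unique h108 hq
  · intro hq
    rw [Set.mem_singleton_iff] at hq
    rw [hq]
    exact h.hp

end

end Ctx

end Cfsg.Agent.Helper22.BG127
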