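import Mathlib
import Cfsg.Agent.Helper22.BG127d
import Cfsg.Agent.Helper31.BGTrans3

set_option autoImplicit false
set_option linter.unusedSectionVars false
set_option linter.unusedVariables false
set_option linter.style.haveILetI false

/-!
# B-G Theorem 12.7 (statement S1419), part E: `F(M) = M_σ × A₀` (helper22)
-/

namespace Cfsg.Agent.Helper22.BG127

open Cfsg Cfsg.Agent.Helper29.BG10 Cfsg.Agent.Helper22.BG126

variable {G : Type*} [Group G] [Finite G]

/-- B-G 10.10 (helper57's (E2)) in the form used here: for a Sylow `p`-subgroup `S ≥ A` of `G`,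
every element `u` of `C_S(A)` with `u ^ p ≠ 1` has a nontrivial power in `Z(S)` -/
def HypE2 (p : ℕ) (A : Subgroup G) : Prop :=
  ∀ S : Sylow p G, A ≤ (S : Subgroup G) → ∀ u ∈ (S : Subgroup G),
    u ∈ Subgroup.centralizer (A : Set G) → u ^ p ≠ 1 →
    ∃ k : ℕ, u ^ k ≠ 1 ∧ u ^ k ∈ Subgroup.centralizer ((S : Subgroup G) : Set G)

/-- a nonidentity `p`-element has a power of order `p` -/
theorem exists_pow_order_p {p : ℕ} [Fact p.Prime] {x : G} {n : ℕ} (hx : x ^ (p ^ n) = 1)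
    (hx1 : x ≠ 1) : ∃ j : ℕ, x ^ (p ^ j) ≠ 1 ∧ (x ^ (p ^ j)) ^ p = 1 := by
  have hpp : p.Prime := Fact.out
  obtain ⟨k, -, hk⟩ := (Nat.dvd_prime_pow hpp).mp (orderOf_dvd_of_pow_eq_one hx)
  have hk0 : k ≠ 0 := by
    intro h0
    rw [h0, pow_zero, orderOf_eq_one_iff] at hk
    exact hx1 hk
  refine ⟨k - 1, ?_, ?_⟩
  · apply pow_ne_one_of_lt_orderOf (pow_pos hpp.pos _).ne'
    rw [hk]
    exact Nat.pow_lt_pow_right hpp.one_lt (by omega)
  · rw [← pow_mul, ← pow_succ, Nat.sub_add_cancel (by omega), ← hk, pow_orderOf_eq_one]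

namespace Ctx

variable {M E : Subgroup G} {p : ℕ} [Fact p.Prime] {A : Subgroup G}

section
variable (h : Ctx M E p A)
include h

/-- part (b), second half, of B-G 12.7: `F(M) = M_σ A₀` -/
theorem fitting_eq (h108 : Hyp108 G) (hE2 : HypE2 p A) :
    Cfsg.fittingOf M = Cfsg.sigmaCore M ⊔
      (A ⊓ Subgroup.centralizer (Cfsg.sigmaCore M : Set G)) := by
  have hpp : p.Prime := Fact.out
  haveI := h.simple
  have hG := h.hG
  have hU := h.hU
  obtain ⟨hA0c, hA0b, hA0u⟩ := h.A0_spec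
  have hA0N := h.A0_normal
  have hA0M : A ⊓ Subgroup.centralizer (Cfsg.sigmaCore M : Set G) ≤ M :=
    inf_le_left.trans h.hAM
  have hA0p : IsPGroup p ↥(A ⊓ Subgroup.centralizer (Cfsg.sigmaCore M : Set G)) :=
    IsPGroup.of_card (n := 1) (by rw [hA0c, pow_one])
  have hA0ne : A ⊓ Subgroup.centralizer (Cfsg.sigmaCore M : Set G) ≠ ⊥ := by
    intro hb
    rw [hb, Subgroup.card_bot] at hA0c
    exact hpp.one_lt.ne hA0c
  have hnilσ : Group.IsNilpotent ↥(Cfsg.sigmaCore M) := h.c125.1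
  have hFσ : Cfsg.fittingOf (Cfsg.sigmaCore M) = Cfsg.sigmaCore M :=
    le_antisymm (Cfsg.Agent.Helper29.Bender.fittingOf_le _)
      (Cfsg.Agent.Helper29.Bender.le_fittingOf le_rfl Subgroup.le_normalizer hnilσ)
  rw [Cfsg.Agent.Helper64.BG126.fittingOf_eq_sup M, hFσ]
  congr 1
  -- `Y = O_{σ(M)'}(F(M))`
  have hYF : Cfsg.piCoreOf {q | q.Prime ∧ q ∉ Cfsg.sigma M} (Cfsg.fittingOf M) ≤
      Cfsg.fittingOf M := Cfsg.Agent.Helper31.piCoreOf_le _ _
  have hFM : Cfsg.fittingOf M ≤ M := Cfsg.Agent.Helper29.Bender.fittingOf_le M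
  have hYM := hYF.trans hFM
  have hMY : M ≤ Subgroup.normalizer
      ((Cfsg.piCoreOf {q | q.Prime ∧ q ∉ Cfsg.sigma M} (Cfsg.fittingOf M) : Subgroup G) :
        Set G) :=
    (Cfsg.Agent.Helper29.Bender.le_normalizer_fittingOf M).trans
      (Cfsg.Agent.Helper31.normalizer_le_normalizer_piCoreOf _ _)
  have hYp : IsPGroup p
      ↥(Cfsg.piCoreOf {q | q.Prime ∧ q ∉ Cfsg.sigma M} (Cfsg.fittingOf M)) := by
    apply Cfsg.Agent.Helper31.isPGroup_of_primes_singleton hpp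
    intro r hr hd
    have := Cfsg.Agent.Helper64.BG126.mem_tau2_of_dvd hG hU h.hM hr hd
    rwa [h.tau2_eq h108] at this
  have hA0Y : A ⊓ Subgroup.centralizer (Cfsg.sigmaCore M : Set G) ≤
      Cfsg.piCoreOf {q | q.Prime ∧ q ∉ Cfsg.sigma M} (Cfsg.fittingOf M) := by
    have hA0F : A ⊓ Subgroup.centralizer (Cfsg.sigmaCore M : Set G) ≤ Cfsg.fittingOf M :=
      Cfsg.Agent.Helper29.Bender.le_fittingOf hA0M hA0N hA0p.isNilpotent
    apply Cfsg.Agent.Helper31.le_piCoreOf_of_normal hA0F (hFM.trans hA0N)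
    intro r hr hd
    rw [hA0c] at hd
    rw [(Nat.prime_dvd_prime_iff_eq hr hpp).mp hd]
    exact ⟨hpp, h.hp.2.1⟩
  generalize Cfsg.piCoreOf {q | q.Prime ∧ q ∉ Cfsg.sigma M} (Cfsg.fittingOf M) = Y
    at hYF hYM hMY hYp hA0Y ⊢
  apply le_antisymm
  · -- `Y ≤ A₀`
    have hYS0 : Y ⊓ Cfsg.sigmaCore M = ⊥ := by
      apply Disjoint.eq_bot
      apply Subgroup.disjoint_of_coprime_natCard
      obtain ⟨k, hk⟩ := IsPGroup.iff_card.mp hYp
      rw [hk]
      exact Nat.Coprime.pow_left k ((Nat.Prime.coprime_iff_not_dvd hpp).mpr h.not_dvd_sigmaCore)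
    have hYC : Y ≤ Subgroup.centralizer (Cfsg.sigmaCore M : Set G) := by
      intro u hu
      rw [Subgroup.mem_centralizer_iff]
      intro s hs
      have h1 : u * s * u⁻¹ * s⁻¹ ∈ Y ⊓ Cfsg.sigmaCore M := by
        constructor
        · have : u * s * u⁻¹ * s⁻¹ = u * (s * u⁻¹ * s⁻¹) := by group
          rw [this]
          exact Y.mul_mem hu
            ((Subgroup.mem_normalizer_iff.mp (hMY (h.hSM hs)) u⁻¹).mp (Y.inv_mem hu))
        · exact Subgroup.mul_mem _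
            (Cfsg.Agent.Helper68.BG12.conj_mem_sigmaCore (hYM hu) hs) (Subgroup.inv_mem _ hs)
      rw [hYS0, Subgroup.mem_bot] at h1
      have : u * s * u⁻¹ * s⁻¹ * (s * u) = 1 * (s * u) := by rw [h1]
      rw [one_mul] at this
      rw [← this]; group
    obtain ⟨S, y, hAS, hΩ, hyS, hyN, hyM, hcent, hnorm⟩ := h.exists_S'
    have hYS : Y ≤ (S : Subgroup G) := hnorm Y hYp hYM hMY
    have hΩY : ∀ u ∈ Y, u ^ p = 1 →
        u ∈ A ⊓ Subgroup.centralizer (Cfsg.sigmaCore M : Set G) := fun u hu hup =>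
      ⟨hΩ u (hYS hu) (hYM hu) hup, hYC hu⟩
    by_contra hnle
    obtain ⟨u, hu, huA0⟩ := SetLike.not_le_iff_exists.mp hnle
    have hup : u ^ p ≠ 1 := fun hup => huA0 (hΩY u hu hup)
    obtain ⟨k, hk1, hkC⟩ := hE2 S hAS u (hYS hu) (hcent u (hYS hu) (hYM hu)) hup
    obtain ⟨n, hn⟩ := hYp ⟨u ^ k, Y.pow_mem hu k⟩
    have hn' : (u ^ k) ^ (p ^ n) = 1 := by simpa using congrArg Subtype.val hn
    obtain ⟨j, hj1, hjp⟩ := exists_pow_order_p hn' hk1
    have hzY : (u ^ k) ^ (p ^ j) ∈ Y := Y.pow_mem (Y.pow_mem hu k) _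
    have hzC : (u ^ k) ^ (p ^ j) ∈ Subgroup.centralizer ((S : Subgroup G) : Set G) :=
      Subgroup.pow_mem _ hkC _
    have hzA0 := hΩY _ hzY hjp
    generalize (u ^ k) ^ (p ^ j) = z at hj1 hjp hzY hzC hzA0
    have hzeq : Subgroup.zpowers z = A ⊓ Subgroup.centralizer (Cfsg.sigmaCore M : Set G) := by
      apply Subgroup.eq_of_le_of_card_ge
      · rw [Subgroup.zpowers_le]; exact hzA0
      · rw [hA0c, Nat.card_zpowers, orderOf_eq_prime hjp hj1]
    have hA0S : A ⊓ Subgroup.centralizer (Cfsg.sigmaCore M : Set G) ≤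
        Subgroup.centralizer ((S : Subgroup G) : Set G) := by
      rw [← hzeq, Subgroup.zpowers_le]; exact hzC
    have hSM : (S : Subgroup G) ≤ M := by
      have h1 : (S : Subgroup G) ≤ Subgroup.centralizer
          ((A ⊓ Subgroup.centralizer (Cfsg.sigmaCore M : Set G) : Subgroup G) : Set G) :=
        Subgroup.le_centralizer_iff.mp hA0S
      have h2 := Cfsg.Agent.Helper64.BG126.normalizer_eq_of_coatom h.hM hA0ne hA0M hA0N
      exact h1.trans ((Subgroup.centralizer_le_normalizer _).trans h2.le)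
    exact hyM (hSM hyS)
  · exact hA0Y

end

end Ctx

end Cfsg.Agent.Helper22.BG127
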