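import Mathlib
import Cfsg.Agent.Helper22.BG127e

set_option autoImplicit false
set_option linter.unusedSectionVars false
set_option linter.unusedVariables false
set_option linter.style.haveILetI false

/-!
# B-G Theorem 12.7 (statement S1419), assembled (helper22)

`thm_12_7`: the conclusion of S1419 from the Uniqueness Theorem (S1403), B-G 12.4(a) (S1416, first
part), B-G 12.5 (S1417), the normal complements of B-G 10.8 (S1414, fifth part), B-G 10.5 (S1408,
imported) and B-G 10.10 in the form `HypE2`.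
-/

namespace Cfsg.Agent.Helper22.BG127

open Cfsg Cfsg.Agent.Helper29.BG10 Cfsg.Agent.Helper22.BG126

variable {G : Type*} [Group G] [Finite G]

/-- **B-G Theorem 12.7.** -/
theorem thm_12_7 (hG : Cfsg.IsMinSimpleOddOrder G) (hU : UniquenessThm G)
    (h124 : Hyp124 G) (h125 : Hyp125 G) (h108 : Hyp108 G)
    (M : Subgroup G) (hM : IsCoatom M) (E : Subgroup G)
    (hE : Cfsg.IsComplIn E (Cfsg.sigmaCore M) M) (p : ℕ) [Fact p.Prime]
    (hp : p ∈ Cfsg.tau2 M) (hS : ∀ S : Sylow p G, ¬ IsMulCommutative (S : Subgroup G))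
    (A : Subgroup G) (hA : (A ≤ E ∧ Cfsg.IsElementaryAbelian p A ∧ Nat.card A = p ^ 2))
    (hE2 : HypE2 p A) :
    Cfsg.tau2 M = {p} ∧
      (Nat.card ↥(A ⊓ Subgroup.centralizer (Cfsg.sigmaCore M : Set G)) = p ∧
        Cfsg.fittingOf M = Cfsg.sigmaCore M ⊔
          (A ⊓ Subgroup.centralizer (Cfsg.sigmaCore M : Set G))) ∧
      ∀ X : Subgroup G, X ≤ E → Nat.card X = p →
        X ≠ A ⊓ Subgroup.centralizer (Cfsg.sigmaCore M : Set G) →
        Cfsg.sigmaCore M ⊓ Subgroup.centralizer (X : Set G) = ⊥ ∧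
          ¬ Subgroup.centralizer (X : Set G) ≤ M := by
  have h : Ctx M E p A := ⟨hG, hU, hM, hE, hp, hS, hA.1, hA.2.1, hA.2.2, h124, h125⟩
  exact ⟨h.tau2_eq h108, ⟨h.A0_spec.1, h.fitting_eq h108 hE2⟩,
    fun X hXE hXc hne => h.part_c X hXE hXc hne⟩

end Cfsg.Agent.Helper22.BG127
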