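import Mathlib
import Cfsg.Agent.Helper22.BG127f
import Cfsg.Agent.Helper57.BG1010
import Cfsg.Agent.Helper67.CyclicSub

set_option autoImplicit false
set_option linter.unusedSectionVars false
set_option linter.unusedVariables false
set_option linter.style.haveILetI false

/-!
# B-G Theorem 12.7 (statement S1419): the hypothesis `HypE2` from B-G 10.10 (helper57's
`Helper57.BG1010.centralizer_sylow`) (helper22)
-/

namespace Cfsg.Agent.Helper22.BG127

open Cfsg Cfsg.Agent.Helper29.BG10 Cfsg.Agent.Helper22.BG126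

variable {G : Type*} [Group G] [Finite G]

/-- the conclusion of S1412 for every Sylow `p`-subgroup of `G` -/
def Hyp1412 (p : ℕ) (G : Type*) [Group G] : Prop :=
  ∀ Pstar : Sylow p G, Cfsg.PRankLE p 2 (Pstar : Subgroup G) →
    IsMulCommutative (Pstar : Subgroup G) ∨
      ∃ P₁ P₂ : Subgroup G, P₁ ⊔ P₂ = (Pstar : Subgroup G) ∧
        (∀ a ∈ P₁, ∀ b ∈ P₂, a * b = b * a) ∧ ¬ IsMulCommutative P₁ ∧ Nat.card P₁ = p ^ 3 ∧
        Monoid.exponent P₁ = p ∧ IsCyclic P₂ ∧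
        Subgroup.closure {x : G | x ∈ P₂ ∧ x ^ p = 1} = P₁ ⊓ Subgroup.centralizer (P₁ : Set G)

theorem hypE2_of_1010 (hG : Cfsg.IsMinSimpleOddOrder G) {M : Subgroup G} (hM : IsCoatom M)
    {p : ℕ} [Fact p.Prime] (hp : p ∈ Cfsg.tau2 M)
    (hS : ∀ S : Sylow p G, ¬ IsMulCommutative (S : Subgroup G)) {A : Subgroup G} (hAM : A ≤ M)
    (hAel : Cfsg.IsElementaryAbelian p A) (hAcard : Nat.card A = p ^ 2)
    (h1412 : Hyp1412 p G) : HypE2 p A := by
  have hpp : p.Prime := Fact.out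
  have hp2 : p ≠ 2 := by
    intro h2
    have h1 : Nat.card A ∣ Nat.card G := Subgroup.card_subgroup_dvd_card A
    rw [hAcard, h2] at h1
    have h3 : 2 ∣ Nat.card G := (dvd_pow_self 2 (by norm_num)).trans h1
    exact (Nat.not_even_iff_odd.mpr hG.1) (even_iff_two_dvd.mpr h3)
  have hAmax := (Cfsg.Agent.S1408.result hG M hM p hp.2.1 hp.2.2.1 hp.2.2.2).2 A hAM hAel hAcard
  intro S hAS u huS huC hup
  obtain ⟨-, h2⟩ := Cfsg.Agent.Helper57.BG1010.centralizer_sylow p hp2 S (h1412 S) A hAS hAel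
    hAcard hAmax
  obtain ⟨a, haA, ha1, C₁, hcyc, haC, hac, hsup, hcen⟩ := h2 (hS S)
  haveI := hcyc
  have hcomm : ∀ x ∈ Subgroup.zpowers a, ∀ b ∈ C₁, x * b = b * x := by
    rintro x ⟨i, rfl⟩ b hb
    exact ((show Commute a b from hac b hb).zpow_left i).eq
  have hu : u ∈ Subgroup.zpowers a ⊔ C₁ := by rw [hsup]; exact ⟨huS, huC⟩
  obtain ⟨x₁, hx₁, c, hc, rfl⟩ :=
    Cfsg.Agent.Helper57.BG1010.exists_mul_of_mem_sup_of_commute _ _ hcomm u hu
  have hx₁p : x₁ ^ p = 1 := by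
    apply hAel.2
    exact (Subgroup.zpowers_le.mpr haA) hx₁
  have hxc : Commute x₁ c := hcomm x₁ hx₁ c hc
  have hC₁S : C₁ ≤ (S : Subgroup G) := by
    have : C₁ ≤ Subgroup.zpowers a ⊔ C₁ := le_sup_right
    rw [hsup] at this
    exact this.trans inf_le_left
  have hcp : c ^ p ≠ 1 := by
    intro h1
    apply hup
    rw [hxc.mul_pow, hx₁p, h1, one_mul]
  obtain ⟨n, hn⟩ := S.isPGroup' ⟨c ^ p, Subgroup.pow_mem _ (hC₁S hc) p⟩
  have hn' : (c ^ p) ^ (p ^ n) = 1 := by simpa using congrArg Subtype.val hn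
  obtain ⟨j, hj1, hjp⟩ := exists_pow_order_p hn' hcp
  have hwC₁ : (c ^ p) ^ (p ^ j) ∈ C₁ := C₁.pow_mem (C₁.pow_mem hc p) _
  have hS1 : (S : Subgroup G) ≠ ⊥ := by
    intro hb
    apply hcp
    have := hC₁S hc
    rw [hb, Subgroup.mem_bot] at this
    rw [this, one_pow]
  obtain ⟨z₀, hz₀S, hz₀1, hz₀p, hz₀c⟩ := exists_central_order_p (S : Subgroup G) S.isPGroup' hS1
  have hz₀C₁ : z₀ ∈ C₁ := hcen z₀ hz₀S hz₀c hz₀p
  have heq : Subgroup.zpowers ((c ^ p) ^ (p ^ j)) = Subgroup.zpowers z₀ := by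
    apply Cfsg.Agent.Helper67.eq_of_card_eq_of_le_cyclic C₁ _ _
      (Subgroup.zpowers_le.mpr hwC₁) (Subgroup.zpowers_le.mpr hz₀C₁)
    rw [Nat.card_zpowers, Nat.card_zpowers, orderOf_eq_prime hjp hj1,
      orderOf_eq_prime hz₀p hz₀1]
  have hz₀cent : z₀ ∈ Subgroup.centralizer ((S : Subgroup G) : Set G) := by
    rw [Subgroup.mem_centralizer_iff]
    intro g hg
    exact hz₀c g hg
  refine ⟨p * p ^ j, ?_, ?_⟩
  · rw [hxc.mul_pow, pow_mul, pow_mul, hx₁p, one_pow, one_mul]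
    exact hj1
  · rw [hxc.mul_pow, pow_mul, pow_mul, hx₁p, one_pow, one_mul]
    have : (c ^ p) ^ (p ^ j) ∈ Subgroup.zpowers z₀ := by
      rw [← heq]; exact Subgroup.mem_zpowers _
    exact (Subgroup.zpowers_le.mpr hz₀cent) this

end Cfsg.Agent.Helper22.BG127
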