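import Mathlib
import Cfsg.Prelude.Def_OddOrderLocal
import Cfsg.Agent.Helper29.BG11A
import Cfsg.Agent.Helper69.PiElem

/-!
# Bender-Glauberman Theorem 14.6 (partition of `G - 1` by the tilde-sets), part A (helper22)

Statement-shaped hypotheses (`H1375`, `H1433`, `H1378b`), the description of `supportR M x`
for `x ∈ M_σ - 1`, its equivariance under conjugation, and the disjointness of the tilde-sets of
non-conjugate maximal subgroups (first clause of statement S1379).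
-/

set_option autoImplicit false

namespace Cfsg.Agent.Helper22.BG146

open Cfsg Cfsg.Agent.Helper29.BG10 Cfsg.Agent.Helper29.BG11

variable {G : Type*} [Group G]

/-! ### hypotheses in the shape of the frozen statements -/

/-- the clauses of S1375 that we use -/
def H1375 (G : Type*) [Group G] : Prop :=
  ∀ M : Subgroup G, IsCoatom M → ∀ x : G, x ∈ Cfsg.sigmaCore M → x ≠ 1 →
    ¬ Subgroup.centralizer ({x} : Set G) ≤ M →
    ∃ N : Subgroup G, (IsCoatom N ∧ Subgroup.centralizer ({x} : Set G) ≤ N) ∧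
      (∀ L : Subgroup G, IsCoatom L → Subgroup.centralizer ({x} : Set G) ≤ L → L = N) ∧
      Cfsg.sigmaCore N = Cfsg.fittingHallOf N ∧
      Subgroup.centralizer ({x} : Set G) ≤ Subgroup.normalizer
        ((Cfsg.sigmaCore N ⊓ Subgroup.centralizer ({x} : Set G) : Subgroup G) : Set G) ∧
      Cfsg.IsComplIn (M ⊓ Subgroup.centralizer ({x} : Set G))
        (Cfsg.sigmaCore N ⊓ Subgroup.centralizer ({x} : Set G)) (Subgroup.centralizer ({x} : Set G))

/-- S1433 -/
def H1433 (G : Type*) [Group G] : Prop :=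
  ∀ M N : Subgroup G, IsCoatom M → IsCoatom N → ∀ x y : G, x ∈ Cfsg.sigmaCore M →
    y ∈ Cfsg.sigmaCore N → x ≠ 1 → y ≠ 1 → x ≠ y →
    ∀ r ∈ Cfsg.supportR M x, ∀ s ∈ Cfsg.supportR N y, x * r ≠ y * s

/-- S1378, second clause (σ-partition) -/
def H1378b (G : Type*) [Group G] : Prop :=
  ∀ M N : Subgroup G, IsCoatom M → IsCoatom N → (Cfsg.sigma M ∩ Cfsg.sigma N).Nonempty →
    ∃ g : G, N = cj g M

/-! ### centralizers and conjugation -/

theorem centralizer_singleton_conj (c y : G) :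
    Subgroup.centralizer ({c * y * c⁻¹} : Set G) = cj c (Subgroup.centralizer ({y} : Set G)) := by
  ext z
  rw [mem_cj, Subgroup.mem_centralizer_singleton_iff, Subgroup.mem_centralizer_singleton_iff]
  constructor
  · intro h
    calc c⁻¹ * z * c * y = c⁻¹ * (z * (c * y * c⁻¹)) * c := by group
      _ = c⁻¹ * (c * y * c⁻¹ * z) * c := by rw [h]
      _ = y * (c⁻¹ * z * c) := by group
  · intro h
    calc z * (c * y * c⁻¹) = c * (c⁻¹ * z * c * y) * c⁻¹ := by group
      _ = c * (y * (c⁻¹ * z * c)) * c⁻¹ := by rw [h]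
      _ = c * y * c⁻¹ * z := by group

theorem conj_ne_one {c y : G} (hy : y ≠ 1) : c * y * c⁻¹ ≠ 1 := by
  intro h
  apply hy
  have : y = c⁻¹ * (c * y * c⁻¹) * c := by group
  rw [this, h]; group

/-! ### `supportR` -/

theorem supportR_eq_bot {M : Subgroup G} {x : G}
    (h : Subgroup.centralizer ({x} : Set G) ≤ M) : Cfsg.supportR M x = ⊥ := by
  unfold Cfsg.supportR
  rw [dif_neg]
  intro h'
  exact h'.1 h

theorem supportR_eq_of_unique {M N : Subgroup G} {x : G}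
    (h1 : ¬ Subgroup.centralizer ({x} : Set G) ≤ M) (hN : IsCoatom N)
    (hxN : Subgroup.centralizer ({x} : Set G) ≤ N)
    (huniq : ∀ L : Subgroup G, IsCoatom L → Subgroup.centralizer ({x} : Set G) ≤ L → L = N) :
    Cfsg.supportR M x = Cfsg.fittingHallOf N ⊓ Subgroup.centralizer ({x} : Set G) := by
  have hex : ∃! L : Subgroup G, IsCoatom L ∧ Subgroup.centralizer ({x} : Set G) ≤ L :=
    ⟨N, ⟨hN, hxN⟩, fun L hL => huniq L hL.1 hL.2⟩
  have hcond : ¬ Subgroup.centralizer ({x} : Set G) ≤ M ∧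
      ∃! L : Subgroup G, IsCoatom L ∧ Subgroup.centralizer ({x} : Set G) ≤ L := ⟨h1, hex⟩
  unfold Cfsg.supportR
  rw [dif_pos hcond]
  have hc := Classical.choose_spec hcond.2.exists
  rw [huniq _ hc.1 hc.2]

/-- `supportR M x ≤ C_G(x)` -/
theorem supportR_le_centralizer (M : Subgroup G) (x : G) :
    Cfsg.supportR M x ≤ Subgroup.centralizer ({x} : Set G) := by
  unfold Cfsg.supportR
  split_ifs with h
  · exact inf_le_right
  · exact bot_le

/-- description of `supportR M x` for `x ∈ M_σ - 1` with `C_G(x) ⊄ M` -/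
theorem supportR_eq_sigmaCore (h75 : H1375 G) {M : Subgroup G} (hM : IsCoatom M) {x : G}
    (hx : x ∈ Cfsg.sigmaCore M) (hx1 : x ≠ 1)
    (h1 : ¬ Subgroup.centralizer ({x} : Set G) ≤ M) {N : Subgroup G} (hN : IsCoatom N)
    (hxN : Subgroup.centralizer ({x} : Set G) ≤ N) :
    Cfsg.supportR M x = Cfsg.sigmaCore N ⊓ Subgroup.centralizer ({x} : Set G) := by
  obtain ⟨N', ⟨hN', hxN'⟩, huniq, hF, -, -⟩ := h75 M hM x hx hx1 h1
  have hNN' : N = N' := huniq N hN hxN
  subst hNN'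
  rw [supportR_eq_of_unique h1 hN hxN huniq, hF]

variable [Finite G]

/-- equivariance of `supportR` on `N_σ - 1` -/
theorem supportR_conj (hG : Cfsg.IsMinSimpleOddOrder G) (hU : UniquenessThm G) (h75 : H1375 G)
    {N : Subgroup G} (hN : IsCoatom N) {y : G} (hy : y ∈ Cfsg.sigmaCore N) (hy1 : y ≠ 1) (c : G) :
    Cfsg.supportR (cj c N) (c * y * c⁻¹) = cj c (Cfsg.supportR N y) := by
  have hNc : IsCoatom (cj c N) := isCoatom_cj hN c
  have hyc : c * y * c⁻¹ ∈ Cfsg.sigmaCore (cj c N) := by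
    rw [sigmaCore_cj hG hU hN c]
    exact conj_mem_cj hy
  have hyc1 : c * y * c⁻¹ ≠ 1 := conj_ne_one hy1
  by_cases h : Subgroup.centralizer ({y} : Set G) ≤ N
  · rw [supportR_eq_bot h, cj_bot, supportR_eq_bot]
    rw [centralizer_singleton_conj]
    exact cj_mono h
  · have h' : ¬ Subgroup.centralizer ({c * y * c⁻¹} : Set G) ≤ cj c N := by
      rw [centralizer_singleton_conj, cj_le_cj_iff]
      exact h
    obtain ⟨N₁, ⟨hN₁, hyN₁⟩, -, -, -, -⟩ := h75 N hN y hy hy1 h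
    have hN₁c : IsCoatom (cj c N₁) := isCoatom_cj hN₁ c
    have hyN₁c : Subgroup.centralizer ({c * y * c⁻¹} : Set G) ≤ cj c N₁ := by
      rw [centralizer_singleton_conj]
      exact cj_mono hyN₁
    rw [supportR_eq_sigmaCore h75 hN hy hy1 h hN₁ hyN₁,
      supportR_eq_sigmaCore h75 hNc hyc hyc1 h' hN₁c hyN₁c, sigmaCore_cj hG hU hN₁ c,
      centralizer_singleton_conj, cj_inf]

/-! ### the tilde-sets -/

omit [Finite G] in
theorem conj_mem_tildeOf {M : Subgroup G} {A : Set G} {g : G} (c : G)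
    (hg : g ∈ Cfsg.tildeOf M A) : c * g * c⁻¹ ∈ Cfsg.tildeOf M A := by
  obtain ⟨a, ha, r, hr, y, rfl⟩ := hg
  exact ⟨a, ha, r, hr, c * y, by group⟩

omit [Finite G] in
theorem mem_tildeOf_of_conj_mem {M : Subgroup G} {A : Set G} {g : G} (c : G)
    (hg : c * g * c⁻¹ ∈ Cfsg.tildeOf M A) : g ∈ Cfsg.tildeOf M A := by
  have := conj_mem_tildeOf c⁻¹ hg
  have e : c⁻¹ * (c * g * c⁻¹) * c⁻¹⁻¹ = g := by group
  rwa [e] at this

/-- **first clause of S1379**: the tilde-sets of non-conjugate maximal subgroups are disjoint -/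
theorem tilde_disjoint (hG : Cfsg.IsMinSimpleOddOrder G) (hU : UniquenessThm G) (h75 : H1375 G)
    (h33 : H1433 G) (h78 : H1378b G) {M N : Subgroup G} (hM : IsCoatom M) (hN : IsCoatom N)
    (hnc : ∀ g : G, N ≠ cj g M) :
    Cfsg.tildeOf M ((Cfsg.sigmaCore M : Set G) \ {1}) ∩
      Cfsg.tildeOf N ((Cfsg.sigmaCore N : Set G) \ {1}) = ∅ := by
  rw [Set.eq_empty_iff_forall_notMem]
  rintro g ⟨⟨x, ⟨hx, hx1⟩, r, hr, a, hga⟩, ⟨y, ⟨hy, hy1⟩, s, hs, b, hgb⟩⟩
  have hx1' : x ≠ 1 := fun h => hx1 (by simp [h])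
  have hy1' : y ≠ 1 := fun h => hy1 (by simp [h])
  -- conjugate everything by `c := a⁻¹ * b`
  set c : G := a⁻¹ * b with hc
  have hNc : IsCoatom (cj c N) := isCoatom_cj hN c
  have hyc : c * y * c⁻¹ ∈ Cfsg.sigmaCore (cj c N) := by
    rw [sigmaCore_cj hG hU hN c]
    exact conj_mem_cj hy
  have hyc1 : c * y * c⁻¹ ≠ 1 := conj_ne_one hy1'
  have hsc : c * s * c⁻¹ ∈ Cfsg.supportR (cj c N) (c * y * c⁻¹) := by
    rw [supportR_conj hG hU h75 hN hy hy1' c]
    exact conj_mem_cj hs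
  have heq : x * r = (c * y * c⁻¹) * (c * s * c⁻¹) := by
    have h1 : a * (x * r) * a⁻¹ = b * (y * s) * b⁻¹ := by rw [← hga, ← hgb]
    have h2 : x * r = a⁻¹ * (a * (x * r) * a⁻¹) * a := by group
    rw [h2, h1, hc]
    group
  by_cases hxy : x = c * y * c⁻¹
  · -- a common prime of `σ(M)` and `σ(N^c)`
    have hxord : orderOf x ≠ 1 := fun h => hx1' (orderOf_eq_one_iff.1 h)
    obtain ⟨p, hp, hpx⟩ := Nat.exists_prime_and_dvd hxord
    have hpM : p ∈ Cfsg.sigma M := by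
      apply primes_sigmaCore M p hp
      have : orderOf (⟨x, hx⟩ : ↥(Cfsg.sigmaCore M)) = orderOf x :=
        Subgroup.orderOf_mk x hx
      rw [← this] at hpx
      exact hpx.trans (orderOf_dvd_natCard _)
    have hpN : p ∈ Cfsg.sigma (cj c N) := by
      apply primes_sigmaCore (cj c N) p hp
      rw [hxy] at hpx
      have : orderOf (⟨c * y * c⁻¹, hyc⟩ : ↥(Cfsg.sigmaCore (cj c N))) = orderOf (c * y * c⁻¹) :=
        Subgroup.orderOf_mk _ hyc
      rw [← this] at hpx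
      exact hpx.trans (orderOf_dvd_natCard _)
    obtain ⟨g', hg'⟩ := h78 M (cj c N) hM hNc ⟨p, hpM, hpN⟩
    apply hnc (c⁻¹ * g')
    rw [cj_mul, ← hg', cj_inv_cj]
  · exact h33 M (cj c N) hM hNc x (c * y * c⁻¹) hx hyc hx1' hyc1 hxy r hr _ hsc heq

end Cfsg.Agent.Helper22.BG146
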