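import Mathlib
import Cfsg.Prelude.Def_OddOrderLocal
import Cfsg.Agent.Helper22.BG146a
import Cfsg.Agent.Helper29.BG10F
import Cfsg.Agent.Helper62.CoprimeHall
import Cfsg.Agent.Helper71.BGHall
import Cfsg.Agent.Helper31.BG144Core
import Cfsg.Agent.Helper23.RankTwo
import Cfsg.Agent.Helper64.BG1218

/-!
# Bender-Glauberman Theorem 14.6, part B (helper22): every `g ≠ 1` lies in a tilde-set or is
conjugate to a product `x v`, `x ∈ M_σ - 1`, `v ∈ C_M(x) - 1` a `κ(M)`-element.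
-/

set_option autoImplicit false

namespace Cfsg.Agent.Helper22.BG146

open Cfsg Cfsg.Agent.Helper29.BG10 Cfsg.Agent.Helper29.BG11 Cfsg.Agent.Helper69
open scoped Pointwise

variable {G : Type*} [Group G] [Finite G]

/-! ### more hypotheses in the shape of the frozen statements -/

/-- S1378, first clause -/
def H1378a (G : Type*) [Group G] : Prop :=
  ∀ p : ℕ, p.Prime → p ∣ Nat.card G → ∃ M : Subgroup G, IsCoatom M ∧ p ∈ Cfsg.sigma M

/-- S1425 -/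
def H1425 (G : Type*) [Group G] : Prop :=
  ∀ M : Subgroup G, IsCoatom M → ∀ Y : Subgroup G, Y ≠ ⊥ →
    (∀ p : ℕ, p.Prime → p ∣ Nat.card Y → p ∈ Cfsg.sigma M) → ∃ g : G, cj g Y ≤ Cfsg.sigmaCore M

/-- S1432 -/
def H1432 (G : Type*) [Group G] : Prop :=
  ∀ M : Subgroup G, IsCoatom M → ∀ x : G, x ∈ Cfsg.sigmaCore M → x ≠ 1 →
    ∀ x' : G, x' ∈ M ⊓ Subgroup.centralizer ({x} : Set G) → x' ≠ 1 →
    (∀ p : ℕ, p.Prime → p ∣ orderOf x' → p ∉ Cfsg.sigma M) →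
    ((∀ p : ℕ, p.Prime → p ∣ orderOf x' → p ∈ Cfsg.kappa M) ∧
        Subgroup.centralizer ({x} : Set G) ≤ M) ∨
      ((∀ p : ℕ, p.Prime → p ∣ orderOf x' → p ∈ Cfsg.tau2 M) ∧
        (∃ L : Subgroup G, IsCoatom L ∧ ∀ p : ℕ, p.Prime → p ∣ orderOf x' → p ∈ Cfsg.sigma L) ∧
        (Subgroup.centralizer ({x'} : Set G) ≤ M ∧
          ∀ L : Subgroup G, IsCoatom L → Subgroup.centralizer ({x'} : Set G) ≤ L → L = M))

/-- S1374, first clause -/
def H1374 (G : Type*) [Group G] : Prop :=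
  ∀ M : Subgroup G, IsCoatom M → ∀ x : G, x ∈ Cfsg.sigmaCore M → x ≠ 1 →
    (Nat.card ↥(M ⊓ Subgroup.centralizer ({x} : Set G))).Coprime
      ((M ⊓ Subgroup.centralizer ({x} : Set G)).relIndex (Subgroup.centralizer ({x} : Set G)))

/-- S1417, clause (a) -/
def H1417a (G : Type*) [Group G] : Prop :=
  ∀ M : Subgroup G, IsCoatom M → ∀ (p : ℕ) [Fact p.Prime], p ∈ Cfsg.tau2 M →
    ∀ A : Subgroup G, A ≤ M → Cfsg.IsElementaryAbelian p A → Nat.card A = p ^ 2 →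
    Group.IsNilpotent ↥(Cfsg.sigmaCore M)

/-! ### `M_σ ≤ M_F` when `M_σ` is nilpotent -/

theorem sigmaCore_le_fittingHallOf (hG : Cfsg.IsMinSimpleOddOrder G) (hU : UniquenessThm G)
    {M : Subgroup G} (hM : IsCoatom M) (hnil : Group.IsNilpotent ↥(Cfsg.sigmaCore M)) :
    Cfsg.sigmaCore M ≤ Cfsg.fittingHallOf M := by
  obtain ⟨hHall, -, -⟩ := thm_10_2_sigma hG hU M hM
  unfold Cfsg.fittingHallOf
  have hle : Cfsg.piCore (Cfsg.sigma M) ↥M ≤ Cfsg.fittingHall ↥M := by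
    unfold Cfsg.fittingHall
    apply le_sSup
    refine ⟨inferInstance, ?_, ?_⟩
    · -- nilpotent
      have e : ↥(Cfsg.piCore (Cfsg.sigma M) ↥M) ≃* ↥(Cfsg.sigmaCore M) :=
        (Cfsg.piCore (Cfsg.sigma M) ↥M).equivMapOfInjective M.subtype M.subtype_injective
      exact Group.nilpotent_of_mulEquiv e.symm
    · -- coprime
      have h1 : Nat.card ↥(Cfsg.piCore (Cfsg.sigma M) ↥M) = Nat.card ↥(Cfsg.sigmaCore M) := by
        unfold Cfsg.sigmaCore
        rw [Subgroup.card_map_of_injective M.subtype_injective]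
      have h2 : (Cfsg.piCore (Cfsg.sigma M) ↥M).index = (Cfsg.sigmaCore M).relIndex M := by
        unfold Cfsg.sigmaCore
        rw [relIndex_map_subtype]
      rw [h1, h2]
      exact Cfsg.Agent.Helper62.isPiHallOf_coprime hHall
  exact Subgroup.map_mono hle

/-! ### a Schur-Zassenhaus / Hall conjugation lemma -/

/-- `C = A R` with `R` normal, `A` a Hall subgroup, `C` solvable: every `v ∈ C` is conjugate under
`R` to a commuting product `m r`, `m ∈ A`, `r ∈ R`, `o(m) ∣ o(v)`. -/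
theorem exists_conj_decomp {C A R : Subgroup G} [Group.IsSolvable ↥C]
    (hcompl : Cfsg.IsComplIn A R C) (hnorm : C ≤ Subgroup.normalizer (R : Set G))
    (hcop : (Nat.card ↥A).Coprime (A.relIndex C)) {v : G} (hv : v ∈ C) :
    ∃ u ∈ R, ∃ r ∈ R, ∃ m ∈ A, u * v * u⁻¹ = m * r ∧ m * r = r * m ∧ orderOf m ∣ orderOf v := by
  set π : Set ℕ := {p | p.Prime ∧ p ∣ Nat.card ↥A} with hπ
  obtain ⟨x, w, hx, hw, hvxw, hxπ, hwπ⟩ := exists_pi_decomp π v
  have hzC : Subgroup.zpowers v ≤ C := Subgroup.zpowers_le.2 hv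
  have hxC : x ∈ C := hzC hx
  have hwC : w ∈ C := hzC hw
  have hxw : x * w = w * x := commute_of_mem_zpowers hx hw
  -- `A` is a Hall `π`-subgroup of `C`
  have hAhall : Cfsg.IsPiHallOf π A C := by
    refine ⟨hcompl.1, fun p hp hd => ⟨hp, hd⟩, fun p hp hpπ hd => ?_⟩
    have h1 : p ∣ Nat.gcd (Nat.card ↥A) (A.relIndex C) := Nat.dvd_gcd hpπ.2 hd
    rw [hcop] at h1
    exact hp.one_lt.ne' (Nat.dvd_one.1 h1)
  -- the `π`-part lies in a conjugate of `A`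
  have hBC : Subgroup.zpowers x ≤ C := Subgroup.zpowers_le.2 hxC
  have hB : ∀ p : ℕ, p.Prime → p ∣ Nat.card ↥(Subgroup.zpowers x) → p ∈ π := by
    intro p hp hd
    rw [Nat.card_zpowers] at hd
    exact hxπ p hp hd
  obtain ⟨A', hA', hBA'⟩ := Cfsg.Agent.Helper71.BGHall.exists_isPiHallOf_ge π C hBC hB
  obtain ⟨g, hgC, hgA⟩ := Cfsg.Agent.Helper62.isPiHallOf_conj_of_solvable hAhall hA'
  have hxA' : x ∈ MulAut.conj g • A := by
    rw [hgA]; exact hBA' (Subgroup.mem_zpowers x)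
  have hgx : g⁻¹ * x * g ∈ A := by
    rw [Subgroup.mem_pointwise_smul_iff_inv_smul_mem] at hxA'
    simpa [MulAut.smul_def, MulAut.conj_inv_apply] using hxA'
  obtain ⟨a₀, ha₀, b₀, hb₀, hgab⟩ := hcompl.2.2.2 g hgC
  have ha₀C : a₀ ∈ C := hcompl.1 ha₀
  have hb₁ : a₀ * b₀ * a₀⁻¹ ∈ R :=
    (Subgroup.mem_normalizer_iff.1 (hnorm ha₀C) b₀).1 hb₀
  set u : G := (a₀ * b₀ * a₀⁻¹)⁻¹ with hu
  have huR : u ∈ R := R.inv_mem hb₁
  have hmA : u * x * u⁻¹ ∈ A := by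
    have e : u * x * u⁻¹ = a₀ * (g⁻¹ * x * g) * a₀⁻¹ := by
      rw [hu, hgab]; group
    rw [e]
    exact A.mul_mem (A.mul_mem ha₀ hgx) (A.inv_mem ha₀)
  -- the `π'`-part lies in `R`
  have hwR : w ∈ R := by
    have : (R.subgroupOf C).Normal := Subgroup.normal_subgroupOf_of_le_normalizer hnorm
    have h1 : (⟨w, hwC⟩ : ↥C) ^ (R.subgroupOf C).index ∈ R.subgroupOf C :=
      Subgroup.pow_index_mem _ _
    have h2 : w ^ R.relIndex C ∈ R := by
      have := Subgroup.mem_subgroupOf.1 h1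
      simpa [Subgroup.relIndex] using this
    have hk : R.relIndex C = Nat.card ↥A := by
      have e1 := Cfsg.Agent.Helper11.card_mul_relIndex hcompl.2.1
      have e2 := Cfsg.Agent.Helper31.BG144Core.card_mul_card_of_isComplIn hcompl
      have hpos : 0 < Nat.card ↥R := Nat.card_pos
      have : Nat.card ↥R * R.relIndex C = Nat.card ↥R * Nat.card ↥A := by
        rw [e1, mul_comm, e2]
      exact Nat.eq_of_mul_eq_mul_left hpos this
    have hcop' : (R.relIndex C).Coprime (orderOf w) := by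
      rw [hk]
      apply Nat.coprime_of_dvd
      intro p hp h1 h2
      exact hwπ p hp h2 ⟨hp, h1⟩
    obtain ⟨t, ht⟩ := exists_pow_eq_self_of_coprime hcop'
    rw [← ht]
    exact R.pow_mem h2 t
  refine ⟨u, huR, u * w * u⁻¹, R.mul_mem (R.mul_mem huR hwR) (R.inv_mem huR), u * x * u⁻¹, hmA,
    ?_, ?_, ?_⟩
  · rw [hvxw]; group
  · have e1 : u * x * u⁻¹ * (u * w * u⁻¹) = u * (x * w) * u⁻¹ := by group
    have e2 : u * w * u⁻¹ * (u * x * u⁻¹) = u * (w * x) * u⁻¹ := by group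
    rw [e1, e2, hxw]
  · rw [orderOf_conj_eq]
    exact orderOf_dvd_of_mem_zpowers hx

/-! ### the `τ₂`-alternative of S1432 -/

theorem mem_sigma_of_dvd_orderOf {M : Subgroup G} {m : G} (hm : m ∈ Cfsg.sigmaCore M) {p : ℕ}
    (hp : p.Prime) (hd : p ∣ orderOf m) : p ∈ Cfsg.sigma M := by
  apply primes_sigmaCore M p hp
  have : orderOf (⟨m, hm⟩ : ↥(Cfsg.sigmaCore M)) = orderOf m := Subgroup.orderOf_mk m hm
  rw [← this] at hd
  exact hd.trans (orderOf_dvd_natCard _)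

theorem tau2_case (hG : Cfsg.IsMinSimpleOddOrder G) (hU : UniquenessThm G) (h25 : H1425 G)
    (h17 : H1417a G) {M : Subgroup G} (hM : IsCoatom M) {x m : G} (hx : x ∈ Cfsg.sigmaCore M)
    (hm1 : m ≠ 1) (hcomm : x * m = m * x)
    (hτ : ∀ p : ℕ, p.Prime → p ∣ orderOf m → p ∈ Cfsg.tau2 M) {L : Subgroup G} (hL : IsCoatom L)
    (hLσ : ∀ p : ℕ, p.Prime → p ∣ orderOf m → p ∈ Cfsg.sigma L)
    (hCm : Subgroup.centralizer ({m} : Set G) ≤ M)
    (huniq : ∀ L' : Subgroup G, IsCoatom L' → Subgroup.centralizer ({m} : Set G) ≤ L' → L' = M) :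
    ∃ N : Subgroup G, IsCoatom N ∧ x * m ∈ Cfsg.tildeOf N ((Cfsg.sigmaCore N : Set G) \ {1}) := by
  have hmord : orderOf m ≠ 1 := fun h => hm1 (orderOf_eq_one_iff.1 h)
  obtain ⟨p, hp, hpm⟩ := Nat.exists_prime_and_dvd hmord
  have : Fact p.Prime := ⟨hp⟩
  -- conjugate `L` so that `m ∈ L_σ`
  have hY1 : Subgroup.zpowers m ≠ ⊥ := by
    intro h
    exact hm1 (Subgroup.zpowers_eq_bot.1 h)
  have hYσ : ∀ q : ℕ, q.Prime → q ∣ Nat.card ↥(Subgroup.zpowers m) → q ∈ Cfsg.sigma L := by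
    intro q hq hd
    rw [Nat.card_zpowers] at hd
    exact hLσ q hq hd
  obtain ⟨c, hc⟩ := h25 L hL (Subgroup.zpowers m) hY1 hYσ
  have hN : IsCoatom (cj c⁻¹ L) := isCoatom_cj hL c⁻¹
  have hmN : m ∈ Cfsg.sigmaCore (cj c⁻¹ L) := by
    rw [sigmaCore_cj hG hU hL c⁻¹, mem_cj, inv_inv]
    exact hc (conj_mem_cj (Subgroup.mem_zpowers m))
  have hnot : ¬ Subgroup.centralizer ({m} : Set G) ≤ cj c⁻¹ L := by
    intro h
    have hNM : cj c⁻¹ L = M := huniq _ hN h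
    rw [hNM] at hmN
    exact (hτ p hp hpm).2.1 (mem_sigma_of_dvd_orderOf hmN hp hpm)
  have hsupp : Cfsg.supportR (cj c⁻¹ L) m =
      Cfsg.fittingHallOf M ⊓ Subgroup.centralizer ({m} : Set G) :=
    supportR_eq_of_unique hnot hM hCm huniq
  -- `M_σ` is nilpotent
  have hτp := hτ p hp hpm
  obtain ⟨A₁, hA₁M, hA₁e, hA₁lt⟩ :=
    (Cfsg.Agent.Helper23.not_pRankLE_subgroup_iff p 1 M).1 hτp.2.2.2
  rw [pow_one] at hA₁lt
  obtain ⟨A, hAA₁, hAe, hA2⟩ := Cfsg.Agent.Helper64.BG1218.exists_sq_le hA₁e hA₁lt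
  have hnil : Group.IsNilpotent ↥(Cfsg.sigmaCore M) :=
    h17 M hM p hτp A (hAA₁.trans hA₁M) hAe hA2
  have hxF : x ∈ Cfsg.fittingHallOf M := sigmaCore_le_fittingHallOf hG hU hM hnil hx
  have hxC : x ∈ Subgroup.centralizer ({m} : Set G) :=
    Subgroup.mem_centralizer_singleton_iff.2 hcomm
  refine ⟨cj c⁻¹ L, hN, m, ⟨hmN, fun h => hm1 (by simpa using h)⟩, x, ?_, 1, ?_⟩
  · rw [hsupp]; exact ⟨hxF, hxC⟩
  · rw [hcomm]; group

/-! ### the covering lemma -/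

/-- the second alternative of the covering lemma -/
def KappaAlt (M : Subgroup G) (g : G) : Prop :=
  ∃ c x v : G, x ∈ Cfsg.sigmaCore M ∧ x ≠ 1 ∧ v ∈ M ∧ v ≠ 1 ∧ x * v = v * x ∧
    (∀ q : ℕ, q.Prime → q ∣ orderOf v → q ∈ Cfsg.kappa M) ∧ g = c * (x * v) * c⁻¹

/-- the first alternative of the covering lemma -/
def TildeAlt (g : G) : Prop :=
  ∃ N : Subgroup G, IsCoatom N ∧ g ∈ Cfsg.tildeOf N ((Cfsg.sigmaCore N : Set G) \ {1})

omit [Finite G] in
theorem TildeAlt.of_conj {g : G} (c : G) (h : TildeAlt (c * g * c⁻¹)) : TildeAlt g := by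
  obtain ⟨N, hN, hg⟩ := h
  exact ⟨N, hN, mem_tildeOf_of_conj_mem c hg⟩

omit [Finite G] in
theorem KappaAlt.of_conj {M : Subgroup G} {g : G} (c : G) (h : KappaAlt M (c * g * c⁻¹)) :
    KappaAlt M g := by
  obtain ⟨d, x, v, hx, hx1, hv, hv1, hxv, hκ, hg⟩ := h
  refine ⟨c⁻¹ * d, x, v, hx, hx1, hv, hv1, hxv, hκ, ?_⟩
  have : g = c⁻¹ * (c * g * c⁻¹) * c := by group
  rw [this, hg]; group

theorem coverAt_aux (hG : Cfsg.IsMinSimpleOddOrder G) (hU : UniquenessThm G) (h75 : H1375 G)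
    (h74 : H1374 G) (h32 : H1432 G) (h25 : H1425 G) (h17 : H1417a G) {M : Subgroup G}
    (hM : IsCoatom M) {x v : G} (hx : x ∈ Cfsg.sigmaCore M) (hx1 : x ≠ 1) (hxv : x * v = v * x)
    (hvπ : IsPi (Cfsg.sigma M)ᶜ v) : TildeAlt (x * v) ∨ KappaAlt M (x * v) := by
  have hvCx : v ∈ Subgroup.centralizer ({x} : Set G) :=
    Subgroup.mem_centralizer_singleton_iff.2 hxv.symm
  by_cases hC : Subgroup.centralizer ({x} : Set G) ≤ M
  · by_cases hv1 : v = 1
    · left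
      refine ⟨M, hM, x, ⟨hx, fun h => hx1 (by simpa using h)⟩, 1, one_mem _, 1, ?_⟩
      rw [hv1]; group
    · have hvM : v ∈ M := hC hvCx
      rcases h32 M hM x hx hx1 v ⟨hvM, hvCx⟩ hv1 (fun p hp hd => hvπ p hp hd) with
        ⟨hκ, -⟩ | ⟨hτ, ⟨L, hL, hLσ⟩, hCv, huniq⟩
      · right
        exact ⟨1, x, v, hx, hx1, hvM, hv1, hxv, hκ, by group⟩
      · left
        exact tau2_case hG hU h25 h17 hM hx hv1 hxv hτ hL hLσ hCv huniq
  · obtain ⟨N, ⟨hN, hxN⟩, -, -, hnormR, hcompl⟩ := h75 M hM x hx hx1 hC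
    have hCne : Subgroup.centralizer ({x} : Set G) ≠ ⊤ := by
      intro h
      apply hN.1
      rw [h] at hxN
      exact top_le_iff.1 hxN
    have : Group.IsSolvable ↥(Subgroup.centralizer ({x} : Set G)) := hG.2.2.2 _ hCne
    have hcop := h74 M hM x hx hx1
    obtain ⟨u, hu, r, hr, m, hm, huv, hmr, hord⟩ := exists_conj_decomp hcompl hnormR hcop hvCx
    have hux : u * x * u⁻¹ = x := by
      have h1 : u * x = x * u := Subgroup.mem_centralizer_singleton_iff.1 hu.2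
      rw [h1]; group
    have hsupp : Cfsg.supportR M x =
        Cfsg.sigmaCore N ⊓ Subgroup.centralizer ({x} : Set G) :=
      supportR_eq_sigmaCore h75 hM hx hx1 hC hN hxN
    have hconj : u * (x * v) * u⁻¹ = x * (m * r) := by
      have : u * (x * v) * u⁻¹ = (u * x * u⁻¹) * (u * v * u⁻¹) := by group
      rw [this, hux, huv]
    by_cases hm1 : m = 1
    · left
      apply TildeAlt.of_conj u
      rw [hconj, hm1, one_mul]
      refine ⟨M, hM, x, ⟨hx, fun h => hx1 (by simpa using h)⟩, r, ?_, 1, by group⟩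
      rw [hsupp]; exact hr
    · have hmσ : ∀ p : ℕ, p.Prime → p ∣ orderOf m → p ∉ Cfsg.sigma M :=
        fun p hp hd => hvπ p hp (hd.trans hord)
      rcases h32 M hM x hx hx1 m hm hm1 hmσ with ⟨-, hCM⟩ | ⟨hτ, ⟨L, hL, hLσ⟩, hCm, huniq⟩
      · exact absurd hCM hC
      · -- `r = 1`
        have hrCm : r ∈ Subgroup.centralizer ({m} : Set G) :=
          Subgroup.mem_centralizer_singleton_iff.2 hmr.symm
        have hr1 : r = 1 := by
          have : r ∈ (M ⊓ Subgroup.centralizer ({x} : Set G)) ⊓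
              (Cfsg.sigmaCore N ⊓ Subgroup.centralizer ({x} : Set G)) :=
            ⟨⟨hCm hrCm, hr.2⟩, hr⟩
          rw [hcompl.2.2.1] at this
          exact Subgroup.mem_bot.1 this
        have hxm : x * m = m * x := (Subgroup.mem_centralizer_singleton_iff.1 hm.2).symm
        left
        apply TildeAlt.of_conj u
        rw [hconj, hr1, mul_one]
        exact tau2_case hG hU h25 h17 hM hx hm1 hxm hτ hL hLσ hCm huniq

/-- **covering lemma**: `p ∈ σ(M)`, `p ∣ o(g)`: `g` lies in a tilde-set or is conjugate to `x v`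
with `x ∈ M_σ - 1`, `v ∈ C_M(x) - 1` a `κ(M)`-element. -/
theorem coverAt (hG : Cfsg.IsMinSimpleOddOrder G) (hU : UniquenessThm G) (h75 : H1375 G)
    (h74 : H1374 G) (h32 : H1432 G) (h25 : H1425 G) (h17 : H1417a G) {M : Subgroup G}
    (hM : IsCoatom M) {g : G} {p : ℕ} (hp : p.Prime) (hpg : p ∣ orderOf g)
    (hpM : p ∈ Cfsg.sigma M) : TildeAlt g ∨ KappaAlt M g := by
  obtain ⟨x₀, v₀, hx₀, hv₀, hg, hx₀π, hv₀π⟩ := exists_pi_decomp (Cfsg.sigma M) g
  have hcomm₀ : x₀ * v₀ = v₀ * x₀ := commute_of_mem_zpowers hx₀ hv₀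
  have hpx₀ : p ∣ orderOf x₀ := by
    have h1 : p ∣ orderOf x₀ * orderOf v₀ := by
      rw [hg] at hpg
      exact hpg.trans (Commute.orderOf_mul_dvd_mul_orderOf hcomm₀)
    rcases (Nat.Prime.dvd_mul hp).1 h1 with h | h
    · exact h
    · exact absurd hpM (hv₀π p hp h)
  have hx₀1 : x₀ ≠ 1 := by
    intro h
    rw [h, orderOf_one] at hpx₀
    exact hp.one_lt.ne' (Nat.dvd_one.1 hpx₀)
  have hY1 : Subgroup.zpowers x₀ ≠ ⊥ := fun h => hx₀1 (Subgroup.zpowers_eq_bot.1 h)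
  have hYσ : ∀ q : ℕ, q.Prime → q ∣ Nat.card ↥(Subgroup.zpowers x₀) → q ∈ Cfsg.sigma M := by
    intro q hq hd
    rw [Nat.card_zpowers] at hd
    exact hx₀π q hq hd
  obtain ⟨c, hc⟩ := h25 M hM (Subgroup.zpowers x₀) hY1 hYσ
  have hx : c * x₀ * c⁻¹ ∈ Cfsg.sigmaCore M := hc (conj_mem_cj (Subgroup.mem_zpowers x₀))
  have hx1 : c * x₀ * c⁻¹ ≠ 1 := conj_ne_one hx₀1
  have hxv : (c * x₀ * c⁻¹) * (c * v₀ * c⁻¹) = (c * v₀ * c⁻¹) * (c * x₀ * c⁻¹) := by
    have e1 : (c * x₀ * c⁻¹) * (c * v₀ * c⁻¹) = c * (x₀ * v₀) * c⁻¹ := by group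
    have e2 : (c * v₀ * c⁻¹) * (c * x₀ * c⁻¹) = c * (v₀ * x₀) * c⁻¹ := by group
    rw [e1, e2, hcomm₀]
  have hvπ : IsPi (Cfsg.sigma M)ᶜ (c * v₀ * c⁻¹) := (isPi_conj c v₀).2 hv₀π
  have hgc : c * g * c⁻¹ = (c * x₀ * c⁻¹) * (c * v₀ * c⁻¹) := by
    rw [hg]; group
  rcases coverAt_aux hG hU h75 h74 h32 h25 h17 hM hx hx1 hxv hvπ with h | h
  · left
    apply TildeAlt.of_conj c
    rw [hgc]; exact h
  · right
    apply KappaAlt.of_conj c
    rw [hgc]; exact h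

/-- **second clause of S1379**: if all `κ(M)` are empty, the tilde-sets cover `G - 1`. -/
theorem cover_of_kappa_empty (hG : Cfsg.IsMinSimpleOddOrder G) (hU : UniquenessThm G)
    (h75 : H1375 G) (h74 : H1374 G) (h32 : H1432 G) (h25 : H1425 G) (h17 : H1417a G)
    (h78a : H1378a G) (hκ : ∀ M : Subgroup G, IsCoatom M → Cfsg.kappa M = ∅) {g : G}
    (hg : g ≠ 1) : TildeAlt g := by
  have hgord : orderOf g ≠ 1 := fun h => hg (orderOf_eq_one_iff.1 h)
  obtain ⟨p, hp, hpg⟩ := Nat.exists_prime_and_dvd hgord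
  obtain ⟨M, hM, hpM⟩ := h78a p hp (hpg.trans (orderOf_dvd_natCard g))
  rcases coverAt hG hU h75 h74 h32 h25 h17 hM hp hpg hpM with h | h
  · exact h
  · obtain ⟨c, x, v, -, -, -, hv1, -, hκv, -⟩ := h
    have hvord : orderOf v ≠ 1 := fun h => hv1 (orderOf_eq_one_iff.1 h)
    obtain ⟨q, hq, hqv⟩ := Nat.exists_prime_and_dvd hvord
    have := hκv q hq hqv
    rw [hκ M hM] at this
    exact absurd this (Set.notMem_empty q)

end Cfsg.Agent.Helper22.BG146
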