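import Mathlib
import Cfsg.Prelude.Def_OddOrderLocal
import Cfsg.Agent.Helper22.BG146b
import Cfsg.Agent.Helper60.BGAsmB

/-!
# Bender-Glauberman Theorem 14.6, part C (helper22): the set `Ẑ = K K* - (K ∪ K*)`.
-/

set_option autoImplicit false

namespace Cfsg.Agent.Helper22.BG146

open Cfsg Cfsg.Agent.Helper29.BG10 Cfsg.Agent.Helper29.BG11 Cfsg.Agent.Helper69
open scoped Pointwise

variable {G : Type*} [Group G] [Finite G]

/-- `M = K U M_σ` with `K ≠ 1` and a partner `M*` (the hypotheses of S1367, S1369, S1434) -/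
structure Pair (M K U Mstar : Subgroup G) : Prop where
  hM : IsCoatom M
  hKU : Cfsg.IsSigmaDecomposition M K U
  hK1 : K ≠ ⊥
  hMs : IsCoatom Mstar
  hKst : K = Cfsg.sigmaCore Mstar ⊓ Subgroup.centralizer
    ((Cfsg.sigmaCore M ⊓ Subgroup.centralizer (K : Set G) : Subgroup G) : Set G)
  hKstH : Cfsg.IsPiHallOf (Cfsg.kappa Mstar)
    (Cfsg.sigmaCore M ⊓ Subgroup.centralizer (K : Set G)) Mstar

/-- S1430, first clause -/
def H1430a (G : Type*) [Group G] : Prop :=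
  ∀ M : Subgroup G, IsCoatom M → ∀ K : Subgroup G, Cfsg.IsPiHallOf (Cfsg.kappa M) K M → K ≠ ⊥ →
    ∀ k ∈ K, k ≠ 1 → Cfsg.sigmaCore M ⊓ Subgroup.centralizer ({k} : Set G) =
      Cfsg.sigmaCore M ⊓ Subgroup.centralizer (K : Set G)

/-- S1431, first clause -/
def H1431a (G : Type*) [Group G] : Prop :=
  ∀ M : Subgroup G, IsCoatom M → ∀ K : Subgroup G, Cfsg.IsPiHallOf (Cfsg.kappa M) K M → K ≠ ⊥ →
    ∀ g : G, g ∉ M → (Cfsg.sigmaCore M ⊓ Subgroup.centralizer (K : Set G)) ⊓ cj g M = ⊥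

/-- S1366 (existence) -/
def H1366 (G : Type*) [Group G] : Prop :=
  ∀ M K U : Subgroup G, IsCoatom M → Cfsg.IsSigmaDecomposition M K U → K ≠ ⊥ →
    ∃ Mstar : Subgroup G, Pair M K U Mstar

/-- S1369, second clause -/
def H1369b (G : Type*) [Group G] : Prop :=
  ∀ M K U Mstar : Subgroup G, Pair M K U Mstar → ∀ H : Subgroup G, IsCoatom H →
    (Cfsg.kappa H).Nonempty → ∃ g : G, H = cj g M ∨ H = cj g Mstar

/-- S1434, the clause `C_G(x y) = K K*` -/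
def H1434c (G : Type*) [Group G] : Prop :=
  ∀ M K U Mstar : Subgroup G, Pair M K U Mstar → ∀ x ∈ K, x ≠ 1 →
    ∀ y ∈ Cfsg.sigmaCore M ⊓ Subgroup.centralizer (K : Set G), y ≠ 1 →
    Subgroup.centralizer ({x * y} : Set G) =
      K ⊔ (Cfsg.sigmaCore M ⊓ Subgroup.centralizer (K : Set G))

/-- S1367 (without the uniqueness clauses) -/
def H1367 (G : Type*) [Group G] : Prop :=
  ∀ M K U Mstar : Subgroup G, Pair M K U Mstar →
    (∀ X : Subgroup G, X ≤ Cfsg.sigmaCore M ⊓ Subgroup.centralizer (K : Set G) →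
      (Nat.card X).Prime → Subgroup.centralizer (X : Set G) ≤ M) ∧
    (∀ Y : Subgroup G, Y ≤ K → (Nat.card Y).Prime → Subgroup.centralizer (Y : Set G) ≤ Mstar)

/-! ### elementary facts on `K`, `K*` -/

omit [Finite G] in
theorem isPi_of_mem {π : Set ℕ} {A : Subgroup G} [Finite A]
    (hA : ∀ p : ℕ, p.Prime → p ∣ Nat.card A → p ∈ π) {a : G} (ha : a ∈ A) : IsPi π a := by
  intro p hp hd
  apply hA p hp
  have : orderOf (⟨a, ha⟩ : ↥A) = orderOf a := Subgroup.orderOf_mk a ha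
  rw [← this] at hd
  exact hd.trans (orderOf_dvd_natCard _)

theorem isPi_sigmaCore {M : Subgroup G} {a : G} (ha : a ∈ Cfsg.sigmaCore M) :
    IsPi (Cfsg.sigma M) a :=
  isPi_of_mem (primes_sigmaCore M) ha

omit [Finite G] in
theorem kappa_subset_compl_sigma (M : Subgroup G) : Cfsg.kappa M ⊆ (Cfsg.sigma M)ᶜ :=
  fun _ hp => hp.2.2.1

theorem isPi_hall_kappa {M K : Subgroup G} (hK : Cfsg.IsPiHallOf (Cfsg.kappa M) K M) {k : G}
    (hk : k ∈ K) : IsPi (Cfsg.sigma M)ᶜ k :=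
  isPi_of_mem (fun p hp hd => kappa_subset_compl_sigma M (hK.2.1 p hp hd)) hk

omit [Finite G] in
theorem comm_of_mem_Kst {M K : Subgroup G} {k y : G} (hk : k ∈ K)
    (hy : y ∈ Cfsg.sigmaCore M ⊓ Subgroup.centralizer (K : Set G)) : k * y = y * k :=
  Subgroup.mem_centralizer_iff.1 hy.2 k hk

theorem K_inf_Kst {M K : Subgroup G} (hK : Cfsg.IsPiHallOf (Cfsg.kappa M) K M) :
    K ⊓ (Cfsg.sigmaCore M ⊓ Subgroup.centralizer (K : Set G)) = ⊥ := by
  rw [Subgroup.eq_bot_iff_forall]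
  rintro a ⟨haK, haS⟩
  exact eq_one_of_isPi_of_isPi_compl (isPi_sigmaCore haS.1) (isPi_hall_kappa hK haK)

omit [Finite G] in
/-- products of nontrivial elements of two subgroups meeting trivially avoid both -/
theorem mul_mem_diff {A B : Subgroup G} (hAB : A ⊓ B = ⊥) {a b : G} (ha : a ∈ A) (hb : b ∈ B)
    (ha1 : a ≠ 1) (hb1 : b ≠ 1) :
    a * b ∈ ((↑(A ⊔ B) : Set G) \ ((A : Set G) ∪ ↑B)) := by
  refine ⟨(A ⊔ B).mul_mem ((le_sup_left : A ≤ A ⊔ B) ha) ((le_sup_right : B ≤ A ⊔ B) hb), ?_⟩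
  rintro (h | h)
  · have hbA : b ∈ A := by
      have : b = a⁻¹ * (a * b) := by group
      rw [this]; exact A.mul_mem (A.inv_mem ha) h
    have : b ∈ A ⊓ B := ⟨hbA, hb⟩
    rw [hAB] at this
    exact hb1 (Subgroup.mem_bot.1 this)
  · have haB : a ∈ B := by
      have : a = (a * b) * b⁻¹ := by group
      rw [this]; exact B.mul_mem h (B.inv_mem hb)
    have : a ∈ A ⊓ B := ⟨ha, haB⟩
    rw [hAB] at this
    exact ha1 (Subgroup.mem_bot.1 this)

/-! ### `Ẑ` meets no tilde-set -/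

omit [Finite G] in
theorem centralizer_singleton_le_centralizer_zpowers_pow (a : G) (k : ℕ) :
    Subgroup.centralizer ({a} : Set G) ≤
      Subgroup.centralizer ((Subgroup.zpowers (a ^ k) : Subgroup G) : Set G) := by
  intro w hw
  rw [Subgroup.mem_centralizer_iff]
  intro h hh
  have haw : a ∈ Subgroup.centralizer ({w} : Set G) :=
    Subgroup.mem_centralizer_singleton_iff.2 (Subgroup.mem_centralizer_singleton_iff.1 hw).symm
  have hX : Subgroup.zpowers (a ^ k) ≤ Subgroup.centralizer ({w} : Set G) :=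
    Subgroup.zpowers_le.2 (Subgroup.pow_mem _ haw k)
  exact Subgroup.mem_centralizer_singleton_iff.1 (hX hh)

/-- the common core of the two cases -/
theorem core_case {M₀ A₀ B₀ N : Subgroup G} (hA₀ : A₀ ≤ Cfsg.sigmaCore M₀)
    (hB₀ : ∀ b ∈ B₀, IsPi (Cfsg.sigma M₀)ᶜ b) (hcomm : ∀ a ∈ A₀, ∀ b ∈ B₀, a * b = b * a)
    (hTI : ∀ g : G, g ∉ M₀ → A₀ ⊓ cj g M₀ = ⊥)
    (hcent : ∀ X : Subgroup G, X ≤ A₀ → (Nat.card X).Prime →
      Subgroup.centralizer (X : Set G) ≤ M₀)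
    {a a₁ b₁ : G} (ha₁ : a₁ ∈ A₀) (hb₁ : b₁ ∈ B₀) (ha : a = a₁ * b₁) (ha1 : a ≠ 1) {g : G}
    (hN : N = cj g M₀) (haN : a ∈ Cfsg.sigmaCore N) :
    a ∈ A₀ ∧ Cfsg.supportR N a = ⊥ := by
  have hσ : Cfsg.sigma N = Cfsg.sigma M₀ := by rw [hN, sigma_cj]
  have haπ : IsPi (Cfsg.sigma M₀) a := by
    rw [← hσ]; exact isPi_sigmaCore haN
  have ha₁π : IsPi (Cfsg.sigma M₀) a₁ := isPi_sigmaCore (hA₀ ha₁)
  have hb₁π := hB₀ b₁ hb₁
  have hb₁z : b₁ ∈ Subgroup.zpowers a := by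
    rw [ha]
    exact (mem_zpowers_mul_of_isPi ha₁π hb₁π (hcomm a₁ ha₁ b₁ hb₁)).2
  have hb₁1 : b₁ = 1 :=
    eq_one_of_isPi_of_isPi_compl (haπ.of_mem_zpowers hb₁z) hb₁π
  have haA : a ∈ A₀ := by
    rw [ha, hb₁1, mul_one]; exact ha₁
  have hgM : g ∈ M₀ := by
    by_contra hg
    have : a ∈ A₀ ⊓ cj g M₀ := ⟨haA, by rw [← hN]; exact sigmaCore_le N haN⟩
    rw [hTI g hg] at this
    exact ha1 (Subgroup.mem_bot.1 this)
  have hNM : N = M₀ := by rw [hN, cj_eq_self_of_mem hgM]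
  refine ⟨haA, supportR_eq_bot ?_⟩
  have haord : orderOf a ≠ 1 := fun h => ha1 (orderOf_eq_one_iff.1 h)
  obtain ⟨p, hp, hpa⟩ := Nat.exists_prime_and_dvd haord
  have hX : Nat.card ↥(Subgroup.zpowers (a ^ (orderOf a / p))) = p := by
    rw [Nat.card_zpowers]
    exact orderOf_pow_orderOf_div (orderOf_pos a).ne' hpa
  have hXA : Subgroup.zpowers (a ^ (orderOf a / p)) ≤ A₀ :=
    Subgroup.zpowers_le.2 (A₀.pow_mem haA _)
  rw [hNM]
  exact (centralizer_singleton_le_centralizer_zpowers_pow a _).trans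
    (hcent _ hXA (by rw [hX]; exact hp))

/-- `z ∈ Ẑ` is not of the form `a r`, `a ∈ N_σ - 1`, `r ∈ R(a)` -/
theorem zhat_ne_mul (h78 : H1378b G) (h31 : H1431a G) (h34 : H1434c G) (h67 : H1367 G)
    {M K U Mstar : Subgroup G} (hP : Pair M K U Mstar) {N : Subgroup G} (hN : IsCoatom N)
    {a r z : G} (haN : a ∈ Cfsg.sigmaCore N) (ha1 : a ≠ 1) (hr : r ∈ Cfsg.supportR N a)
    (hz : z ∈ ((↑(K ⊔ (Cfsg.sigmaCore M ⊓ Subgroup.centralizer (K : Set G))) : Set G) \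
      ((K : Set G) ∪ ↑(Cfsg.sigmaCore M ⊓ Subgroup.centralizer (K : Set G))))) :
    z ≠ a * r := by
  intro hzar
  have hKhall := hP.hKU.hall
  have hcomm : ∀ k ∈ K, ∀ y ∈ Cfsg.sigmaCore M ⊓ Subgroup.centralizer (K : Set G),
      k * y = y * k := fun k hk y hy => comm_of_mem_Kst hk hy
  obtain ⟨hzZ, hznot⟩ := hz
  obtain ⟨k, hk, k', hk', hzkk'⟩ := (Cfsg.Agent.Helper60.BGAsm.mem_sup_of_commute hcomm).1 hzZ
  have hk1 : k ≠ 1 := by
    intro h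
    apply hznot
    right
    rw [hzkk', h, one_mul]; exact hk'
  have hk'1 : k' ≠ 1 := by
    intro h
    apply hznot
    left
    rw [hzkk', h, mul_one]; exact hk
  have hKst1 : Cfsg.sigmaCore M ⊓ Subgroup.centralizer (K : Set G) ≠ ⊥ := by
    intro h
    rw [h] at hk'
    exact hk'1 (Subgroup.mem_bot.1 hk')
  have hCz : Subgroup.centralizer ({z} : Set G) =
      K ⊔ (Cfsg.sigmaCore M ⊓ Subgroup.centralizer (K : Set G)) := by
    rw [hzkk']; exact h34 M K U Mstar hP k hk hk1 k' hk' hk'1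
  -- `a ∈ C_G(z) = K K*`
  have hra : r * a = a * r :=
    Subgroup.mem_centralizer_singleton_iff.1 (supportR_le_centralizer N a hr)
  have haZ : a ∈ K ⊔ (Cfsg.sigmaCore M ⊓ Subgroup.centralizer (K : Set G)) := by
    rw [← hCz, Subgroup.mem_centralizer_singleton_iff, hzar, mul_assoc, hra]
  obtain ⟨k₁, hk₁, k₁', hk₁', hakk⟩ :=
    (Cfsg.Agent.Helper60.BGAsm.mem_sup_of_commute hcomm).1 haZ
  have hck : k₁ * k₁' = k₁' * k₁ := hcomm k₁ hk₁ k₁' hk₁'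
  have haord : orderOf a ≠ 1 := fun h => ha1 (orderOf_eq_one_iff.1 h)
  obtain ⟨p, hp, hpa⟩ := Nat.exists_prime_and_dvd haord
  have hpN : p ∈ Cfsg.sigma N := mem_sigma_of_dvd_orderOf haN hp hpa
  have hpkk : p ∣ orderOf k₁ * orderOf k₁' := by
    rw [hakk] at hpa
    exact hpa.trans (Commute.orderOf_mul_dvd_mul_orderOf hck)
  have hKstσ : K ≤ Cfsg.sigmaCore Mstar := by
    intro t ht
    have := hP.hKst ▸ ht
    exact this.1
  rcases (Nat.Prime.dvd_mul hp).1 hpkk with hpk | hpk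
  · -- `p ∈ σ(M*)`
    have hpMs : p ∈ Cfsg.sigma Mstar := mem_sigma_of_dvd_orderOf (hKstσ hk₁) hp hpk
    obtain ⟨g, hg⟩ := h78 Mstar N hP.hMs hN ⟨p, hpMs, hpN⟩
    have hTI : ∀ g : G, g ∉ Mstar → K ⊓ cj g Mstar = ⊥ := by
      intro g hg
      have := h31 Mstar hP.hMs _ hP.hKstH hKst1 g hg
      rw [← hP.hKst] at this
      exact this
    obtain ⟨haK, hsupp⟩ := core_case (M₀ := Mstar) (A₀ := K)
      (B₀ := Cfsg.sigmaCore M ⊓ Subgroup.centralizer (K : Set G)) hKstσ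
      (fun b hb => isPi_hall_kappa hP.hKstH hb) hcomm hTI (h67 M K U Mstar hP).2
      hk₁ hk₁' hakk ha1 hg haN
    rw [hsupp] at hr
    have hr1 : r = 1 := Subgroup.mem_bot.1 hr
    apply hznot
    left
    rw [hzar, hr1, mul_one]; exact haK
  · -- `p ∈ σ(M)`
    have hpM : p ∈ Cfsg.sigma M := mem_sigma_of_dvd_orderOf hk₁'.1 hp hpk
    obtain ⟨g, hg⟩ := h78 M N hP.hM hN ⟨p, hpM, hpN⟩
    have hTI : ∀ g : G, g ∉ M →
        (Cfsg.sigmaCore M ⊓ Subgroup.centralizer (K : Set G)) ⊓ cj g M = ⊥ :=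
      fun g hg => h31 M hP.hM K hKhall hP.hK1 g hg
    have hakk' : a = k₁' * k₁ := by rw [hakk, hck]
    obtain ⟨haK, hsupp⟩ := core_case (M₀ := M)
      (A₀ := Cfsg.sigmaCore M ⊓ Subgroup.centralizer (K : Set G)) (B₀ := K) inf_le_left
      (fun b hb => isPi_hall_kappa hKhall hb) (fun y hy k hk => (hcomm k hk y hy).symm) hTI
      (h67 M K U Mstar hP).1 hk₁' hk₁ hakk' ha1 hg haN
    rw [hsupp] at hr
    have hr1 : r = 1 := Subgroup.mem_bot.1 hr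
    apply hznot
    right
    rw [hzar, hr1, mul_one]; exact haK

/-- **third clause of S1379, second half**: no conjugate of an element of `Ẑ` lies in a
tilde-set -/
theorem zhat_not_mem_tilde (hG : Cfsg.IsMinSimpleOddOrder G) (hU : UniquenessThm G)
    (h75 : H1375 G) (h78 : H1378b G) (h31 : H1431a G) (h34 : H1434c G) (h67 : H1367 G)
    {M K U Mstar : Subgroup G} (hP : Pair M K U Mstar) {N : Subgroup G} (hN : IsCoatom N)
    (y : G) {z : G}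
    (hz : z ∈ ((↑(K ⊔ (Cfsg.sigmaCore M ⊓ Subgroup.centralizer (K : Set G))) : Set G) \
      ((K : Set G) ∪ ↑(Cfsg.sigmaCore M ⊓ Subgroup.centralizer (K : Set G))))) :
    y * z * y⁻¹ ∉ Cfsg.tildeOf N ((Cfsg.sigmaCore N : Set G) \ {1}) := by
  rintro ⟨a, ⟨haN, ha1⟩, r, hr, c, hc⟩
  have ha1' : a ≠ 1 := fun h => ha1 (by simp [h])
  set d : G := y⁻¹ * c with hd
  have hNd : IsCoatom (cj d N) := isCoatom_cj hN d
  have had : d * a * d⁻¹ ∈ Cfsg.sigmaCore (cj d N) := by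
    rw [sigmaCore_cj hG hU hN d]; exact conj_mem_cj haN
  have hrd : d * r * d⁻¹ ∈ Cfsg.supportR (cj d N) (d * a * d⁻¹) := by
    rw [supportR_conj hG hU h75 hN haN ha1' d]; exact conj_mem_cj hr
  have hzeq : z = (d * a * d⁻¹) * (d * r * d⁻¹) := by
    have h1 : z = y⁻¹ * (y * z * y⁻¹) * y := by group
    rw [h1, hc, hd]; group
  exact zhat_ne_mul h78 h31 h34 h67 hP hNd had (conj_ne_one ha1') hrd hz hzeq

/-! ### covering by the tilde-sets and the conjugates of `Ẑ` -/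

/-- from the `κ`-alternative to a product `x₁ v₁`, `x₁ ∈ C_{H_σ}(K_H) - 1`, `v₁ ∈ K_H - 1` -/
theorem exists_of_kappaAlt (hG : Cfsg.IsMinSimpleOddOrder G) (h30 : H1430a G)
    {H KH : Subgroup G} (hH : IsCoatom H) (hKH : Cfsg.IsPiHallOf (Cfsg.kappa H) KH H) {g : G}
    (h : KappaAlt H g) :
    ∃ y x₁ v₁ : G, x₁ ∈ Cfsg.sigmaCore H ⊓ Subgroup.centralizer (KH : Set G) ∧ x₁ ≠ 1 ∧
      v₁ ∈ KH ∧ v₁ ≠ 1 ∧ g = y * (x₁ * v₁) * y⁻¹ := by
  obtain ⟨c, x, v, hx, hx1, hvH, hv1, hxv, hκ, hg⟩ := h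
  have : Group.IsSolvable ↥H := hG.2.2.2 H hH.1
  have hBH : Subgroup.zpowers v ≤ H := Subgroup.zpowers_le.2 hvH
  have hB : ∀ p : ℕ, p.Prime → p ∣ Nat.card ↥(Subgroup.zpowers v) → p ∈ Cfsg.kappa H := by
    intro p hp hd
    rw [Nat.card_zpowers] at hd
    exact hκ p hp hd
  obtain ⟨K', hK', hBK'⟩ := Cfsg.Agent.Helper71.BGHall.exists_isPiHallOf_ge (Cfsg.kappa H) H hBH hB
  obtain ⟨m, hmH, hmK⟩ := Cfsg.Agent.Helper62.isPiHallOf_conj_of_solvable hKH hK'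
  have hvK : m⁻¹ * v * m ∈ KH := by
    have hv' : v ∈ MulAut.conj m • KH := by
      rw [hmK]; exact hBK' (Subgroup.mem_zpowers v)
    rw [Subgroup.mem_pointwise_smul_iff_inv_smul_mem] at hv'
    simpa [MulAut.smul_def, MulAut.conj_inv_apply] using hv'
  have hv11 : m⁻¹ * v * m ≠ 1 := by
    have := conj_ne_one (c := m⁻¹) hv1
    simpa using this
  have hxS : m⁻¹ * x * m ∈ Cfsg.sigmaCore H := by
    have h1 : cj m⁻¹ (Cfsg.sigmaCore H) = Cfsg.sigmaCore H :=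
      cj_sigmaCore_of_mem (H.inv_mem hmH)
    have h2 := conj_mem_cj (g := m⁻¹) hx
    rw [h1] at h2
    simpa using h2
  have hx11 : m⁻¹ * x * m ≠ 1 := by
    have := conj_ne_one (c := m⁻¹) hx1
    simpa using this
  have hcomm : (m⁻¹ * x * m) * (m⁻¹ * v * m) = (m⁻¹ * v * m) * (m⁻¹ * x * m) := by
    have e1 : (m⁻¹ * x * m) * (m⁻¹ * v * m) = m⁻¹ * (x * v) * m := by group
    have e2 : (m⁻¹ * v * m) * (m⁻¹ * x * m) = m⁻¹ * (v * x) * m := by group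
    rw [e1, e2, hxv]
  have hKH1 : KH ≠ ⊥ := by
    intro h
    rw [h] at hvK
    exact hv11 (Subgroup.mem_bot.1 hvK)
  have hxC : m⁻¹ * x * m ∈ Cfsg.sigmaCore H ⊓ Subgroup.centralizer (KH : Set G) := by
    rw [← h30 H hH KH hKH hKH1 _ hvK hv11]
    exact ⟨hxS, Subgroup.mem_centralizer_singleton_iff.2 hcomm⟩
  refine ⟨c * m, _, _, hxC, hx11, hvK, hv11, ?_⟩
  rw [hg]; group

/-- **third clause of S1379, first half** -/
theorem cover_zhat (hG : Cfsg.IsMinSimpleOddOrder G) (hU : UniquenessThm G)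
    (h75 : H1375 G) (h74 : H1374 G) (h32 : H1432 G) (h25 : H1425 G) (h17 : H1417a G)
    (h78a : H1378a G) (h30 : H1430a G) (h69 : H1369b G)
    {M K U Mstar : Subgroup G} (hP : Pair M K U Mstar) {g : G} (hg : g ≠ 1) :
    TildeAlt g ∨ ∃ y : G, ∃ z ∈ ((↑(K ⊔ (Cfsg.sigmaCore M ⊓ Subgroup.centralizer (K : Set G))) :
        Set G) \ ((K : Set G) ∪ ↑(Cfsg.sigmaCore M ⊓ Subgroup.centralizer (K : Set G)))),
      g = y * z * y⁻¹ := by
  have hKhall := hP.hKU.hall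
  have hgord : orderOf g ≠ 1 := fun h => hg (orderOf_eq_one_iff.1 h)
  obtain ⟨p, hp, hpg⟩ := Nat.exists_prime_and_dvd hgord
  obtain ⟨M₁, hM₁, hpM₁⟩ := h78a p hp (hpg.trans (orderOf_dvd_natCard g))
  -- the two final cases
  have caseM : p ∈ Cfsg.sigma M → TildeAlt g ∨ ∃ y : G,
      ∃ z ∈ ((↑(K ⊔ (Cfsg.sigmaCore M ⊓ Subgroup.centralizer (K : Set G))) : Set G) \
        ((K : Set G) ∪ ↑(Cfsg.sigmaCore M ⊓ Subgroup.centralizer (K : Set G)))),
      g = y * z * y⁻¹ := by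
    intro hpM
    rcases coverAt hG hU h75 h74 h32 h25 h17 hP.hM hp hpg hpM with h | h
    · exact Or.inl h
    · right
      obtain ⟨y, x₁, v₁, hx₁, hx₁1, hv₁, hv₁1, hgy⟩ := exists_of_kappaAlt hG h30 hP.hM hKhall h
      refine ⟨y, v₁ * x₁, mul_mem_diff (K_inf_Kst hKhall) hv₁ hx₁ hv₁1 hx₁1, ?_⟩
      rw [hgy, comm_of_mem_Kst hv₁ hx₁]
  have caseMs : p ∈ Cfsg.sigma Mstar → TildeAlt g ∨ ∃ y : G,
      ∃ z ∈ ((↑(K ⊔ (Cfsg.sigmaCore M ⊓ Subgroup.centralizer (K : Set G))) : Set G) \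
        ((K : Set G) ∪ ↑(Cfsg.sigmaCore M ⊓ Subgroup.centralizer (K : Set G)))),
      g = y * z * y⁻¹ := by
    intro hpMs
    rcases coverAt hG hU h75 h74 h32 h25 h17 hP.hMs hp hpg hpMs with h | h
    · exact Or.inl h
    · right
      obtain ⟨y, x₁, v₁, hx₁, hx₁1, hv₁, hv₁1, hgy⟩ :=
        exists_of_kappaAlt hG h30 hP.hMs hP.hKstH h
      rw [← hP.hKst] at hx₁
      exact ⟨y, x₁ * v₁, mul_mem_diff (K_inf_Kst hKhall) hx₁ hv₁ hx₁1 hv₁1, hgy⟩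
  rcases coverAt hG hU h75 h74 h32 h25 h17 hM₁ hp hpg hpM₁ with h | h
  · exact Or.inl h
  · -- `κ(M₁) ≠ ∅`, so `M₁` is conjugate to `M` or `M*`
    obtain ⟨c, x, v, -, -, -, hv1, -, hκv, -⟩ := h
    have hvord : orderOf v ≠ 1 := fun h => hv1 (orderOf_eq_one_iff.1 h)
    obtain ⟨q, hq, hqv⟩ := Nat.exists_prime_and_dvd hvord
    obtain ⟨t, ht | ht⟩ := h69 M K U Mstar hP M₁ hM₁ ⟨q, hκv q hq hqv⟩
    · apply caseM
      rw [ht, sigma_cj] at hpM₁
      exact hpM₁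
    · apply caseMs
      rw [ht, sigma_cj] at hpM₁
      exact hpM₁

/-! ### B-G Theorem 14.6 in the shape of statement S1379 -/

/-- **B-G Theorem 14.6** (statement S1379), from the statement-shaped hypotheses -/
theorem thm_14_6 (hG : Cfsg.IsMinSimpleOddOrder G) (hU : UniquenessThm G)
    (h75 : H1375 G) (h74 : H1374 G) (h33 : H1433 G) (h78a : H1378a G) (h78b : H1378b G)
    (h32 : H1432 G) (h25 : H1425 G) (h17 : H1417a G) (h30 : H1430a G) (h31 : H1431a G)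
    (h66 : H1366 G) (h69 : H1369b G) (h34 : H1434c G) (h67 : H1367 G) :
    (∀ M N : Subgroup G, IsCoatom M → IsCoatom N →
        (∀ g : G, N ≠ M.map (MulAut.conj g).toMonoidHom) →
        Cfsg.tildeOf M ((Cfsg.sigmaCore M : Set G) \ {1}) ∩
          Cfsg.tildeOf N ((Cfsg.sigmaCore N : Set G) \ {1}) = ∅) ∧
      ((∀ M : Subgroup G, IsCoatom M → Cfsg.kappa M = ∅) →
        ∀ g : G, g ≠ 1 → ∃ M : Subgroup G, IsCoatom M ∧
          g ∈ Cfsg.tildeOf M ((Cfsg.sigmaCore M : Set G) \ {1})) ∧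
      ∀ (M K U : Subgroup G), IsCoatom M → Cfsg.IsSigmaDecomposition M K U → K ≠ ⊥ →
        (∀ g : G, g ≠ 1 →
          (∃ N : Subgroup G, IsCoatom N ∧
            g ∈ Cfsg.tildeOf N ((Cfsg.sigmaCore N : Set G) \ {1})) ∨
          ∃ y : G, ∃ z ∈ ((↑(K ⊔ (Cfsg.sigmaCore M ⊓ Subgroup.centralizer (K : Set G))) :
              Set G) \ ((K : Set G) ∪ ↑(Cfsg.sigmaCore M ⊓ Subgroup.centralizer (K : Set G)))),
            g = y * z * y⁻¹) ∧
        ∀ N : Subgroup G, IsCoatom N → ∀ y : G,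
          ∀ z ∈ ((↑(K ⊔ (Cfsg.sigmaCore M ⊓ Subgroup.centralizer (K : Set G))) : Set G) \
            ((K : Set G) ∪ ↑(Cfsg.sigmaCore M ⊓ Subgroup.centralizer (K : Set G)))),
          y * z * y⁻¹ ∉ Cfsg.tildeOf N ((Cfsg.sigmaCore N : Set G) \ {1}) := by
  refine ⟨?_, ?_, ?_⟩
  · intro M N hM hN hnc
    exact tilde_disjoint hG hU h75 h33 h78b hM hN hnc
  · intro hκ g hg
    exact cover_of_kappa_empty hG hU h75 h74 h32 h25 h17 h78a hκ hg
  · intro M K U hM hKU hK1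
    obtain ⟨Mstar, hP⟩ := h66 M K U hM hKU hK1
    refine ⟨fun g hg => cover_zhat hG hU h75 h74 h32 h25 h17 h78a h30 h69 hP hg, ?_⟩
    intro N hN y z hz
    exact zhat_not_mem_tilde hG hU h75 h78b h31 h34 h67 hP hN y hz

end Cfsg.Agent.Helper22.BG146
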