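import Mathlib
import Cfsg.Prelude.Def_OddOrderLocal
import Cfsg.Agent.Helper22.BG146c

/-!
# Bender-Glauberman 14.4(c2) (statement S1376), Step 5 (`τ₂(M) = ∅`): the interface (helper22)

Reference text: helper57's proof, board posts #3884-#3886.  This file only fixes the
vocabulary shared by the pieces (A) (helper57: setup, Steps 1-4), (C1)+(C2) (helper22: 5.1-5.8),
(C3) (helper75: 5.9) and (D) (helper57: Step 6):

* statement-shaped hypotheses `H1375`, `H1436a`, `H1365`, `H1372`, `H1437` for the frozen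
  statements that are still conditional on main (`H1432`, `H1369b`, `Pair` come from `BG146`);
* `Ctx`: the facts available at the head of Step 5;
* `C3`: the statement of piece (C3), as a `Prop`.
-/

set_option autoImplicit false

namespace Cfsg.Agent.Helper22.BG144C

open Cfsg Cfsg.Agent.Helper29.BG10

variable {G : Type*} [Group G]

/-- S1375, all clauses -/
def H1375 (G : Type*) [Group G] : Prop :=
  ∀ M : Subgroup G, IsCoatom M → ∀ x : G, x ∈ Cfsg.sigmaCore M → x ≠ 1 →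
    ¬ Subgroup.centralizer ({x} : Set G) ≤ M →
    ∃ N : Subgroup G, (IsCoatom N ∧ Subgroup.centralizer ({x} : Set G) ≤ N) ∧
      (∀ L : Subgroup G, IsCoatom L → Subgroup.centralizer ({x} : Set G) ≤ L → L = N) ∧
      Cfsg.sigmaCore N = Cfsg.fittingHallOf N ∧
      Subgroup.centralizer ({x} : Set G) ≤ Subgroup.normalizer
        ((Cfsg.sigmaCore N ⊓ Subgroup.centralizer ({x} : Set G) : Subgroup G) : Set G) ∧
      Cfsg.IsComplIn (M ⊓ Subgroup.centralizer ({x} : Set G))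
        (Cfsg.sigmaCore N ⊓ Subgroup.centralizer ({x} : Set G))
        (Subgroup.centralizer ({x} : Set G)) ∧
      Cfsg.IsComplIn (M ⊓ N) (Cfsg.sigmaCore N) N ∧
      ∀ K' U' : Subgroup G, Cfsg.IsSigmaDecomposition N K' U' →
        U' ≠ ⊥ ∧ x ∈ Cfsg.sigmaA N U' ∧ x ∉ Cfsg.sigmaCore N

/-- S1436, first clause -/
def H1436a (G : Type*) [Group G] : Prop :=
  ∀ M : Subgroup G, IsCoatom M → ∀ x : G, x ∈ Cfsg.sigmaCore M → x ≠ 1 →
    ¬ Subgroup.centralizer ({x} : Set G) ≤ M →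
    ∀ N : Subgroup G, IsCoatom N → Subgroup.centralizer ({x} : Set G) ≤ N →
    (∃ p ∈ Cfsg.sigma N, p ∣ Nat.card M) → Cfsg.kappa M = ∅ ∧ Cfsg.tau2 M = ∅

/-- S1365 -/
def H1365 (G : Type*) [Group G] : Prop :=
  ∀ M : Subgroup G, IsCoatom M → ∀ K U : Subgroup G, Cfsg.IsSigmaDecomposition M K U → K ≠ ⊥ →
    ⁅M, M⁆ = U ⊔ Cfsg.sigmaCore M ∧
      (Cfsg.sigmaCore M ⊓ Subgroup.centralizer (K : Set G)) ≤ ⁅⁅M, M⁆, ⁅M, M⁆⁆

/-- S1372 -/
def H1372 (G : Type*) [Group G] : Prop :=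
  ∀ M : Subgroup G, IsCoatom M → ∀ K U : Subgroup G, Cfsg.IsSigmaDecomposition M K U →
    K ≠ ⊥ → U ≠ ⊥ →
    (Nat.card K).Prime ∧ Cfsg.IsTISubset (Cfsg.fittingOf M : Set G) ∧
      Cfsg.sigmaCore M ≤ Cfsg.fittingOf M

/-- S1437 -/
def H1437 (G : Type*) [Group G] : Prop :=
  ∀ M : Subgroup G, IsCoatom M → ∀ K U : Subgroup G, Cfsg.IsSigmaDecomposition M K U →
    Cfsg.fittingHallOf M ≠ Cfsg.sigmaCore M →
    U = ⊥ ∧ Cfsg.sigmaCore M = ⁅M, M⁆ ∧ (Nat.card K).Prime ∧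
      (Nat.card ↥(Cfsg.sigmaCore M ⊓ Subgroup.centralizer (K : Set G))).Prime ∧
      Nat.card ↥(Cfsg.sigmaCore M ⊓ Subgroup.centralizer (K : Set G)) ∣
        Nat.card (Cfsg.fittingHallOf M) ∧
      Nat.card ↥(Cfsg.sigmaCore M ⊓ Subgroup.centralizer (K : Set G)) ∈ Cfsg.beta M ∧
      ∃ Q : Subgroup G, Q ≤ Cfsg.fittingHallOf M ∧ M ≤ Subgroup.normalizer (Q : Set G) ∧
        IsPGroup (Nat.card ↥(Cfsg.sigmaCore M ⊓ Subgroup.centralizer (K : Set G))) Q ∧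
        ¬ Nat.card ↥(Cfsg.sigmaCore M ⊓ Subgroup.centralizer (K : Set G)) ∣
          Q.relIndex (Cfsg.sigmaCore M) ∧
        ∀ D : Subgroup G, Cfsg.IsComplIn Q D (Cfsg.sigmaCore M) →
          Group.IsNilpotent D ∧
          M ≤ Subgroup.normalizer ((Q ⊓ Subgroup.centralizer (D : Set G) : Subgroup G) : Set G) ∧
          Q ⊓ Subgroup.centralizer (D : Set G) < Q ∧
          Nat.card Q = Nat.card ↥(Q ⊓ Subgroup.centralizer (D : Set G)) *
            Nat.card ↥(Cfsg.sigmaCore M ⊓ Subgroup.centralizer (K : Set G)) ^ Nat.card K ∧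
          (∀ a ∈ Q, ∀ b ∈ Q,
            a ^ Nat.card ↥(Cfsg.sigmaCore M ⊓ Subgroup.centralizer (K : Set G)) ∈
              Q ⊓ Subgroup.centralizer (D : Set G) ∧
            a * b * a⁻¹ * b⁻¹ ∈ Q ⊓ Subgroup.centralizer (D : Set G)) ∧
          ∀ N : Subgroup G, Q ⊓ Subgroup.centralizer (D : Set G) < N → N < Q →
            ¬ M ≤ Subgroup.normalizer (N : Set G)

/-- **The facts at the head of Step 5** (helper57 #3885), for the bad triple `(M, x, N)` of S1376,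
after the reductions of Step 0: `(K, U)` is a σ-decomposition of `N` with `M ∩ N = U K`,
`|K| = p`, `K* = N_σ ∩ C(K)`, `Nst` is the partner `N*` of `N`, `(K*, Ust)` a σ-decomposition of
`N*`; `x ∈ U` of prime order `q`. -/
structure Ctx (M N Nst K U Ust : Subgroup G) (x : G) (p q : ℕ) : Prop where
  hM : IsCoatom M
  pair : Cfsg.Agent.Helper22.BG146.Pair N K U Nst
  hp : p.Prime
  cardK : Nat.card K = p
  inf_MN : M ⊓ N = U ⊔ K
  decSt : Cfsg.IsSigmaDecomposition Nst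
    (Cfsg.sigmaCore N ⊓ Subgroup.centralizer (K : Set G)) Ust
  Kst_ne : Cfsg.sigmaCore N ⊓ Subgroup.centralizer (K : Set G) ≠ ⊥
  /-- S1367(2) with `Y = K` -/
  cenK_le : Subgroup.centralizer (K : Set G) ≤ Nst
  cenK_uniq : ∀ L : Subgroup G, IsCoatom L → Subgroup.centralizer (K : Set G) ≤ L → L = Nst
  /-- S1368 -/
  inf_NNst : N ⊓ Nst = K ⊔ (Cfsg.sigmaCore N ⊓ Subgroup.centralizer (K : Set G))
  /-- S1369(2) -/
  kappa_conj : ∀ H : Subgroup G, IsCoatom H → (Cfsg.kappa H).Nonempty →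
    ∃ g : G, H = cj g N ∨ H = cj g Nst
  hx : x ∈ Cfsg.sigmaCore M
  hx1 : x ≠ 1
  hxM : ¬ Subgroup.centralizer ({x} : Set G) ≤ M
  hxN : Subgroup.centralizer ({x} : Set G) ≤ N
  hxU : x ∈ U
  hq : q.Prime
  hxq : orderOf x = q
  q_tau2 : q ∈ Cfsg.tau2 N
  /-- `C_M(x) = U` -/
  cenMx : M ⊓ Subgroup.centralizer ({x} : Set G) = U
  /-- Step 1 -/
  p_not_sigma : p ∉ Cfsg.sigma M
  /-- Step 2 -/
  kappaM : Cfsg.kappa M = ∅
  /-- Step 3 -/
  nilp : Group.IsNilpotent ↥(Cfsg.sigmaCore M)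
  /-- Step 4 -/
  fixK : Cfsg.sigmaCore M ⊓ Subgroup.centralizer (K : Set G) = ⊥

/-- **Piece (C3)** (helper57 #3885 (5.9) = helper75 #3923 (d)-(f)): under the facts of Step 5 and
the outcome of 5.1-5.7, `N*_σ` nilpotent is the only possibility left; i.e. `N*_F ≠ N*_σ` is
contradictory. -/
def C3 (M N Nst K U Ust : Subgroup G) : Prop :=
  ∀ (s : ℕ) (E B : Subgroup G), s ∈ Cfsg.tau2 M →
    Cfsg.IsComplIn E (Cfsg.sigmaCore M) M → K ≤ E → E = M ⊓ Nst →
    B ≤ E → Cfsg.IsElementaryAbelian s B → Nat.card B = s ^ 2 →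
    (∀ S : Sylow s G, IsMulCommutative (S : Subgroup G)) →
    Ust = ⊥ → E ≤ Cfsg.sigmaCore Nst →
    Cfsg.fittingHallOf Nst ≠ Cfsg.sigmaCore Nst → False

end Cfsg.Agent.Helper22.BG144C
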