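import Mathlib
import Cfsg.Prelude.Def_Local
import Cfsg.Prelude.Def_Balance
import Cfsg.Agent.Helper31.CoprimeHypRel

/-!
# Solvable signalizer functors inside a solvable `p'`-group (SFT-S), part 1

Basic API for `signalizerClosure`, the normality lemma (`Lemma N`): for an `A`-invariant subgroup
`K` normalized by all `θ b`, the closure of the subfunctor `a ↦ θ a ⊓ K` is normalized by all `θ b`
(this uses that two hyperplanes of `A` meet nontrivially, i.e. rank at least three), and the structure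
of solvable minimal normal subgroups.
-/

set_option autoImplicit false
open Cfsg

namespace Cfsg.Agent.Helper22.SFTS

variable {G : Type*} [Group G]

/-- `A`-invariance of a subgroup, elementwise. -/
def Inv (A U : Subgroup G) : Prop := ∀ b ∈ A, ∀ u ∈ U, b * u * b⁻¹ ∈ U

theorem Inv.le_normalizer {A U : Subgroup G} (h : Inv A U) :
    A ≤ Subgroup.normalizer (U : Set G) := by
  intro b hb
  rw [Subgroup.mem_normalizer_iff]
  intro u
  constructor
  · exact h b hb u
  · intro hu
    have := h b⁻¹ (A.inv_mem hb) _ hu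
    simpa [mul_assoc] using this

theorem inv_of_le_normalizer {A U : Subgroup G} (h : A ≤ Subgroup.normalizer (U : Set G)) :
    Inv A U :=
  fun b hb u hu => (Subgroup.mem_normalizer_iff.mp (h hb) u).mp hu

theorem Inv.inf {A U V : Subgroup G} (hU : Inv A U) (hV : Inv A V) : Inv A (U ⊓ V) :=
  fun b hb u hu => ⟨hU b hb u hu.1, hV b hb u hu.2⟩

theorem Inv.iSup {ι : Sort*} {A : Subgroup G} {U : ι → Subgroup G} (hU : ∀ i, Inv A (U i)) :
    Inv A (⨆ i, U i) := by
  intro b hb u hu
  have h1 : (⨆ i, U i).map (MulAut.conj b).toMonoidHom ≤ ⨆ i, U i := by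
    rw [Subgroup.map_iSup]
    apply iSup_le
    intro i
    refine le_trans ?_ (le_iSup U i)
    rintro _ ⟨v, hv, rfl⟩
    exact hU i b hb v hv
  exact h1 ⟨u, hu, rfl⟩

theorem le_closure {A : Subgroup G} {θ : G → Subgroup G} {a : G} (ha : a ∈ A) (ha1 : a ≠ 1) :
    θ a ≤ signalizerClosure A θ :=
  le_iSup (fun a : {a : G // a ∈ A ∧ a ≠ 1} => θ (a : G)) ⟨a, ha, ha1⟩

theorem closure_le {A : Subgroup G} {θ : G → Subgroup G} {X : Subgroup G}
    (h : ∀ a ∈ A, a ≠ 1 → θ a ≤ X) : signalizerClosure A θ ≤ X :=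
  iSup_le fun a => h a.1 a.2.1 a.2.2

theorem closure_mono {A : Subgroup G} {θ ψ : G → Subgroup G}
    (h : ∀ a ∈ A, a ≠ 1 → θ a ≤ ψ a) : signalizerClosure A θ ≤ signalizerClosure A ψ :=
  closure_le fun a ha ha1 => (h a ha ha1).trans (le_closure ha ha1)

theorem inv_closure {p : ℕ} {A : Subgroup G} {θ : G → Subgroup G}
    (hθ : IsSignalizerFunctor p A θ) : Inv A (signalizerClosure A θ) :=
  Inv.iSup fun a => hθ.2.2.1 a.1 a.2.1 a.2.2

/-- The subfunctor `a ↦ θ a ⊓ K` for an `A`-invariant subgroup `K`. -/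
theorem isSignalizerFunctor_inf {p : ℕ} {A : Subgroup G} {θ : G → Subgroup G}
    (hθ : IsSignalizerFunctor p A θ) [Finite G] {K : Subgroup G} (hK : Inv A K) :
    IsSignalizerFunctor p A (fun x => θ x ⊓ K) := by
  obtain ⟨h1, h2, h3, h4⟩ := hθ
  refine ⟨fun a ha ha1 => inf_le_left.trans (h1 a ha ha1), ?_, ?_, ?_⟩
  · intro a ha ha1 hdvd
    exact h2 a ha ha1 (hdvd.trans (Subgroup.card_dvd_of_le inf_le_left))
  · intro a ha ha1 b hb x hx
    exact ⟨h3 a ha ha1 b hb x hx.1, hK b hb x hx.2⟩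
  · intro a ha ha1 b hb hb1 x hx
    exact ⟨h4 a ha ha1 b hb hb1 ⟨hx.1.1, hx.2⟩, hx.1.2⟩

theorem closure_inf_le {A : Subgroup G} {θ : G → Subgroup G} (K : Subgroup G) :
    signalizerClosure A (fun x => θ x ⊓ K) ≤ K :=
  closure_le fun _ _ _ => inf_le_right

theorem closure_inf_le_closure {A : Subgroup G} {θ : G → Subgroup G} (K : Subgroup G) :
    signalizerClosure A (fun x => θ x ⊓ K) ≤ signalizerClosure A θ :=
  closure_mono fun _ _ _ => inf_le_left

section LemmaN

variable [Finite G] {p : ℕ} [Fact p.Prime]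

theorem comm_of_isElementaryAbelian {A : Subgroup G} (hA : IsElementaryAbelian p A) :
    ∀ x ∈ A, ∀ y ∈ A, x * y = y * x := by
  intro x hx y hy
  have := hA.1.is_comm.comm ⟨x, hx⟩ ⟨y, hy⟩
  exact congrArg Subtype.val this

/-- **Lemma N.**  Let `K` be an `A`-invariant subgroup normalized by every `θ b`.  Then the closure of
the subfunctor `a ↦ θ a ⊓ K` is normalized by every `θ b`. -/
theorem theta_le_normalizer_closure_inf {A : Subgroup G} (hA : IsElementaryAbelian p A)
    (hA3 : p ^ 3 ≤ Nat.card ↥A) {θ : G → Subgroup G} (hθ : IsSignalizerFunctor p A θ)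
    {K : Subgroup G} (hKA : Inv A K)
    (hKθ : ∀ b ∈ A, b ≠ 1 → θ b ≤ Subgroup.normalizer (K : Set G)) :
    ∀ b ∈ A, b ≠ 1 →
      θ b ≤ Subgroup.normalizer ((signalizerClosure A (fun x => θ x ⊓ K) : Subgroup G) : Set G) := by
  have hp : p.Prime := Fact.out
  obtain ⟨h1, h2, h3, h4⟩ := hθ
  have hcomm := comm_of_isElementaryAbelian hA
  have hexp := hA.2
  have hA2 : p ^ 2 ≤ Nat.card ↥A := le_trans (Nat.pow_le_pow_right hp.pos (by norm_num)) hA3
  set K₀ := signalizerClosure A (fun x => θ x ⊓ K) with hK₀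
  intro b hb hb1
  -- generation of `θ b` by hyperplane centralizers
  have hgenb := Cfsg.Agent.Helper31.le_iSup_hyperplane_relIndex (p := p) (θ b) A (h2 b hb hb1)
    (Inv.le_normalizer (h3 b hb hb1)) hcomm hexp hA2
  refine hgenb.trans (iSup_le ?_)
  rintro ⟨F', hF'A, hF'i⟩
  -- it suffices to show that elements of `θ b ⊓ C(F')` conjugate `K₀` into itself
  apply Inv.le_normalizer
  intro x hx y hy
  -- `y ∈ K₀ ≤ comap (conj x) K₀`
  have hle : K₀ ≤ K₀.comap (MulAut.conj x).toMonoidHom := by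
    rw [hK₀]
    apply closure_le
    intro a ha ha1
    have hgena := Cfsg.Agent.Helper31.le_iSup_hyperplane_relIndex (p := p) (θ a ⊓ K) A
      (fun hdvd => h2 a ha ha1 (hdvd.trans (Subgroup.card_dvd_of_le inf_le_left)))
      (Inv.le_normalizer (Inv.inf (h3 a ha ha1) hKA)) hcomm hexp hA2
    refine hgena.trans (iSup_le ?_)
    rintro ⟨F, hFA, hFi⟩
    intro z hz
    -- common nontrivial element of the two hyperplanes
    obtain ⟨c, hcF, hcF', hc1⟩ := Cfsg.Agent.Helper31.exists_mem_inf_hyperplanes (p := p) A F F' hcomm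
      hA3 hFA hF'A (Cfsg.Agent.Helper31.card_mul_of_relIndex_eq hFA hFi)
      (Cfsg.Agent.Helper31.card_mul_of_relIndex_eq hF'A hF'i)
    have hcA : c ∈ A := hFA hcF
    have hzc : z ∈ Subgroup.centralizer ({c} : Set G) := by
      rw [Subgroup.mem_centralizer_singleton_iff]
      have := (Subgroup.mem_centralizer_iff.mp hz.2) c hcF
      exact this.symm
    have hxc : x ∈ Subgroup.centralizer ({c} : Set G) := by
      rw [Subgroup.mem_centralizer_singleton_iff]
      have := (Subgroup.mem_centralizer_iff.mp hx.2) c hcF'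
      exact this.symm
    have hzθ : z ∈ θ c := h4 a ha ha1 c hcA hc1 ⟨hz.1.1, hzc⟩
    have hxθ : x ∈ θ c := h4 b hb hb1 c hcA hc1 ⟨hx.1, hxc⟩
    have hxK : x * z * x⁻¹ ∈ K :=
      (Subgroup.mem_normalizer_iff.mp (hKθ b hb hb1 hx.1) z).mp hz.1.2
    show (MulAut.conj x) z ∈ K₀
    rw [MulAut.conj_apply]
    exact le_closure (θ := fun x => θ x ⊓ K) hcA hc1
      ⟨(θ c).mul_mem ((θ c).mul_mem hxθ hzθ) ((θ c).inv_mem hxθ), hxK⟩
  have := hle hy
  rw [Subgroup.mem_comap] at this
  simpa [MulAut.conj_apply] using this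

end LemmaN

section MinimalNormal

variable [Finite G]

/-- Existence of a minimal normal subgroup inside a nontrivial normal subgroup. -/
theorem exists_minimal_normal (W : Subgroup G) [hW : W.Normal] (hW1 : W ≠ ⊥) :
    ∃ N : Subgroup G, N.Normal ∧ N ≤ W ∧ N ≠ ⊥ ∧
      ∀ M : Subgroup G, M.Normal → M ≤ N → M = ⊥ ∨ M = N := by
  classical
  let S : Set (Subgroup G) := {M | M.Normal ∧ M ≤ W ∧ M ≠ ⊥}
  have hS : S.Finite := Set.toFinite S
  have hne : S.Nonempty := ⟨W, hW, le_rfl, hW1⟩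
  obtain ⟨N, hNS, hmin⟩ := hS.exists_minimal hne
  refine ⟨N, hNS.1, hNS.2.1, hNS.2.2, ?_⟩
  intro M hM hMN
  by_cases hM1 : M = ⊥
  · exact Or.inl hM1
  · right
    have hMS : M ∈ S := ⟨hM, hMN.trans hNS.2.1, hM1⟩
    exact le_antisymm hMN (hmin hMS hMN)


/-- A solvable minimal normal subgroup of a finite group is a `q`-group for some prime `q`
(in fact elementary abelian). -/
theorem exists_isPGroup_of_minimal_normal_solvable (N : Subgroup G) [hN : N.Normal] (hN1 : N ≠ ⊥)
    (hmin : ∀ M : Subgroup G, M.Normal → M ≤ N → M = ⊥ ∨ M = N) (hsolv : Group.IsSolvable ↥N) :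
    ∃ q : ℕ, q.Prime ∧ IsPGroup q ↥N := by
  classical
  -- `N` is abelian
  have hcomm : ⁅N, N⁆ = ⊥ := by
    have hnorm : (⁅N, N⁆ : Subgroup G).Normal := Subgroup.commutator_normal N N
    have hle : ⁅N, N⁆ ≤ N := Subgroup.commutator_le_left N N
    rcases hmin _ hnorm hle with h | h
    · exact h
    · exfalso
      have : Nontrivial ↥N := by
        rw [Subgroup.nontrivial_iff_ne_bot]; exact hN1
      have hlt := Group.IsSolvable.commutator_lt_top_of_nontrivial ↥N
      have hmap : (_root_.commutator ↥N).map N.subtype = ⁅N, N⁆ := by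
        rw [commutator_def, Subgroup.map_commutator, ← MonoidHom.range_eq_map, Subgroup.range_subtype]
      have htop : (⊤ : Subgroup ↥N).map N.subtype = N := by
        rw [← MonoidHom.range_eq_map, Subgroup.range_subtype]
      have : _root_.commutator ↥N = ⊤ := by
        apply Subgroup.map_injective (Subgroup.subtype_injective N)
        rw [hmap, htop, h]
      exact hlt.ne this
  have hab : ∀ x ∈ N, ∀ y ∈ N, x * y = y * x := by
    intro x hx y hy
    have h1 := (Subgroup.commutator_eq_bot_iff_le_centralizer (H₁ := N) (H₂ := N)).mp hcomm hx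
    exact ((Subgroup.mem_centralizer_iff.mp h1) y hy).symm
  -- a prime divisor of the order
  have hcard : Nat.card ↥N ≠ 1 := fun h => hN1 (Subgroup.card_eq_one.mp h)
  set q := (Nat.card ↥N).minFac with hq
  have hqp : q.Prime := Nat.minFac_prime hcard
  haveI : Fact q.Prime := ⟨hqp⟩
  obtain ⟨x, hx⟩ := exists_prime_orderOf_dvd_card' (G := ↥N) q (Nat.minFac_dvd _)
  -- the subgroup of elements of order dividing `q`
  let Ω : Subgroup G :=
    { carrier := {y | y ∈ N ∧ y ^ q = 1}
      mul_mem' := by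
        rintro y z ⟨hy, hy1⟩ ⟨hz, hz1⟩
        refine ⟨N.mul_mem hy hz, ?_⟩
        have hc : Commute y z := hab y hy z hz
        rw [hc.mul_pow, hy1, hz1, one_mul]
      one_mem' := ⟨N.one_mem, one_pow _⟩
      inv_mem' := by
        rintro y ⟨hy, hy1⟩
        exact ⟨N.inv_mem hy, by rw [inv_pow, hy1, inv_one]⟩ }
  have hΩN : Ω ≤ N := fun y hy => hy.1
  have hΩnorm : Ω.Normal := by
    constructor
    intro y hy g
    refine ⟨hN.conj_mem y hy.1 g, ?_⟩
    rw [conj_pow, hy.2, mul_one, mul_inv_cancel]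
  have hΩ1 : Ω ≠ ⊥ := by
    intro h
    have hxΩ : (x : G) ∈ Ω := by
      refine ⟨x.2, ?_⟩
      have := pow_orderOf_eq_one x
      rw [hx] at this
      have h2 := congrArg Subtype.val this
      simpa using h2
    rw [h, Subgroup.mem_bot] at hxΩ
    have hx1 : x = 1 := Subtype.ext hxΩ
    rw [hx1, orderOf_one] at hx
    exact hqp.one_lt.ne hx
  rcases hmin Ω hΩnorm hΩN with h | h
  · exact absurd h hΩ1
  · refine ⟨q, hqp, ?_⟩
    intro y
    refine ⟨1, Subtype.ext ?_⟩
    have hy : (y : G) ∈ Ω := by rw [h]; exact y.2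
    simpa using hy.2

end MinimalNormal

end Cfsg.Agent.Helper22.SFTS
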