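import Mathlib
import Cfsg.Agent.Helper22.SFTS1
import Cfsg.Agent.Helper22.KBalance2
import Cfsg.Agent.S1281

/-!
# SFT-S, part 2: the quotient functor modulo a normal `p'`-subgroup
-/

set_option autoImplicit false
open Cfsg

namespace Cfsg.Agent.Helper22.SFTS

variable {G : Type*} [Group G]

/-- The quotient functor on `G ⧸ N`: the image of `θ a` at the image of `a ∈ A`, `a ≠ 1`. -/
def quotTheta (A N : Subgroup G) [N.Normal] (θ : G → Subgroup G) : G ⧸ N → Subgroup (G ⧸ N) :=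
  fun y => ⨆ a : {a : G // a ∈ A ∧ a ≠ 1 ∧ QuotientGroup.mk' N a = y},
    (θ (a : G)).map (QuotientGroup.mk' N)

section

variable [Finite G] {p : ℕ} [Fact p.Prime]

theorem inf_eq_bot_of_isElementaryAbelian {A N : Subgroup G} (hA : IsElementaryAbelian p A)
    (hN : ¬ p ∣ Nat.card ↥N) : A ⊓ N = ⊥ := by
  have hp : p.Prime := Fact.out
  apply Subgroup.inf_eq_bot_of_coprime
  have hAp : IsPGroup p ↥A := fun a => ⟨1, Subtype.ext (by simpa using hA.2 a a.2)⟩
  obtain ⟨n, hn⟩ := IsPGroup.iff_card.mp hAp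
  rw [hn]
  exact Nat.Coprime.pow_left n ((Nat.Prime.coprime_iff_not_dvd hp).mpr hN)

theorem mk_injOn {A N : Subgroup G} [N.Normal] (hA : IsElementaryAbelian p A)
    (hN : ¬ p ∣ Nat.card ↥N) {a a' : G} (ha : a ∈ A) (ha' : a' ∈ A)
    (h : QuotientGroup.mk' N a = QuotientGroup.mk' N a') : a = a' := by
  have h1 : a⁻¹ * a' ∈ N := QuotientGroup.eq.mp h
  have h2 : a⁻¹ * a' ∈ A ⊓ N := ⟨A.mul_mem (A.inv_mem ha) ha', h1⟩
  rw [inf_eq_bot_of_isElementaryAbelian hA hN, Subgroup.mem_bot] at h2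
  exact (inv_mul_eq_one.mp h2)

theorem mk_ne_one {A N : Subgroup G} [N.Normal] (hA : IsElementaryAbelian p A)
    (hN : ¬ p ∣ Nat.card ↥N) {a : G} (ha : a ∈ A) (ha1 : a ≠ 1) :
    QuotientGroup.mk' N a ≠ 1 := by
  intro h
  apply ha1
  apply mk_injOn hA hN ha A.one_mem
  rw [h, map_one]

theorem quotTheta_apply {A N : Subgroup G} [N.Normal] (hA : IsElementaryAbelian p A)
    (hN : ¬ p ∣ Nat.card ↥N) (θ : G → Subgroup G) {a : G} (ha : a ∈ A) (ha1 : a ≠ 1) :
    quotTheta A N θ (QuotientGroup.mk' N a) = (θ a).map (QuotientGroup.mk' N) := by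
  apply le_antisymm
  · apply iSup_le
    rintro ⟨a', ha', ha'1, h⟩
    have : a' = a := mk_injOn hA hN ha' ha h
    subst this
    exact le_rfl
  · exact le_iSup (fun a' : {a' : G // a' ∈ A ∧ a' ≠ 1 ∧ QuotientGroup.mk' N a' = QuotientGroup.mk' N a} =>
      (θ (a' : G)).map (QuotientGroup.mk' N)) ⟨a, ha, ha1, rfl⟩

theorem exists_of_mem_map_ne_one {A N : Subgroup G} [N.Normal] {y : G ⧸ N}
    (hy : y ∈ A.map (QuotientGroup.mk' N)) (hy1 : y ≠ 1) :
    ∃ a ∈ A, a ≠ 1 ∧ QuotientGroup.mk' N a = y := by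
  obtain ⟨a, ha, rfl⟩ := hy
  refine ⟨a, ha, ?_, rfl⟩
  rintro rfl
  exact hy1 (map_one _)

theorem card_le_card_map {A N : Subgroup G} [N.Normal] (hA : IsElementaryAbelian p A)
    (hN : ¬ p ∣ Nat.card ↥N) : Nat.card ↥A ≤ Nat.card ↥(A.map (QuotientGroup.mk' N)) := by
  apply Nat.card_le_card_of_injective
    (fun a : ↥A => (⟨QuotientGroup.mk' N a, Subgroup.mem_map_of_mem _ a.2⟩ :
      ↥(A.map (QuotientGroup.mk' N))))
  intro a a' h
  have h1 : QuotientGroup.mk' N (a : G) = QuotientGroup.mk' N (a' : G) := congrArg Subtype.val h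
  exact Subtype.ext (mk_injOn hA hN a.2 a'.2 h1)

/-- The quotient functor is a signalizer functor. -/
theorem isSignalizerFunctor_quotTheta {A : Subgroup G} (hA : IsElementaryAbelian p A)
    (hA2 : p ^ 2 ≤ Nat.card ↥A) {θ : G → Subgroup G} (hθ : IsSolvableSignalizerFunctor p A θ)
    (N : Subgroup G) [N.Normal] (hN : ¬ p ∣ Nat.card ↥N) :
    IsSignalizerFunctor p (A.map (QuotientGroup.mk' N)) (quotTheta A N θ) := by
  obtain ⟨⟨h1, h2, h3, h4⟩, h5⟩ := hθ
  refine ⟨?_, ?_, ?_, ?_⟩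
  · intro y hy hy1
    obtain ⟨a, ha, ha1, rfl⟩ := exists_of_mem_map_ne_one hy hy1
    rw [quotTheta_apply hA hN θ ha ha1]
    rintro _ ⟨x, hx, rfl⟩
    rw [Subgroup.mem_centralizer_singleton_iff]
    have hxa := h1 a ha ha1 hx
    rw [Subgroup.mem_centralizer_singleton_iff] at hxa
    rw [← map_mul, ← map_mul, hxa]
  · intro y hy hy1
    obtain ⟨a, ha, ha1, rfl⟩ := exists_of_mem_map_ne_one hy hy1
    rw [quotTheta_apply hA hN θ ha ha1]
    intro hdvd
    exact h2 a ha ha1 (hdvd.trans (Subgroup.card_map_dvd _ _))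
  · intro y hy hy1 z hz x hx
    obtain ⟨a, ha, ha1, rfl⟩ := exists_of_mem_map_ne_one hy hy1
    rw [quotTheta_apply hA hN θ ha ha1] at hx ⊢
    obtain ⟨b, hb, rfl⟩ := hz
    obtain ⟨x, hx, rfl⟩ := hx
    refine ⟨b * x * b⁻¹, h3 a ha ha1 b hb x hx, ?_⟩
    simp only [map_mul, map_inv]
  · intro y hy hy1 z hz hz1
    obtain ⟨a, ha, ha1, rfl⟩ := exists_of_mem_map_ne_one hy hy1
    obtain ⟨b, hb, hb1, rfl⟩ := exists_of_mem_map_ne_one hz hz1
    rw [quotTheta_apply hA hN θ ha ha1, quotTheta_apply hA hN θ hb hb1]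
    exact Cfsg.Agent.S1281.result p A hA hA2 θ ⟨⟨h1, h2, h3, h4⟩, h5⟩ N hN a b ha ha1 hb hb1

theorem closure_quotTheta {A : Subgroup G} (hA : IsElementaryAbelian p A)
    (θ : G → Subgroup G) (N : Subgroup G) [N.Normal] (hN : ¬ p ∣ Nat.card ↥N) :
    signalizerClosure (A.map (QuotientGroup.mk' N)) (quotTheta A N θ) =
      (signalizerClosure A θ).map (QuotientGroup.mk' N) := by
  apply le_antisymm
  · apply closure_le
    intro y hy hy1
    obtain ⟨a, ha, ha1, rfl⟩ := exists_of_mem_map_ne_one hy hy1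
    rw [quotTheta_apply hA hN θ ha ha1]
    exact Subgroup.map_mono (le_closure ha ha1)
  · unfold signalizerClosure
    rw [Subgroup.map_iSup]
    apply iSup_le
    rintro ⟨a, ha, ha1⟩
    have := le_closure (A := A.map (QuotientGroup.mk' N)) (θ := quotTheta A N θ)
      (Subgroup.mem_map_of_mem _ ha) (mk_ne_one hA hN ha ha1)
    rw [quotTheta_apply hA hN θ ha ha1] at this
    exact this

/-- Strict decrease of the order of the closure in the quotient. -/
theorem card_map_mk_lt {W N : Subgroup G} [N.Normal] (hNW : N ≤ W) (hN1 : N ≠ ⊥) :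
    Nat.card ↥(W.map (QuotientGroup.mk' N)) < Nat.card ↥W := by
  have hdvd : Nat.card ↥(W.map (QuotientGroup.mk' N)) ∣ Nat.card ↥W := Subgroup.card_map_dvd _ _
  have hle := Nat.le_of_dvd Nat.card_pos hdvd
  rcases hle.lt_or_eq with h | h
  · exact h
  · exfalso
    -- the surjection `W → W.map mk` would be injective
    let f : ↥W → ↥(W.map (QuotientGroup.mk' N)) :=
      fun w => ⟨QuotientGroup.mk' N w, Subgroup.mem_map_of_mem _ w.2⟩
    have hsurj : Function.Surjective f := by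
      rintro ⟨_, w, hw, rfl⟩
      exact ⟨⟨w, hw⟩, rfl⟩
    have hbij : Function.Bijective f := by
      rw [Nat.bijective_iff_surjective_and_card]
      exact ⟨hsurj, h.symm⟩
    obtain ⟨n, hn⟩ := (Subgroup.ne_bot_iff_exists_ne_one).mp hN1
    have h1 : f ⟨n, hNW n.2⟩ = f 1 := by
      apply Subtype.ext
      show QuotientGroup.mk' N (n : G) = QuotientGroup.mk' N ((1 : ↥W) : G)
      rw [Subgroup.coe_one, map_one]
      exact (QuotientGroup.eq_one_iff _).mpr n.2
    have h2 := hbij.1 h1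
    apply hn
    apply Subtype.ext
    have h3 : ((⟨(n : G), hNW n.2⟩ : ↥W) : G) = ((1 : ↥W) : G) := congrArg Subtype.val h2
    simpa using h3

/-- **Lemma Q0.** From completeness of the quotient functor: `C_W(a) ≤ θ(a) · C_N(a)`. -/
theorem exists_mul_of_quot {A : Subgroup G} (hA : IsElementaryAbelian p A)
    {θ : G → Subgroup G} (hθ : IsSignalizerFunctor p A θ)
    (N : Subgroup G) [N.Normal] (hN : ¬ p ∣ Nat.card ↥N)
    (hquot : ∀ y ∈ A.map (QuotientGroup.mk' N), y ≠ 1 →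
      signalizerClosure (A.map (QuotientGroup.mk' N)) (quotTheta A N θ) ⊓
        Subgroup.centralizer {y} ≤ quotTheta A N θ y)
    {a : G} (ha : a ∈ A) (ha1 : a ≠ 1) {x : G}
    (hx : x ∈ signalizerClosure A θ ⊓ Subgroup.centralizer {a}) :
    ∃ y ∈ θ a, y⁻¹ * x ∈ N ⊓ Subgroup.centralizer {a} := by
  have h := hquot _ (Subgroup.mem_map_of_mem _ ha) (mk_ne_one hA hN ha ha1)
  rw [closure_quotTheta hA θ N hN, quotTheta_apply hA hN θ ha ha1] at h
  have hx' : QuotientGroup.mk' N x ∈ (signalizerClosure A θ).map (QuotientGroup.mk' N) ⊓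
      Subgroup.centralizer {QuotientGroup.mk' N a} := by
    refine Subgroup.mem_inf.mpr ⟨Subgroup.mem_map_of_mem _ hx.1, ?_⟩
    rw [Subgroup.mem_centralizer_singleton_iff]
    have hxa : x ∈ Subgroup.centralizer {a} := hx.2
    rw [Subgroup.mem_centralizer_singleton_iff] at hxa
    rw [← map_mul, ← map_mul, hxa]
  obtain ⟨y, hy, hyx⟩ := h hx'
  refine ⟨y, hy, QuotientGroup.eq.mp hyx, ?_⟩
  exact Subgroup.mul_mem _ (Subgroup.inv_mem _ (hθ.1 a ha ha1 hy)) hx.2

/-- **Lemma Q.** A nontrivial normal member `N` together with completeness of the quotient functor gives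
completeness. -/
theorem le_of_quot_of_member {A : Subgroup G} (hA : IsElementaryAbelian p A)
    {θ : G → Subgroup G} (hθ : IsSignalizerFunctor p A θ)
    (N : Subgroup G) [N.Normal] (hN : ¬ p ∣ Nat.card ↥N)
    (hquot : ∀ y ∈ A.map (QuotientGroup.mk' N), y ≠ 1 →
      signalizerClosure (A.map (QuotientGroup.mk' N)) (quotTheta A N θ) ⊓
        Subgroup.centralizer {y} ≤ quotTheta A N θ y)
    (hmem : ∀ a ∈ A, a ≠ 1 → N ⊓ Subgroup.centralizer {a} ≤ θ a)
    {a : G} (ha : a ∈ A) (ha1 : a ≠ 1) :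
    signalizerClosure A θ ⊓ Subgroup.centralizer {a} ≤ θ a := by
  intro x hx
  obtain ⟨y, hy, hyx⟩ := exists_mul_of_quot hA hθ N hN hquot ha ha1 hx
  have h1 : y⁻¹ * x ∈ θ a := hmem a ha ha1 hyx
  have : x = y * (y⁻¹ * x) := by group
  rw [this]
  exact (θ a).mul_mem hy h1

end

end Cfsg.Agent.Helper22.SFTS
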