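import Mathlib
import Cfsg.Agent.Helper22.SFTS1
import Cfsg.Agent.Helper22.KBalance3

/-!
# SFT-S, part 3: transfer of a signalizer functor to a subgroup containing `A` and all `θ a`
-/

set_option autoImplicit false
open Cfsg

namespace Cfsg.Agent.Helper22.SFTS

variable {G : Type*} [Group G]

/-- The functor `θ` viewed on the subgroup `H`. -/
def subTheta (H : Subgroup G) (θ : G → Subgroup G) : ↥H → Subgroup ↥H :=
  fun x => (θ (x : G)).subgroupOf H

section

variable [Finite G] {p : ℕ} [Fact p.Prime]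

theorem card_subgroupOf_of_le {K H : Subgroup G} (h : K ≤ H) :
    Nat.card ↥(K.subgroupOf H) = Nat.card ↥K :=
  Nat.card_congr (Subgroup.subgroupOfEquivOfLe h).toEquiv

theorem isSignalizerFunctor_subTheta {A : Subgroup G} {θ : G → Subgroup G}
    (hθ : IsSignalizerFunctor p A θ) (H : Subgroup G)
    (hθH : ∀ a ∈ A, a ≠ 1 → θ a ≤ H) :
    IsSignalizerFunctor p (A.subgroupOf H) (subTheta H θ) := by
  obtain ⟨h1, h2, h3, h4⟩ := hθ
  have hne : ∀ a' : ↥H, a' ≠ 1 → (a' : G) ≠ 1 := by
    intro a' h hc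
    exact h (Subtype.ext hc)
  refine ⟨?_, ?_, ?_, ?_⟩
  · intro a' ha' ha'1 x' hx'
    have ha : (a' : G) ∈ A := Subgroup.mem_subgroupOf.mp ha'
    have hx : (x' : G) ∈ θ (a' : G) := Subgroup.mem_subgroupOf.mp hx'
    have := h1 _ ha (hne a' ha'1) hx
    rw [Subgroup.mem_centralizer_singleton_iff] at this ⊢
    exact Subtype.ext this
  · intro a' ha' ha'1
    have ha : (a' : G) ∈ A := Subgroup.mem_subgroupOf.mp ha'
    show ¬ p ∣ Nat.card ↥((θ (a' : G)).subgroupOf H)
    rw [card_subgroupOf_of_le (hθH _ ha (hne a' ha'1))]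
    exact h2 _ ha (hne a' ha'1)
  · intro a' ha' ha'1 b' hb' x' hx'
    have ha : (a' : G) ∈ A := Subgroup.mem_subgroupOf.mp ha'
    have hb : (b' : G) ∈ A := Subgroup.mem_subgroupOf.mp hb'
    have hx : (x' : G) ∈ θ (a' : G) := Subgroup.mem_subgroupOf.mp hx'
    have := h3 _ ha (hne a' ha'1) _ hb _ hx
    exact Subgroup.mem_subgroupOf.mpr (by simpa using this)
  · intro a' ha' ha'1 b' hb' hb'1 x' hx'
    have ha : (a' : G) ∈ A := Subgroup.mem_subgroupOf.mp ha'
    have hb : (b' : G) ∈ A := Subgroup.mem_subgroupOf.mp hb'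
    have hx : (x' : G) ∈ θ (a' : G) := Subgroup.mem_subgroupOf.mp hx'.1
    have hxb : x' ∈ Subgroup.centralizer {b'} := hx'.2
    rw [Subgroup.mem_centralizer_singleton_iff] at hxb
    have hxb' : (x' : G) ∈ Subgroup.centralizer {(b' : G)} := by
      rw [Subgroup.mem_centralizer_singleton_iff]
      have := congrArg Subtype.val hxb
      simpa using this
    have := h4 _ ha (hne a' ha'1) _ hb (hne b' hb'1) ⟨hx, hxb'⟩
    exact Subgroup.mem_subgroupOf.mpr this

theorem map_closure_subTheta {A : Subgroup G} {θ : G → Subgroup G} (H : Subgroup G)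
    (hAH : A ≤ H) (hθH : ∀ a ∈ A, a ≠ 1 → θ a ≤ H) :
    (signalizerClosure (A.subgroupOf H) (subTheta H θ)).map H.subtype = signalizerClosure A θ := by
  apply le_antisymm
  · unfold signalizerClosure
    rw [Subgroup.map_iSup]
    apply iSup_le
    rintro ⟨a', ha', ha'1⟩
    have ha : (a' : G) ∈ A := Subgroup.mem_subgroupOf.mp ha'
    have hne : (a' : G) ≠ 1 := fun hc => ha'1 (Subtype.ext hc)
    show ((θ (a' : G)).subgroupOf H).map H.subtype ≤ _
    rw [Subgroup.map_subgroupOf_eq_of_le (hθH _ ha hne)]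
    exact le_closure (θ := θ) ha hne
  · apply closure_le
    intro a ha ha1
    have h1 : θ a = ((θ a).subgroupOf H).map H.subtype :=
      (Subgroup.map_subgroupOf_eq_of_le (hθH a ha ha1)).symm
    rw [h1]
    apply Subgroup.map_mono
    have ha' : (⟨a, hAH ha⟩ : ↥H) ∈ A.subgroupOf H := Subgroup.mem_subgroupOf.mpr ha
    have ha'1 : (⟨a, hAH ha⟩ : ↥H) ≠ 1 := fun hc => ha1 (congrArg Subtype.val hc)
    exact le_closure (θ := subTheta H θ) ha' ha'1

theorem card_closure_subTheta {A : Subgroup G} {θ : G → Subgroup G} (H : Subgroup G)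
    (hAH : A ≤ H) (hθH : ∀ a ∈ A, a ≠ 1 → θ a ≤ H) :
    Nat.card ↥(signalizerClosure (A.subgroupOf H) (subTheta H θ)) =
      Nat.card ↥(signalizerClosure A θ) := by
  rw [← map_closure_subTheta H hAH hθH]
  exact (Subgroup.card_map_of_injective (Subgroup.subtype_injective H)).symm

theorem isSolvable_closure_subTheta {A : Subgroup G} {θ : G → Subgroup G} (H : Subgroup G)
    (hAH : A ≤ H) (hθH : ∀ a ∈ A, a ≠ 1 → θ a ≤ H)
    (hs : Group.IsSolvable ↥(signalizerClosure A θ)) :
    Group.IsSolvable ↥(signalizerClosure (A.subgroupOf H) (subTheta H θ)) := by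
  have hmap := map_closure_subTheta (θ := θ) H hAH hθH
  let f : ↥(signalizerClosure (A.subgroupOf H) (subTheta H θ)) →* ↥(signalizerClosure A θ) :=
    { toFun := fun x => ⟨((x : ↥H) : G), by
        rw [← hmap]; exact Subgroup.mem_map_of_mem _ x.2⟩
      map_one' := rfl
      map_mul' := fun _ _ => rfl }
  have hf : Function.Injective f := by
    intro x y h
    have h0 : ((f x : ↥(signalizerClosure A θ)) : G) = ((f y : ↥(signalizerClosure A θ)) : G) :=
      congrArg Subtype.val h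
    have h1 : ((x : ↥H) : G) = ((y : ↥H) : G) := h0
    exact Subtype.ext (Subtype.ext h1)
  exact Group.isSolvable_of_isSolvable_injective hf

/-- Transfer of the conclusion from `H` back to `G`. -/
theorem le_of_subTheta {A : Subgroup G} {θ : G → Subgroup G} (H : Subgroup G)
    (hAH : A ≤ H) (hθH : ∀ a ∈ A, a ≠ 1 → θ a ≤ H)
    (h : ∀ a' ∈ A.subgroupOf H, a' ≠ 1 →
      signalizerClosure (A.subgroupOf H) (subTheta H θ) ⊓ Subgroup.centralizer {a'} ≤
        subTheta H θ a')
    {a : G} (ha : a ∈ A) (ha1 : a ≠ 1) :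
    signalizerClosure A θ ⊓ Subgroup.centralizer {a} ≤ θ a := by
  intro x hx
  have hxW : x ∈ signalizerClosure A θ := hx.1
  have hxa : x ∈ Subgroup.centralizer {a} := hx.2
  rw [← map_closure_subTheta H hAH hθH] at hxW
  obtain ⟨x', hx', rfl⟩ := hxW
  have ha' : (⟨a, hAH ha⟩ : ↥H) ∈ A.subgroupOf H := Subgroup.mem_subgroupOf.mpr ha
  have ha'1 : (⟨a, hAH ha⟩ : ↥H) ≠ 1 := fun hc => ha1 (congrArg Subtype.val hc)
  have hx'a : x' ∈ Subgroup.centralizer {(⟨a, hAH ha⟩ : ↥H)} := by
    rw [Subgroup.mem_centralizer_singleton_iff] at hxa ⊢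
    exact Subtype.ext hxa
  have := h _ ha' ha'1 ⟨hx', hx'a⟩
  exact Subgroup.mem_subgroupOf.mp this

theorem card_subgroupOf_A {A H : Subgroup G} (hAH : A ≤ H) :
    Nat.card ↥(A.subgroupOf H) = Nat.card ↥A := card_subgroupOf_of_le hAH

/-- In the subgroup `H = W ⊔ A`, the closure together with `A` generates everything. -/
theorem closure_sup_eq_top {A : Subgroup G} {θ : G → Subgroup G}
    (hθH : ∀ a ∈ A, a ≠ 1 → θ a ≤ signalizerClosure A θ ⊔ A) :
    signalizerClosure (A.subgroupOf (signalizerClosure A θ ⊔ A))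
        (subTheta (signalizerClosure A θ ⊔ A) θ) ⊔
      A.subgroupOf (signalizerClosure A θ ⊔ A) = ⊤ := by
  set H := signalizerClosure A θ ⊔ A with hH
  have hAH : A ≤ H := le_sup_right
  apply Subgroup.map_injective (Subgroup.subtype_injective H)
  rw [Subgroup.map_sup, map_closure_subTheta H hAH hθH, Subgroup.map_subgroupOf_eq_of_le hAH,
    ← MonoidHom.range_eq_map, Subgroup.range_subtype]

end

end Cfsg.Agent.Helper22.SFTS
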