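import Mathlib
import Cfsg.Agent.Helper22.SFTS1
import Cfsg.Agent.Helper22.SFTS2
import Cfsg.Agent.Helper22.SFTS3
import Cfsg.Agent.S1285

/-!
# SFT-S: the solvable signalizer functor theorem when the closure is a solvable `p'`-group

If `θ` is an `A`-signalizer functor (`A` elementary abelian of rank at least three) whose closure
`W = ⟨θ a⟩` is a solvable group of order prime to `p`, then `C_W(a) = θ a` for all `a ∈ A#`.
The proof is by induction on `|W|` (see the module docstring of `SFTS1`).
-/

set_option autoImplicit false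
open Cfsg

namespace Cfsg.Agent.Helper22.SFTS

universe u

section gen

variable {G : Type*} [Group G] [Finite G] {p : ℕ} [Fact p.Prime]

/-- A nontrivial `p'`-subgroup normalized by a noncyclic elementary abelian `p`-group `E` has a nontrivial
centralizer of some nonidentity element of `E`. -/
theorem exists_inf_centralizer_ne_bot {E K : Subgroup G} (hE : IsElementaryAbelian p E)
    (hE2 : p ^ 2 ≤ Nat.card ↥E) (hK : ¬ p ∣ Nat.card ↥K)
    (hEK : E ≤ Subgroup.normalizer (K : Set G)) (hK1 : K ≠ ⊥) :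
    ∃ c ∈ E, c ≠ 1 ∧ K ⊓ Subgroup.centralizer {c} ≠ ⊥ := by
  have hp : p.Prime := Fact.out
  by_contra hcon
  push_neg at hcon
  apply hK1
  rw [eq_bot_iff]
  refine (Cfsg.Agent.Helper31.le_iSup_hyperplane_relIndex (p := p) K E hK hEK
    (comm_of_isElementaryAbelian hE) hE.2 hE2).trans (iSup_le ?_)
  rintro ⟨F, hFE, hFi⟩
  have hcard := Cfsg.Agent.Helper31.card_mul_of_relIndex_eq hFE hFi
  have hF1 : F ≠ ⊥ := by
    rintro rfl
    rw [Subgroup.card_bot, one_mul] at hcard
    rw [← hcard] at hE2
    have : p ^ 2 = p * p := by ring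
    have h2 := hp.two_le
    nlinarith
  obtain ⟨c, hc1⟩ := (Subgroup.ne_bot_iff_exists_ne_one).mp hF1
  have hc1' : (c : G) ≠ 1 := fun h => hc1 (Subtype.ext h)
  rw [← hcon c (hFE c.2) hc1']
  refine inf_le_inf_left K ?_
  exact Subgroup.centralizer_le (by
    intro x hx
    rw [Set.mem_singleton_iff] at hx
    rw [hx]
    exact c.2)

theorem card_lt_of_le_of_ne {H K : Subgroup G} (h : H ≤ K) (hne : H ≠ K) :
    Nat.card ↥H < Nat.card ↥K := by
  by_contra hcon
  exact hne (Subgroup.eq_of_le_of_card_ge h (not_lt.mp hcon))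

theorem isSolvable_of_le {H K : Subgroup G} (h : H ≤ K) (hK : Group.IsSolvable ↥K) :
    Group.IsSolvable ↥H :=
  Group.isSolvable_of_isSolvable_injective (Subgroup.inclusion_injective h)

theorem not_dvd_card_of_le' {H K : Subgroup G} (h : H ≤ K) (hK : ¬ p ∣ Nat.card ↥K) :
    ¬ p ∣ Nat.card ↥H :=
  fun hd => hK (hd.trans (Subgroup.card_dvd_of_le h))

/-- From completeness to the inclusion `C_W(a) ≤ θ a`. -/
theorem le_of_complete {A : Subgroup G} {θ : G → Subgroup G}
    (h : IsCompleteSignalizerFunctor p A θ) {a : G} (ha : a ∈ A) (ha1 : a ≠ 1) :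
    signalizerClosure A θ ⊓ Subgroup.centralizer {a} ≤ θ a := by
  obtain ⟨_, X, _, _, hX⟩ := h
  have hW : signalizerClosure A θ ≤ X := by
    apply closure_le
    intro b hb hb1
    rw [← hX b hb hb1]
    exact inf_le_left
  rw [← hX a ha ha1]
  exact inf_le_inf_right _ hW

end gen

/-- The induction statement. -/
def Stmt (p : ℕ) (n : ℕ) : Prop :=
  ∀ (G : Type u) [Group G] [Finite G] (A : Subgroup G) (θ : G → Subgroup G),
    IsElementaryAbelian p A → p ^ 3 ≤ Nat.card ↥A → IsSignalizerFunctor p A θ →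
    Group.IsSolvable ↥(signalizerClosure A θ) → ¬ p ∣ Nat.card ↥(signalizerClosure A θ) →
    Nat.card ↥(signalizerClosure A θ) = n →
    ∀ a ∈ A, a ≠ 1 → signalizerClosure A θ ⊓ Subgroup.centralizer {a} ≤ θ a

/-- The core step: ambient group `G = W A`. -/
theorem core (p : ℕ) [Fact p.Prime] (n : ℕ) (ih : ∀ m < n, Stmt.{u} p m)
    (G : Type u) [Group G] [Finite G] (A : Subgroup G) (θ : G → Subgroup G)
    (hA : IsElementaryAbelian p A) (hA3 : p ^ 3 ≤ Nat.card ↥A) (hθ : IsSignalizerFunctor p A θ)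
    (hsolv : Group.IsSolvable ↥(signalizerClosure A θ))
    (hp' : ¬ p ∣ Nat.card ↥(signalizerClosure A θ))
    (hn : Nat.card ↥(signalizerClosure A θ) = n)
    (htop : signalizerClosure A θ ⊔ A = ⊤) :
    ∀ a ∈ A, a ≠ 1 → signalizerClosure A θ ⊓ Subgroup.centralizer {a} ≤ θ a := by
  have hp : p.Prime := Fact.out
  have hA2 : p ^ 2 ≤ Nat.card ↥A := le_trans (Nat.pow_le_pow_right hp.pos (by norm_num)) hA3
  set W := signalizerClosure A θ with hW
  -- every subgroup normalized by all `θ b` and by `A` is normal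
  have hnormal : ∀ K : Subgroup G, Inv A K →
      (∀ b ∈ A, b ≠ 1 → θ b ≤ Subgroup.normalizer (K : Set G)) → K.Normal := by
    intro K hKA hKθ
    rw [← Subgroup.normalizer_eq_top_iff, eq_top_iff, ← htop]
    exact sup_le (closure_le hKθ) hKA.le_normalizer
  have hWnormal : W.Normal :=
    hnormal W (inv_closure hθ) (fun b hb hb1 => (le_closure hb hb1).trans Subgroup.le_normalizer)
  -- solvable functor
  have hθs : IsSolvableSignalizerFunctor p A θ :=
    ⟨hθ, fun a ha ha1 => isSolvable_of_le (le_closure ha ha1) hsolv⟩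
  -- the quotient hypothesis from the induction hypothesis
  have hquot : ∀ (N : Subgroup G) [N.Normal], N ≤ W → N ≠ ⊥ →
      ∀ y ∈ A.map (QuotientGroup.mk' N), y ≠ 1 →
        signalizerClosure (A.map (QuotientGroup.mk' N)) (quotTheta A N θ) ⊓
          Subgroup.centralizer {y} ≤ quotTheta A N θ y := by
    intro N _ hNW hN1
    have hNp : ¬ p ∣ Nat.card ↥N := not_dvd_card_of_le' hNW hp'
    have hcl := closure_quotTheta hA θ N hNp
    have hlt : Nat.card ↥(W.map (QuotientGroup.mk' N)) < n := hn ▸ card_map_mk_lt hNW hN1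
    refine ih _ hlt (G ⧸ N) (A.map (QuotientGroup.mk' N)) (quotTheta A N θ)
      (Cfsg.Agent.Helper22.isElementaryAbelian_map _ hA)
      (hA3.trans (card_le_card_map hA hNp))
      (isSignalizerFunctor_quotTheta hA hA2 hθs N hNp) ?_ ?_ ?_
    · rw [hcl]
      exact Group.isSolvable_of_surjective
        (MonoidHom.subgroupMap_surjective (QuotientGroup.mk' N) W)
    · rw [hcl]
      exact fun hd => hp' (hd.trans (Subgroup.card_map_dvd _ _))
    · rw [hcl]
  -- a nontrivial normal member finishes the proof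
  have hmember : ∀ (N : Subgroup G) [N.Normal], N ≤ W → N ≠ ⊥ →
      (∀ a ∈ A, a ≠ 1 → N ⊓ Subgroup.centralizer {a} ≤ θ a) →
      ∀ a ∈ A, a ≠ 1 → W ⊓ Subgroup.centralizer {a} ≤ θ a := by
    intro N _ hNW hN1 hmem a ha ha1
    exact le_of_quot_of_member hA hθ N (not_dvd_card_of_le' hNW hp') (hquot N hNW hN1) hmem ha ha1
  -- normality of the closures of the subfunctors `θ ⊓ K`
  have hnormal_inf : ∀ K : Subgroup G, K.Normal →
      (signalizerClosure A (fun x => θ x ⊓ K)).Normal := by
    intro K hK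
    have hKA : Inv A K := fun b _ u hu => hK.conj_mem u hu b
    have hKθ : ∀ b ∈ A, b ≠ 1 → θ b ≤ Subgroup.normalizer (K : Set G) := by
      intro b _ _
      rw [Subgroup.normalizer_eq_top_iff.mpr hK]
      exact le_top
    exact hnormal _ (inv_closure (isSignalizerFunctor_inf hθ hKA))
      (theta_le_normalizer_closure_inf hA hA3 hθ hKA hKθ)
  -- application of the induction hypothesis to a subfunctor `θ ⊓ K`
  have hsub : ∀ K : Subgroup G, K.Normal → signalizerClosure A (fun x => θ x ⊓ K) ≠ W →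
      ∀ a ∈ A, a ≠ 1 →
        signalizerClosure A (fun x => θ x ⊓ K) ⊓ Subgroup.centralizer {a} ≤ θ a := by
    intro K hK hne a ha ha1
    have hKA : Inv A K := fun b _ u hu => hK.conj_mem u hu b
    have hle : signalizerClosure A (fun x => θ x ⊓ K) ≤ W := closure_inf_le_closure K
    have hlt : Nat.card ↥(signalizerClosure A (fun x => θ x ⊓ K)) < n :=
      hn ▸ card_lt_of_le_of_ne hle hne
    have := ih _ hlt G A (fun x => θ x ⊓ K) hA hA3 (isSignalizerFunctor_inf hθ hKA)
      (isSolvable_of_le hle hsolv) (not_dvd_card_of_le' hle hp') rfl a ha ha1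
    exact this.trans inf_le_left
  -- the trivial case
  by_cases hW1 : W = ⊥
  · intro a ha ha1 x hx
    have : x ∈ W := hx.1
    rw [hW1, Subgroup.mem_bot] at this
    rw [this]
    exact (θ a).one_mem
  -- a minimal normal subgroup
  obtain ⟨N, hNn, hNW, hN1, hNmin⟩ := exists_minimal_normal W hW1
  have hNp : ¬ p ∣ Nat.card ↥N := not_dvd_card_of_le' hNW hp'
  set N₀ := signalizerClosure A (fun x => θ x ⊓ N) with hN₀
  have hN₀n : N₀.Normal := hnormal_inf N hNn
  have hN₀N : N₀ ≤ N := closure_inf_le N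
  rcases hNmin N₀ hN₀n hN₀N with hN₀bot | hN₀eq
  · ---------------- Case B: `θ a ⊓ N = ⊥` for all `a`
    have hθN : ∀ a ∈ A, a ≠ 1 → θ a ⊓ N = ⊥ := by
      intro a ha ha1
      rw [eq_bot_iff, ← hN₀bot]
      exact le_closure (θ := fun x => θ x ⊓ N) ha ha1
    set π := QuotientGroup.mk' N with hπ
    have hπs : Function.Surjective π := QuotientGroup.mk'_surjective N
    -- the image of `W` is nontrivial
    have hWbar1 : W.map π ≠ ⊥ := by
      intro h
      rw [Subgroup.map_eq_bot_iff, QuotientGroup.ker_mk'] at h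
      apply hW1
      rw [eq_bot_iff]
      apply closure_le
      intro a ha ha1
      rw [← hθN a ha ha1]
      exact le_inf le_rfl ((le_closure ha ha1).trans h)
    have hWbarn : (W.map π).Normal := hWnormal.map π hπs
    obtain ⟨Kb, hKbn, hKbW, hKb1, hKbmin⟩ := exists_minimal_normal (W.map π) hWbar1
    have hWbars : Group.IsSolvable ↥(W.map π) :=
      Group.isSolvable_of_surjective (MonoidHom.subgroupMap_surjective π W)
    obtain ⟨s, hs, hKbs⟩ := exists_isPGroup_of_minimal_normal_solvable Kb hKb1 hKbmin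
      (isSolvable_of_le hKbW hWbars)
    haveI : Fact s.Prime := ⟨hs⟩
    set K := Kb.comap π with hK
    have hKn : K.Normal := hKbn.comap π
    have hKW : K ≤ W := by
      have h1 : K ≤ (W.map π).comap π := Subgroup.comap_mono hKbW
      rw [Subgroup.comap_map_eq, QuotientGroup.ker_mk', sup_eq_left.mpr hNW] at h1
      exact h1
    have hmapK : K.map π = Kb := Subgroup.map_comap_eq_self_of_surjective hπs Kb
    set W₁ := signalizerClosure A (fun x => θ x ⊓ K) with hW₁
    have hW₁n : W₁.Normal := hnormal_inf K hKn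
    have hW₁K : W₁ ≤ K := closure_inf_le K
    by_cases hW₁W : W₁ = W
    · -- all `θ a` are `s`-groups
      have hKeq : K = W := le_antisymm hKW (hW₁W ▸ hW₁K)
      have hWbarEq : W.map π = Kb := by rw [← hKeq, hmapK]
      have hθs' : ∀ a ∈ A, a ≠ 1 → IsPGroup s ↥(θ a) := by
        intro a ha ha1 x
        have hxW : π (x : G) ∈ Kb := by
          rw [← hWbarEq]
          exact Subgroup.mem_map_of_mem _ (le_closure ha ha1 x.2)
        obtain ⟨k, hk⟩ := hKbs ⟨π (x : G), hxW⟩
        refine ⟨k, ?_⟩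
        have hk' : π ((x : G) ^ s ^ k) = 1 := by
          have := congrArg Subtype.val hk
          simpa using this
        have h1 : (x : G) ^ s ^ k ∈ N := (QuotientGroup.eq_one_iff _).mp hk'
        have h2 : (x : G) ^ s ^ k ∈ θ a ⊓ N := ⟨(θ a).pow_mem x.2 _, h1⟩
        rw [hθN a ha ha1, Subgroup.mem_bot] at h2
        exact Subtype.ext (by simpa using h2)
      intro a ha ha1
      exact le_of_complete (Cfsg.Agent.S1285.result p A hA hA3 θ hθs s hθs') ha ha1
    · -- `W₁` is a nontrivial normal member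
      have hW₁mem := hsub K hKn hW₁W
      have hW₁1 : W₁ ≠ ⊥ := by
        intro hbot
        have hθK : ∀ a ∈ A, a ≠ 1 → θ a ⊓ K = ⊥ := by
          intro a ha ha1
          rw [eq_bot_iff, ← hbot]
          exact le_closure (θ := fun x => θ x ⊓ K) ha ha1
        -- a nontrivial fixed point in `Kb`
        have hAbar : IsElementaryAbelian p (A.map π) :=
          Cfsg.Agent.Helper22.isElementaryAbelian_map _ hA
        have hAbar2 : p ^ 2 ≤ Nat.card ↥(A.map π) := hA2.trans (card_le_card_map hA hNp)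
        have hKbp : ¬ p ∣ Nat.card ↥Kb := by
          intro hd
          exact hp' ((hd.trans (Subgroup.card_dvd_of_le hKbW)).trans (Subgroup.card_map_dvd _ _))
        have hKbnorm : A.map π ≤ Subgroup.normalizer (Kb : Set (G ⧸ N)) := by
          rw [Subgroup.normalizer_eq_top_iff.mpr hKbn]
          exact le_top
        obtain ⟨c', hc'A, hc'1, hc'⟩ :=
          exists_inf_centralizer_ne_bot hAbar hAbar2 hKbp hKbnorm hKb1
        obtain ⟨c, hc, hc1, rfl⟩ := exists_of_mem_map_ne_one hc'A hc'1
        obtain ⟨z, hz1⟩ := (Subgroup.ne_bot_iff_exists_ne_one).mp hc'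
        have hz : (z : G ⧸ N) ∈ Kb ⊓ Subgroup.centralizer {π c} := z.2
        -- use the quotient completeness
        have hq := hquot N hNW hN1 (π c) (Subgroup.mem_map_of_mem _ hc) hc'1
        rw [closure_quotTheta hA θ N hNp, quotTheta_apply hA hNp θ hc hc1] at hq
        have hz' : (z : G ⧸ N) ∈ (θ c).map π := hq ⟨hKbW hz.1, hz.2⟩
        obtain ⟨y, hy, hyz⟩ := hz'
        have hyK : y ∈ K := by
          rw [hK, Subgroup.mem_comap, hyz]
          exact hz.1
        have hy1 : y ∈ θ c ⊓ K := ⟨hy, hyK⟩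
        rw [hθK c hc hc1, Subgroup.mem_bot] at hy1
        apply hz1
        apply Subtype.ext
        rw [← hyz, hy1, map_one]
        rfl
      exact hmember W₁ (hW₁K.trans hKW) hW₁1 hW₁mem
  · ---------------- Case A: `N` is generated by the `θ a ⊓ N`
    by_cases hNeqW : N = W
    · -- `W` is a `q`-group
      obtain ⟨q, hq, hNq⟩ := exists_isPGroup_of_minimal_normal_solvable N hN1 hNmin
        (isSolvable_of_le hNW hsolv)
      haveI : Fact q.Prime := ⟨hq⟩
      have hθq : ∀ a ∈ A, a ≠ 1 → IsPGroup q ↥(θ a) := by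
        intro a ha ha1
        exact hNq.to_le (hNeqW ▸ le_closure ha ha1)
      intro a ha ha1
      exact le_of_complete (Cfsg.Agent.S1285.result p A hA hA3 θ hθs q hθq) ha ha1
    · have hN₀W : N₀ ≠ W := by rw [hN₀eq]; exact hNeqW
      have hNmem := hsub N hNn hN₀W
      rw [← hN₀, hN₀eq] at hNmem
      exact hmember N hNW hN1 hNmem

/-- **SFT-S**, induction. -/
theorem stmt (p : ℕ) [Fact p.Prime] : ∀ n : ℕ, Stmt.{u} p n := by
  intro n
  induction n using Nat.strong_induction_on with
  | _ n ih =>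
  intro G _ _ A θ hA hA3 hθ hsolv hp' hn
  -- pass to the subgroup `H = W A`
  set H := signalizerClosure A θ ⊔ A with hH
  have hAH : A ≤ H := le_sup_right
  have hθH : ∀ a ∈ A, a ≠ 1 → θ a ≤ H := fun a ha ha1 => (le_closure ha ha1).trans le_sup_left
  have key := core p n ih ↥H (A.subgroupOf H) (subTheta H θ)
    (Cfsg.Agent.Helper22.isElementaryAbelian_subgroupOf hA H)
    (by rw [card_subgroupOf_A hAH]; exact hA3)
    (isSignalizerFunctor_subTheta hθ H hθH)
    (isSolvable_closure_subTheta H hAH hθH hsolv)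
    (by rw [card_closure_subTheta H hAH hθH]; exact hp')
    (by rw [card_closure_subTheta H hAH hθH]; exact hn)
    (closure_sup_eq_top hθH)
  intro a ha ha1
  exact le_of_subTheta H hAH hθH key ha ha1

/-- **SFT-S.** Let `A` be an elementary abelian `p`-subgroup of rank at least three of the finite group
`G` and `θ` an `A`-signalizer functor whose closure `W = ⟨θ a : a ∈ A#⟩` is a solvable group of order
prime to `p`.  Then `C_W(a) = θ a` for every `a ∈ A#`. -/
theorem sfts {G : Type u} [Group G] [Finite G] (p : ℕ) [Fact p.Prime] (A : Subgroup G)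
    (hA : IsElementaryAbelian p A) (hA3 : p ^ 3 ≤ Nat.card ↥A) (θ : G → Subgroup G)
    (hθ : IsSignalizerFunctor p A θ)
    (hsolv : Group.IsSolvable ↥(signalizerClosure A θ))
    (hp' : ¬ p ∣ Nat.card ↥(signalizerClosure A θ)) {a : G} (ha : a ∈ A) (ha1 : a ≠ 1) :
    signalizerClosure A θ ⊓ Subgroup.centralizer {a} = θ a :=
  le_antisymm (stmt p _ G A θ hA hA3 hθ hsolv hp' rfl a ha ha1)
    (le_inf (le_closure ha ha1) (hθ.1 a ha ha1))

end Cfsg.Agent.Helper22.SFTS
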