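import Mathlib
import Cfsg.Prelude.Def_OddOrderLocal
import Cfsg.Agent.Helper22.BG144C0
import Cfsg.Agent.Helper22.SFTS4
import Cfsg.Agent.Helper71.BGHall
import Cfsg.Agent.Helper75.BG1436A
import Cfsg.Agent.Helper31.BGNoMutualTau2Main
import Cfsg.Agent.S1403
import Cfsg.Agent.S1378
import Cfsg.Agent.S1404
import Cfsg.Agent.S1417
import Cfsg.Agent.S1418

/-!
# Bender-Glauberman 14.4(c2) (statement S1376), Step 5, part (C1): 5.1-5.4 (helper22)

Reference text: helper57's proof, board post #3885.  Under the facts `Ctx` at the head of Step 5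
and `s ∈ τ₂(M)`: a complement `E ≥ K` of `M_σ` in `M`, `B ≤ E` elementary abelian of order `s²`,
`b₀ ∈ B#` with a fixed point on `M_σ`, and then `E = M ∩ N*`, `s ∈ σ(N*)`, `C(b₀) ≰ N*`.
-/

set_option autoImplicit false
set_option linter.unusedSectionVars false
set_option linter.unusedVariables false

namespace Cfsg.Agent.Helper22.BG144C

open Cfsg Cfsg.Agent.Helper29.BG10 Cfsg.Agent.Helper29.BG11 Cfsg.Agent.Helper22.BG146

variable {G : Type*} [Group G] [Finite G]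

/-! ### small general facts -/

theorem centralizer_zpowers_eq (b : G) :
    Subgroup.centralizer ((Subgroup.zpowers b : Subgroup G) : Set G) =
      Subgroup.centralizer ({b} : Set G) := by
  apply le_antisymm
  · apply Subgroup.centralizer_le
    intro y hy
    rw [Set.mem_singleton_iff] at hy
    rw [hy]
    exact Subgroup.mem_zpowers b
  · intro c hc
    rw [Subgroup.mem_centralizer_iff] at hc ⊢
    intro y hy
    obtain ⟨n, rfl⟩ := Subgroup.mem_zpowers_iff.1 hy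
    have h1 : Commute b c := hc b (Set.mem_singleton b)
    exact (h1.zpow_left n).eq

theorem mem_centralizer_singleton_iff {b c : G} :
    c ∈ Subgroup.centralizer ({b} : Set G) ↔ b * c = c * b := by
  rw [Subgroup.mem_centralizer_iff]
  constructor
  · intro h; exact h b (Set.mem_singleton b)
  · intro h y hy
    rw [Set.mem_singleton_iff] at hy
    rw [hy]; exact h

/-- a group of prime order is generated by each of its non-identity elements -/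
theorem zpowers_eq_of_card_prime {K : Subgroup G} {p : ℕ} (hp : p.Prime) (hK : Nat.card K = p)
    {k : G} (hk : k ∈ K) (hk1 : k ≠ 1) : Subgroup.zpowers k = K ∧ orderOf k = p := by
  have hle : Subgroup.zpowers k ≤ K := (Subgroup.zpowers_le).2 hk
  have hd : orderOf k ∣ p := by
    rw [← hK]; exact Subgroup.orderOf_dvd_natCard K hk
  have ho : orderOf k = p := by
    rcases (Nat.dvd_prime hp).1 hd with h | h
    · exact absurd (orderOf_eq_one_iff.1 h) hk1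
    · exact h
  refine ⟨Subgroup.eq_of_le_of_card_ge hle ?_, ho⟩
  rw [Nat.card_zpowers, ho, hK]

namespace Ctx

variable {M N Nst K U Ust : Subgroup G} {x : G} {p q : ℕ}

theorem hN (c : Ctx M N Nst K U Ust x p q) : IsCoatom N := c.pair.hM
theorem hNst (c : Ctx M N Nst K U Ust x p q) : IsCoatom Nst := c.pair.hMs
theorem hK1 (c : Ctx M N Nst K U Ust x p q) : K ≠ ⊥ := c.pair.hK1

theorem K_le_M (c : Ctx M N Nst K U Ust x p q) : K ≤ M := by
  have h1 : K ≤ M ⊓ N := by rw [c.inf_MN]; exact le_sup_right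
  exact h1.trans inf_le_left

theorem U_le_M (c : Ctx M N Nst K U Ust x p q) : U ≤ M := by
  have h1 : U ≤ M ⊓ N := by rw [c.inf_MN]; exact le_sup_left
  exact h1.trans inf_le_left

theorem K_le_sigmaCore_Nst (c : Ctx M N Nst K U Ust x p q) : K ≤ Cfsg.sigmaCore Nst := by
  have := c.pair.hKst
  intro k hk
  rw [this] at hk
  exact hk.1

theorem K_le_Nst (c : Ctx M N Nst K U Ust x p q) : K ≤ Nst :=
  c.K_le_sigmaCore_Nst.trans (sigmaCore_le Nst)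

theorem isPGroup_K (c : Ctx M N Nst K U Ust x p q) : IsPGroup p K := by
  haveI : Fact p.Prime := ⟨c.hp⟩
  exact IsPGroup.of_card (n := 1) (by rw [c.cardK, pow_one])

theorem exists_gen (c : Ctx M N Nst K U Ust x p q) :
    ∃ k ∈ K, k ≠ 1 ∧ Subgroup.zpowers k = K ∧ orderOf k = p := by
  obtain ⟨k, hk, hk1⟩ : ∃ k ∈ K, k ≠ 1 := by
    obtain ⟨k, hk1⟩ := (Subgroup.ne_bot_iff_exists_ne_one).1 c.hK1
    exact ⟨(k : G), k.2, fun h => hk1 (Subtype.ext h)⟩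
  obtain ⟨h1, h2⟩ := zpowers_eq_of_card_prime c.hp c.cardK hk hk1
  exact ⟨k, hk, hk1, h1, h2⟩

theorem p_sigma_Nst (c : Ctx M N Nst K U Ust x p q) : p ∈ Cfsg.sigma Nst := by
  obtain ⟨k, hk, hk1, -, ho⟩ := c.exists_gen
  exact mem_sigma_of_dvd_orderOf (c.K_le_sigmaCore_Nst hk) c.hp (by rw [ho])

theorem q_sigma_M (c : Ctx M N Nst K U Ust x p q) : q ∈ Cfsg.sigma M :=
  mem_sigma_of_dvd_orderOf c.hx c.hq (by rw [c.hxq])

theorem sigmaCore_ne_bot (c : Ctx M N Nst K U Ust x p q) : Cfsg.sigmaCore M ≠ ⊥ := by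
  intro h
  have := c.hx
  rw [h, Subgroup.mem_bot] at this
  exact c.hx1 this

end Ctx

variable {M N Nst K U Ust : Subgroup G} {x : G} {p q : ℕ}

theorem uniq (hG : Cfsg.IsMinSimpleOddOrder G) : UniquenessThm G :=
  fun K hK hK2 hK3 => Cfsg.Agent.S1403.result hG K hK hK2 hK3

/-! ### 5.1 -/

/-- (5.1) a complement `E ≥ K` of `M_σ` in `M` and `B ≤ E` elementary abelian of order `s²` -/
theorem step51 (hG : Cfsg.IsMinSimpleOddOrder G) (c : Ctx M N Nst K U Ust x p q) {s : ℕ}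
    (hs : s ∈ Cfsg.tau2 M) :
    ∃ E B : Subgroup G, Cfsg.IsComplIn E (Cfsg.sigmaCore M) M ∧ K ≤ E ∧ B ≤ E ∧
      Cfsg.IsElementaryAbelian s B ∧ Nat.card B = s ^ 2 := by
  have hU := uniq hG
  haveI : Fact s.Prime := ⟨hs.1⟩
  obtain ⟨E, hE, hKE⟩ := Cfsg.Agent.Helper71.BGHall.exists_isComplIn_sigmaCore_ge hG hU c.hM
    c.K_le_M (by
      intro r hr hd
      rw [c.cardK] at hd
      rw [(Nat.prime_dvd_prime_iff_eq hr c.hp).1 hd]
      exact c.p_not_sigma)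
  obtain ⟨B, hBE, hBea, hB2⟩ := Cfsg.Agent.Helper71.BGHall.exists_elementaryAbelian_sq_le_compl
    (Cfsg.Agent.Helper68.BG12.eCtx_of hG hU c.hM hE) hs.2.1 hs.2.2.1 hs.2.2.2
  exact ⟨E, B, hE, hKE, hBE, hBea, hB2⟩

/-- `|E|` is prime to `|M_σ|` -/
theorem coprime_of_compl (hG : Cfsg.IsMinSimpleOddOrder G) {M E : Subgroup G} (hM : IsCoatom M)
    (hE : Cfsg.IsComplIn E (Cfsg.sigmaCore M) M) :
    (Nat.card E).Coprime (Nat.card (Cfsg.sigmaCore M)) := by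
  have h := Cfsg.Agent.Helper68.BG12.eCtx_of hG (uniq hG) hM hE
  exact Nat.coprime_of_dvd fun k hk hkm hkn =>
    h.not_sigma_of_dvd k hk hkm (h.sigma_of_dvd k hk hkn)

theorem orderOf_eq_of_ea {s : ℕ} (hs : s.Prime) {B : Subgroup G}
    (hBea : Cfsg.IsElementaryAbelian s B) {b : G} (hb : b ∈ B) (hb1 : b ≠ 1) : orderOf b = s := by
  haveI : Fact s.Prime := ⟨hs⟩
  exact orderOf_eq_prime (hBea.2 b hb) hb1

/-- (5.1), second half: `b₀ ∈ B#` with a fixed point on `M_σ`; `M` is the only maximal subgroup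
over `C(b₀)`, and `s ∈ σ(L₀)` for some maximal subgroup `L₀`. -/
theorem step51b (hG : Cfsg.IsMinSimpleOddOrder G) (h32 : H1432 G)
    (c : Ctx M N Nst K U Ust x p q) {s : ℕ} (hs : s ∈ Cfsg.tau2 M) {B : Subgroup G}
    (hBM : B ≤ M) (hBea : Cfsg.IsElementaryAbelian s B) (hB2 : Nat.card B = s ^ 2) :
    ∃ b₀ ∈ B, b₀ ≠ 1 ∧ Subgroup.centralizer ({b₀} : Set G) ≤ M ∧
      (∀ L : Subgroup G, IsCoatom L → Subgroup.centralizer ({b₀} : Set G) ≤ L → L = M) ∧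
      ∃ L₀ : Subgroup G, IsCoatom L₀ ∧ s ∈ Cfsg.sigma L₀ := by
  haveI : Fact s.Prime := ⟨hs.1⟩
  have hsn : ¬ s ∣ Nat.card (Cfsg.sigmaCore M) := fun hd =>
    hs.2.1 (primes_sigmaCore M s hs.1 hd)
  obtain ⟨b₀, hb₀, hb₀1, hfix⟩ := Cfsg.Agent.Helper22.SFTS.exists_inf_centralizer_ne_bot
    (p := s) (E := B) (K := Cfsg.sigmaCore M) hBea (by rw [hB2]) hsn
    (hBM.trans (le_normalizer_sigmaCore M)) c.sigmaCore_ne_bot
  obtain ⟨z, hz1⟩ := (Subgroup.ne_bot_iff_exists_ne_one).1 hfix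
  have hzS : (z : G) ∈ Cfsg.sigmaCore M := z.2.1
  have hzc : (z : G) ∈ Subgroup.centralizer ({b₀} : Set G) := z.2.2
  have hz1' : (z : G) ≠ 1 := fun h => hz1 (Subtype.ext h)
  have hb₀z : b₀ ∈ M ⊓ Subgroup.centralizer ({(z : G)} : Set G) := by
    refine Subgroup.mem_inf.2 ⟨hBM hb₀, ?_⟩
    rw [mem_centralizer_singleton_iff]
    exact (mem_centralizer_singleton_iff.1 hzc).symm
  have ho : orderOf b₀ = s := orderOf_eq_of_ea hs.1 hBea hb₀ hb₀1
  rcases h32 M c.hM z hzS hz1' b₀ hb₀z hb₀1 (by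
    intro r hr hd
    rw [ho] at hd
    rw [(Nat.prime_dvd_prime_iff_eq hr hs.1).1 hd]
    exact hs.2.1) with h | h
  · exfalso
    have : s ∈ Cfsg.kappa M := h.1 s hs.1 (by rw [ho])
    rw [c.kappaM] at this
    exact this
  · obtain ⟨-, ⟨L₀, hL₀, hL₀s⟩, h3, h4⟩ := h
    exact ⟨b₀, hb₀, hb₀1, h3, h4, L₀, hL₀, hL₀s s hs.1 (by rw [ho])⟩

/-! ### 5.2 -/

/-- (5.2) a maximal subgroup `L ≥ B` with `s ∈ σ(L)` and `L ∩ M = E` -/
theorem step52 (hG : Cfsg.IsMinSimpleOddOrder G) (h75 : H1375 G)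
    (c : Ctx M N Nst K U Ust x p q) {s : ℕ} (hs : s ∈ Cfsg.tau2 M) {E B : Subgroup G}
    (hE : Cfsg.IsComplIn E (Cfsg.sigmaCore M) M) (hBE : B ≤ E)
    (hBea : Cfsg.IsElementaryAbelian s B) (hB2 : Nat.card B = s ^ 2) {b₀ : G} (hb₀ : b₀ ∈ B)
    (hb₀1 : b₀ ≠ 1) (hcb : Subgroup.centralizer ({b₀} : Set G) ≤ M)
    (huniq : ∀ L : Subgroup G, IsCoatom L → Subgroup.centralizer ({b₀} : Set G) ≤ L → L = M)
    {L₀ : Subgroup G} (hL₀ : IsCoatom L₀) (hsL₀ : s ∈ Cfsg.sigma L₀) :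
    ∃ L : Subgroup G, IsCoatom L ∧ s ∈ Cfsg.sigma L ∧ B ≤ L ∧ L ⊓ M = E := by
  have hU := uniq hG
  haveI : Fact s.Prime := ⟨hs.1⟩
  have hBp : IsPGroup s B := isPGroup_of_isElementaryAbelian hBea
  obtain ⟨Q, hQL, -, hQtop, -⟩ := exists_sylow_of_mem_sigma hsL₀
  obtain ⟨a, -, ha⟩ := Cfsg.Agent.Helper84.exists_conj_le_of_relIndex ⊤ Q B hQtop.1 hQtop.2.1
    hQtop.2.2 le_top hBp
  have hL : IsCoatom (cj a⁻¹ L₀) := isCoatom_cj hL₀ _
  have hsL : s ∈ Cfsg.sigma (cj a⁻¹ L₀) := by rw [sigma_cj]; exact hsL₀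
  have hBL : B ≤ cj a⁻¹ L₀ := by
    intro b hb
    rw [mem_cj, inv_inv]
    exact hQL.1 (ha b hb)
  have hBM : B ≤ M := hBE.trans hE.1
  have hBσ : B ≤ Cfsg.sigmaCore (cj a⁻¹ L₀) := le_sigmaCore_of_isPGroup hG hU hL hsL hBp hBL
  have hnot : ¬ Subgroup.centralizer ({b₀} : Set G) ≤ cj a⁻¹ L₀ := by
    intro h
    have := huniq _ hL h
    rw [this] at hsL
    exact hs.2.1 hsL
  obtain ⟨N', ⟨hN', hcN'⟩, hu', -, -, -, hcompl, -⟩ := h75 _ hL b₀ (hBσ hb₀) hb₀1 hnot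
  have hMN' : M = N' := hu' M c.hM hcb
  rw [← hMN'] at hcompl
  have h18a := Cfsg.Agent.S1418.result hG M c.hM (cj a⁻¹ L₀ ⊓ M) hcompl s hs B
    ⟨le_inf hBL hBM, hBea, hB2⟩
  have h18b := Cfsg.Agent.S1418.result hG M c.hM E hE s hs B ⟨hBE, hBea, hB2⟩
  refine ⟨cj a⁻¹ L₀, hL, hsL, hBL, ?_⟩
  rw [← h18a.2.1.2.1, h18b.2.1.2.1]

/-! ### 5.3 -/

/-- (5.3) `p ∈ σ(L)` -/
theorem step53 (hG : Cfsg.IsMinSimpleOddOrder G) (h32 : H1432 G)
    (c : Ctx M N Nst K U Ust x p q) {s : ℕ} (hs : s ∈ Cfsg.tau2 M) {E B L : Subgroup G}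
    (hE : Cfsg.IsComplIn E (Cfsg.sigmaCore M) M) (hKE : K ≤ E) (hBE : B ≤ E)
    (hBea : Cfsg.IsElementaryAbelian s B) (hB2 : Nat.card B = s ^ 2) (hL : IsCoatom L)
    (hsL : s ∈ Cfsg.sigma L) (hBL : B ≤ L) (hLM : L ⊓ M = E) : p ∈ Cfsg.sigma L := by
  by_contra hpL
  have hU := uniq hG
  haveI : Fact s.Prime := ⟨hs.1⟩
  obtain ⟨k, hk, hk1, hkK, hko⟩ := c.exists_gen
  have hBp : IsPGroup s B := isPGroup_of_isElementaryAbelian hBea
  have hBM : B ≤ M := hBE.trans hE.1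
  have h17 := Cfsg.Agent.S1417.result hG M c.hM s hs B ⟨hBM, hBea, hB2⟩
  have h18 := Cfsg.Agent.S1418.result hG M c.hM E hE s hs B ⟨hBE, hBea, hB2⟩
  have hcenk : Subgroup.centralizer ({k} : Set G) = Subgroup.centralizer (K : Set G) := by
    rw [← hkK, centralizer_zpowers_eq]
  -- some `b₁ ∈ B#` commutes with `k`
  have hb1 : ∃ b₁ ∈ B, b₁ ≠ 1 ∧ k * b₁ = b₁ * k := by
    by_contra hcon
    push Not at hcon
    have hkE : k ∈ E := hKE hk
    have hkNB : k ∈ Subgroup.normalizer (B : Set G) := h18.1.1 hkE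
    have hsolvM : Group.IsSolvable ↥M := hG.2.2.2 M c.hM.1
    have hle : B ⊔ Subgroup.zpowers k ≤ E := sup_le hBE ((Subgroup.zpowers_le).2 hkE)
    have h := Cfsg.Agent.Helper75.BG1436.centralizes_of_frob B (Cfsg.sigmaCore M) k c.hp hko
      (fun u hu => (Subgroup.mem_normalizer_iff.1 hkNB u).1 hu)
      (fun u hu hc => by
        by_contra h1
        exact hcon u hu h1 hc)
      (fun f hf h hh => Cfsg.Agent.Helper68.BG12.conj_mem_sigmaCore (hBM hf) hh)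
      (fun h hh => Cfsg.Agent.Helper68.BG12.conj_mem_sigmaCore (c.K_le_M hk) hh)
      (Cfsg.Agent.Helper22.SFTS.isSolvable_of_le (sigmaCore_le M) hsolvM)
      ((coprime_of_compl hG c.hM hE).symm.coprime_dvd_right (Subgroup.card_dvd_of_le hle))
      (fun h hh hc => by
        have h2 : h ∈ Cfsg.sigmaCore M ⊓ Subgroup.centralizer (K : Set G) := by
          refine Subgroup.mem_inf.2 ⟨hh, ?_⟩
          rw [← hcenk, mem_centralizer_singleton_iff]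
          exact hc
        rw [c.fixK, Subgroup.mem_bot] at h2
        exact h2)
    have h2 : Cfsg.sigmaCore M ≤ Cfsg.sigmaCore M ⊓ Subgroup.centralizer (B : Set G) :=
      le_inf le_rfl h
    rw [h17.2.2.2.1] at h2
    exact c.sigmaCore_ne_bot (eq_bot_iff.2 h2)
  obtain ⟨b₁, hb₁, hb₁1, hcomm⟩ := hb1
  have hb₁σ : b₁ ∈ Cfsg.sigmaCore L := le_sigmaCore_of_isPGroup hG hU hL hsL hBp hBL hb₁
  have hkL : k ∈ L := by
    have h1 : k ∈ L ⊓ M := by rw [hLM]; exact hKE hk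
    exact h1.1
  have hkc : k ∈ L ⊓ Subgroup.centralizer ({b₁} : Set G) :=
    Subgroup.mem_inf.2 ⟨hkL, mem_centralizer_singleton_iff.2 hcomm.symm⟩
  rcases h32 L hL b₁ hb₁σ hb₁1 k hkc hk1 (by
    intro r hr hd
    rw [hko] at hd
    rw [(Nat.prime_dvd_prime_iff_eq hr c.hp).1 hd]
    exact hpL) with h | h
  · have hpk : p ∈ Cfsg.kappa L := h.1 p c.hp (by rw [hko])
    obtain ⟨g, hg | hg⟩ := c.kappa_conj L hL ⟨p, hpk⟩
    · have hsN : s ∈ Cfsg.sigma N := by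
        rw [hg, sigma_cj] at hsL; exact hsL
      exact Cfsg.Agent.Helper31.BGNoMutualTau2.no_mutual_tau2 hG c.hM c.hN c.q_sigma_M c.q_tau2
        hsN hs
    · apply hpL
      rw [hg, sigma_cj]
      exact c.p_sigma_Nst
  · obtain ⟨-, -, h3, h4⟩ := h
    have h5 : Nst = L := h4 Nst c.hNst (by rw [hcenk]; exact c.cenK_le)
    apply hpL
    rw [← h5]
    exact c.p_sigma_Nst

/-! ### 5.4 -/

/-- (5.4) a maximal subgroup `L ≥ K` with `p ∈ σ(L)` is `N*` -/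
theorem step54 (hG : Cfsg.IsMinSimpleOddOrder G) (c : Ctx M N Nst K U Ust x p q)
    {L : Subgroup G} (hL : IsCoatom L) (hpL : p ∈ Cfsg.sigma L) (hKL : K ≤ L) : L = Nst := by
  haveI : Fact p.Prime := ⟨c.hp⟩
  obtain ⟨g, hg⟩ := (Cfsg.Agent.S1378.result hG).2 Nst L c.hNst hL ⟨p, c.p_sigma_Nst, hpL⟩
  have hg' : L = cj g Nst := hg
  have h1 : cj g⁻¹ K ≤ Nst := by
    rw [cj_le_iff, inv_inv, ← hg']; exact hKL
  obtain ⟨m, hm, c', hc', hgm⟩ := (Cfsg.Agent.S1404.result hG Nst c.hNst p c.p_sigma_Nst K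
    c.isPGroup_K c.hK1 c.K_le_Nst).1 g⁻¹ h1
  have hginv : g⁻¹ ∈ Nst := by
    rw [hgm]; exact Nst.mul_mem hm (c.cenK_le hc')
  have hgN : g ∈ Nst := by simpa using Nst.inv_mem hginv
  rw [hg', cj_eq_self_of_mem hgN]

/-- **(C1) = 5.1-5.4.** -/
theorem c1 (hG : Cfsg.IsMinSimpleOddOrder G) (h75 : H1375 G) (h32 : H1432 G)
    (c : Ctx M N Nst K U Ust x p q) {s : ℕ} (hs : s ∈ Cfsg.tau2 M) :
    ∃ (E B : Subgroup G) (b₀ : G), Cfsg.IsComplIn E (Cfsg.sigmaCore M) M ∧ K ≤ E ∧ B ≤ E ∧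
      Cfsg.IsElementaryAbelian s B ∧ Nat.card B = s ^ 2 ∧ b₀ ∈ B ∧ b₀ ≠ 1 ∧
      Subgroup.centralizer ({b₀} : Set G) ≤ M ∧
      (∀ L : Subgroup G, IsCoatom L → Subgroup.centralizer ({b₀} : Set G) ≤ L → L = M) ∧
      E = M ⊓ Nst ∧ s ∈ Cfsg.sigma Nst := by
  obtain ⟨E, B, hE, hKE, hBE, hBea, hB2⟩ := step51 hG c hs
  have hBM : B ≤ M := hBE.trans hE.1
  obtain ⟨b₀, hb₀, hb₀1, hcb, huniq, L₀, hL₀, hsL₀⟩ := step51b hG h32 c hs hBM hBea hB2
  obtain ⟨L, hL, hsL, hBL, hLM⟩ := step52 hG h75 c hs hE hBE hBea hB2 hb₀ hb₀1 hcb huniq hL₀ hsL₀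
  have hpL := step53 hG h32 c hs hE hKE hBE hBea hB2 hL hsL hBL hLM
  have hKL : K ≤ L := by
    have h1 : K ≤ L ⊓ M := by rw [hLM]; exact hKE
    exact h1.trans inf_le_left
  have hLN := step54 hG c hL hpL hKL
  rw [hLN] at hLM hsL
  exact ⟨E, B, b₀, hE, hKE, hBE, hBea, hB2, hb₀, hb₀1, hcb, huniq, by rw [← hLM, inf_comm], hsL⟩

end Cfsg.Agent.Helper22.BG144C
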