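import Mathlib
import Cfsg.Prelude.Def_OddOrderLocal
import Cfsg.Agent.Helper22.BG144C1
import Cfsg.Agent.Helper31.BenderMax
import Cfsg.Agent.Helper35.BG153I
import Cfsg.Agent.Helper50.BG16A
import Cfsg.Agent.S1429

/-!
# Bender-Glauberman 14.4(c2) (statement S1376), Steps 1-4 (helper22)

Reference text: helper57's proof, board post #3884.  `Ctx0` = the facts established in Step 0;
`ctx_of_ctx0` derives the facts `Ctx` at the head of Step 5 (Steps 1, 2, 3, 4) and the third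
conclusion of S1376 (`M_F` is not a TI-subset).
-/

set_option autoImplicit false
set_option linter.unusedSectionVars false
set_option linter.unusedVariables false

namespace Cfsg.Agent.Helper22.BG144C

open Cfsg Cfsg.Agent.Helper29.BG10 Cfsg.Agent.Helper29.BG11 Cfsg.Agent.Helper22.BG146

variable {G : Type*} [Group G] [Finite G]

/-- **The facts at the end of Step 0** (helper57 #3884): the fields of `Ctx` not coming from
Steps 1-4, plus `(0d)` and the non-conjugacy of `M` and `N`. -/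
structure Ctx0 (M N Nst K U Ust : Subgroup G) (x : G) (p q : ℕ) : Prop where
  hM : IsCoatom M
  pair : Cfsg.Agent.Helper22.BG146.Pair N K U Nst
  hp : p.Prime
  cardK : Nat.card K = p
  inf_MN : M ⊓ N = U ⊔ K
  decSt : Cfsg.IsSigmaDecomposition Nst
    (Cfsg.sigmaCore N ⊓ Subgroup.centralizer (K : Set G)) Ust
  Kst_ne : Cfsg.sigmaCore N ⊓ Subgroup.centralizer (K : Set G) ≠ ⊥
  cenK_le : Subgroup.centralizer (K : Set G) ≤ Nst
  cenK_uniq : ∀ L : Subgroup G, IsCoatom L → Subgroup.centralizer (K : Set G) ≤ L → L = Nst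
  inf_NNst : N ⊓ Nst = K ⊔ (Cfsg.sigmaCore N ⊓ Subgroup.centralizer (K : Set G))
  kappa_conj : ∀ H : Subgroup G, IsCoatom H → (Cfsg.kappa H).Nonempty →
    ∃ g : G, H = cj g N ∨ H = cj g Nst
  hx : x ∈ Cfsg.sigmaCore M
  hx1 : x ≠ 1
  hxM : ¬ Subgroup.centralizer ({x} : Set G) ≤ M
  hxN : Subgroup.centralizer ({x} : Set G) ≤ N
  hxU : x ∈ U
  hq : q.Prime
  hxq : orderOf x = q
  q_tau2 : q ∈ Cfsg.tau2 N
  cenMx : M ⊓ Subgroup.centralizer ({x} : Set G) = U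
  /-- (0d) -/
  compl : Cfsg.IsComplIn (M ⊓ N) (Cfsg.sigmaCore N) N
  /-- `M` and `N` are not conjugate -/
  not_conj : ∀ g : G, cj g N ≠ M

namespace Ctx0

variable {M N Nst K U Ust : Subgroup G} {x : G} {p q : ℕ}

theorem toCtx (c : Ctx0 M N Nst K U Ust x p q) (h1 : p ∉ Cfsg.sigma M)
    (h2 : Cfsg.kappa M = ∅) (h3 : Group.IsNilpotent ↥(Cfsg.sigmaCore M))
    (h4 : Cfsg.sigmaCore M ⊓ Subgroup.centralizer (K : Set G) = ⊥) :
    Ctx M N Nst K U Ust x p q :=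
  { hM := c.hM, pair := c.pair, hp := c.hp, cardK := c.cardK, inf_MN := c.inf_MN,
    decSt := c.decSt, Kst_ne := c.Kst_ne, cenK_le := c.cenK_le, cenK_uniq := c.cenK_uniq,
    inf_NNst := c.inf_NNst, kappa_conj := c.kappa_conj, hx := c.hx, hx1 := c.hx1, hxM := c.hxM,
    hxN := c.hxN, hxU := c.hxU, hq := c.hq, hxq := c.hxq, q_tau2 := c.q_tau2, cenMx := c.cenMx,
    p_not_sigma := h1, kappaM := h2, nilp := h3, fixK := h4 }

theorem hNst (c : Ctx0 M N Nst K U Ust x p q) : IsCoatom Nst := c.pair.hMs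

theorem K_le_M (c : Ctx0 M N Nst K U Ust x p q) : K ≤ M := by
  have h1 : K ≤ M ⊓ N := by rw [c.inf_MN]; exact le_sup_right
  exact h1.trans inf_le_left

theorem K_le_sigmaCore_Nst (c : Ctx0 M N Nst K U Ust x p q) : K ≤ Cfsg.sigmaCore Nst := by
  have := c.pair.hKst
  intro k hk
  rw [this] at hk
  exact hk.1

theorem K_le_Nst (c : Ctx0 M N Nst K U Ust x p q) : K ≤ Nst :=
  c.K_le_sigmaCore_Nst.trans (sigmaCore_le Nst)

theorem isPGroup_K (c : Ctx0 M N Nst K U Ust x p q) : IsPGroup p K := by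
  haveI : Fact p.Prime := ⟨c.hp⟩
  exact IsPGroup.of_card (n := 1) (by rw [c.cardK, pow_one])

theorem exists_gen (c : Ctx0 M N Nst K U Ust x p q) :
    ∃ k ∈ K, k ≠ 1 ∧ Subgroup.zpowers k = K ∧ orderOf k = p := by
  obtain ⟨k, hk, hk1⟩ : ∃ k ∈ K, k ≠ 1 := by
    obtain ⟨k, hk1⟩ := (Subgroup.ne_bot_iff_exists_ne_one).1 c.pair.hK1
    exact ⟨(k : G), k.2, fun h => hk1 (Subtype.ext h)⟩
  obtain ⟨h1, h2⟩ := zpowers_eq_of_card_prime c.hp c.cardK hk hk1
  exact ⟨k, hk, hk1, h1, h2⟩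

theorem p_sigma_Nst (c : Ctx0 M N Nst K U Ust x p q) : p ∈ Cfsg.sigma Nst := by
  obtain ⟨k, hk, hk1, -, ho⟩ := c.exists_gen
  exact mem_sigma_of_dvd_orderOf (c.K_le_sigmaCore_Nst hk) c.hp (by rw [ho])

/-- (as 5.4) a maximal subgroup `L ≥ K` with `p ∈ σ(L)` is `N*` -/
theorem eq_Nst (hG : Cfsg.IsMinSimpleOddOrder G) (c : Ctx0 M N Nst K U Ust x p q)
    {L : Subgroup G} (hL : IsCoatom L) (hpL : p ∈ Cfsg.sigma L) (hKL : K ≤ L) : L = Nst := by
  haveI : Fact p.Prime := ⟨c.hp⟩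
  obtain ⟨g, hg⟩ := (Cfsg.Agent.S1378.result hG).2 Nst L c.hNst hL ⟨p, c.p_sigma_Nst, hpL⟩
  have hg' : L = cj g Nst := hg
  have h1 : cj g⁻¹ K ≤ Nst := by
    rw [cj_le_iff, inv_inv, ← hg']; exact hKL
  obtain ⟨m, hm, c', hc', hgm⟩ := (Cfsg.Agent.S1404.result hG Nst c.hNst p c.p_sigma_Nst K
    c.isPGroup_K c.pair.hK1 c.K_le_Nst).1 g⁻¹ h1
  have hginv : g⁻¹ ∈ Nst := by
    rw [hgm]; exact Nst.mul_mem hm (c.cenK_le hc')
  have hgN : g ∈ Nst := by simpa using Nst.inv_mem hginv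
  rw [hg', cj_eq_self_of_mem hgN]

/-- **Step 1**: `p ∉ σ(M)` -/
theorem step1 (hG : Cfsg.IsMinSimpleOddOrder G) (c : Ctx0 M N Nst K U Ust x p q) :
    p ∉ Cfsg.sigma M := by
  intro hpM
  have hMN : M = Nst := c.eq_Nst hG c.hM hpM c.K_le_M
  apply c.Kst_ne
  rw [eq_bot_iff]
  intro y hy
  have hyN : y ∈ N := sigmaCore_le N hy.1
  have hyNst : y ∈ Nst := by
    have h1 : y ∈ N ⊓ Nst := by
      rw [c.inf_NNst]; exact Subgroup.mem_sup_right hy
    exact h1.2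
  have h2 : y ∈ (M ⊓ N) ⊓ Cfsg.sigmaCore N := by
    refine Subgroup.mem_inf.2 ⟨Subgroup.mem_inf.2 ⟨?_, hyN⟩, hy.1⟩
    rw [hMN]; exact hyNst
  rw [c.compl.2.2.1] at h2
  exact h2

/-- **Step 2**: `κ(M) = ∅` -/
theorem step2 (hG : Cfsg.IsMinSimpleOddOrder G) (c : Ctx0 M N Nst K U Ust x p q) :
    Cfsg.kappa M = ∅ := by
  by_contra hne
  obtain ⟨g, hg | hg⟩ := c.kappa_conj M c.hM (Set.nonempty_iff_ne_empty.2 hne)
  · exact c.not_conj g hg.symm
  · apply c.step1 hG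
    rw [hg, sigma_cj]
    exact c.p_sigma_Nst

/-- **Step 3**, first half: `M_σ` is nilpotent -/
theorem step3a (hG : Cfsg.IsMinSimpleOddOrder G) (c : Ctx0 M N Nst K U Ust x p q) :
    Group.IsNilpotent ↥(Cfsg.sigmaCore M) := by
  haveI : Fact p.Prime := ⟨c.hp⟩
  have hpM : p ∣ Nat.card M := by
    rw [← c.cardK]; exact Subgroup.card_dvd_of_le c.K_le_M
  have hpn : p ∉ Cfsg.sigma M ∪ Cfsg.kappa M := by
    rw [c.step2 hG, Set.union_empty]; exact c.step1 hG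
  have hP1 : ¬ (∀ r : ℕ, r.Prime → r ∣ Nat.card M → r ∉ Cfsg.sigma M → r ∈ Cfsg.kappa M) := by
    intro h
    have := h p c.hp hpM (c.step1 hG)
    rw [c.step2 hG] at this
    exact this
  exact (Cfsg.Agent.S1429.result hG M c.hM hP1 p hpM hpn default).2.2

/-- **Step 3**, second half: `M_F` is not a TI-subset -/
theorem step3b (hG : Cfsg.IsMinSimpleOddOrder G) (c : Ctx0 M N Nst K U Ust x p q) :
    ¬ Cfsg.IsTISubset (Cfsg.fittingHallOf M : Set G) := by
  intro hTI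
  haveI : IsSimpleGroup G := hG.2.1
  have hF : Cfsg.fittingHallOf M = Cfsg.sigmaCore M :=
    Cfsg.Agent.Helper35.BG153.fittingHallOf_eq_sigmaCore_of_isNilpotent hG c.hM (c.step3a hG)
  have hxF : x ∈ Cfsg.fittingHallOf M := by rw [hF]; exact c.hx
  have hnorm : Subgroup.normalizer ((Cfsg.fittingHallOf M : Subgroup G) : Set G) = M := by
    apply Cfsg.Agent.Helper31.normalizer_eq_of_isCoatom c.hM
    · rw [hF]; exact sigmaCore_le M
    · intro h
      rw [h, Subgroup.mem_bot] at hxF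
      exact c.hx1 hxF
    · rw [hF]; exact le_normalizer_sigmaCore M
  apply c.hxM
  intro cc hcc
  by_contra hccM
  have h1 : cc ∉ Subgroup.normalizer ((Cfsg.fittingHallOf M : Subgroup G) : Set G) := by
    rw [hnorm]; exact hccM
  have h2 : cc * x * cc⁻¹ = x := by
    have := mem_centralizer_singleton_iff.1 hcc
    rw [← this, mul_inv_cancel_right]
  exact c.hx1 (hTI cc h1 x hxF (by rw [h2]; exact hxF))

/-- **Step 4**: `C_{M_σ}(K) = 1` -/
theorem step4 (hG : Cfsg.IsMinSimpleOddOrder G) (h32 : H1432 G)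
    (c : Ctx0 M N Nst K U Ust x p q) :
    Cfsg.sigmaCore M ⊓ Subgroup.centralizer (K : Set G) = ⊥ := by
  rw [eq_bot_iff]
  intro y hy
  rw [Subgroup.mem_bot]
  by_contra hy1
  obtain ⟨k, hk, hk1, hkK, hko⟩ := c.exists_gen
  have hcenk : Subgroup.centralizer ({k} : Set G) = Subgroup.centralizer (K : Set G) := by
    rw [← hkK, centralizer_zpowers_eq]
  have hky : k ∈ M ⊓ Subgroup.centralizer ({y} : Set G) := by
    refine Subgroup.mem_inf.2 ⟨c.K_le_M hk, ?_⟩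
    rw [mem_centralizer_singleton_iff]
    exact (Subgroup.mem_centralizer_iff.1 hy.2 k hk).symm
  rcases h32 M c.hM y hy.1 hy1 k hky hk1 (by
    intro r hr hd
    rw [hko] at hd
    rw [(Nat.prime_dvd_prime_iff_eq hr c.hp).1 hd]
    exact c.step1 hG) with h | h
  · have : p ∈ Cfsg.kappa M := h.1 p c.hp (by rw [hko])
    rw [c.step2 hG] at this
    exact this
  · obtain ⟨-, -, h3, h4⟩ := h
    have h5 : Nst = M := h4 Nst c.hNst (by rw [hcenk]; exact c.cenK_le)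
    apply c.step1 hG
    rw [← h5]
    exact c.p_sigma_Nst

end Ctx0

/-- **Steps 1-4 of S1376**: from the facts of Step 0 to the facts at the head of Step 5, and
the third conclusion of S1376. -/
theorem ctx_of_ctx0 (hG : Cfsg.IsMinSimpleOddOrder G) (h32 : H1432 G)
    {M N Nst K U Ust : Subgroup G} {x : G} {p q : ℕ} (c0 : Ctx0 M N Nst K U Ust x p q) :
    Ctx M N Nst K U Ust x p q ∧ ¬ Cfsg.IsTISubset (Cfsg.fittingHallOf M : Set G) :=
  ⟨c0.toCtx (c0.step1 hG) (c0.step2 hG) (c0.step3a hG) (c0.step4 hG h32), c0.step3b hG⟩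

end Cfsg.Agent.Helper22.BG144C
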