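import Mathlib
import Cfsg.Prelude.Def_OddOrderLocal
import Cfsg.Agent.Helper22.BG144C1
import Cfsg.Agent.Helper31.BenderMax
import Cfsg.Agent.Helper64.BG1217D
import Cfsg.Agent.Helper71.Fitting
import Cfsg.Agent.S1419
import Cfsg.Agent.S1420
import Cfsg.Agent.Helper50.BG16A

/-!
# Bender-Glauberman 14.4(c2) (statement S1376), Step 5, part (C2a): 5.5-5.7 (helper22)

Reference text: helper57's proof, board post #3885.
-/

set_option autoImplicit false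
set_option linter.unusedSectionVars false
set_option linter.unusedVariables false

namespace Cfsg.Agent.Helper22.BG144C

open Cfsg Cfsg.Agent.Helper29.BG10 Cfsg.Agent.Helper29.BG11 Cfsg.Agent.Helper22.BG146

variable {G : Type*} [Group G] [Finite G]

/-! ### general facts -/

/-- if one Sylow `s`-subgroup is abelian then all are -/
theorem sylow_comm_all {s : ℕ} [Fact s.Prime] (S₀ S : Sylow s G)
    (h : IsMulCommutative (S₀ : Subgroup G)) : IsMulCommutative (S : Subgroup G) := by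
  obtain ⟨g, rfl⟩ := MulAction.exists_smul_eq G S₀ S
  refine ⟨⟨fun a b => ?_⟩⟩
  obtain ⟨a, ha⟩ := a
  obtain ⟨b, hb⟩ := b
  rw [Sylow.coe_subgroup_smul, Subgroup.mem_pointwise_smul_iff_inv_smul_mem] at ha hb
  have hc := h.is_comm.comm ⟨_, ha⟩ ⟨_, hb⟩
  have hc' := congrArg Subtype.val hc
  simp only [MulAut.smul_def, Subgroup.coe_mul] at hc'
  apply Subtype.ext
  simp only [Subgroup.coe_mul]
  have h1 : g * (g⁻¹ * a * g * (g⁻¹ * b * g)) * g⁻¹ = g * (g⁻¹ * b * g * (g⁻¹ * a * g)) * g⁻¹ := by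
    have := congrArg (fun t => g * t * g⁻¹) hc'
    simpa using this
  have e1 : g * (g⁻¹ * a * g * (g⁻¹ * b * g)) * g⁻¹ = a * b := by group
  have e2 : g * (g⁻¹ * b * g * (g⁻¹ * a * g)) * g⁻¹ = b * a := by group
  rw [← e1, ← e2]; exact h1

/-- `E ≤ S` when `N = K S`, `S ⊴ N`, `E ≤ N` and `(|E|, |K|) = 1` -/
theorem le_of_sup_of_coprime {S Kk Nn E : Subgroup G} (hS : S ≤ Nn)
    (hSn : Nn ≤ Subgroup.normalizer (S : Set G)) (hK : Kk ≤ Nn) (hsup : Nn ≤ Kk ⊔ S) (hEN : E ≤ Nn)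
    (hcop : (Nat.card E).Coprime (Nat.card Kk)) : E ≤ S := by
  have : (S.subgroupOf Nn).Normal := (Subgroup.normal_subgroupOf_iff_le_normalizer hS).2 hSn
  have h1 : Kk.subgroupOf Nn ⊔ S.subgroupOf Nn = ⊤ := by
    rw [← Subgroup.subgroupOf_sup hK hS, Subgroup.subgroupOf_eq_top]; exact hsup
  have h2 : (S.subgroupOf Nn).index ∣ Nat.card Kk := by
    rw [← Subgroup.relIndex_top_right, ← h1, Subgroup.relIndex_sup_right,
      ← Cfsg.Agent.Helper1.card_subgroupOf_of_le hK]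
    exact Subgroup.relIndex_dvd_card _ _
  have h3 : E.subgroupOf Nn ≤ S.subgroupOf Nn := by
    rw [← Subgroup.relIndex_eq_one]
    have ha : (S.subgroupOf Nn).relIndex (E.subgroupOf Nn) ∣ (S.subgroupOf Nn).index :=
      Subgroup.relIndex_dvd_index_of_normal _ _
    have hb : (S.subgroupOf Nn).relIndex (E.subgroupOf Nn) ∣ Nat.card (E.subgroupOf Nn) :=
      Subgroup.relIndex_dvd_card _ _
    rw [Cfsg.Agent.Helper1.card_subgroupOf_of_le hEN] at hb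
    exact Nat.eq_one_of_dvd_coprimes hcop hb (ha.trans h2)
  intro e he
  have h4 : (⟨e, hEN he⟩ : Nn) ∈ E.subgroupOf Nn := Subgroup.mem_subgroupOf.2 he
  exact Subgroup.mem_subgroupOf.1 (h3 h4)

variable {M N Nst K U Ust : Subgroup G} {x : G} {p q : ℕ}

/-! ### 5.5 -/

/-- `K* ≤ N_σ` -/
theorem Ctx.Kst_le_sigmaCore (c : Ctx M N Nst K U Ust x p q) :
    Cfsg.sigmaCore N ⊓ Subgroup.centralizer (K : Set G) ≤ Cfsg.sigmaCore N := inf_le_left

/-- `U ∩ (N ∩ N*) = 1` -/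
theorem Ctx.U_inf_eq_bot (c : Ctx M N Nst K U Ust x p q) : U ⊓ (N ⊓ Nst) = ⊥ := by
  rw [eq_bot_iff]
  have h1 : N ⊓ Nst ≤ K ⊔ Cfsg.sigmaCore N := by
    rw [c.inf_NNst]; exact sup_le_sup_left inf_le_left _
  calc U ⊓ (N ⊓ Nst) ≤ U ⊓ (K ⊔ Cfsg.sigmaCore N) := inf_le_inf_left _ h1
    _ = ⊥ := c.pair.hKU.compl.2.2.1

/-- (5.5) `B ∩ C(M_σ) = 1` -/
theorem step55a (c : Ctx M N Nst K U Ust x p q) {E B : Subgroup G}
    (hEq : E = M ⊓ Nst) (hBE : B ≤ E) :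
    B ⊓ Subgroup.centralizer (Cfsg.sigmaCore M : Set G) = ⊥ := by
  rw [eq_bot_iff]
  rintro a ⟨haB, haC⟩
  rw [Subgroup.mem_bot]
  have haE : a ∈ M ⊓ Nst := hEq ▸ hBE haB
  have hax : a ∈ Subgroup.centralizer ({x} : Set G) := by
    rw [mem_centralizer_singleton_iff]
    exact (Subgroup.mem_centralizer_iff.1 haC) x c.hx
  have haU : a ∈ U := by
    rw [← c.cenMx]; exact Subgroup.mem_inf.2 ⟨haE.1, hax⟩
  have haN : a ∈ N := by
    have h1 : U ≤ M ⊓ N := by rw [c.inf_MN]; exact le_sup_left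
    exact (h1 haU).2
  have h2 : a ∈ U ⊓ (N ⊓ Nst) := Subgroup.mem_inf.2 ⟨haU, Subgroup.mem_inf.2 ⟨haN, haE.2⟩⟩
  rw [c.U_inf_eq_bot, Subgroup.mem_bot] at h2
  exact h2

/-- (5.5) the Sylow `s`-subgroups of `G` are abelian -/
theorem step55 (hG : Cfsg.IsMinSimpleOddOrder G) (c : Ctx M N Nst K U Ust x p q) {s : ℕ}
    (hs : s ∈ Cfsg.tau2 M) {E B : Subgroup G} (hE : Cfsg.IsComplIn E (Cfsg.sigmaCore M) M)
    (hEq : E = M ⊓ Nst) (hBE : B ≤ E) (hBea : Cfsg.IsElementaryAbelian s B)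
    (hB2 : Nat.card B = s ^ 2) : ∀ S : Sylow s G, IsMulCommutative (S : Subgroup G) := by
  haveI : Fact s.Prime := ⟨hs.1⟩
  by_contra hcon
  have hS : ∀ S : Sylow s G, ¬ IsMulCommutative (S : Subgroup G) := by
    intro S hSc
    exact hcon fun S' => sylow_comm_all S S' hSc
  have h19 := Cfsg.Agent.S1419.result hG M c.hM E hE s hs hS B ⟨hBE, hBea, hB2⟩
  have h1 := h19.2.1.1
  rw [step55a c hEq hBE, Subgroup.card_bot] at h1
  exact hs.1.one_lt.ne h1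

/-! ### 5.6 -/

/-- (5.6) `U* = 1` -/
theorem step56 (hG : Cfsg.IsMinSimpleOddOrder G) (h72 : H1372 G)
    (c : Ctx M N Nst K U Ust x p q) {b₀ : G} (hb₀σ : b₀ ∈ Cfsg.sigmaCore Nst) (hb₀1 : b₀ ≠ 1)
    (hnot : ¬ Subgroup.centralizer ({b₀} : Set G) ≤ Nst) : Ust = ⊥ := by
  by_contra hU1
  haveI : IsSimpleGroup G := hG.2.1
  obtain ⟨-, hTI, hle⟩ := h72 Nst c.hNst _ Ust c.decSt c.Kst_ne hU1
  have hbF : b₀ ∈ Cfsg.fittingOf Nst := hle hb₀σ
  haveI : (Cfsg.fittingSubgroup ↥Nst).Normal := Cfsg.Agent.Helper71.fittingSubgroup_normal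
  have hnorm : Subgroup.normalizer ((Cfsg.fittingOf Nst : Subgroup G) : Set G) = Nst := by
    apply Cfsg.Agent.Helper31.normalizer_eq_of_isCoatom c.hNst (Subgroup.map_subtype_le _)
    · intro h
      have h' : Cfsg.fittingOf Nst = ⊥ := h
      rw [h', Subgroup.mem_bot] at hbF
      exact hb₀1 hbF
    · exact Cfsg.Agent.Helper64.BG1217D.le_normalizer_map_subtype _
  apply hnot
  intro cc hcc
  by_contra hccN
  have h1 : cc ∉ Subgroup.normalizer ((Cfsg.fittingOf Nst : Subgroup G) : Set G) := by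
    rw [hnorm]; exact hccN
  have h2 : cc * b₀ * cc⁻¹ = b₀ := by
    have := mem_centralizer_singleton_iff.1 hcc
    rw [← this, mul_inv_cancel_right]
  exact hb₀1 (hTI cc h1 b₀ hbF (by rw [h2]; exact hbF))

/-! ### 5.7 -/

/-- `N* = K* N*_σ` when `U* = 1` -/
theorem Ctx.Nst_le_sup (c : Ctx M N Nst K U Ust x p q) (hUst : Ust = ⊥) :
    Nst ≤ (Cfsg.sigmaCore N ⊓ Subgroup.centralizer (K : Set G)) ⊔ Cfsg.sigmaCore Nst := by
  intro n hn
  obtain ⟨a, ha, b, hb, rfl⟩ := c.decSt.compl.2.2.2 n hn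
  rw [hUst, Subgroup.mem_bot] at ha
  rw [ha, one_mul]
  exact hb

/-- (5.7) `E ≤ N*_σ` -/
theorem step57 (hG : Cfsg.IsMinSimpleOddOrder G) (h36 : H1436a G)
    (c : Ctx M N Nst K U Ust x p q) {s : ℕ} (hs : s ∈ Cfsg.tau2 M) {E : Subgroup G}
    (hEq : E = M ⊓ Nst) (hUst : Ust = ⊥) : E ≤ Cfsg.sigmaCore Nst := by
  have hno : ¬ ∃ r ∈ Cfsg.sigma N, r ∣ Nat.card M := by
    intro h
    have := (h36 M c.hM x c.hx c.hx1 c.hxM N c.hN c.hxN h).2
    rw [this] at hs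
    exact hs
  have hEM : E ≤ M := hEq ▸ inf_le_left
  have hEN : E ≤ Nst := hEq ▸ inf_le_right
  have hcop : (Nat.card E).Coprime
      (Nat.card ↥(Cfsg.sigmaCore N ⊓ Subgroup.centralizer (K : Set G))) := by
    apply Nat.coprime_of_dvd
    intro r hr hrE hrK
    apply hno
    refine ⟨r, primes_sigmaCore N r hr (hrK.trans (Subgroup.card_dvd_of_le inf_le_left)),
      hrE.trans (Subgroup.card_dvd_of_le hEM)⟩
  exact le_of_sup_of_coprime (sigmaCore_le Nst) (le_normalizer_sigmaCore Nst) c.decSt.hall.1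
    (c.Nst_le_sup hUst) hEN hcop

/-! ### Step 5 assembled -/

/-- the statement of piece (C2b) = (5.8): the case `N*_σ` nilpotent is contradictory -/
def C58 (M Nst Ust : Subgroup G) : Prop :=
  ∀ (s : ℕ) (E B : Subgroup G) (b₀ : G), s ∈ Cfsg.tau2 M →
    Cfsg.IsComplIn E (Cfsg.sigmaCore M) M → E = M ⊓ Nst → B ≤ E →
    Cfsg.IsElementaryAbelian s B → b₀ ∈ B → b₀ ≠ 1 →
    Subgroup.centralizer ({b₀} : Set G) ≤ M → s ∈ Cfsg.sigma Nst →
    (∀ S : Sylow s G, IsMulCommutative (S : Subgroup G)) → Ust = ⊥ →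
    E ≤ Cfsg.sigmaCore Nst → Group.IsNilpotent ↥(Cfsg.sigmaCore Nst) → False

/-- **Step 5 of S1376**: `τ₂(M) = ∅`, from (C1), (C2a), and the pieces (C2b) (`C58`) and (C3). -/
theorem tau2_eq_empty (hG : Cfsg.IsMinSimpleOddOrder G) (h75 : H1375 G) (h32 : H1432 G)
    (h36 : H1436a G) (h72 : H1372 G) (c : Ctx M N Nst K U Ust x p q)
    (h58 : C58 M Nst Ust) (h3 : C3 M N Nst K U Ust) : Cfsg.tau2 M = ∅ := by
  rw [Set.eq_empty_iff_forall_notMem]
  intro s hs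
  obtain ⟨E, B, b₀, hE, hKE, hBE, hBea, hB2, hb₀, hb₀1, hcb, huniq, hEq, hsN⟩ :=
    c1 hG h75 h32 c hs
  have hU := uniq hG
  haveI : Fact s.Prime := ⟨hs.1⟩
  have hBp : IsPGroup s B := isPGroup_of_isElementaryAbelian hBea
  have hBN : B ≤ Nst := hBE.trans (hEq ▸ inf_le_right)
  have hb₀σ : b₀ ∈ Cfsg.sigmaCore Nst :=
    le_sigmaCore_of_isPGroup hG hU c.hNst hsN hBp hBN hb₀
  have hnot : ¬ Subgroup.centralizer ({b₀} : Set G) ≤ Nst := by
    intro h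
    have h1 := huniq Nst c.hNst h
    rw [h1] at hsN
    exact hs.2.1 hsN
  have hsab := step55 hG c hs hE hEq hBE hBea hB2
  have hUst := step56 hG h72 c hb₀σ hb₀1 hnot
  have hEle := step57 hG h36 c hs hEq hUst
  by_cases hnil : Group.IsNilpotent ↥(Cfsg.sigmaCore Nst)
  · exact h58 s E B b₀ hs hE hEq hBE hBea hb₀ hb₀1 hcb hsN hsab hUst hEle hnil
  · apply h3 s E B hs hE hKE hEq hBE hBea hB2 hsab hUst hEle
    intro h
    apply hnil
    rw [← h]
    exact Cfsg.Agent.Helper50.BG16.fittingHallOf_isNilpotent Nst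

end Cfsg.Agent.Helper22.BG144C
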