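import Mathlib
import Cfsg.Agent.Helper22.BG144C2
import Cfsg.Agent.Helper22.BG144A1
import Cfsg.Agent.Helper4.BG144C58
import Cfsg.Agent.Helper75.BG144C3
import Cfsg.Agent.S1375
import Cfsg.Agent.S1432
import Cfsg.Agent.S1436
import Cfsg.Agent.S1372
import Cfsg.Agent.S1365
import Cfsg.Agent.S1437

/-!
# S1376: Steps 1-5 glued (helper22): from the Step-0 facts `Ctx0` to `κ(M) = ∅`, `τ₂(M) = ∅`,
`M_F` not TI, using the frozen statements S1375 S1432 S1436 S1372 S1365 S1437 and the pieces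
(C2b) of helper4 and (C3) of helper75.
-/

set_option autoImplicit false
namespace Cfsg.Agent.Helper22.BG144G
open Cfsg Cfsg.Agent.Helper22.BG144C

variable {G : Type*} [Group G] [Finite G]

theorem h75 (hG : Cfsg.IsMinSimpleOddOrder G) : H1375 G :=
  fun M hM x hx hx1 hC => Cfsg.Agent.S1375.result hG M hM x hx hx1 hC
theorem h32 (hG : Cfsg.IsMinSimpleOddOrder G) : Cfsg.Agent.Helper22.BG146.H1432 G :=
  fun M hM x hx hx1 x' hx' hx'1 hσ => Cfsg.Agent.S1432.result hG M hM x hx hx1 x' hx' hx'1 hσ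
theorem h36 (hG : Cfsg.IsMinSimpleOddOrder G) : H1436a G :=
  fun M hM x hx hx1 hxM N hN hxN => (Cfsg.Agent.S1436.result hG M hM x hx hx1 hxM N hN hxN).1
theorem h72 (hG : Cfsg.IsMinSimpleOddOrder G) : H1372 G :=
  fun M hM K U hKU hK1 hU1 => Cfsg.Agent.S1372.result hG M hM K U hKU hK1 hU1
theorem h65 (hG : Cfsg.IsMinSimpleOddOrder G) : H1365 G :=
  fun M hM K U hKU hK1 => Cfsg.Agent.S1365.result hG M hM K U hKU hK1
theorem h37 (hG : Cfsg.IsMinSimpleOddOrder G) : H1437 G :=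
  fun M hM K U hKU hne => Cfsg.Agent.S1437.result hG M hM K U hKU hne

/-- Steps 1-5 of S1376 glued: from `Ctx0` to the first and third conclusions and `τ₂(M) = ∅`. -/
theorem steps15 (hG : Cfsg.IsMinSimpleOddOrder G) {M N Nst K U Ust : Subgroup G} {x : G}
    {p q : ℕ} (c0 : Ctx0 M N Nst K U Ust x p q) :
    Ctx M N Nst K U Ust x p q ∧ Cfsg.kappa M = ∅ ∧ Cfsg.tau2 M = ∅ ∧
      ¬ Cfsg.IsTISubset (Cfsg.fittingHallOf M : Set G) := by
  obtain ⟨c, hTI⟩ := ctx_of_ctx0 hG (h32 hG) c0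
  refine ⟨c, c.kappaM, ?_, hTI⟩
  exact tau2_eq_empty hG (h75 hG) (h32 hG) (h36 hG) (h72 hG) c
    (fun s E B b₀ hs hE hEq hBE hBea hb₀ hb₀1 hcb hsN hsab hUst hEle hnil =>
      Cfsg.Agent.Helper4.BG144C58.step58 hG (h65 hG) c hs hE hEq hBE hBea hb₀ hb₀1 hcb hsN hsab
        hUst hEle hnil)
    (Cfsg.Agent.Helper75.BG144C3.c3 hG (h37 hG) c)

end Cfsg.Agent.Helper22.BG144G
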