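import Mathlib

set_option autoImplicit false
set_option linter.unusedSectionVars false
set_option linter.unusedVariables false

/-!
# S4484 piece (C3) for helper25 (#10864): multiplicity of an eigenvalue of an operator of finite order
`p * dim ker (f - c) = ∑_{k < p} tr (f ^ k) * c⁻¹ ^ k`
-/

namespace Cfsg.Agent.Helper22.Bli

open Module Module.End

section Lin
variable {W : Type*} [AddCommGroup W] [Module ℂ W] [FiniteDimensional ℂ W]

/-- `f * E = c • E` for `E = ∑_{k<p} c⁻¹ ^ k • f ^ k` -/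
theorem mul_avg_h22 (f : End ℂ W) (p : ℕ) (hp : 0 < p) (hf : f ^ p = 1) (c : ℂ) (hc : c ^ p = 1) :
    f * ∑ k ∈ Finset.range p, c⁻¹ ^ k • f ^ k = c • ∑ k ∈ Finset.range p, c⁻¹ ^ k • f ^ k := by
  have hc0 : c ≠ 0 := by
    rintro rfl
    rw [zero_pow hp.ne'] at hc
    exact zero_ne_one hc
  have h1 : f * ∑ k ∈ Finset.range p, c⁻¹ ^ k • f ^ k =
      c • ∑ k ∈ Finset.range p, c⁻¹ ^ (k + 1) • f ^ (k + 1) := by
    rw [Finset.mul_sum, Finset.smul_sum]
    apply Finset.sum_congr rfl
    intro k _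
    rw [mul_smul_comm, ← pow_succ', smul_smul]
    congr 1
    rw [pow_succ, ← mul_assoc, mul_comm c, mul_assoc, mul_inv_cancel₀ hc0, mul_one]
  rw [h1]
  congr 1
  have h2 := Finset.sum_range_succ (fun k => c⁻¹ ^ k • f ^ k) p
  have h3 := Finset.sum_range_succ' (fun k => c⁻¹ ^ k • f ^ k) p
  rw [h2] at h3
  have h4 : c⁻¹ ^ p • f ^ p = c⁻¹ ^ 0 • f ^ 0 := by
    rw [hf, inv_pow, hc, inv_one, pow_zero, pow_zero]
  rw [h4] at h3
  exact (add_right_cancel h3).symm

/-- (C3) -/
theorem finrank_eigenspace_mul (f : End ℂ W) (p : ℕ) (hp : 0 < p) (hf : f ^ p = 1) (c : ℂ)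
    (hc : c ^ p = 1) :
    (p : ℂ) * (finrank ℂ (eigenspace f c) : ℂ) =
      ∑ k ∈ Finset.range p, LinearMap.trace ℂ W (f ^ k) * c⁻¹ ^ k := by
  have hc0 : c ≠ 0 := by
    rintro rfl
    rw [zero_pow hp.ne'] at hc
    exact zero_ne_one hc
  have hp0 : (p : ℂ) ≠ 0 := Nat.cast_ne_zero.2 hp.ne'
  set E : End ℂ W := ∑ k ∈ Finset.range p, c⁻¹ ^ k • f ^ k with hE
  have hfE : f * E = c • E := mul_avg_h22 f p hp hf c hc
  have hproj : LinearMap.IsProj (eigenspace f c) ((p : ℂ)⁻¹ • E) := by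
    constructor
    · intro x
      rw [mem_eigenspace_iff, LinearMap.smul_apply, map_smul, ← Module.End.mul_apply, hfE,
        LinearMap.smul_apply, smul_comm]
    · intro x hx
      rw [mem_eigenspace_iff] at hx
      have hpow : ∀ k : ℕ, (f ^ k) x = c ^ k • x := by
        intro k
        induction k with
        | zero => simp
        | succ k ih => rw [pow_succ', Module.End.mul_apply, ih, map_smul, hx, smul_smul, pow_succ]
      have hEx : E x = (p : ℂ) • x := by
        rw [hE, LinearMap.sum_apply]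
        have : ∀ k ∈ Finset.range p, (c⁻¹ ^ k • f ^ k) x = x := by
          intro k _
          rw [LinearMap.smul_apply, hpow, smul_smul, inv_pow, inv_mul_cancel₀ (pow_ne_zero k hc0),
            one_smul]
        rw [Finset.sum_congr rfl this, Finset.sum_const, Finset.card_range, Nat.cast_smul_eq_nsmul]
      rw [LinearMap.smul_apply, hEx, smul_smul, inv_mul_cancel₀ hp0, one_smul]
  have htr := hproj.trace
  rw [map_smul, smul_eq_mul] at htr
  have htrE : LinearMap.trace ℂ W E = ∑ k ∈ Finset.range p, LinearMap.trace ℂ W (f ^ k) * c⁻¹ ^ k := by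
    rw [hE, map_sum]
    apply Finset.sum_congr rfl
    intro k _
    rw [map_smul, smul_eq_mul, mul_comm]
  rw [← htrE, ← htr, ← mul_assoc, mul_inv_cancel₀ hp0, one_mul]

end Lin

end Cfsg.Agent.Helper22.Bli
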