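import Mathlib
import Cfsg.Agent.Helper22.BliC3

set_option autoImplicit false
set_option linter.unusedSectionVars false
set_option linter.unusedVariables false

/-!
# S4484 piece (C3') for helper25 (#10864): the eigenspaces of `f` (`f ^ p = 1`) for the `p`-th roots of
unity exhaust the space (dimension count)
-/

namespace Cfsg.Agent.Helper22.Bli

open Module Module.End

section Lin
variable {W : Type*} [AddCommGroup W] [Module ℂ W] [FiniteDimensional ℂ W]

/-- (C3') -/
theorem sum_finrank_eigenspace (f : End ℂ W) (p : ℕ) (hp : 0 < p) (hf : f ^ p = 1) (ζ : ℂ)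
    (hζ : IsPrimitiveRoot ζ p) :
    ∑ j ∈ Finset.range p, finrank ℂ (eigenspace f (ζ ^ j)) = finrank ℂ W := by
  have hp0 : (p : ℂ) ≠ 0 := Nat.cast_ne_zero.2 hp.ne'
  have hζ0 : ζ ≠ 0 := hζ.ne_zero hp.ne'
  have hinv : IsPrimitiveRoot ζ⁻¹ p := hζ.inv
  -- the inner sums
  have hinner : ∀ k ∈ Finset.range p, ∑ j ∈ Finset.range p, ((ζ ^ j)⁻¹) ^ k =
      if k = 0 then (p : ℂ) else 0 := by
    intro k hk
    rw [Finset.mem_range] at hk
    have h1 : ∀ j ∈ Finset.range p, ((ζ ^ j)⁻¹) ^ k = (ζ⁻¹ ^ k) ^ j := by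
      intro j _
      rw [← inv_pow, ← pow_mul, ← pow_mul, mul_comm]
    rw [Finset.sum_congr rfl h1]
    by_cases hk0 : k = 0
    · rw [if_pos hk0, hk0]
      simp
    · rw [if_neg hk0]
      have hne : ζ⁻¹ ^ k ≠ 1 := hinv.pow_ne_one_of_pos_of_lt hk0 hk
      rw [geom_sum_eq hne, ← pow_mul, mul_comm, pow_mul, hinv.pow_eq_one, one_pow, sub_self,
        zero_div]
  have key : (p : ℂ) * ((∑ j ∈ Finset.range p, finrank ℂ (eigenspace f (ζ ^ j)) : ℕ) : ℂ) =
      (p : ℂ) * (finrank ℂ W : ℂ) := by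
    rw [Nat.cast_sum, Finset.mul_sum]
    have h1 : ∀ j ∈ Finset.range p, (p : ℂ) * (finrank ℂ (eigenspace f (ζ ^ j)) : ℂ) =
        ∑ k ∈ Finset.range p, LinearMap.trace ℂ W (f ^ k) * ((ζ ^ j)⁻¹) ^ k := by
      intro j _
      apply finrank_eigenspace_mul f p hp hf
      rw [← pow_mul, mul_comm, pow_mul, hζ.pow_eq_one, one_pow]
    rw [Finset.sum_congr rfl h1, Finset.sum_comm]
    have h2 : ∀ k ∈ Finset.range p,
        ∑ j ∈ Finset.range p, LinearMap.trace ℂ W (f ^ k) * ((ζ ^ j)⁻¹) ^ k =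
        LinearMap.trace ℂ W (f ^ k) * (if k = 0 then (p : ℂ) else 0) := by
      intro k hk
      rw [← Finset.mul_sum, hinner k hk]
    rw [Finset.sum_congr rfl h2, Finset.sum_eq_single 0]
    · rw [if_pos rfl, pow_zero, LinearMap.trace_one, mul_comm]
    · intro k _ hk0
      rw [if_neg hk0, mul_zero]
    · intro h
      exact absurd (Finset.mem_range.2 hp) h
  have h3 := mul_left_cancel₀ hp0 key
  exact_mod_cast h3

end Lin

end Cfsg.Agent.Helper22.Bli
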