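import Mathlib

/-!
# S2500 piece (EIG) for helper53 (#11776): an eigenvector gives a conjugate in the point stabiliser
-/

set_option autoImplicit false

namespace Cfsg.Agent.Helper22.Cov2

open Polynomial Matrix

variable {F : Type*} [Field F]

theorem eig_sl_mulVec_inv_mulVec {n : ℕ} (y : SpecialLinearGroup (Fin n) F) (w : Fin n → F) :
    (y⁻¹).1 *ᵥ (y.1 *ᵥ w) = w := by
  have h : (y⁻¹).1 * y.1 = 1 := congrArg Subtype.val (inv_mul_cancel y)
  rw [Matrix.mulVec_mulVec, h, Matrix.one_mulVec]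

theorem eig_sl_coe_mul {n : ℕ} (x y : SpecialLinearGroup (Fin n) F) : (x * y).1 = x.1 * y.1 := rfl

/-- the case `v 0 ≠ 0` -/
theorem eig_core {n : ℕ} [NeZero n] (g : SpecialLinearGroup (Fin n) F) (v : Fin n → F)
    (hv0 : v 0 ≠ 0) (a : F) (hgv : g.1 *ᵥ v = a • v) :
    ∃ x : SpecialLinearGroup (Fin n) F, ∀ i : Fin n, i ≠ 0 → (x * g * x⁻¹).1 i 0 = 0 := by
  classical
  set u : Fin n → F := (v 0)⁻¹ • v with hu
  have hu0 : u 0 = 1 := by
    rw [hu, Pi.smul_apply, smul_eq_mul, inv_mul_cancel₀ hv0]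
  have hgu : g.1 *ᵥ u = a • u := by
    rw [hu, Matrix.mulVec_smul, hgv, smul_comm]
  have hdet : (Matrix.updateCol (1 : Matrix (Fin n) (Fin n) F) 0 u).det = 1 := by
    rw [← Matrix.cramer_apply, Matrix.cramer_one]
    exact hu0
  let y : SpecialLinearGroup (Fin n) F := ⟨Matrix.updateCol 1 0 u, hdet⟩
  have hy : y.1 *ᵥ (Pi.single 0 1 : Fin n → F) = u := by
    rw [Matrix.mulVec_single_one]
    funext i
    exact Matrix.updateCol_self (M := (1 : Matrix (Fin n) (Fin n) F)) (j := 0) (c := u) (i := i)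
  refine ⟨y⁻¹, ?_⟩
  intro i hi
  have h1 : (y⁻¹ * g * y⁻¹⁻¹).1 *ᵥ (Pi.single 0 1 : Fin n → F) = a • Pi.single 0 1 := by
    rw [inv_inv, eig_sl_coe_mul, eig_sl_coe_mul, ← Matrix.mulVec_mulVec,
      ← Matrix.mulVec_mulVec, hy, hgu, Matrix.mulVec_smul]
    congr 1
    rw [← hy]
    exact eig_sl_mulVec_inv_mulVec y _
  have h2 := congrFun h1 i
  rw [Matrix.mulVec_single_one] at h2
  rw [show (y⁻¹ * g * y⁻¹⁻¹).1 i 0 = ((y⁻¹ * g * y⁻¹⁻¹).1).col 0 i from rfl, h2, Pi.smul_apply,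
    Pi.single_eq_of_ne hi, smul_zero]

theorem exists_conj_col_zero {n : ℕ} [NeZero n] (g : SpecialLinearGroup (Fin n) F) (v : Fin n → F)
    (hv : v ≠ 0) (a : F) (hgv : g.1 *ᵥ v = a • v) :
    ∃ x : SpecialLinearGroup (Fin n) F, ∀ i : Fin n, i ≠ 0 → (x * g * x⁻¹).1 i 0 = 0 := by
  classical
  by_cases hv0 : v 0 ≠ 0
  · exact eig_core g v hv0 a hgv
  rw [not_not] at hv0
  obtain ⟨j, hj⟩ : ∃ j, v j ≠ 0 := by
    by_contra hcon
    apply hv
    funext k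
    by_contra hk
    exact hcon ⟨k, hk⟩
  have hj0 : (0 : Fin n) ≠ j := by
    rintro rfl
    exact hj hv0
  let t : SpecialLinearGroup (Fin n) F :=
    ⟨Matrix.transvection 0 j 1, Matrix.det_transvection_of_ne 0 j hj0 1⟩
  have ht0 : (t.1 *ᵥ v) 0 ≠ 0 := by
    show ((Matrix.transvection 0 j (1 : F)) *ᵥ v) 0 ≠ 0
    rw [Matrix.transvection, Matrix.add_mulVec, Matrix.one_mulVec, Matrix.single_mulVec, Pi.add_apply,
      Function.update_self, hv0, zero_add, one_mul]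
    exact hj
  have hg' : (t * g * t⁻¹).1 *ᵥ (t.1 *ᵥ v) = a • (t.1 *ᵥ v) := by
    rw [eig_sl_coe_mul, eig_sl_coe_mul, ← Matrix.mulVec_mulVec,
      ← Matrix.mulVec_mulVec, eig_sl_mulVec_inv_mulVec, hgv, Matrix.mulVec_smul]
  obtain ⟨x', hx'⟩ := eig_core (t * g * t⁻¹) (t.1 *ᵥ v) ht0 a hg'
  refine ⟨x' * t, ?_⟩
  intro i hi
  have := hx' i hi
  rw [show x' * t * g * (x' * t)⁻¹ = x' * (t * g * t⁻¹) * x'⁻¹ by group]
  exact this

end Cfsg.Agent.Helper22.Cov2
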