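import Mathlib
import Cfsg.Agent.S0751
import Cfsg.Agent.Helper3.Cov2P4Defs
import Cfsg.Agent.Helper13.UStabDet
import Cfsg.Agent.Helper5.UnitaryCenter

/-!
# S2500 part (4) piece (K5) for helper3 (#12132): an invariant totally isotropic plane gives a conjugate in the
stabiliser of the standard totally isotropic plane `W0 ζ`
-/

set_option autoImplicit false
set_option linter.unusedSectionVars false

namespace Cfsg.Agent.Helper22.Cov2P4

open Polynomial Module Matrix Cfsg.Agent.Helper3.Cov2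

variable {F : Type*} [Field F] [Fintype F] {q : ℕ}

theorem k5_W0_eq (ζ : F) : W0 ζ = Submodule.span F (Set.range ![vecA ζ, vecB ζ]) := by
  rw [W0, Matrix.range_cons_cons_empty]

theorem k5_li (ζ : F) : LinearIndependent F ![vecA ζ, vecB ζ] := by
  rw [LinearIndependent.pair_iff]
  intro s t h
  have h0 := congrFun h 0
  have h2 := congrFun h 2
  simp [vecA, vecB] at h0 h2
  exact ⟨h0, h2⟩

theorem k5_frame (hF : Fintype.card F = q ^ 2) (ζ : F) (hζ : ζ ^ (q + 1) = -1) :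
    Cfsg.Agent.Helper13.IsUFrame 4 q ![vecA ζ, vecB ζ] := by
  have hq := Cfsg.Agent.Helper13.two_le_of_card_eq_sq hF
  have hq0 : q ≠ 0 := by omega
  refine ⟨k5_li ζ, ?_⟩
  intro i j
  have hζ' : ζ * ζ ^ q = -1 := by rw [← pow_succ', hζ]
  fin_cases i <;> fin_cases j <;>
    simp [Cfsg.hermForm, Fin.sum_univ_four, vecA, vecB, hq0, hζ']

/-- (K5) -/
theorem conj_into_K (hF : Fintype.card F = q ^ 2) (ζ : F) (hζ : ζ ^ (q + 1) = -1)
    (A : Cfsg.SU 4 F q) (W : Submodule F (Fin 4 → F)) (hW2 : finrank F W = 2)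
    (hti : ∀ x ∈ W, ∀ y ∈ W, Cfsg.hermForm 4 F q x y = 0)
    (hinv : ∀ x ∈ W, (A.1.1 : Matrix (Fin 4) (Fin 4) F) *ᵥ x ∈ W) :
    ∃ x : Cfsg.SU 4 F q, x * A * x⁻¹ ∈ stabSU (W0 ζ) := by
  classical
  have hq := Cfsg.Agent.Helper13.two_le_of_card_eq_sq hF
  -- a frame of `W`
  let b : Basis (Fin 2) F W := Module.finBasisOfFinrankEq F W hW2
  set e : Fin 2 → (Fin 4 → F) := fun i => (b i : Fin 4 → F) with he
  have heli : LinearIndependent F e :=
    LinearIndependent.map' b.linearIndependent W.subtype (Submodule.ker_subtype W)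
  have heF : Cfsg.Agent.Helper13.IsUFrame 4 q e := ⟨heli, fun i j => hti _ (b i).2 _ (b j).2⟩
  have hfF := k5_frame hF ζ hζ
  obtain ⟨g, hg⟩ := Cfsg.Agent.Helper13.exists_GU_map_frame hF e ![vecA ζ, vecB ζ] heF hfF
  -- the determinant
  set d : F := ((g : GL (Fin 4) F) : Matrix (Fin 4) (Fin 4) F).det with hd
  have hd1 : d ^ (q + 1) = 1 := Cfsg.Agent.Helper5.det_pow_eq_one hF (g : GL (Fin 4) F) g.2
  have hd0 : d ≠ 0 := by
    intro h0
    rw [h0, zero_pow (by omega)] at hd1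
    exact zero_ne_one hd1
  have hl : (d⁻¹) ^ (q + 1) = 1 := by rw [inv_pow, hd1, inv_one]
  have hW0ti : ∀ u ∈ W0 ζ, ∀ v ∈ W0 ζ, Cfsg.hermForm 4 F q u v = 0 := by
    rw [k5_W0_eq]
    exact Cfsg.Agent.Helper13.hermForm_span_eq_zero hF _ hfF.2
  obtain ⟨s, hs, hsdet⟩ := Cfsg.Agent.Helper13.exists_stabGU_det hF (by norm_num) (W0 ζ) hW0ti d⁻¹ hl
  rw [Cfsg.Agent.Helper13.mem_stabGU] at hs
  -- the conjugating element
  set M : Matrix (Fin 4) (Fin 4) F := (((s * g : Cfsg.GU 4 F q) : GL (Fin 4) F) : Matrix (Fin 4) (Fin 4) F) with hM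
  have hMmul : M = ((s : GL (Fin 4) F) : Matrix (Fin 4) (Fin 4) F) * ((g : GL (Fin 4) F) : Matrix (Fin 4) (Fin 4) F) := rfl
  have hMdet : M.det = 1 := by
    rw [hMmul, Matrix.det_mul, hsdet, ← hd, inv_mul_cancel₀ hd0]
  have hMpres : ∀ u v, Cfsg.Agent.Helper5.herm q (M *ᵥ u) (M *ᵥ v) = Cfsg.Agent.Helper5.herm q u v :=
    fun u v => (s * g).2 u v
  let x : Cfsg.SU 4 F q := Cfsg.Agent.Helper5.mkSU M hMdet hMpres
  have hx : (x.1.1 : Matrix (Fin 4) (Fin 4) F) = M := rfl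
  -- `M` maps `W` into `W0 ζ`
  have hf_mem : ∀ i, (![vecA ζ, vecB ζ] : Fin 2 → (Fin 4 → F)) i ∈ W0 ζ := by
    intro i
    rw [k5_W0_eq]
    exact Submodule.subset_span ⟨i, rfl⟩
  have hMe : ∀ i, M *ᵥ e i ∈ W0 ζ := by
    intro i
    rw [hMmul, ← Matrix.mulVec_mulVec, hg i]
    exact (hs _).mp (hf_mem i)
  have hMW : ∀ w ∈ W, M *ᵥ w ∈ W0 ζ := by
    intro w hw
    have h1 := b.sum_repr ⟨w, hw⟩
    have h2 : w = ∑ i, (b.repr ⟨w, hw⟩ i) • e i := by
      have := congrArg Subtype.val h1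
      rw [Submodule.coe_sum] at this
      simp only [Submodule.coe_smul] at this
      exact this.symm
    rw [h2, Matrix.mulVec_sum]
    apply Submodule.sum_mem
    intro i _
    rw [Matrix.mulVec_smul]
    exact Submodule.smul_mem _ _ (hMe i)
  -- injectivity
  have hMinj : Function.Injective (Matrix.toLin' M) := by
    intro u v huv
    rw [Matrix.toLin'_apply, Matrix.toLin'_apply] at huv
    exact Cfsg.Agent.Helper13.GU_mulVec_injective (s * g) huv
  -- the image of `W` is `W0 ζ`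
  have hW02 : finrank F (W0 ζ) = 2 := by
    rw [k5_W0_eq, finrank_span_eq_card (k5_li ζ), Fintype.card_fin]
  have hmap : W.map (Matrix.toLin' M) = W0 ζ := by
    apply Submodule.eq_of_le_of_finrank_eq
    · rintro _ ⟨w, hw, rfl⟩
      rw [Matrix.toLin'_apply]
      exact hMW w hw
    · rw [hW02, ← hW2]
      exact (Submodule.equivMapOfInjective (Matrix.toLin' M) hMinj W).finrank_eq.symm
  refine ⟨x, ?_⟩
  -- invariance of `W0 ζ` under the conjugate
  have hconj : ((x * A * x⁻¹).1.1 : Matrix (Fin 4) (Fin 4) F) = M * A.1.1 * (x⁻¹).1.1 := rfl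
  have hxinv : ((x⁻¹).1.1 : Matrix (Fin 4) (Fin 4) F) * M = 1 := by
    have h1 : ((x⁻¹ * x).1.1 : Matrix (Fin 4) (Fin 4) F) = (x⁻¹).1.1 * x.1.1 := rfl
    rw [← hx, ← h1, inv_mul_cancel]
    rfl
  have hinvar : ∀ v ∈ W0 ζ, ((x * A * x⁻¹).1.1 : Matrix (Fin 4) (Fin 4) F) *ᵥ v ∈ W0 ζ := by
    intro v hv
    rw [← hmap] at hv
    obtain ⟨w, hw, rfl⟩ := hv
    rw [Matrix.toLin'_apply, hconj, ← Matrix.mulVec_mulVec, ← Matrix.mulVec_mulVec, Matrix.mulVec_mulVec _ _ M,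
      hxinv, Matrix.one_mulVec]
    exact hMW _ (hinv w hw)
  -- (K0) inline
  have hXinj : Function.Injective (fun v : Fin 4 → F => ((x * A * x⁻¹).1.1 : Matrix (Fin 4) (Fin 4) F) *ᵥ v) := by
    intro u v huv
    have hinv' : (((x * A * x⁻¹)⁻¹).1.1 : Matrix (Fin 4) (Fin 4) F) * (x * A * x⁻¹).1.1 = 1 := by
      have h1 : (((x * A * x⁻¹)⁻¹ * (x * A * x⁻¹)).1.1 : Matrix (Fin 4) (Fin 4) F) =
        ((x * A * x⁻¹)⁻¹).1.1 * (x * A * x⁻¹).1.1 := rfl
      rw [← h1, inv_mul_cancel]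
      rfl
    have := congrArg (fun z => (((x * A * x⁻¹)⁻¹).1.1 : Matrix (Fin 4) (Fin 4) F) *ᵥ z) huv
    simp only [Matrix.mulVec_mulVec, hinv', Matrix.one_mulVec] at this
    exact this
  rw [mem_stabSU]
  intro v
  exact (Cfsg.Agent.Helper13.mulVec_stab_iff _ hXinj (W0 ζ) hinvar v).symm

end Cfsg.Agent.Helper22.Cov2P4
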