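import Mathlib
import Cfsg.Agent.S0754

/-!
# S2500 part (4) piece (K6) for helper3 (#12132): an element of norm `-1`
-/

set_option autoImplicit false

namespace Cfsg.Agent.Helper22.Cov2P4

variable {F : Type*} [Field F] [Fintype F] {q : ℕ}

/-- (K6) -/
theorem exists_norm_neg_one (hF : Fintype.card F = q ^ 2) : ∃ ζ : F, ζ ^ (q + 1) = -1 := by
  have hneg : (-1 : F) ^ q = -1 := by
    rcases Nat.even_or_odd q with he | ho
    · have h2 : (2 : F) = 0 := by
        obtain ⟨p, hp⟩ := CharP.exists F
        have := hp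
        obtain ⟨n, hpr, hcard⟩ := FiniteField.card F p
        have h2q : 2 ∣ Fintype.card F := by
          rw [hF]
          exact dvd_pow he.two_dvd (by norm_num)
        rw [hcard] at h2q
        have h2p : 2 ∣ p := Nat.Prime.dvd_of_dvd_pow Nat.prime_two h2q
        have hp2 : 2 = p := (Nat.prime_dvd_prime_iff_eq Nat.prime_two hpr).1 h2p
        subst hp2
        have := CharP.cast_eq_zero F 2
        exact_mod_cast this
      have h1 : (-1 : F) = 1 := by
        rw [neg_eq_iff_add_eq_zero, one_add_one_eq_two, h2]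
      rw [h1, one_pow]
    · exact ho.neg_one_pow
  have hcard := Cfsg.Agent.S0754.result hF (-1 : F) (neg_ne_zero.mpr one_ne_zero) hneg
  have hne : Nonempty {x : F // x ^ (q + 1) = -1} := by
    apply (Nat.card_pos_iff.mp _).1
    rw [hcard]
    omega
  obtain ⟨c, hc⟩ := hne
  exact ⟨c, hc⟩

end Cfsg.Agent.Helper22.Cov2P4
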