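import Mathlib
import Cfsg.Agent.S0754
import Cfsg.Agent.Helper3.Cov2P5Defs

/-!
# S2500 part (5) piece (5K2c) for helper3 (#12490): surjectivity of the norm `L → L^{q³}`-fixed field
-/

set_option autoImplicit false
set_option linter.unusedSectionVars false

namespace Cfsg.Agent.Helper22.Cov2P5

open Polynomial Module Matrix Cfsg.Agent.Helper3.Cov2

variable {F : Type*} [Field F] [Fintype F] {q : ℕ}

variable (L : Type*) [Field L] [Algebra F L] [Finite L]

/-- (5K2c) -/
theorem exists_norm_eq_L (hF : Fintype.card F = q ^ 2) (hL3 : finrank F L = 3) (β : L)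
    (hβ0 : β ≠ 0) (hβ : β ^ (q ^ 3) = β) : ∃ r : L, r ≠ 0 ∧ r * r ^ (q ^ 3) = β := by
  classical
  haveI : Fintype L := Fintype.ofFinite L
  have hcardL : Fintype.card L = (q ^ 3) ^ 2 := by
    rw [Module.card_eq_pow_finrank (K := F) (V := L), hL3, hF]
    ring
  have h := Cfsg.Agent.S0754.result (q := q ^ 3) hcardL β hβ0 hβ
  have hpos : 0 < Nat.card {x : L // x ^ (q ^ 3 + 1) = β} := by
    rw [h]; omega
  obtain ⟨⟨r, hr⟩⟩ := (Nat.card_pos_iff.mp hpos).1
  refine ⟨r, ?_, ?_⟩
  · rintro rfl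
    rw [zero_pow (by omega)] at hr
    exact hβ0 hr.symm
  · rw [← pow_succ']
    exact hr

end Cfsg.Agent.Helper22.Cov2P5
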