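import Mathlib
import Cfsg.Agent.Helper3.Cov2P4Defs
import Cfsg.Agent.Helper3.Cov2P5Defs
import Cfsg.Agent.Helper13.UStabDet
import Cfsg.Agent.Helper5.UnitaryCenter

/-!
# S2500 part (5) piece (5K3) for helper3 (#12490): an element of `SU_3(q)` which is `L`-linear in
coordinates `θ` whose form is a twisted trace form is conjugate into the Singer normaliser
-/

set_option autoImplicit false
set_option linter.unusedSectionVars false
set_option linter.unusedVariables false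

namespace Cfsg.Agent.Helper22.Cov2P5

open Polynomial Module Matrix Cfsg.Agent.Helper3.Cov2

variable {F : Type*} [Field F] [Fintype F] {q : ℕ}

variable (L : Type*) [Field L] [Algebra F L] [Finite L]

/-- (5K3) -/
theorem conj_irred_of (hF : Fintype.card F = q ^ 2) (a : ℕ) (ha : 1 ≤ a) (hq : q = 3 ^ a)
    (hL3 : finrank F L = 3) (ψ : L ≃ₗ[F] (Fin 3 → F))
    (hψ : ∀ x y : L, Cfsg.hermForm 3 F q (ψ x) (ψ y) = hL F L q x y)
    (A : Cfsg.SU 3 F q) (lam : L) (θ : L ≃ₗ[F] (Fin 3 → F))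
    (hθ : ∀ x : L, θ (lam * x) = (A.1.1 : Matrix (Fin 3) (Fin 3) F) *ᵥ θ x)
    (r : L) (hr : r ≠ 0)
    (hB : ∀ x y : L, Cfsg.hermForm 3 F q (θ x) (θ y) =
      Algebra.trace F L ((r * x) * (r * y) ^ (q ^ 3))) :
    ∃ x : Cfsg.SU 3 F q, x * A * x⁻¹ ∈ singerSet L q ψ := by
  classical
  have hq2 := Cfsg.Agent.Helper13.two_le_of_card_eq_sq hF
  set Zlin : (Fin 3 → F) →ₗ[F] (Fin 3 → F) :=
    ψ.toLinearMap ∘ₗ (LinearMap.mulLeft F r) ∘ₗ θ.symm.toLinearMap with hZlin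
  have hZapp : ∀ v, Zlin v = ψ (r * θ.symm v) := fun v => rfl
  set Z : Matrix (Fin 3) (Fin 3) F := LinearMap.toMatrix' Zlin with hZ
  have hZmv : ∀ v, Z *ᵥ v = ψ (r * θ.symm v) := by
    intro v
    rw [hZ, LinearMap.toMatrix'_mulVec, hZapp]
  have hZpres : ∀ u v, Cfsg.hermForm 3 F q (Z *ᵥ u) (Z *ᵥ v) = Cfsg.hermForm 3 F q u v := by
    intro u v
    rw [hZmv, hZmv, hψ, hL, ← hB, LinearEquiv.apply_symm_apply, LinearEquiv.apply_symm_apply]
  obtain ⟨g, hg⟩ := Cfsg.Agent.Helper13.exists_GU_of_preserves' hF Z hZpres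
  set d : F := Z.det with hd
  have hd1 : d ^ (q + 1) = 1 := by
    have h := Cfsg.Agent.Helper5.det_pow_eq_one hF (g : GL (Fin 3) F) g.2
    rw [hd, ← hg]
    exact h
  have hd0 : d ≠ 0 := by
    intro h0
    rw [h0, zero_pow (by omega)] at hd1
    exact zero_ne_one hd1
  -- the cube root of `d⁻¹` of norm one
  set c : F := (d⁻¹) ^ (3 ^ (a - 1) * q) with hc
  have h3a : 3 ^ (a - 1) * 3 = q := by
    rw [hq, ← pow_succ]
    congr 1
    omega
  have hc3 : c ^ 3 = d⁻¹ := by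
    rw [hc, ← pow_mul]
    have : 3 ^ (a - 1) * q * 3 = Fintype.card F := by
      rw [hF]
      calc 3 ^ (a - 1) * q * 3 = (3 ^ (a - 1) * 3) * q := by ring
        _ = q ^ 2 := by rw [h3a]; ring
    rw [this, FiniteField.pow_card]
  have hcq : c ^ (q + 1) = 1 := by
    rw [hc, ← pow_mul, mul_comm, pow_mul, inv_pow, hd1, inv_one, one_pow]
  have hcq' : c * c ^ q = 1 := by rw [← pow_succ', hcq]
  set M : Matrix (Fin 3) (Fin 3) F := c • Z with hM
  have hMmv : ∀ v, M *ᵥ v = ψ (c • (r * θ.symm v)) := by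
    intro v
    rw [hM, Matrix.smul_mulVec, hZmv, map_smul]
  have hMdet : M.det = 1 := by
    rw [hM, Matrix.det_smul, Fintype.card_fin, hc3, ← hd, inv_mul_cancel₀ hd0]
  have hsm : ∀ u v : Fin 3 → F, Cfsg.hermForm 3 F q (c • u) (c • v) = Cfsg.hermForm 3 F q u v := by
    intro u v
    unfold Cfsg.hermForm
    apply Finset.sum_congr rfl
    intro k _
    rw [Pi.smul_apply, Pi.smul_apply, smul_eq_mul, smul_eq_mul, mul_pow]
    calc c * u k * (c ^ q * v k ^ q) = (c * c ^ q) * (u k * v k ^ q) := by ring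
      _ = u k * v k ^ q := by rw [hcq', one_mul]
  have hMpres : ∀ u v, Cfsg.Agent.Helper5.herm q (M *ᵥ u) (M *ᵥ v) = Cfsg.Agent.Helper5.herm q u v := by
    intro u v
    change Cfsg.hermForm 3 F q (M *ᵥ u) (M *ᵥ v) = Cfsg.hermForm 3 F q u v
    rw [hM, Matrix.smul_mulVec, Matrix.smul_mulVec, hsm, hZpres]
  let x : Cfsg.SU 3 F q := Cfsg.Agent.Helper5.mkSU M hMdet hMpres
  have hx : (x.1.1 : Matrix (Fin 3) (Fin 3) F) = M := rfl
  refine ⟨x, lam, 0, ?_⟩
  intro y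
  have hconj : ((x * A * x⁻¹).1.1 : Matrix (Fin 3) (Fin 3) F) = M * A.1.1 * (x⁻¹).1.1 := rfl
  have hMxinv : M * ((x⁻¹).1.1 : Matrix (Fin 3) (Fin 3) F) = 1 := by
    have h1 : x * x⁻¹ = 1 := mul_inv_cancel x
    have h2 := congrArg (fun z : Cfsg.SU 3 F q => (z.1.1 : Matrix (Fin 3) (Fin 3) F)) h1
    exact h2
  rw [hconj, pow_zero, pow_one]
  set v : Fin 3 → F := ((x⁻¹).1.1 : Matrix (Fin 3) (Fin 3) F) *ᵥ ψ y with hv
  have hMv : M *ᵥ v = ψ y := by
    rw [hv, Matrix.mulVec_mulVec, hMxinv, Matrix.one_mulVec]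
  have hy : y = c • (r * θ.symm v) := by
    apply ψ.injective
    rw [← hMmv, hMv]
  rw [← Matrix.mulVec_mulVec, ← Matrix.mulVec_mulVec, ← hv]
  have hvθ : v = θ (θ.symm v) := (LinearEquiv.apply_symm_apply θ v).symm
  rw [hvθ, ← hθ, hMmv, LinearEquiv.symm_apply_apply]
  congr 1
  rw [hy]
  rw [mul_smul_comm, mul_left_comm]

end Cfsg.Agent.Helper22.Cov2P5
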