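import Cfsg.Agent.Helper43.Cov2.P8Defs
import Cfsg.Agent.Helper43.G2Vec

/-!
# S2500 part 8 piece (8F) for helper43 (#11867): `G₂(F)` is transitive on the elements of trace 1 and
given norm (from the pieces (8A), (8D), (8E), taken as explicit hypotheses)
-/

set_option autoImplicit false

namespace Cfsg.Agent.Helper22.Cov2.P8

open Matrix Cfsg.Lie Cfsg.Agent.Helper43.G2S Cfsg.Agent.Helper43.Cov2.P8

variable {F : Type*} [Field F]

theorem p8f_tr8_vecH (h : Matrix (Fin 2) (Fin 2) F) : tr8 (vecH h) = h.trace := by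
  simp [tr8, vecH, Matrix.trace_fin_two]

theorem p8f_N8_vecH (h : Matrix (Fin 2) (Fin 2) F) : N8 (vecH h) = h.det := by
  simp [N8, vecH, Matrix.det_fin_two]

theorem p8f_not_scalar [CharP F 2] (h : Matrix (Fin 2) (Fin 2) F) (htr : h.trace = 1) :
    ∀ c : F, h ≠ c • (1 : Matrix (Fin 2) (Fin 2) F) := by
  intro c hc
  have h2 : (2 : F) = 0 := by
    have := CharP.cast_eq_zero F 2
    exact_mod_cast this
  rw [hc, Matrix.trace_fin_two] at htr
  simp only [Matrix.smul_apply, Matrix.one_apply_eq, smul_eq_mul, mul_one] at htr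
  rw [← two_mul, h2, zero_mul] at htr
  exact zero_ne_one htr

/-- (8F) with the pieces (8A), (8D), (8E) as explicit hypotheses. -/
theorem trans8_of [Fintype F] [CharP F 2]
    (HAtr : ∀ (g : G2 F) (x : Fin 8 → F), tr8 (act g x) = tr8 x)
    (HAN : ∀ (g : G2 F) (x : Fin 8 → F), N8 (act g x) = N8 x)
    (HD : ∀ e : Fin 8 → F, tr8 e = 1 → ∃ g : G2 F, ∃ h : Matrix (Fin 2) (Fin 2) F, act g e = vecH h)
    (HE : ∀ h h' : Matrix (Fin 2) (Fin 2) F, (∀ c : F, h ≠ c • (1 : Matrix (Fin 2) (Fin 2) F)) →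
      (∀ c : F, h' ≠ c • (1 : Matrix (Fin 2) (Fin 2) F)) → h.trace = h'.trace → h.det = h'.det →
      ∃ p : Matrix (Fin 2) (Fin 2) F, p.det = 1 ∧ p * h * p.adjugate = h')
    (e e' : Fin 8 → F) (he : tr8 e = 1) (he' : tr8 e' = 1) (hN : N8 e = N8 e') :
    ∃ g : G2 F, act g e = e' := by
  obtain ⟨g1, h, hg1⟩ := HD e he
  obtain ⟨g2, h', hg2⟩ := HD e' he'
  have htr : h.trace = 1 := by rw [← p8f_tr8_vecH, ← hg1, HAtr, he]
  have htr' : h'.trace = 1 := by rw [← p8f_tr8_vecH, ← hg2, HAtr, he']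
  have hdet : h.det = h'.det := by
    rw [← p8f_N8_vecH, ← p8f_N8_vecH, ← hg1, ← hg2, HAN, HAN, hN]
  obtain ⟨p, hp, hph⟩ := HE h h' (p8f_not_scalar h htr) (p8f_not_scalar h' htr') (by rw [htr, htr']) hdet
  let P : SL2 F := ⟨p, hp⟩
  have hP : act (psi P) (vecH h) = vecH h' := by
    unfold act
    rw [coe_psi, PsiM_vecH]
    show vecH (p * h * p.adjugate) = vecH h'
    rw [hph]
  refine ⟨g2⁻¹ * psi P * g1, ?_⟩
  rw [act_mul, act_mul, hg1, hP, ← hg2, act_inv_act]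

end Cfsg.Agent.Helper22.Cov2.P8
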