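import Mathlib

/-!
# S2500 part 8 piece (8P) for helper43 (#11867): the Artin–Schreier map in characteristic 2 has image of index 2
-/

set_option autoImplicit false

namespace Cfsg.Agent.Helper22.Cov2.P8

variable {F : Type*} [Field F]

/-- (8P) the Artin–Schreier map has image of index 2. -/
theorem AS_index_two [Fintype F] [CharP F 2] :
    ∃ n₀ : F, ∀ n : F, (∃ c : F, n = c ^ 2 + c) ∨ (∃ c : F, n = n₀ + (c ^ 2 + c)) := by
  classical
  have h2 : (2 : F) = 0 := by
    have := CharP.cast_eq_zero F 2
    exact_mod_cast this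
  have hneg : ∀ x : F, -x = x := by
    intro x
    have : x + x = 0 := by rw [← two_mul, h2, zero_mul]
    exact neg_eq_of_add_eq_zero_left this
  let φ : F →+ F :=
    { toFun := fun c => c ^ 2 + c
      map_zero' := by simp
      map_add' := fun a b => by
        have : (a + b) ^ 2 + (a + b) = (a ^ 2 + a) + (b ^ 2 + b) + 2 * (a * b) := by ring
        rw [this, h2, zero_mul, add_zero] }
  have hφ : ∀ c, φ c = c ^ 2 + c := fun _ => rfl
  have hkerset : (φ.ker : Set F) = {0, 1} := by
    ext c
    simp only [SetLike.mem_coe, AddMonoidHom.mem_ker, hφ, Set.mem_insert_iff, Set.mem_singleton_iff]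
    constructor
    · intro h
      have h' : c * (c + 1) = 0 := by rw [← h]; ring
      rcases mul_eq_zero.mp h' with h0 | h1
      · exact Or.inl h0
      · right
        have : c = -1 := eq_neg_of_add_eq_zero_left h1
        rw [this, hneg]
    · rintro (rfl | rfl)
      · simp
      · rw [one_pow, ← two_mul, h2, zero_mul]
  have hker : Nat.card φ.ker = 2 := by
    have h1 : Nat.card (φ.ker : Set F) = 2 := by
      rw [hkerset, Nat.card_coe_set_eq, Set.ncard_pair zero_ne_one]
    exact h1
  have hidx : φ.range.index = 2 := by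
    have h1 := AddSubgroup.index_mul_card φ.range
    have h3 := AddSubgroup.index_mul_card φ.ker
    rw [AddSubgroup.index_ker, hker] at h3
    have hpos : 0 < Nat.card φ.range := Nat.card_pos
    have : φ.range.index * Nat.card φ.range = 2 * Nat.card φ.range := by
      rw [h1, ← h3, mul_comm]
    exact Nat.eq_of_mul_eq_mul_right hpos this
  obtain ⟨a, ha⟩ := AddSubgroup.index_eq_two_iff.mp hidx
  refine ⟨a, fun n => ?_⟩
  rcases ha n with ⟨h1, -⟩ | ⟨h1, -⟩
  · right
    obtain ⟨c, hc⟩ := h1
    refine ⟨c, ?_⟩
    rw [← hφ, hc]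
    rw [add_comm a, add_assoc, ← two_mul, h2, zero_mul, add_zero]
  · left
    obtain ⟨c, hc⟩ := h1
    exact ⟨c, by rw [← hφ, hc]⟩

end Cfsg.Agent.Helper22.Cov2.P8
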