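import Mathlib
import Cfsg.Prelude.Def_ChevD4
import Cfsg.Prelude.Def_ChevWords
import Cfsg.Agent.Helper18.ScalarExt
import Cfsg.Agent.Helper18.TriAll

/-!
Helper22, for helper36 (S2183, WANTED #9171), piece (NC): in characteristic 2 the matrices `x₂₃(1)` and
`x₁₉(1) x₁₆(1) x₁₅(1)` of `chevD4` are not conjugate in `GL₂₈(K)`: `rank (x₂₃(1) - 1) ≤ 10` (explicit factorisation
through `K^10`) while `x₁₉(1) x₁₆(1) x₁₅(1) - 1` has an invertible `12 × 12` "minor" (`T * (B - 1) * U = 1`); both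
certificates are checked over `ZMod 2` by kernel evaluation and transported along `ZMod 2 →+* K`.
-/

set_option autoImplicit false

namespace Cfsg.Agent.Helper22.D4NC

open Cfsg Cfsg.Lie

/-- position of an index in the list `h₁..h₄, e₀..e₂₃` -/
def pos : chevD4.Idx → ℕ
  | Sum.inl i => i.val
  | Sum.inr r => 4 + r.val

/-- the bit number `k` of `n`, in `ZMod 2` -/
def bitZ (n k : ℕ) : ZMod 2 := if Nat.testBit n k then 1 else 0

/-- a square matrix from its rows, as bit masks -/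
def mkSq (rows : List ℕ) : Matrix chevD4.Idx chevD4.Idx (ZMod 2) :=
  Matrix.of fun i j => bitZ (rows.getD (pos i) 0) (pos j)

/-- a matrix with `k` rows from its rows, as bit masks -/
def mkL (k : ℕ) (rows : List ℕ) : Matrix (Fin k) chevD4.Idx (ZMod 2) :=
  Matrix.of fun i j => bitZ (rows.getD i.val 0) (pos j)

/-- a matrix with `k` columns from its rows, as bit masks -/
def mkR (k : ℕ) (rows : List ℕ) : Matrix chevD4.Idx (Fin k) (ZMod 2) :=
  Matrix.of fun i j => bitZ (rows.getD (pos i) 0) j.val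

def r23 : List ℕ := [17, 2, 20, 24, 16, 32, 64, 128, 256, 512, 1024, 2048, 4096, 8192, 16384, 32768, 65536, 131072, 262176, 524352, 1048704, 2097408, 4194304, 8389632, 16779264, 33558528, 67117056, 134217746]
def r19 : List ℕ := [257, 258, 4, 8, 16, 32, 64, 128, 256, 512, 1040, 2048, 4096, 8192, 16448, 32896, 65536, 131072, 262656, 524288, 1048576, 2097152, 4202496, 8388879, 16842752, 33685504, 67108864, 136314880]
def r16 : List ℕ := [1, 2050, 2052, 8, 16, 32, 64, 144, 256, 576, 1024, 2048, 4096, 8192, 16384, 33792, 65536, 139264, 278528, 524288, 1050639, 2162688, 4194304, 8388608, 16777216, 37748736, 67108864, 150994944]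
def r15 : List ℕ := [1, 4098, 4, 4104, 16, 32, 80, 128, 256, 640, 1024, 2048, 4096, 8192, 17408, 32768, 73728, 131072, 294912, 528399, 1048576, 2228224, 4194304, 8388608, 20971520, 33554432, 67108864, 167772160]
def rM1 : List ℕ := [257, 2306, 2052, 8, 16, 32, 64, 144, 256, 576, 1040, 2048, 4096, 8192, 16448, 33936, 65536, 139264, 279104, 524288, 1050639, 2162688, 4202496, 8388879, 16842752, 37888000, 67108864, 153157632]
def rB : List ℕ := [257, 6402, 2052, 4104, 16, 32, 80, 144, 256, 720, 1040, 2048, 4096, 8192, 17488, 33936, 73728, 139264, 313040, 528399, 1050639, 2301952, 4202496, 8388879, 21045248, 37888000, 67108864, 191045632]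
def rP : List ℕ := [2, 0, 2, 2, 0, 0, 0, 0, 0, 0, 0, 0, 0, 0, 0, 0, 0, 0, 4, 8, 16, 32, 0, 64, 128, 256, 512, 3]
def rQ : List ℕ := [2, 16, 32, 64, 128, 256, 1024, 2048, 4096, 8192]
def rT : List ℕ := [524295, 64, 16448, 16896, 1, 262656, 4, 7, 65536, 16842752, 18874368, 136314880]
def rTB : List ℕ := [15, 16, 1088, 1152, 256, 50688, 2048, 4096, 8192, 4259840, 4325376, 56623104]
def rU : List ℕ := [1, 0, 0, 0, 2, 0, 4, 8, 16, 32, 0, 64, 128, 256, 0, 0, 512, 1024, 0, 0, 0, 2048, 0, 0, 0, 0, 0, 0]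

theorem h23 : chevD4.x (ZMod 2) 23 1 = mkSq r23 := by decide +kernel
theorem h19 : chevD4.x (ZMod 2) 19 1 = mkSq r19 := by decide +kernel
theorem h16 : chevD4.x (ZMod 2) 16 1 = mkSq r16 := by decide +kernel
theorem h15 : chevD4.x (ZMod 2) 15 1 = mkSq r15 := by decide +kernel
theorem hM1 : mkSq r19 * mkSq r16 = mkSq rM1 := by decide +kernel
theorem hBm : mkSq rM1 * mkSq r15 = mkSq rB := by decide +kernel
theorem hA : mkSq r23 - 1 = mkR 10 rP * mkL 10 rQ := by decide +kernel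
theorem hTB : mkL 12 rT * (mkSq rB - 1) = mkL 12 rTB := by decide +kernel
theorem hI : mkL 12 rTB * mkR 12 rU = 1 := by decide +kernel

section Transport

variable (K : Type*) [Field K] [CharP K 2]

/-- the canonical homomorphism `ZMod 2 →+* K` -/
noncomputable def cast2 : ZMod 2 →+* K := ZMod.castHom (dvd_refl 2) K

theorem x_eq_map (r : ℕ) : chevD4.x K r 1 = (chevD4.x (ZMod 2) r 1).map (cast2 K) := by
  rw [Cfsg.Agent.Helper18.x_map', map_one]

theorem map_sub_one {n : Type*} [Fintype n] [DecidableEq n] (M : Matrix n n (ZMod 2)) :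
    (M - 1).map (cast2 K) = M.map (cast2 K) - 1 := by
  rw [Matrix.map_sub (cast2 K) (map_sub (cast2 K)), Matrix.map_one (cast2 K) (map_zero _) (map_one _)]

theorem eqA : chevD4.x K 23 1 - 1 = (mkR 10 rP).map (cast2 K) * (mkL 10 rQ).map (cast2 K) := by
  rw [x_eq_map, h23, ← map_sub_one, hA, Matrix.map_mul]

theorem eqB : (mkL 12 rT).map (cast2 K) * (chevD4.x K 19 1 * chevD4.x K 16 1 * chevD4.x K 15 1 - 1) *
    (mkR 12 rU).map (cast2 K) = 1 := by
  rw [x_eq_map K 19, x_eq_map K 16, x_eq_map K 15, h19, h16, h15, ← Matrix.map_mul, hM1,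
    ← Matrix.map_mul, hBm, ← map_sub_one, ← Matrix.map_mul, hTB, ← Matrix.map_mul, hI,
    Matrix.map_one (cast2 K) (map_zero _) (map_one _)]

/-- PIECE NC, on matrices -/
theorem not_conj_mat : ¬ ∃ g : GL chevD4.Idx K,
    (g : Matrix chevD4.Idx chevD4.Idx K) * chevD4.x K 23 1 *
      ((g⁻¹ : GL chevD4.Idx K) : Matrix chevD4.Idx chevD4.Idx K) =
    chevD4.x K 19 1 * chevD4.x K 16 1 * chevD4.x K 15 1 := by
  rintro ⟨g, hg⟩
  have h1 : chevD4.x K 19 1 * chevD4.x K 16 1 * chevD4.x K 15 1 - 1 =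
      (g : Matrix chevD4.Idx chevD4.Idx K) * (chevD4.x K 23 1 - 1) *
        ((g⁻¹ : GL chevD4.Idx K) : Matrix chevD4.Idx chevD4.Idx K) := by
    rw [← hg, Matrix.mul_sub, Matrix.sub_mul, Matrix.mul_one, ← Units.val_mul, mul_inv_cancel,
      Units.val_one]
  have h2 := eqB K
  rw [h1, eqA K] at h2
  have h3 : ((mkL 12 rT).map (cast2 K) * (g : Matrix chevD4.Idx chevD4.Idx K) *
        (mkR 10 rP).map (cast2 K)) *
      ((mkL 10 rQ).map (cast2 K) * ((g⁻¹ : GL chevD4.Idx K) : Matrix chevD4.Idx chevD4.Idx K) *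
        (mkR 12 rU).map (cast2 K)) = 1 := by
    rw [← h2]
    simp only [Matrix.mul_assoc]
  have h4 := Matrix.rank_mul_le_left
    ((mkL 12 rT).map (cast2 K) * (g : Matrix chevD4.Idx chevD4.Idx K) * (mkR 10 rP).map (cast2 K))
    ((mkL 10 rQ).map (cast2 K) * ((g⁻¹ : GL chevD4.Idx K) : Matrix chevD4.Idx chevD4.Idx K) *
        (mkR 12 rU).map (cast2 K))
  rw [h3, Matrix.rank_one, Fintype.card_fin] at h4
  have h5 := Matrix.rank_le_width
    ((mkL 12 rT).map (cast2 K) * (g : Matrix chevD4.Idx chevD4.Idx K) * (mkR 10 rP).map (cast2 K))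
  omega

/-- PIECE NC, in `GL` -/
theorem not_conj_GL : ¬ ∃ g : GL chevD4.Idx K,
    g * Cfsg.Agent.Helper18.xGL chevD4 K 23 1 * g⁻¹ =
      Cfsg.Agent.Helper18.xGL chevD4 K 19 1 * Cfsg.Agent.Helper18.xGL chevD4 K 16 1 *
        Cfsg.Agent.Helper18.xGL chevD4 K 15 1 := by
  rintro ⟨g, hg⟩
  have htri := Cfsg.Agent.Helper18.triOK_of_mem chevD4 (by simp)
  apply not_conj_mat K
  refine ⟨g, ?_⟩
  have h := congrArg (fun u : GL chevD4.Idx K => (u : Matrix chevD4.Idx chevD4.Idx K)) hg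
  simp only [Units.val_mul, Cfsg.Agent.Helper18.xGL_val chevD4 _ htri] at h
  exact h

end Transport

end Cfsg.Agent.Helper22.D4NC
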