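import Mathlib
import Cfsg.Agent.Helper62.D8.Defs
import Cfsg.Agent.Helper62.D8.Defs2

/-!
Helper22, for helper62 (S3716, #9665/#9843), piece (K3b): the equations of type 3 have no solution, MODULO the
Diophantine core `dioph_I` (piece (KDI)), taken here as the hypothesis `hD` with the exact statement of
`tools/helper62_d8/Skel.lean.txt`.
-/

set_option autoImplicit false

namespace Cfsg.Agent.Helper22.D8

open Cfsg Cfsg.Agent.Helper62.D8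

/-- the statement of (KDI) `dioph_I` -/
def DiophI : Prop :=
  ∀ (X X' Y : ℤ) (n : ℕ), X % 9 = 5 → X' % 9 = 5 → Y % 9 = 1 →
    (5 ≤ X ∨ X ≤ -13) → (5 ≤ X' ∨ X' ≤ -13) → (10 ≤ Y ∨ Y ≤ -17) →
    (10 ≤ 1 + X - X' ∨ 1 + X - X' ≤ -17) → (2 ≤ -1 - X - Y ∨ -1 - X - Y ≤ -16) →
    10 ≤ n →
    ((1 : ℚ) - 2 / X - 2 / X' + 1 / (1 + X - X') + 2 / Y + 8 / (-1 - X - Y) = 9 / n) →
    (1 + 2 * X ^ 2 + 2 * X' ^ 2 + (1 + X - X') ^ 2 + 2 * Y ^ 2 + (-1 - X - Y) ^ 2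
      ≤ 72 * (n : ℤ)) → False

/-- (K3b) from (KDI) -/
theorem eq3_false_of_dioph (hD : DiophI) (X₁ X₂ X₃ X₄ Y₁ Y₂ Y₃ H : ℤ) (n : ℕ)
    (h : Eq3 X₁ X₂ X₃ X₄ Y₁ Y₂ Y₃ H n) : False := by
  obtain ⟨r1, r2, r3, r4, cX1, cX2, cX3, cX4, cY1, cY2, cY3, cH, rX1, rX2, rX3, rX4, rY1, rY2, rY3,
    rH, E1, E2, S, n10⟩ := h
  have hs : X₁ + X₂ = X₃ + X₄ := by linarith
  have h1 : (X₁ : ℚ) ≠ 0 := by
    have : X₁ ≠ 0 := by omega
    exact_mod_cast this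
  have h2 : (X₂ : ℚ) ≠ 0 := by
    have : X₂ ≠ 0 := by omega
    exact_mod_cast this
  have h3 : (X₃ : ℚ) ≠ 0 := by
    have : X₃ ≠ 0 := by omega
    exact_mod_cast this
  have h4 : (X₄ : ℚ) ≠ 0 := by
    have : X₄ ≠ 0 := by omega
    exact_mod_cast this
  have hE : 1 / (X₁ : ℚ) + 1 / X₂ = 1 / X₃ + 1 / X₄ := by
    linear_combination (1 / 6 : ℚ) * E1 - (1 / 6 : ℚ) * E2
  have hs0 : X₁ + X₂ ≠ 0 := by omega
  have hsQ : ((X₁ : ℚ) + X₂) = X₃ + X₄ := by exact_mod_cast hs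
  have hprodQ : (X₁ : ℚ) * X₂ = X₃ * X₄ := by
    have e1 : 1 / (X₁ : ℚ) + 1 / X₂ = (X₁ + X₂) / (X₁ * X₂) := by field_simp; ring
    have e2 : 1 / (X₃ : ℚ) + 1 / X₄ = (X₃ + X₄) / (X₃ * X₄) := by field_simp; ring
    rw [e1, e2, ← hsQ] at hE
    have hs0Q : ((X₁ : ℚ) + X₂) ≠ 0 := by exact_mod_cast hs0
    have h12 : (X₁ : ℚ) * X₂ ≠ 0 := mul_ne_zero h1 h2
    have h34 : (X₃ : ℚ) * X₄ ≠ 0 := mul_ne_zero h3 h4
    rw [div_eq_div_iff h12 h34] at hE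
    exact (mul_left_cancel₀ hs0Q hE).symm
  have hprod : X₁ * X₂ = X₃ * X₄ := by exact_mod_cast hprodQ
  have hfact : (X₁ - X₃) * (X₁ - X₄) = 0 := by
    have : (X₁ - X₃) * (X₁ - X₄) = X₁ * X₁ - X₁ * (X₃ + X₄) + X₃ * X₄ := by ring
    rw [this, ← hs, ← hprod]
    ring
  rcases mul_eq_zero.1 hfact with h13 | h14
  · -- case (I)
    have e3 : X₃ = X₁ := by linarith
    have e4 : X₄ = X₂ := by linarith
    have eY : Y₃ = Y₂ := by linarith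
    have eY1 : Y₁ = 1 + X₁ - X₂ := by linarith
    have eH : H = -1 - X₁ - Y₂ := by linarith
    rw [e3, e4, eY, eY1, eH] at E1 S
    rw [eY1] at rY1
    rw [eH] at rH
    refine hD X₁ X₂ Y₂ n cX1 cX2 cY2 rX1 rX2 rY2 rY1 rH n10 ?_ ?_
    · push_cast at E1
      linear_combination E1
    · linarith
  · -- case (II)
    have : Y₁ = 1 := by linarith
    omega

end Cfsg.Agent.Helper22.D8
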