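import Cfsg.Agent.Helper22.D8K3b
import Cfsg.Agent.Helper24.D8KDI

/-!
Helper22, for helper62 (S3716, #9665/#9843), piece (K3b) `eq3_false`, statement VERBATIM from
`tools/helper62_d8/Skel3.lean.txt`; uses helper24's (KDI) `dioph_I`.
-/

set_option autoImplicit false
open Cfsg Finset

namespace Cfsg.Agent.Helper22.D8

open Cfsg.Agent.Helper62.D8

/-- (K3b) algebra: the equations of type 3 have no solution. -/
theorem eq3_false (X₁ X₂ X₃ X₄ Y₁ Y₂ Y₃ H : ℤ) (n : ℕ) (h : Eq3 X₁ X₂ X₃ X₄ Y₁ Y₂ Y₃ H n) :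
    False :=
  eq3_false_of_dioph
    (fun X X' Y n hX hX' hY rX rX' rY rY1 rH hn hE hS =>
      Cfsg.Agent.Helper24.D8.dioph_I X X' Y n hX hX' hY rX rX' rY rY1 rH hn hE hS)
    X₁ X₂ X₃ X₄ Y₁ Y₂ Y₃ H n h

end Cfsg.Agent.Helper22.D8
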