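import Mathlib
import Cfsg.Prelude.Def_Balance
import Cfsg.Agent.Lib.Cores
import Cfsg.Agent.Helper21.Components
import Cfsg.Agent.Helper22.Coprime
import Cfsg.Agent.Helper22.PComponent
import Cfsg.Agent.Helper22.PComponent3
import Cfsg.Agent.Helper22.PTerminal2
import Cfsg.Agent.Helper22.Radical
import Cfsg.Agent.Helper23.PComponent

/-!
# Images of `p`-components under homomorphisms with `p'`-kernel and subnormal range

* `comap_pPrimeCore_eq_of_coprime_ker`: for `φ : A →* B` with `p'`-kernel and subnormal range,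
  `φ⁻¹(O_{p'}(B)) = O_{p'}(A)`.
* `IsPComponent.map_of_coprime_ker`: the image of a `p`-component under such a `φ` is a
  `p`-component.
* `exists_mem_centralizer_mk_eq`: lifting centralizers of `p`-elements over a normal `p'`-subgroup.
* `IsComponent.commutator_eq_bot_of_coprime_card`: a component of order divisible by `p`
  centralizes every `p'`-subgroup that it normalizes.
-/

set_option autoImplicit false
open Cfsg
open scoped commutatorElement

namespace Cfsg.Agent.Helper22

section pcm
variable {A B : Type*} [Group A] [Group B] [Finite A] [Finite B] {p : ℕ} [Fact p.Prime]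

/-- An element `b` with `b ^ p = 1` in a subgroup of order prime to `p` is trivial. -/
theorem eq_one_of_pow_eq_one_of_coprime_card {N : Subgroup B} (hN : (Nat.card ↥N).Coprime p)
    {b : B} (hb : b ∈ N) (hbp : b ^ p = 1) : b = 1 := by
  have h1 : orderOf b ∣ p := orderOf_dvd_of_pow_eq_one hbp
  have h2 : orderOf b ∣ Nat.card ↥N := by
    have := orderOf_dvd_natCard (⟨b, hb⟩ : ↥N)
    rwa [Subgroup.orderOf_mk] at this
  have h3 : orderOf b ∣ 1 := by
    have := Nat.dvd_gcd h2 h1
    rwa [Nat.Coprime.gcd_eq_one hN] at this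
  exact orderOf_eq_one_iff.mp (Nat.dvd_one.mp h3)

/-- For `φ : A →* B` with `p'`-kernel and subnormal range, `φ⁻¹(O_{p'}(B)) = O_{p'}(A)`. -/
theorem comap_pPrimeCore_eq_of_coprime_ker (φ : A →* B) (hker : (Nat.card ↥φ.ker).Coprime p)
    (hrange : φ.range.IsSubnormal) : (pPrimeCore p B).comap φ = pPrimeCore p A := by
  apply le_antisymm
  · apply Cfsg.Agent.Lib.le_pPrimeCore (inferInstance : ((pPrimeCore p B).comap φ).Normal)
    apply coprime_card_of_not_dvd
    intro hdvd
    obtain ⟨a, ha, hoa⟩ := exists_orderOf_eq_of_dvd_card p hdvd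
    have hφa : φ a = 1 :=
      eq_one_of_pow_eq_one_of_coprime_card (Cfsg.Agent.Lib.card_pPrimeCore_coprime p)
        (Subgroup.mem_comap.mp ha) (by rw [← map_pow, ← hoa, pow_orderOf_eq_one, map_one])
    have hak : a ∈ φ.ker := MonoidHom.mem_ker.mpr hφa
    have h1 : a = 1 :=
      eq_one_of_pow_eq_one_of_coprime_card hker hak (by rw [← hoa, pow_orderOf_eq_one])
    rw [h1, orderOf_one] at hoa
    exact (Fact.out : p.Prime).one_lt.ne hoa
  · rw [← Subgroup.map_le_iff_le_comap]
    apply le_pPrimeCore_of_isSubnormal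
    · have h1 : ((pPrimeCore p A).map φ.rangeRestrict).IsSubnormal :=
        (Subgroup.Normal.isSubnormal inferInstance).map φ.rangeRestrict_surjective
      have h2 : (pPrimeCore p A).map φ =
          ((pPrimeCore p A).map φ.rangeRestrict).map φ.range.subtype := by
        rw [Subgroup.map_map, MonoidHom.subtype_comp_rangeRestrict]
      rw [h2]
      exact h1.trans' hrange
    · exact Nat.Coprime.coprime_dvd_left (Subgroup.card_map_dvd _ φ)
        (Cfsg.Agent.Lib.card_pPrimeCore_coprime p)

/-- The image of a `p`-component under a homomorphism with `p'`-kernel and subnormal range is a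
`p`-component. -/
theorem IsPComponent.map_of_coprime_ker {K : Subgroup A} (hK : IsPComponent p K) (φ : A →* B)
    (hker : (Nat.card ↥φ.ker).Coprime p) (hrange : φ.range.IsSubnormal) :
    IsPComponent p (K.map φ) := by
  have hO := comap_pPrimeCore_eq_of_coprime_ker (p := p) φ hker hrange
  have hle : pPrimeCore p A ≤ (pPrimeCore p B).comap φ := hO.ge
  have hψinj : Function.Injective (QuotientGroup.map (pPrimeCore p A) (pPrimeCore p B) φ hle) := by
    rw [injective_iff_map_eq_one]
    intro q hq
    obtain ⟨a, rfl⟩ := QuotientGroup.mk_surjective q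
    rw [QuotientGroup.map_mk, QuotientGroup.eq_one_iff] at hq
    rw [QuotientGroup.eq_one_iff, ← hO]
    exact hq
  have hsq : (K.map φ).map (QuotientGroup.mk' (pPrimeCore p B)) =
      (K.map (QuotientGroup.mk' (pPrimeCore p A))).map
        (QuotientGroup.map (pPrimeCore p A) (pPrimeCore p B) φ hle) := by
    rw [Subgroup.map_map, Subgroup.map_map]
    congr 1
  have hsn : (K.map φ).IsSubnormal := by
    have h1 : (K.map φ.rangeRestrict).IsSubnormal := hK.1.map φ.rangeRestrict_surjective
    have h2 : K.map φ = (K.map φ.rangeRestrict).map φ.range.subtype := by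
      rw [Subgroup.map_map, MonoidHom.subtype_comp_rangeRestrict]
    rw [h2]
    exact h1.trans' hrange
  refine ⟨hsn, ⟨hsn.map (QuotientGroup.mk'_surjective _), ?_⟩, ?_⟩
  · rw [hsq]
    exact Cfsg.Agent.Helper23.isQuasisimple_of_mulEquiv'
      (Subgroup.equivMapOfInjective _ _ hψinj) hK.2.1.2
  · intro H hH hHK himg
    have hH'sn : (H.comap φ ⊓ K).IsSubnormal := (hH.comap φ).inf hK.1
    have hmapH' : (H.comap φ ⊓ K).map φ = H := by
      apply le_antisymm
      · rintro _ ⟨a, ha, rfl⟩
        exact ha.1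
      · intro h hh
        obtain ⟨k, hk, rfl⟩ := hHK hh
        exact ⟨k, ⟨hh, hk⟩, rfl⟩
    have himg' : (H.comap φ ⊓ K).map (QuotientGroup.mk' (pPrimeCore p A)) =
        K.map (QuotientGroup.mk' (pPrimeCore p A)) := by
      apply le_antisymm (Subgroup.map_mono inf_le_right)
      rintro _ ⟨k, hk, rfl⟩
      have h1 : QuotientGroup.mk' (pPrimeCore p B) (φ k) ∈
          H.map (QuotientGroup.mk' (pPrimeCore p B)) := by
        rw [himg]
        exact Subgroup.mem_map_of_mem _ (Subgroup.mem_map_of_mem _ hk)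
      obtain ⟨h, hh, hhk⟩ := h1
      obtain ⟨k', hk', rfl⟩ := hHK hh
      refine ⟨k', ⟨hh, hk'⟩, ?_⟩
      rw [QuotientGroup.mk'_apply, QuotientGroup.mk'_apply, QuotientGroup.eq] at hhk ⊢
      rw [← hO, Subgroup.mem_comap, map_mul, map_inv]
      exact hhk
    have h2 := hK.2.2 _ hH'sn inf_le_right himg'
    rw [← hmapH', h2]

end pcm

/-- Lifting centralizers over a normal `p'`-subgroup (coprime action): an element of `C / N`
centralizing the image of `a` (where `a ^ p = 1`) is the image of an element centralizing `a`. -/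
theorem exists_mem_centralizer_mk_eq {C : Type*} [Group C] [Finite C] (p : ℕ) [Fact p.Prime]
    (N : Subgroup C) [N.Normal] (hN : (Nat.card ↥N).Coprime p) (a : C) (ha : a ^ p = 1)
    (r : C ⧸ N)
    (hr : r ∈ Subgroup.centralizer ({(QuotientGroup.mk' N a)} : Set (C ⧸ N))) :
    ∃ c ∈ Subgroup.centralizer ({a} : Set C), QuotientGroup.mk' N c = r := by
  obtain ⟨g, rfl⟩ := QuotientGroup.mk'_surjective N r
  rw [Subgroup.mem_centralizer_singleton_iff] at hr
  have hinv : ∀ z ∈ Subgroup.zpowers a, ∀ n ∈ N, g⁻¹ * (z * (g * n) * z⁻¹) ∈ N := by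
    intro z hz n hn
    obtain ⟨j, rfl⟩ := Subgroup.mem_zpowers_iff.mp hz
    rw [← QuotientGroup.eq_one_iff, ← QuotientGroup.mk'_apply]
    have hn1 : QuotientGroup.mk' N n = 1 := by
      rw [QuotientGroup.mk'_apply, QuotientGroup.eq_one_iff]; exact hn
    have hcomm : Commute (QuotientGroup.mk' N g) (QuotientGroup.mk' N a) := hr
    have hcomm' : Commute (QuotientGroup.mk' N g) ((QuotientGroup.mk' N a) ^ j) :=
      hcomm.zpow_right j
    rw [map_mul, map_inv, map_mul, map_mul, map_mul, map_inv, map_zpow, hn1, mul_one,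
      ← hcomm'.eq]
    group
  obtain ⟨n, hn, hfix⟩ := exists_fixed_in_coset_elt p a ha N
    (not_dvd_of_coprime_card hN) g hinv
  refine ⟨g * n, ?_, ?_⟩
  · rw [Subgroup.mem_centralizer_singleton_iff]
    calc g * n * a = (a * (g * n) * a⁻¹) * a := by rw [hfix]
      _ = a * (g * n) := by group
  · rw [map_mul]
    have hn1 : QuotientGroup.mk' N n = 1 := by
      rw [QuotientGroup.mk'_apply, QuotientGroup.eq_one_iff]; exact hn
    rw [hn1, mul_one]

/-- A component of order divisible by `p` centralizes every subgroup of order prime to `p` that it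
normalizes. -/
theorem IsComponent.commutator_eq_bot_of_coprime_card {C : Type*} [Group C] [Finite C] {p : ℕ}
    [Fact p.Prime] {K : Subgroup C} (hK : IsComponent K) (hp : p ∣ Nat.card ↥K) (E : Subgroup C)
    (hE : (Nat.card ↥E).Coprime p) (hKE : K ≤ Subgroup.normalizer (E : Set C)) : ⁅K, E⁆ = ⊥ := by
  rcases Cfsg.Agent.Helper21.IsComponent.le_or_commutator_eq_bot hK E hKE with h | h
  · exfalso
    exact (not_dvd_of_coprime_card hE) (hp.trans (Subgroup.card_dvd_of_le h))
  · exact h

end Cfsg.Agent.Helper22
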