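import Mathlib
import Cfsg.Prelude.Def_Balance
import Cfsg.Agent.Lib.Cores
import Cfsg.Agent.Helper22.PComponentMap
import Cfsg.Agent.Helper22.Bender
import Cfsg.Agent.Helper23.PComponent

/-!
# 2-components of the double layer `L_{2'}(C_G(x)) ∩ C_G(y)` modulo the core of `C_G(y)` (S1775)
-/

set_option autoImplicit false
open Cfsg
open scoped commutatorElement

namespace Cfsg.Agent.Helper22

section W
variable {T A : Type*} [Group T] [Finite T] [Group A] [Finite A]

/-- The homomorphism `A → C_{T/O(T)}(x̄)` induced by `ι : A → T` with image centralizing `x`. -/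
def toCentQuot (x : T) (ι : A →* T) (hιc : ι.range ≤ Subgroup.centralizer ({x} : Set T)) :
    A →* ↥(Subgroup.centralizer
      ({(QuotientGroup.mk' (oddCore T) x)} : Set (T ⧸ oddCore T))) :=
  ((QuotientGroup.mk' (oddCore T)).comp ι).codRestrict _ (fun a => by
    rw [Subgroup.mem_centralizer_singleton_iff]
    have h := hιc ⟨a, rfl⟩
    rw [Subgroup.mem_centralizer_singleton_iff] at h
    show QuotientGroup.mk' (oddCore T) (ι a) * QuotientGroup.mk' (oddCore T) x =
      QuotientGroup.mk' (oddCore T) x * QuotientGroup.mk' (oddCore T) (ι a)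
    rw [← map_mul, ← map_mul, h])

theorem card_ker_toCentQuot_coprime (x : T) (ι : A →* T)
    (hιc : ι.range ≤ Subgroup.centralizer ({x} : Set T)) (hinj : Function.Injective ι) :
    (Nat.card ↥(toCentQuot x ι hιc).ker).Coprime 2 := by
  have hmem : ∀ a : ↥(toCentQuot x ι hιc).ker,
      (ι.comp (Subgroup.subtype _)) a ∈ oddCore T := by
    intro a
    have h := a.2
    rw [MonoidHom.mem_ker] at h
    have h2 : QuotientGroup.mk' (oddCore T) (ι a.1) = 1 := congrArg Subtype.val h
    rwa [QuotientGroup.mk'_apply, QuotientGroup.eq_one_iff] at h2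
  have hf : Function.Injective
      ((ι.comp (Subgroup.subtype _)).codRestrict (oddCore T) hmem) := by
    intro a b hab
    have : ι a.1 = ι b.1 := congrArg Subtype.val hab
    exact Subtype.ext (hinj this)
  have h1 := Subgroup.card_dvd_of_injective _ hf
  exact Nat.Coprime.coprime_dvd_left h1 (Cfsg.Agent.Lib.card_pPrimeCore_coprime 2)

theorem range_toCentQuot_normal (x : T) (hx2 : x ^ 2 = 1) (ι : A →* T)
    (hιc : ι.range ≤ Subgroup.centralizer ({x} : Set T))
    (hιn : Subgroup.centralizer ({x} : Set T) ≤ Subgroup.normalizer (ι.range : Set T)) :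
    (toCentQuot x ι hιc).range.Normal := by
  constructor
  rintro _ ⟨a, rfl⟩ r
  obtain ⟨c, hc, hcr⟩ := exists_mem_centralizer_mk_eq 2 (oddCore T)
    (Cfsg.Agent.Lib.card_pPrimeCore_coprime 2) x hx2 r.1 r.2
  have h1 := (Subgroup.mem_normalizer_iff.mp (hιn hc) (ι a)).mp ⟨a, rfl⟩
  obtain ⟨a', ha'⟩ := h1
  refine ⟨a', ?_⟩
  apply Subtype.ext
  show QuotientGroup.mk' (oddCore T) (ι a') =
    r.1 * QuotientGroup.mk' (oddCore T) (ι a) * (r.1)⁻¹
  rw [ha', ← hcr, map_mul, map_mul, map_inv]

theorem map_toCentQuot_eq (x : T) (ι : A →* T)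
    (hιc : ι.range ≤ Subgroup.centralizer ({x} : Set T)) (J : Subgroup A) :
    J.map (toCentQuot x ι hιc) =
      ((J.map ι).map (QuotientGroup.mk' (oddCore T))).subgroupOf _ := by
  ext r
  rw [Subgroup.mem_subgroupOf]
  constructor
  · rintro ⟨a, ha, rfl⟩
    exact ⟨ι a, ⟨a, ha, rfl⟩, rfl⟩
  · rintro ⟨t, ⟨a, ha, rfl⟩, hr⟩
    exact ⟨a, ha, Subtype.ext hr⟩

theorem isComponent_map_toCentQuot (x : T) (hx : orderOf x = 2) (ι : A →* T)
    (hinj : Function.Injective ι)
    (hιc : ι.range ≤ Subgroup.centralizer ({x} : Set T))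
    (hιn : Subgroup.centralizer ({x} : Set T) ≤ Subgroup.normalizer (ι.range : Set T))
    (hB : HasBProperty (T ⧸ oddCore T)) (J : Subgroup A) (hJ : IsPComponent 2 J) :
    IsPComponent 2 (J.map (toCentQuot x ι hιc)) ∧ IsComponent (J.map (toCentQuot x ι hιc)) := by
  have hx2 : x ^ 2 = 1 := by rw [← hx, pow_orderOf_eq_one]
  have hP : IsPComponent 2 (J.map (toCentQuot x ι hιc)) :=
    IsPComponent.map_of_coprime_ker hJ _ (card_ker_toCentQuot_coprime x ι hιc hinj)
      (range_toCentQuot_normal x hx2 ι hιc hιn).isSubnormal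
  refine ⟨hP, ?_⟩
  apply IsPComponent.isComponent_of_commutator_eq_bot hP
  have hxb : orderOf (QuotientGroup.mk' (oddCore T) x) = 2 := by
    apply orderOf_eq_prime
    · rw [← map_pow, hx2, map_one]
    · intro h
      rw [QuotientGroup.mk'_apply, QuotientGroup.eq_one_iff] at h
      have := eq_one_of_pow_eq_one_of_coprime_card (p := 2)
        (Cfsg.Agent.Lib.card_pPrimeCore_coprime 2) h hx2
      rw [this, orderOf_one] at hx
      exact absurd hx (by norm_num)
  have h1 := hB _ hxb
  have h0 : oddCore (T ⧸ oddCore T) = ⊥ := pPrimeCore_quotient_eq_bot 2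
  rw [h0, le_bot_iff, Subgroup.map_eq_bot_iff_of_injective _ (Subgroup.subtype_injective _)] at h1
  rw [eq_bot_iff, ← h1]
  exact Subgroup.commutator_mono (IsPComponent.le_pLayer hP) le_rfl

theorem commutator_map_le_oddCore (x : T) (hx : orderOf x = 2) (ι : A →* T)
    (hinj : Function.Injective ι)
    (hιc : ι.range ≤ Subgroup.centralizer ({x} : Set T))
    (hιn : Subgroup.centralizer ({x} : Set T) ≤ Subgroup.normalizer (ι.range : Set T))
    (hB : HasBProperty (T ⧸ oddCore T)) (J : Subgroup A) (hJ : IsPComponent 2 J)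
    (E : Subgroup T) (hEc : E ≤ Subgroup.centralizer ({x} : Set T))
    (hEodd : (Nat.card ↥E).Coprime 2)
    (hJE : J.map ι ≤ Subgroup.normalizer (E : Set T)) : ⁅J.map ι, E⁆ ≤ oddCore T := by
  obtain ⟨hP, hC⟩ := isComponent_map_toCentQuot x hx ι hinj hιc hιn hB J hJ
  have hEbcard : (Nat.card ↥((E.map (QuotientGroup.mk' (oddCore T))).subgroupOf
      (Subgroup.centralizer ({(QuotientGroup.mk' (oddCore T) x)} : Set (T ⧸ oddCore T))))).Coprime 2 := by
    have h1 : Nat.card ↥((E.map (QuotientGroup.mk' (oddCore T))).subgroupOf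
        (Subgroup.centralizer ({(QuotientGroup.mk' (oddCore T) x)} : Set (T ⧸ oddCore T)))) ∣
        Nat.card ↥(E.map (QuotientGroup.mk' (oddCore T))) := by
      refine Subgroup.card_dvd_of_injective
        (((Subgroup.subtype _).comp (Subgroup.subtype _)).codRestrict _
          (fun e => Subgroup.mem_subgroupOf.mp e.2)) ?_
      intro a b hab
      have hab' := congrArg Subtype.val hab
      change a.1.1 = b.1.1 at hab'
      exact Subtype.ext (Subtype.ext hab')
    exact Nat.Coprime.coprime_dvd_left (h1.trans (Subgroup.card_map_dvd _ _)) hEodd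
  have hnorm : J.map (toCentQuot x ι hιc) ≤ Subgroup.normalizer
      (((E.map (QuotientGroup.mk' (oddCore T))).subgroupOf
      (Subgroup.centralizer ({(QuotientGroup.mk' (oddCore T) x)} : Set (T ⧸ oddCore T))) :
        Subgroup _) : Set _) := by
    rintro _ ⟨a, ha, rfl⟩
    apply Subgroup.mem_normalizer_fintype
    intro e he
    have he' : e.1 ∈ E.map (QuotientGroup.mk' (oddCore T)) := Subgroup.mem_subgroupOf.mp he
    obtain ⟨e0, he0, he0e⟩ := he'
    show _ ∈ (E.map (QuotientGroup.mk' (oddCore T))).subgroupOf _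
    rw [Subgroup.mem_subgroupOf]
    refine ⟨ι a * e0 * (ι a)⁻¹, ?_, ?_⟩
    · exact (Subgroup.mem_normalizer_iff.mp (hJE ⟨a, ha, rfl⟩) e0).mp he0
    · rw [map_mul, map_mul, map_inv, he0e]; rfl
  have hcomm := IsComponent.commutator_eq_bot_of_coprime_card hC (IsPComponent.dvd_card hP) _
    hEbcard hnorm
  rw [Subgroup.commutator_le]
  rintro _ ⟨a, ha, rfl⟩ e he
  have heC : QuotientGroup.mk' (oddCore T) e ∈
      Subgroup.centralizer ({(QuotientGroup.mk' (oddCore T) x)} : Set (T ⧸ oddCore T)) := by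
    rw [Subgroup.mem_centralizer_singleton_iff]
    have := hEc he
    rw [Subgroup.mem_centralizer_singleton_iff] at this
    rw [← map_mul, ← map_mul, this]
  have h1 : ⁅toCentQuot x ι hιc a, (⟨QuotientGroup.mk' (oddCore T) e, heC⟩ :
      ↥(Subgroup.centralizer ({(QuotientGroup.mk' (oddCore T) x)} : Set (T ⧸ oddCore T))))⁆ ∈
      ⁅J.map (toCentQuot x ι hιc), (E.map (QuotientGroup.mk' (oddCore T))).subgroupOf _⁆ :=
    Subgroup.commutator_mem_commutator ⟨a, ha, rfl⟩
      (by rw [Subgroup.mem_subgroupOf]; exact ⟨e, he, rfl⟩)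
  rw [hcomm, Subgroup.mem_bot] at h1
  have h2 : QuotientGroup.mk' (oddCore T) ⁅ι a, e⁆ = 1 := by
    have := congrArg Subtype.val h1
    rw [map_commutatorElement]
    exact this
  rwa [QuotientGroup.mk'_apply, QuotientGroup.eq_one_iff] at h2

end W

section X
variable {G : Type*} [Group G] [Finite G]

theorem map_inclusion_eq_subgroupOf {D C : Subgroup G} (hDC : D ≤ C) (J : Subgroup ↥D) :
    J.map (Subgroup.inclusion hDC) = (J.map D.subtype).subgroupOf C := by
  ext c
  rw [Subgroup.mem_subgroupOf]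
  constructor
  · rintro ⟨a, ha, rfl⟩
    exact ⟨a, ha, rfl⟩
  · rintro ⟨a, ha, hac⟩
    exact ⟨a, ha, Subtype.ext hac⟩

/-- The abstract form of S1775. -/
theorem double_layer_abstract (C D : Subgroup G) (x : G) (hxC : x ∈ C) (hx : orderOf x = 2)
    (hDC : D ≤ C) (hDx : D ≤ Subgroup.centralizer ({x} : Set G))
    (hDn : Subgroup.centralizer ({x} : Set G) ⊓ C ≤ Subgroup.normalizer (D : Set G))
    (hB : HasBProperty (↥C ⧸ oddCore ↥C)) (J : Subgroup ↥D) (hJ : IsPComponent 2 J) :
    IsComponent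
        ((((J.map D.subtype).subgroupOf C).map (QuotientGroup.mk' (oddCore ↥C))).subgroupOf
          (Subgroup.centralizer ({(QuotientGroup.mk' (oddCore ↥C) ⟨x, hxC⟩ : ↥C ⧸ oddCore ↥C)} : Set _))) ∧
      ∀ E : Subgroup G, E ≤ Subgroup.centralizer ({x} : Set G) ⊓ C → Odd (Nat.card ↥E) →
        (∀ j ∈ J.map D.subtype, ∀ e ∈ E, j * e * j⁻¹ ∈ E) →
          ⁅J.map D.subtype, E⁆ ≤ (oddCore ↥C).map C.subtype := by
  have hx' : orderOf (⟨x, hxC⟩ : ↥C) = 2 := by rw [Subgroup.orderOf_mk]; exact hx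
  have hinj : Function.Injective (Subgroup.inclusion hDC) := Subgroup.inclusion_injective hDC
  have hιc : (Subgroup.inclusion hDC).range ≤
      Subgroup.centralizer ({(⟨x, hxC⟩ : ↥C)} : Set ↥C) := by
    rintro _ ⟨d, rfl⟩
    rw [Subgroup.mem_centralizer_singleton_iff]
    apply Subtype.ext
    exact Subgroup.mem_centralizer_singleton_iff.mp (hDx d.2)
  have hιn : Subgroup.centralizer ({(⟨x, hxC⟩ : ↥C)} : Set ↥C) ≤
      Subgroup.normalizer ((Subgroup.inclusion hDC).range : Set ↥C) := by
    intro c hc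
    apply Subgroup.mem_normalizer_fintype
    rintro _ ⟨d, rfl⟩
    have hc' : c.1 ∈ Subgroup.centralizer ({x} : Set G) ⊓ C := by
      refine Subgroup.mem_inf.mpr ⟨?_, c.2⟩
      rw [Subgroup.mem_centralizer_singleton_iff] at hc ⊢
      exact congrArg Subtype.val hc
    have h1 := (Subgroup.mem_normalizer_iff.mp (hDn hc') d.1).mp d.2
    exact ⟨⟨_, h1⟩, Subtype.ext rfl⟩
  constructor
  · have h1 := (isComponent_map_toCentQuot _ hx' _ hinj hιc hιn hB J hJ).2
    rw [map_toCentQuot_eq, map_inclusion_eq_subgroupOf] at h1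
    exact h1
  · intro E hE hodd hnorm
    have h1 := commutator_map_le_oddCore _ hx' _ hinj hιc hιn hB J hJ (E.subgroupOf C)
      (by
        intro e he
        rw [Subgroup.mem_centralizer_singleton_iff]
        apply Subtype.ext
        exact Subgroup.mem_centralizer_singleton_iff.mp (hE (Subgroup.mem_subgroupOf.mp he)).1)
      (by
        have : Nat.card ↥(E.subgroupOf C) = Nat.card ↥E :=
          Nat.card_congr (Subgroup.subgroupOfEquivOfLe (hE.trans inf_le_right)).toEquiv
        rw [this]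
        exact (Nat.coprime_two_left.mpr hodd).symm)
      (by
        rw [map_inclusion_eq_subgroupOf]
        intro c hc
        apply Subgroup.mem_normalizer_fintype
        intro e he
        exact hnorm c.1 (Subgroup.mem_subgroupOf.mp hc) e.1 (Subgroup.mem_subgroupOf.mp he))
    rw [map_inclusion_eq_subgroupOf] at h1
    rw [Subgroup.commutator_le]
    intro j hj e he
    have hjC : j ∈ C := by
      obtain ⟨a, _, rfl⟩ := hj
      exact hDC a.2
    have heC : e ∈ C := (hE he).2
    have h2 : ⁅(⟨j, hjC⟩ : ↥C), (⟨e, heC⟩ : ↥C)⁆ ∈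
        ⁅(J.map D.subtype).subgroupOf C, E.subgroupOf C⁆ :=
      Subgroup.commutator_mem_commutator (Subgroup.mem_subgroupOf.mpr hj)
        (Subgroup.mem_subgroupOf.mpr he)
    exact ⟨_, h1 h2, rfl⟩

/-- If `F*(G)` is simple and non-abelian, no nontrivial element is central. -/
theorem centralizer_ne_top_of_simple_fstar
    (hF : IsSimpleGroup ↥(generalizedFittingSubgroup G))
    (hF' : ¬ IsMulCommutative ↥(generalizedFittingSubgroup G)) (y : G) (hy : y ≠ 1) :
    Subgroup.centralizer ({y} : Set G) ≠ ⊤ := by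
  intro htop
  have hyc : ∀ g : G, g * y = y * g := by
    intro g
    have : g ∈ Subgroup.centralizer ({y} : Set G) := by rw [htop]; trivial
    exact Subgroup.mem_centralizer_singleton_iff.mp this
  have hyF : y ∈ generalizedFittingSubgroup G := by
    apply centralizer_generalizedFittingSubgroup_le
    rw [Subgroup.mem_centralizer_iff]
    intro g _
    exact hyc g
  have hcen : (⟨y, hyF⟩ : ↥(generalizedFittingSubgroup G)) ∈
      Subgroup.center ↥(generalizedFittingSubgroup G) := by
    rw [Subgroup.mem_center_iff]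
    intro g
    exact Subtype.ext (hyc g.1)
  rcases hF.eq_bot_or_eq_top_of_normal (Subgroup.center _) inferInstance with h | h
  · rw [h, Subgroup.mem_bot] at hcen
    exact hy (congrArg Subtype.val hcen)
  · apply hF'
    refine ⟨⟨fun a b => ?_⟩⟩
    have hb : b ∈ Subgroup.center ↥(generalizedFittingSubgroup G) := by rw [h]; trivial
    exact (Subgroup.mem_center_iff.mp hb a)

theorem double_layer_main
    (hF : IsSimpleGroup ↥(Cfsg.generalizedFittingSubgroup G)) (hF' : ¬ IsMulCommutative ↥(Cfsg.generalizedFittingSubgroup G))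
    (hsec : ∀ (H : Subgroup G) (N : Subgroup ↥H) [N.Normal], (H ≠ ⊤ ∨ N ≠ ⊥) → Cfsg.HasBProperty (↥H ⧸ N))
    (x y : G) (hx : orderOf x = 2) (hy : orderOf y = 2) (hxy : x * y = y * x)
    (J : Subgroup ↥((Cfsg.pLayer 2 ↥(Subgroup.centralizer ({x} : Set G))).map (Subgroup.centralizer ({x} : Set G)).subtype ⊓ Subgroup.centralizer ({y} : Set G)))
    (hJ : Cfsg.IsPComponent 2 J) :
    Cfsg.IsComponent
        ((((J.map (Subgroup.subtype _)).subgroupOf (Subgroup.centralizer ({y} : Set G))).map (QuotientGroup.mk' (Cfsg.oddCore ↥(Subgroup.centralizer ({y} : Set G))))).subgroupOf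
          (Subgroup.centralizer ({(QuotientGroup.mk' (Cfsg.oddCore ↥(Subgroup.centralizer ({y} : Set G))) ⟨x, Subgroup.mem_centralizer_singleton_iff.mpr hxy⟩ : ↥(Subgroup.centralizer ({y} : Set G)) ⧸ Cfsg.oddCore ↥(Subgroup.centralizer ({y} : Set G)))} : Set _))) ∧
      ∀ E : Subgroup G, E ≤ Subgroup.centralizer ({x} : Set G) ⊓ Subgroup.centralizer ({y} : Set G) → Odd (Nat.card ↥E) →
        (∀ j ∈ J.map (Subgroup.subtype _), ∀ e ∈ E, j * e * j⁻¹ ∈ E) →
          ⁅J.map (Subgroup.subtype _), E⁆ ≤ (Cfsg.oddCore ↥(Subgroup.centralizer ({y} : Set G))).map (Subgroup.centralizer ({y} : Set G)).subtype := by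
  have hyne : y ≠ 1 := by
    rintro rfl
    rw [orderOf_one] at hy
    norm_num at hy
  have hCy := centralizer_ne_top_of_simple_fstar hF hF' y hyne
  have hB := hsec (Subgroup.centralizer ({y} : Set G))
    (oddCore ↥(Subgroup.centralizer ({y} : Set G))) (Or.inl hCy)
  refine double_layer_abstract (Subgroup.centralizer ({y} : Set G)) _ x
    (Subgroup.mem_centralizer_singleton_iff.mpr hxy) hx inf_le_right ?_ ?_ hB J hJ
  · exact inf_le_left.trans (Subgroup.map_subtype_le _)
  · intro c hc
    apply Subgroup.mem_normalizer_fintype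
    rintro d ⟨⟨l, hl, rfl⟩, hdy⟩
    refine ⟨?_, ?_⟩
    · have hchar := Cfsg.Agent.Helper23.pLayer_characteristic 2
        ↥(Subgroup.centralizer ({x} : Set G))
      have this : (pLayer 2 ↥(Subgroup.centralizer ({x} : Set G))).Normal := inferInstance
      have h1 := Subgroup.Normal.conj_mem this l hl ⟨c, hc.1⟩
      exact ⟨_, h1, rfl⟩
    · exact Subgroup.mul_mem _ (Subgroup.mul_mem _ hc.2 hdy) (Subgroup.inv_mem _ hc.2)

end X

end Cfsg.Agent.Helper22
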