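import Cfsg.Agent.Helper40.E6Tor.Defs2
import Cfsg.Agent.Helper86.E6Tor_DESCGEN
import Cfsg.Agent.Helper48.TorD_TFROB

/-!
# helper40 S2373 (E₆ Coxeter torus), piece (DESC2): descent for `E₆` over the field with two elements
(helper22).  A Frobenius-fixed torus element is `τ(c)` with `τ(c)² = τ(c)`, hence trivial; then helper86's (DESCGEN).
-/

set_option autoImplicit false
set_option linter.unusedVariables false
set_option linter.unusedSectionVars false

namespace Cfsg.Agent.Helper22.E6Tor

open Cfsg Cfsg.Lie Cfsg.Agent.Helper18 Cfsg.Agent.Helper19.Cox Cfsg.Agent.Helper19.Poinc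
  Cfsg.Agent.Helper80.Tor Cfsg.Agent.Helper36.TorD Cfsg.Agent.Helper83.E6C Cfsg.Agent.Helper40.E6Tor
open Polynomial

section Desc

variable {F : Type*} {K : Type*} [Field F] [Fintype F] [Field K] [Fintype K] [Algebra F K]

theorem DESC2_E6_mem : chevE6 ∈ [chevG2, chevB2, chevD4, chevF4, chevE6, chevE7, chevE8] := by
  simp

/-- (DESC2) descent for `E₆` over the field with two elements: a Frobenius-fixed element of the torus
is `τ(c)` with `τ(c²) = τ(c)`, hence trivial -/
theorem desc_E6_two (hF : Fintype.card F = 2) (g : GL chevE6.Idx K) (hg : g ∈ chevE6.group K)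
    (hfg : sigmaGL chevE6.Idx F K g = g) : ∃ g₀ ∈ chevE6.group F, iotaGL chevE6.Idx F K g₀ = g := by
  refine Cfsg.Agent.Helper86.E6Tor.desc_of_diag chevE6 DESC2_E6_mem ?_ g hg hfg
  intro h hh hfix
  rw [← torusHom_range chevE6 DESC2_E6_mem] at hh
  obtain ⟨c, rfl⟩ := hh
  rw [Cfsg.Agent.Helper48.TorD.sigma_torusHom chevE6 DESC2_E6_mem, hF, map_pow] at hfix
  have h1 : torusHom chevE6 K c = 1 := by
    have h2 : torusHom chevE6 K c * torusHom chevE6 K c = torusHom chevE6 K c * 1 := by
      rw [← sq, hfix, mul_one]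
    exact mul_left_cancel h2
  exact ⟨1, one_mem _, by rw [map_one, h1]⟩

end Desc

end Cfsg.Agent.Helper22.E6Tor
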