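import Cfsg.Agent.Helper40.E6Tor.Defs2
import Cfsg.Agent.Helper22.E6Tor_DESC2
import Cfsg.Agent.Helper29.E6Tor_ZFIX
import Cfsg.Agent.Helper37.TorD_WORD
import Cfsg.Agent.Helper48.TorD_TFROB
import Cfsg.Agent.Helper80.Tor.Main
import Cfsg.Agent.S1043

/-!
# helper40 S2373 (E₆ Coxeter torus), GLUE piece (DP2): the two descent statements for `q = 2` (helper22)
-/

set_option autoImplicit false
set_option linter.unusedVariables false
set_option linter.unusedSectionVars false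

namespace Cfsg.Agent.Helper22.E6Tor

open Cfsg Cfsg.Lie Cfsg.Agent.Helper18 Cfsg.Agent.Helper19.Cox Cfsg.Agent.Helper19.Poinc
  Cfsg.Agent.Helper80.Tor Cfsg.Agent.Helper36.TorD Cfsg.Agent.Helper83.E6C Cfsg.Agent.Helper40.E6Tor
open Polynomial

/-- images of a commutative group commute -/
theorem DP2_comm {A B : Type*} [CommGroup A] [Group B] (f : A →* B) (a b : A) :
    f a * f b = f b * f a := by
  rw [← map_mul, ← map_mul, mul_comm]

/-- if `N` acts on the torus `τ` through `m`, so does `τ ca * N * τ cb` -/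
theorem DP2_conj_abs {A B : Type*} [CommGroup A] [Group B] (f : A →* B) (N : B) (m : A → A)
    (hN : ∀ c, N * f c * N⁻¹ = f (m c)) (ca cb c : A) :
    (f ca * N * f cb) * f c * (f ca * N * f cb)⁻¹ = f (m c) := by
  have hB : f cb * f c * (f cb)⁻¹ = f c := by
    rw [DP2_comm f cb c, mul_assoc, mul_inv_cancel, mul_one]
  calc (f ca * N * f cb) * f c * (f ca * N * f cb)⁻¹
      = f ca * (N * (f cb * f c * (f cb)⁻¹) * N⁻¹) * (f ca)⁻¹ := by group
    _ = f ca * f (m c) * (f ca)⁻¹ := by rw [hB, hN]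
    _ = f (m c) := by rw [DP2_comm f ca, mul_assoc, mul_inv_cancel, mul_one]

/-- correcting `c` by the defect `m (c²) c⁻¹`, when `m` fixes the square of the defect -/
theorem DP2_fix_abs {A : Type*} [CommGroup A] (m : A →* A) (c : A)
    (hfix : m ((m (c ^ 2) * c⁻¹)⁻¹ ^ 2) = (m (c ^ 2) * c⁻¹)⁻¹ ^ 2) :
    m ((c * (m (c ^ 2) * c⁻¹)⁻¹) ^ 2) = c * (m (c ^ 2) * c⁻¹)⁻¹ := by
  rw [mul_pow, map_mul, hfix]
  generalize m (c ^ 2) = y
  rw [sq, mul_inv_rev, inv_inv]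
  calc y * (c * y⁻¹ * (c * y⁻¹)) = c * (c * y⁻¹) * (y * y⁻¹) := by
        simp only [mul_comm, mul_left_comm]
    _ = c * (c * y⁻¹) := by rw [mul_inv_cancel, mul_one]

section Desc

variable {F : Type*} {K : Type*} [Field F] [Fintype F] [Field K] [Fintype K] [Algebra F K]

theorem DP2_E6_mem : chevE6 ∈ [chevG2, chevB2, chevD4, chevF4, chevE6, chevE7, chevE8] := by
  simp

/-- torus elements lie in the Chevalley group -/
theorem DP2_torusHom_mem_group (c : Fin chevE6.rank → Kˣ) : torusHom chevE6 K c ∈ chevE6.group K :=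
  Cfsg.Agent.S1043.diagonalSubgroup_le_group chevE6 _ (triOK_of_mem chevE6 DP2_E6_mem)
    (torusHom_mem chevE6 DP2_E6_mem c)

/-- the Frobenius on a conjugate of the torus by `g₀` -/
theorem DP2_sigma_conj (g₀ : GL chevE6.Idx K) (w : List ℕ) (hw : ∀ i ∈ w, i < chevE6.rank)
    (ca cb : Fin chevE6.rank → Kˣ)
    (hn₁ : g₀⁻¹ * sigmaGL chevE6.Idx F K g₀ =
      torusHom chevE6 K ca * nWordsGL chevE6 K w * torusHom chevE6 K cb)
    (c : Fin chevE6.rank → Kˣ) :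
    sigmaGL chevE6.Idx F K (g₀ * torusHom chevE6 K c * g₀⁻¹) =
      g₀ * torusHom chevE6 K (zact (wordM chevE6 w.reverse) (c ^ Fintype.card F)) * g₀⁻¹ := by
  have hσ : sigmaGL chevE6.Idx F K g₀ =
      g₀ * (torusHom chevE6 K ca * nWordsGL chevE6 K w * torusHom chevE6 K cb) := by
    rw [← hn₁]; group
  have hconj := DP2_conj_abs (torusHom chevE6 K) (nWordsGL chevE6 K w)
    (fun c => zact (wordM chevE6 w.reverse) c)
    (fun c => Cfsg.Agent.Helper37.TorD.word_conj (K := K) chevE6 DP2_E6_mem cartanReflOK_E6 w hw c)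
    ca cb (c ^ Fintype.card F)
  rw [map_mul, map_mul, map_inv, hσ, Cfsg.Agent.Helper48.TorD.sigma_torusHom chevE6 DP2_E6_mem, ← hconj]
  group

/-- (DP2), with the vectors typed over `Fin chevE6.rank` -/
theorem DP2_main (hF : Fintype.card F = 2) (g₀ : GL chevE6.Idx K)
    (hg₀ : g₀ ∈ chevE6.group K) (w : List ℕ) (hw : ∀ i ∈ w, i < chevE6.rank)
    (ca cb : Fin chevE6.rank → Kˣ)
    (hn₁ : g₀⁻¹ * sigmaGL chevE6.Idx F K g₀ =
      torusHom chevE6 K ca * nWordsGL chevE6 K w * torusHom chevE6 K cb) :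
    (∀ c : Fin chevE6.rank → Kˣ, zact (wordM chevE6 w.reverse) (c ^ 2) = c →
        ∃ z ∈ chevE6.group F, iotaGL chevE6.Idx F K z = g₀ * torusHom chevE6 K c * g₀⁻¹) ∧
    (∀ z ∈ chevE6.group F, ∀ c : Fin chevE6.rank → Kˣ,
        iotaGL chevE6.Idx F K z = g₀ * torusHom chevE6 K c * g₀⁻¹ →
        ∃ c' : Fin chevE6.rank → Kˣ, zact (wordM chevE6 w.reverse) (c' ^ 2) = c' ∧
          torusHom chevE6 K c' = torusHom chevE6 K c) := by
  have hσc := DP2_sigma_conj (F := F) g₀ w hw ca cb hn₁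
  rw [hF] at hσc
  refine ⟨fun c hc => ?_, fun z hz c hzc => ?_⟩
  · refine desc_E6_two hF _
      (mul_mem (mul_mem hg₀ (DP2_torusHom_mem_group c)) (inv_mem hg₀)) ?_
    rw [hσc, hc]
  · -- `τ (zact M (c ^ 2)) = τ c`
    have h1 : sigmaGL chevE6.Idx F K (g₀ * torusHom chevE6 K c * g₀⁻¹) =
        g₀ * torusHom chevE6 K c * g₀⁻¹ := by
      rw [← hzc]; exact sigmaGL_iotaGL z
    rw [hσc] at h1
    have h2 : torusHom chevE6 K (zact (wordM chevE6 w.reverse) (c ^ 2)) = torusHom chevE6 K c :=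
      mul_left_cancel (mul_right_cancel h1)
    -- the defect lies in the kernel of `τ`
    have hk : torusHom chevE6 K ((zact (wordM chevE6 w.reverse) (c ^ 2) * c⁻¹)⁻¹ ^ 2) = 1 := by
      rw [map_pow, map_inv, map_mul, map_inv, h2, mul_inv_cancel, inv_one, one_pow]
    have hfix : zact (wordM chevE6 w.reverse) ((zact (wordM chevE6 w.reverse) (c ^ 2) * c⁻¹)⁻¹ ^ 2) =
        (zact (wordM chevE6 w.reverse) (c ^ 2) * c⁻¹)⁻¹ ^ 2 :=
      Cfsg.Agent.Helper29.E6Tor.ker_tau_fixed _ hk w.reverse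
    refine ⟨c * (zact (wordM chevE6 w.reverse) (c ^ 2) * c⁻¹)⁻¹, ?_, ?_⟩
    · exact DP2_fix_abs (zact (wordM chevE6 w.reverse)) c hfix
    · rw [map_mul, map_inv, map_mul, map_inv, h2, mul_inv_cancel, inv_one, mul_one]

/-- (DP2) the two descent statements for `q = 2` -/
theorem descent_pair_two (hF : Fintype.card F = 2) (g₀ : GL chevE6.Idx K)
    (hg₀ : g₀ ∈ chevE6.group K) (w : List ℕ) (hw : ∀ i ∈ w, i < 6) (ca cb : Fin 6 → Kˣ)
    (hn₁ : g₀⁻¹ * sigmaGL chevE6.Idx F K g₀ =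
      torusHom chevE6 K ca * nWordsGL chevE6 K w * torusHom chevE6 K cb) :
    (∀ c : Fin 6 → Kˣ, zact (wordM chevE6 w.reverse) (c ^ 2) = c →
        ∃ z ∈ chevE6.group F, iotaGL chevE6.Idx F K z = g₀ * torusHom chevE6 K c * g₀⁻¹) ∧
    (∀ z ∈ chevE6.group F, ∀ c : Fin 6 → Kˣ,
        iotaGL chevE6.Idx F K z = g₀ * torusHom chevE6 K c * g₀⁻¹ →
        ∃ c' : Fin 6 → Kˣ, zact (wordM chevE6 w.reverse) (c' ^ 2) = c' ∧
          torusHom chevE6 K c' = torusHom chevE6 K c) :=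
  DP2_main hF g₀ hg₀ w hw ca cb hn₁

end Desc

end Cfsg.Agent.Helper22.E6Tor
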