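import Cfsg.Agent.Helper40.E6Tor.Defs2

/-!
# helper40 S2373 (E₆ Coxeter torus), piece (HW18): the torus elements as words, adjoint group (helper22)
-/

set_option autoImplicit false
set_option linter.unusedVariables false
set_option linter.unusedSectionVars false

namespace Cfsg.Agent.Helper22.E6Tor

open Cfsg Cfsg.Lie Cfsg.Agent.Helper18 Cfsg.Agent.Helper19.Cox Cfsg.Agent.Helper19.Poinc
  Cfsg.Agent.Helper80.Tor Cfsg.Agent.Helper36.TorD Cfsg.Agent.Helper83.E6C Cfsg.Agent.Helper40.E6Tor
open Polynomial

theorem HW18_E6_mem : chevE6 ∈ [chevG2, chevB2, chevD4, chevF4, chevE6, chevE7, chevE8] := by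
  simp

theorem HW18_aux {L : Type*} [Field L] (c : Fin chevE6.rank → Lˣ) :
    wordGL chevE6 L ((List.range chevE6.rank).flatMap fun i =>
      chevE6.hWord (chevE6.simple i) (extendUnits chevE6.rank c i)) = torusHom chevE6 L c := by
  have htri := triOK_of_mem chevE6 HW18_E6_mem
  have hc : ∀ i < chevE6.rank, extendUnits chevE6.rank c i ≠ 0 :=
    fun i _ => extendUnits_ne_zero _ c i
  apply Units.ext
  rw [torusHom_val_eq_hProd, wordGL_val chevE6 _ htri]
  exact hProd_of_words chevE6 HW18_E6_mem _ hc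

/-- (HW18) the torus elements as words, adjoint group -/
theorem wordGL_hWordAll {L : Type*} [Field L] (c : Fin 6 → Lˣ) :
    wordGL chevE6 L (hWordAll c) = torusHom chevE6 L c :=
  HW18_aux c

end Cfsg.Agent.Helper22.E6Tor
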