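import Cfsg.Agent.Helper40.E6Tor.Defs2
import Cfsg.Agent.Helper36.BaseChange

/-!
# helper40 S2373 (E₆ Coxeter torus), piece (IOTAW): scalar extension of words, adjoint group (helper22)
-/

set_option autoImplicit false
set_option linter.unusedVariables false
set_option linter.unusedSectionVars false

namespace Cfsg.Agent.Helper22.E6Tor

open Cfsg Cfsg.Lie Cfsg.Agent.Helper18 Cfsg.Agent.Helper19.Cox Cfsg.Agent.Helper19.Poinc
  Cfsg.Agent.Helper80.Tor Cfsg.Agent.Helper36.TorD Cfsg.Agent.Helper83.E6C Cfsg.Agent.Helper40.E6Tor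
open Polynomial

section SC

variable {F : Type*} {K : Type*} [Field F] [Fintype F] [Field K] [Fintype K] [Algebra F K]

theorem IOTAW_E6_mem : chevE6 ∈ [chevG2, chevB2, chevD4, chevF4, chevE6, chevE7, chevE8] := by
  simp

/-- (IOTAW) scalar extension of words, adjoint group -/
theorem iotaGL_wordGL (w : List (ℕ × F)) :
    iotaGL chevE6.Idx F K (wordGL chevE6 F w) = wordGL chevE6 K (w.map fun p => (p.1, algebraMap F K p.2)) := by
  have htri := triOK_of_mem chevE6 IOTAW_E6_mem
  apply Units.ext
  rw [wordGL_val chevE6 _ htri]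
  show ((wordGL chevE6 F w : GL chevE6.Idx F) : Matrix chevE6.Idx chevE6.Idx F).map (algebraMap F K) = _
  rw [wordGL_val chevE6 _ htri]
  exact Cfsg.Agent.Helper36.BaseChange.wordMat_map' chevE6 (algebraMap F K) w

end SC

end Cfsg.Agent.Helper22.E6Tor
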