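import Cfsg.Agent.Helper40.E6Tor.Defs2

/-!
# helper40 S2373 (E₆ Coxeter torus), piece (NW18): the lifts of the Weyl group elements as words,
adjoint group (helper22)
-/

set_option autoImplicit false
set_option linter.unusedVariables false
set_option linter.unusedSectionVars false

namespace Cfsg.Agent.Helper22.E6Tor

open Cfsg Cfsg.Lie Cfsg.Agent.Helper18 Cfsg.Agent.Helper19.Cox Cfsg.Agent.Helper19.Poinc
  Cfsg.Agent.Helper80.Tor Cfsg.Agent.Helper36.TorD Cfsg.Agent.Helper83.E6C Cfsg.Agent.Helper40.E6Tor
open Polynomial

theorem NW18_wordGL_append {L : Type*} [Field L] (a b : List (ℕ × L)) :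
    wordGL chevE6 L (a ++ b) = wordGL chevE6 L a * wordGL chevE6 L b := by
  simp [wordGL, List.map_append, List.prod_append]

/-- (NW18) the lifts of the Weyl group elements as words, adjoint group -/
theorem wordGL_nWordAll {L : Type*} [Field L] (w : List ℕ) :
    wordGL chevE6 L (nWordAll L w) = nWordsGL chevE6 L w := by
  unfold nWordAll nWordsGL
  induction w with
  | nil => simp [wordGL]
  | cons i w ih =>
    rw [List.flatMap_cons, NW18_wordGL_append, ih, List.map_cons, List.prod_cons]

end Cfsg.Agent.Helper22.E6Tor
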