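import Cfsg.Agent.Helper22.F4OddTABData

/-!
# S4280 batch I piece (TAB) for helper36 (#11941): `invol_word_cases`
-/

set_option autoImplicit false
set_option maxRecDepth 100000

namespace Cfsg.Agent.Helper22.F4Odd

open Cfsg Cfsg.Lie Cfsg.Agent.Helper18 Cfsg.Agent.Helper19.Cox Cfsg.Agent.Helper36.F4Odd

theorem tab_negCount_congr (w e : List ℕ) (h : ∀ x < 48, aW w x = aW e x) : negCount w = negCount e := by
  unfold negCount
  congr 1
  apply List.filter_congr
  intro x hx
  rw [h x (List.mem_range.mp hx)]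

theorem tab_all_lt_of_all {v : List ℕ} (h : (v.all fun i => decide (i < 4)) = true) : ∀ i ∈ v, i < 4 := by
  intro i hi
  rw [List.all_eq_true] at h
  exact decide_eq_true_eq.mp (h i hi)

/-- (TAB) the involutions of `W(F₄)` are conjugate to the seven standard ones. -/
theorem invol_word_cases (w : List ℕ) (hw : ∀ i ∈ w, i < 4) (hinv : ∀ x < 48, aW w (aW w x) = x) :
    (∀ x < 48, aW w x = x) ∨
    ∃ (v : List ℕ) (κ : ℕ), (∀ i ∈ v, i < 4) ∧ κ < 7 ∧ negCount w = negCount (stdW.getD κ []) ∧
      ∀ x < 48, aW (v ++ w ++ v.reverse) x = aW (stdW.getD κ []) x := by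
  obtain ⟨k, hk, c, hc, h⟩ := Cfsg.Agent.Helper36.F4Mix.coset_enum Cfsg.Agent.Helper36.F4Mix.tws1
    Cfsg.Agent.Helper36.F4Mix.nxt1 Cfsg.Agent.Helper36.F4Mix.L8 (by decide) (by decide) (by decide)
    (by decide +kernel) (by decide +kernel) Cfsg.Agent.Helper36.F4Mix.step1 Cfsg.Agent.Helper36.F4Mix.closed8 w hw
  have hk144 : k < 144 := by
    have : Cfsg.Agent.Helper36.F4Mix.tws1.length = 144 := by decide
    omega
  obtain ⟨j, hj, hjc⟩ := List.mem_iff_getElem.mp hc
  have hj8 : j < 8 := by
    have : Cfsg.Agent.Helper36.F4Mix.L8.length = 8 := by decide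
    omega
  have hcj : Cfsg.Agent.Helper36.F4Mix.L8.getD j [] = c := by
    rw [List.getD_eq_getElem _ _ hj, hjc]
  -- the entry
  have he : ∀ x < 48, aW w x = aW (tabEntry k j) x := by
    intro x hx
    have h1 := h x hx
    rw [tabEntry, hcj]
    exact h1
  have hOK : tabEntryOK k j = true := by
    have h1 := tabOK_true
    unfold tabOK at h1
    rw [List.all_eq_true] at h1
    have h2 := h1 k (List.mem_range.mpr hk144)
    rw [List.all_eq_true] at h2
    exact h2 j (List.mem_range.mpr hj8)
  unfold tabEntryOK at hOK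
  rw [Bool.or_eq_true, Bool.or_eq_true] at hOK
  rcases hOK with (hOK | hOK) | hOK
  · -- not involutive: impossible
    exfalso
    rw [Bool.not_eq_true', ← Bool.not_eq_true, List.all_eq_true] at hOK
    apply hOK
    intro x hx
    have hx48 := List.mem_range.mp hx
    rw [beq_iff_eq, ← he x hx48, ← he _ (aW_lt w hw x hx48)]
    exact hinv x hx48
  · -- identity
    left
    intro x hx
    rw [List.all_eq_true] at hOK
    have := hOK x (List.mem_range.mpr hx)
    rw [beq_iff_eq] at this
    rw [he x hx, this]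
  · right
    simp only [Bool.and_eq_true, decide_eq_true_eq, beq_iff_eq] at hOK
    obtain ⟨⟨⟨hv, hκ⟩, hneg⟩, hconj⟩ := hOK
    have hv4 := tab_all_lt_of_all hv
    refine ⟨((tabI.getD k []).getD j ([], 0)).1, ((tabI.getD k []).getD j ([], 0)).2, hv4, hκ, ?_, ?_⟩
    · rw [tab_negCount_congr w (tabEntry k j) he, hneg]
    · intro x hx
      rw [List.all_eq_true] at hconj
      have h3 := hconj x (List.mem_range.mpr hx)
      rw [beq_iff_eq] at h3
      rw [← h3, aW_append, aW_append, aW_append, aW_append]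
      have hrev : ∀ i ∈ ((tabI.getD k []).getD j ([], 0)).1.reverse, i < 4 := by
        intro i hi
        exact hv4 i (List.mem_reverse.mp hi)
      rw [he _ (aW_lt _ hrev x hx)]

end Cfsg.Agent.Helper22.F4Odd
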