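import Cfsg.Agent.Helper36.F4Odd.Defs
import Cfsg.Agent.Helper36.F4Mix.P_WC

/-!
# S4280 batch I piece ([
  [([], 0), ([1, 0], 1), ([2, 3], 0), ([], 0), ([], 0), ([2, 3, 1], 0), ([1, 2, 0], 1), ([], 3)],
  [([], 1), ([], 0), ([2, 3], 2), ([], 0), ([], 0), ([], 0), ([], 0), ([], 0)],
  [([], 0), ([1, 0], 2), ([], 0), ([], 0), ([], 0), ([], 0), ([], 0), ([], 0)],
  [([], 0), ([1], 1), ([], 0), ([], 0), ([2, 3, 1], 2), ([], 0), ([], 0), ([], 0)],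
  [([], 2), ([], 0), ([], 0), ([], 0), ([], 0), ([], 0), ([], 0), ([], 0)],
  [([], 0), ([], 0), ([2], 0), ([1, 2, 0], 2), ([], 0), ([], 0), ([], 0), ([], 0)],
  [([], 0), ([], 0), ([], 0), ([1, 2], 1), ([], 0), ([], 0), ([2, 3, 1, 2], 2), ([], 0)],
  [([], 0), ([1], 2), ([], 0), ([], 0), ([], 0), ([], 0), ([], 0), ([], 0)],
  [([], 0), ([], 0), ([2], 2), ([], 0), ([], 0), ([], 0), ([], 0), ([], 0)],
  [([], 0), ([], 0), ([], 0), ([], 0), ([2, 1], 0), ([1, 2, 0, 1], 2), ([], 0), ([], 0)],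
  [([], 0), ([], 0), ([], 0), ([], 0), ([], 0), ([1, 2, 1], 1), ([], 0), ([2, 3, 1, 2, 1], 2)],
  [([], 0), ([], 0), ([], 0), ([], 0), ([], 0), ([], 0), ([], 0), ([], 0)],
  [([], 0), ([], 0), ([], 0), ([1, 2], 2), ([], 0), ([], 0), ([], 0), ([], 0)],
  [([], 0), ([], 0), ([], 0), ([], 0), ([2, 1], 2), ([], 0), ([], 0), ([], 0)],
  [([], 0), ([], 0), ([], 0), ([], 0), ([], 0), ([], 0), ([], 0), ([], 0)],
  [([], 0), ([], 0), ([], 0), ([], 0), ([], 0), ([], 0), ([2, 1, 2], 0), ([1, 2, 0, 1, 2], 2)],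
  [([2, 3, 1, 0], 0), ([2, 3, 1, 0], 2), ([0], 3), ([], 0), ([], 0), ([0, 1], 3), ([2, 3, 1, 2, 0], 2), ([], 5)],
  [([], 0), ([], 0), ([], 0), ([], 0), ([], 0), ([], 0), ([], 0), ([], 0)],
  [([], 0), ([], 0), ([], 0), ([], 0), ([], 0), ([], 0), ([], 0), ([], 0)],
  [([], 0), ([], 0), ([], 0), ([], 0), ([], 0), ([1, 2, 1], 2), ([], 0), ([], 0)],
  [([], 0), ([], 0), ([], 0), ([], 0), ([], 0), ([], 0), ([], 0), ([], 0)],
  [([], 0), ([], 0), ([], 0), ([], 0), ([], 0), ([], 0), ([2, 1, 2], 2), ([], 0)],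
  [([], 0), ([], 0), ([], 0), ([], 0), ([], 0), ([], 0), ([], 0), ([], 0)],
  [([1, 2, 3, 0], 1), ([3], 3), ([1, 2, 3, 0], 2), ([], 0), ([], 0), ([1, 2, 3, 0, 1], 2), ([3, 2], 3), ([], 4)],
  [([], 0), ([], 0), ([], 0), ([], 0), ([], 0), ([], 0), ([], 0), ([], 0)],
  [([], 0), ([], 0), ([], 0), ([], 0), ([], 0), ([], 0), ([], 0), ([], 0)],
  [([], 0), ([], 0), ([], 0), ([], 0), ([], 0), ([], 0), ([], 0), ([], 0)],
  [([], 0), ([], 0), ([], 0), ([], 0), ([], 0), ([], 0), ([], 0), ([], 0)],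
  [([], 0), ([], 0), ([], 0), ([], 0), ([], 0), ([], 0), ([], 0), ([2, 1, 2, 1], 2)],
  [([], 0), ([], 0), ([], 0), ([], 0), ([], 0), ([], 0), ([], 0), ([], 0)],
  [([], 0), ([], 0), ([], 0), ([], 0), ([], 0), ([], 0), ([], 0), ([], 0)],
  [([], 0), ([], 0), ([], 0), ([], 0), ([], 0), ([], 0), ([], 0), ([], 0)],
  [([], 0), ([], 0), ([], 0), ([], 0), ([], 0), ([], 0), ([], 0), ([], 0)],
  [([], 0), ([], 0), ([], 0), ([], 0), ([], 0), ([], 0), ([], 0), ([], 0)],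
  [([], 0), ([], 0), ([], 0), ([], 0), ([], 0), ([], 0), ([], 0), ([], 0)],
  [([2, 1, 0], 0), ([2, 1, 0], 2), ([], 0), ([], 0), ([], 0), ([], 0), ([], 0), ([], 0)],
  [([], 0), ([], 0), ([], 0), ([], 0), ([], 0), ([], 0), ([], 0), ([], 0)],
  [([], 0), ([], 0), ([], 0), ([], 0), ([], 0), ([], 0), ([], 0), ([], 0)],
  [([], 0), ([], 0), ([], 0), ([], 0), ([], 0), ([], 0), ([], 0), ([], 0)],
  [([], 0), ([], 0), ([], 0), ([], 0), ([], 0), ([], 0), ([], 0), ([], 0)],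
  [([1, 2, 3], 1), ([], 0), ([1, 2, 3], 2), ([], 0), ([], 0), ([], 0), ([], 0), ([], 0)],
  [([], 0), ([], 0), ([], 0), ([], 0), ([], 0), ([], 0), ([], 0), ([], 0)],
  [([], 0), ([], 0), ([], 0), ([], 0), ([], 0), ([], 0), ([], 0), ([], 0)],
  [([], 0), ([], 0), ([], 0), ([], 0), ([], 0), ([], 0), ([], 0), ([], 0)],
  [([1, 2, 0, 1, 0], 2), ([], 0), ([], 0), ([], 0), ([], 0), ([], 0), ([], 0), ([], 0)],
  [([], 0), ([], 0), ([], 0), ([], 0), ([], 0), ([], 0), ([], 0), ([], 0)],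
  [([], 0), ([], 0), ([2, 1, 2, 0], 0), ([2, 1, 2, 0], 2), ([], 0), ([], 0), ([], 0), ([], 0)],
  [([], 0), ([], 0), ([], 0), ([], 0), ([], 0), ([], 0), ([], 0), ([], 0)],
  [([], 0), ([], 0), ([], 0), ([], 0), ([], 0), ([], 0), ([], 0), ([], 0)],
  [([3, 0], 3), ([], 0), ([], 0), ([], 0), ([], 0), ([], 0), ([], 0), ([], 0)],
  [([], 0), ([], 0), ([], 0), ([], 0), ([], 0), ([], 0), ([], 0), ([], 0)],
  [([], 0), ([1, 2, 3, 1], 1), ([], 0), ([], 0), ([1, 2, 3, 1], 2), ([], 0), ([], 0), ([], 0)],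
  [([2, 1, 2, 3, 2], 2), ([], 0), ([], 0), ([], 0), ([], 0), ([], 0), ([], 0), ([], 0)],
  [([], 0), ([], 0), ([], 0), ([], 0), ([], 0), ([], 0), ([], 0), ([], 0)],
  [([], 0), ([1, 2, 1, 0], 2), ([], 0), ([], 0), ([], 0), ([], 0), ([], 0), ([], 0)],
  [([], 0), ([], 0), ([], 0), ([], 0), ([], 0), ([], 0), ([], 0), ([], 0)],
  [([], 0), ([], 0), ([1, 2, 0, 1, 2, 0], 2), ([], 0), ([], 0), ([], 0), ([], 0), ([], 0)],
  [([], 0), ([], 0), ([], 0), ([], 0), ([], 0), ([], 0), ([], 0), ([], 0)],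
  [([], 0), ([], 0), ([], 0), ([], 0), ([2, 1, 2, 0, 1], 0), ([2, 1, 2, 0, 1], 2), ([], 0), ([], 0)],
  [([], 0), ([], 0), ([3, 2, 0], 3), ([], 0), ([], 0), ([], 0), ([], 0), ([], 0)],
  [([], 0), ([], 0), ([], 0), ([], 0), ([], 0), ([], 0), ([], 0), ([], 0)],
  [([], 0), ([3, 0, 1], 3), ([], 0), ([], 0), ([], 0), ([], 0), ([], 0), ([], 0)],
  [([], 0), ([2, 1, 2, 3, 2, 1], 2), ([], 0), ([], 0), ([], 0), ([], 0), ([], 0), ([], 0)],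
  [([], 0), ([], 0), ([], 0), ([1, 2, 3, 1, 2], 1), ([], 0), ([], 0), ([1, 2, 3, 1, 2], 2), ([], 0)],
  [([], 0), ([], 0), ([2, 1, 2, 3], 2), ([], 0), ([], 0), ([], 0), ([], 0), ([], 0)],
  [([], 0), ([], 0), ([], 0), ([], 0), ([], 0), ([], 0), ([], 0), ([], 0)],
  [([], 0), ([], 0), ([], 0), ([2, 1, 2, 1, 0], 2), ([], 0), ([], 0), ([], 0), ([], 0)],
  [([], 0), ([], 0), ([], 0), ([], 0), ([], 0), ([], 0), ([], 0), ([], 0)],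
  [([], 0), ([], 0), ([], 0), ([], 0), ([1, 2, 0, 1, 2, 0, 1], 2), ([], 0), ([], 0), ([], 0)],
  [([1, 2, 3, 0, 1, 0], 2), ([], 0), ([0], 4), ([], 0), ([], 0), ([], 0), ([], 0), ([], 0)],
  [([], 0), ([], 0), ([], 0), ([], 0), ([], 0), ([], 0), ([2, 1, 2, 0, 1, 2], 0), ([2, 1, 2, 0, 1, 2], 2)],
  [([], 0), ([], 0), ([], 0), ([], 0), ([3, 2, 0, 1], 3), ([], 0), ([], 0), ([], 0)],
  [([2, 1, 2, 3, 2, 0], 2), ([3], 5), ([], 0), ([], 0), ([], 0), ([], 0), ([], 0), ([], 0)],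
  [([], 0), ([], 0), ([], 0), ([3, 0, 1, 2], 3), ([], 0), ([], 0), ([], 0), ([], 0)],
  [([], 0), ([], 0), ([], 0), ([2, 1, 2, 3, 2, 1, 2], 2), ([], 0), ([], 0), ([], 0), ([], 0)],
  [([], 0), ([], 0), ([], 0), ([], 0), ([], 0), ([1, 2, 3, 1, 2, 1], 1), ([], 0), ([1, 2, 3, 1, 2, 1], 2)],
  [([], 0), ([], 0), ([], 0), ([], 0), ([2, 1, 2, 3, 1], 2), ([], 0), ([], 0), ([], 0)],
  [([], 0), ([], 0), ([], 0), ([], 0), ([], 0), ([], 0), ([], 0), ([], 0)],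
  [([], 0), ([], 0), ([], 0), ([], 0), ([], 0), ([2, 1, 2, 0, 1, 0], 2), ([], 0), ([], 0)],
  [([], 0), ([], 0), ([], 0), ([], 0), ([], 0), ([], 0), ([], 0), ([], 0)],
  [([], 0), ([], 0), ([], 0), ([], 0), ([], 0), ([], 0), ([2, 1, 2, 0, 1, 2, 0, 1], 2), ([], 0)],
  [([], 0), ([1, 2, 3, 1, 0], 2), ([], 0), ([], 0), ([0, 1], 4), ([], 0), ([], 0), ([], 0)],
  [([], 0), ([], 0), ([], 0), ([], 0), ([], 0), ([], 0), ([], 0), ([], 0)],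
  [([], 0), ([], 0), ([], 0), ([], 0), ([], 0), ([], 0), ([3, 2, 0, 1, 2], 3), ([], 0)],
  [([], 0), ([], 0), ([2, 1, 2, 3, 0], 2), ([3, 2], 5), ([], 0), ([], 0), ([], 0), ([], 0)],
  [([], 0), ([], 0), ([], 0), ([], 0), ([], 0), ([3, 0, 1, 2, 1], 3), ([], 0), ([], 0)],
  [([], 0), ([], 0), ([], 0), ([], 0), ([], 0), ([2, 1, 2, 3, 2, 1, 2, 1], 2), ([], 0), ([], 0)],
  [([], 0), ([], 0), ([], 0), ([], 0), ([], 0), ([], 0), ([], 0), ([], 0)],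
  [([], 0), ([], 0), ([], 0), ([], 0), ([], 0), ([], 0), ([], 0), ([], 0)],
  [([], 0), ([], 0), ([], 0), ([], 0), ([], 0), ([], 0), ([2, 1, 2, 3, 1, 2], 2), ([], 0)],
  [([], 0), ([], 0), ([], 0), ([], 0), ([], 0), ([], 0), ([], 0), ([2, 1, 2, 0, 1, 2, 0], 2)],
  [([], 0), ([], 0), ([], 0), ([], 0), ([], 0), ([], 0), ([], 0), ([], 0)],
  [([], 0), ([], 0), ([], 0), ([], 0), ([], 0), ([], 0), ([], 0), ([], 0)],
  [([], 0), ([], 0), ([], 0), ([1, 2, 3, 1, 2, 0], 2), ([], 0), ([], 0), ([0, 1, 2], 4), ([], 0)],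
  [([], 0), ([], 0), ([], 0), ([], 0), ([], 0), ([], 0), ([], 0), ([], 0)],
  [([], 0), ([], 0), ([], 0), ([], 0), ([], 0), ([], 0), ([], 0), ([3, 2, 0, 1, 2, 1], 3)],
  [([], 0), ([], 0), ([], 0), ([], 0), ([2, 1, 2, 3, 0, 1], 2), ([3, 2, 1], 5), ([], 0), ([], 0)],
  [([], 0), ([], 0), ([], 0), ([], 0), ([], 0), ([], 0), ([], 0), ([], 0)],
  [([], 0), ([], 0), ([], 0), ([], 0), ([], 0), ([], 0), ([], 0), ([], 0)],
  [([], 0), ([], 0), ([], 0), ([], 0), ([], 0), ([], 0), ([], 0), ([2, 1, 2, 3, 1, 2, 1], 2)],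
  [([], 0), ([], 0), ([], 0), ([], 0), ([], 0), ([], 0), ([], 0), ([], 0)],
  [([], 0), ([], 0), ([], 0), ([], 0), ([], 0), ([], 0), ([], 0), ([], 0)],
  [([], 0), ([], 0), ([], 0), ([], 0), ([], 0), ([], 0), ([], 0), ([], 0)],
  [([], 0), ([], 0), ([], 0), ([], 0), ([], 0), ([], 0), ([], 0), ([], 0)],
  [([], 0), ([], 0), ([], 0), ([], 0), ([], 0), ([1, 2, 3, 1, 2, 0, 1], 2), ([], 0), ([0, 1, 2, 1], 4)],
  [([], 0), ([], 0), ([], 0), ([], 0), ([], 0), ([], 0), ([], 0), ([], 0)],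
  [([], 0), ([], 0), ([], 0), ([], 0), ([], 0), ([], 0), ([], 0), ([], 0)],
  [([], 0), ([], 0), ([], 0), ([], 0), ([], 0), ([], 0), ([], 0), ([], 0)],
  [([], 0), ([], 0), ([], 0), ([], 0), ([], 0), ([], 0), ([2, 1, 2, 3, 0, 1, 2], 2), ([3, 2, 1, 2], 5)],
  [([], 0), ([], 0), ([], 0), ([], 0), ([], 0), ([], 0), ([], 0), ([], 0)],
  [([], 0), ([], 0), ([], 0), ([], 0), ([], 0), ([], 0), ([], 0), ([], 0)],
  [([], 0), ([], 0), ([], 0), ([], 0), ([], 0), ([], 0), ([], 0), ([], 0)],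
  [([], 0), ([], 0), ([], 0), ([], 0), ([], 0), ([], 0), ([], 0), ([], 0)],
  [([], 0), ([], 0), ([], 0), ([], 0), ([], 0), ([], 0), ([], 0), ([], 0)],
  [([], 0), ([], 0), ([], 0), ([], 0), ([], 0), ([], 0), ([], 0), ([], 0)],
  [([2, 1, 2, 3, 1, 0], 2), ([], 0), ([], 0), ([], 0), ([], 0), ([], 0), ([], 0), ([], 0)],
  [([], 0), ([], 0), ([], 0), ([], 0), ([], 0), ([], 0), ([], 0), ([], 0)],
  [([], 0), ([], 0), ([], 0), ([], 0), ([], 0), ([], 0), ([], 0), ([], 0)],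
  [([], 0), ([], 0), ([], 0), ([], 0), ([], 0), ([], 0), ([], 0), ([], 0)],
  [([], 0), ([], 0), ([], 0), ([], 0), ([], 0), ([], 0), ([], 0), ([], 0)],
  [([], 0), ([], 0), ([], 0), ([], 0), ([], 0), ([], 0), ([], 0), ([], 0)],
  [([1, 2, 3, 1, 2, 1, 0], 1), ([3, 0, 1, 2, 1, 0], 3), ([1, 2, 3, 1, 2, 1, 0], 2), ([], 0), ([], 0), ([1, 2, 3, 1, 2, 0, 1, 0], 2), ([3, 2, 0, 1, 2, 1, 0], 3), ([0, 1, 2, 1, 0], 4)],
  [([], 0), ([2, 1, 2, 3, 0, 1, 0], 2), ([], 0), ([], 0), ([], 0), ([], 0), ([], 0), ([], 0)],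
  [([], 0), ([], 0), ([], 0), ([], 0), ([], 0), ([], 0), ([], 0), ([], 0)],
  [([], 0), ([], 0), ([2, 1, 2, 3, 1, 2, 0], 2), ([], 0), ([], 0), ([], 0), ([], 0), ([], 0)],
  [([], 0), ([], 0), ([], 0), ([], 0), ([], 0), ([], 0), ([], 0), ([], 0)],
  [([], 0), ([], 0), ([], 0), ([], 0), ([], 0), ([], 0), ([], 0), ([], 0)],
  [([2, 1, 2, 0, 1, 2, 3], 0), ([2, 1, 2, 0, 1, 2, 3], 2), ([3, 2, 0, 1, 2, 3], 3), ([], 0), ([], 0), ([3, 2, 0, 1, 2, 3, 1], 3), ([2, 1, 2, 0, 1, 2, 3, 2], 2), ([3, 2, 1, 2, 3], 5)],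
  [([2, 1, 2, 3, 2, 1, 2, 1, 0], 2), ([3, 2, 1, 0], 5), ([], 0), ([], 0), ([], 0), ([], 0), ([], 0), ([], 0)],
  [([], 0), ([], 0), ([], 0), ([], 0), ([], 0), ([], 0), ([], 0), ([], 0)],
  [([], 0), ([], 0), ([], 0), ([2, 1, 2, 3, 0, 1, 2, 0], 2), ([], 0), ([], 0), ([], 0), ([], 0)],
  [([], 0), ([], 0), ([], 0), ([], 0), ([2, 1, 2, 3, 1, 2, 0, 1], 2), ([], 0), ([], 0), ([], 0)],
  [([], 0), ([], 0), ([], 0), ([], 0), ([], 0), ([], 0), ([], 0), ([], 0)],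
  [([2, 1, 2, 0, 1, 2, 3, 0, 1], 2), ([], 0), ([0, 1, 2, 3], 4), ([], 0), ([], 0), ([], 0), ([], 0), ([], 0)],
  [([], 0), ([], 0), ([2, 1, 2, 3, 1, 2, 1, 0], 2), ([3, 2, 1, 2, 0], 5), ([], 0), ([], 0), ([], 0), ([], 0)],
  [([], 0), ([], 0), ([], 0), ([], 0), ([], 0), ([2, 1, 2, 3, 0, 1, 2, 0, 1], 2), ([], 0), ([], 0)],
  [([], 0), ([], 0), ([], 0), ([], 0), ([], 0), ([], 0), ([2, 1, 2, 3, 1, 2, 0, 1, 2], 2), ([], 0)],
  [([], 0), ([2, 1, 2, 0, 1, 2, 3, 0], 2), ([], 0), ([], 0), ([0, 1, 2, 3, 1], 4), ([], 0), ([], 0), ([], 0)],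
  [([], 0), ([], 0), ([], 0), ([], 0), ([2, 1, 2, 3, 1, 2, 0, 1, 0], 2), ([3, 2, 1, 2, 0, 1], 5), ([], 0), ([], 0)],
  [([], 0), ([], 0), ([], 0), ([], 0), ([], 0), ([], 0), ([], 0), ([2, 1, 2, 3, 1, 2, 0, 1, 2, 1], 2)],
  [([], 0), ([], 0), ([], 0), ([2, 1, 2, 0, 1, 2, 3, 2, 0], 2), ([], 0), ([], 0), ([0, 1, 2, 3, 1, 2], 4), ([], 0)],
  [([], 0), ([], 0), ([], 0), ([], 0), ([], 0), ([], 0), ([2, 1, 2, 3, 1, 2, 0, 1, 2, 0], 2), ([3, 2, 1, 2, 0, 1, 2], 5)],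
  [([], 0), ([], 0), ([], 0), ([], 0), ([], 0), ([2, 1, 2, 0, 1, 2, 3, 2, 0, 1], 2), ([], 0), ([0, 1, 2, 3, 1, 2, 1], 4)],
  [([3, 2, 0, 1, 2, 3, 1, 0], 3), ([0, 1, 2, 3, 1, 0], 4), ([3, 2, 1, 2, 3, 0], 5), ([], 0), ([], 0), ([3, 2, 1, 2, 3, 0, 1], 5), ([0, 1, 2, 3, 1, 2, 0], 4), ([], 6)]]) for helper36 (#11941): the involutions of `W(F₄)` are conjugate to the seven standard ones

Route: `Cfsg.Agent.Helper36.F4Mix.coset_enum tws1 nxt1 L8`: every word acts like `tws1[k] ++ L8[j]`; the table `tabI`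
(from helper36's `tools/helper36_f4odd/tab.json`) gives for each of the 139 involutive entries a conjugating word `v` and
the index `κ` of the standard involution; everything is checked by one `decide +kernel`.
-/

set_option autoImplicit false
set_option maxRecDepth 100000

namespace Cfsg.Agent.Helper22.F4Odd

open Cfsg Cfsg.Lie Cfsg.Agent.Helper18 Cfsg.Agent.Helper19.Cox Cfsg.Agent.Helper36.F4Odd

/-- the certificate table: entry `(k, j)` ↦ `(v, κ)` -/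
def tabI : List (List (List ℕ × ℕ)) := [
  [([], 0), ([1, 0], 1), ([2, 3], 0), ([], 0), ([], 0), ([2, 3, 1], 0), ([1, 2, 0], 1), ([], 3)],
  [([], 1), ([], 0), ([2, 3], 2), ([], 0), ([], 0), ([], 0), ([], 0), ([], 0)],
  [([], 0), ([1, 0], 2), ([], 0), ([], 0), ([], 0), ([], 0), ([], 0), ([], 0)],
  [([], 0), ([1], 1), ([], 0), ([], 0), ([2, 3, 1], 2), ([], 0), ([], 0), ([], 0)],
  [([], 2), ([], 0), ([], 0), ([], 0), ([], 0), ([], 0), ([], 0), ([], 0)],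
  [([], 0), ([], 0), ([2], 0), ([1, 2, 0], 2), ([], 0), ([], 0), ([], 0), ([], 0)],
  [([], 0), ([], 0), ([], 0), ([1, 2], 1), ([], 0), ([], 0), ([2, 3, 1, 2], 2), ([], 0)],
  [([], 0), ([1], 2), ([], 0), ([], 0), ([], 0), ([], 0), ([], 0), ([], 0)],
  [([], 0), ([], 0), ([2], 2), ([], 0), ([], 0), ([], 0), ([], 0), ([], 0)],
  [([], 0), ([], 0), ([], 0), ([], 0), ([2, 1], 0), ([1, 2, 0, 1], 2), ([], 0), ([], 0)],
  [([], 0), ([], 0), ([], 0), ([], 0), ([], 0), ([1, 2, 1], 1), ([], 0), ([2, 3, 1, 2, 1], 2)],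
  [([], 0), ([], 0), ([], 0), ([], 0), ([], 0), ([], 0), ([], 0), ([], 0)],
  [([], 0), ([], 0), ([], 0), ([1, 2], 2), ([], 0), ([], 0), ([], 0), ([], 0)],
  [([], 0), ([], 0), ([], 0), ([], 0), ([2, 1], 2), ([], 0), ([], 0), ([], 0)],
  [([], 0), ([], 0), ([], 0), ([], 0), ([], 0), ([], 0), ([], 0), ([], 0)],
  [([], 0), ([], 0), ([], 0), ([], 0), ([], 0), ([], 0), ([2, 1, 2], 0), ([1, 2, 0, 1, 2], 2)],
  [([2, 3, 1, 0], 0), ([2, 3, 1, 0], 2), ([0], 3), ([], 0), ([], 0), ([0, 1], 3), ([2, 3, 1, 2, 0], 2), ([], 5)],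
  [([], 0), ([], 0), ([], 0), ([], 0), ([], 0), ([], 0), ([], 0), ([], 0)],
  [([], 0), ([], 0), ([], 0), ([], 0), ([], 0), ([], 0), ([], 0), ([], 0)],
  [([], 0), ([], 0), ([], 0), ([], 0), ([], 0), ([1, 2, 1], 2), ([], 0), ([], 0)],
  [([], 0), ([], 0), ([], 0), ([], 0), ([], 0), ([], 0), ([], 0), ([], 0)],
  [([], 0), ([], 0), ([], 0), ([], 0), ([], 0), ([], 0), ([2, 1, 2], 2), ([], 0)],
  [([], 0), ([], 0), ([], 0), ([], 0), ([], 0), ([], 0), ([], 0), ([], 0)],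
  [([1, 2, 3, 0], 1), ([3], 3), ([1, 2, 3, 0], 2), ([], 0), ([], 0), ([1, 2, 3, 0, 1], 2), ([3, 2], 3), ([], 4)],
  [([], 0), ([], 0), ([], 0), ([], 0), ([], 0), ([], 0), ([], 0), ([], 0)],
  [([], 0), ([], 0), ([], 0), ([], 0), ([], 0), ([], 0), ([], 0), ([], 0)],
  [([], 0), ([], 0), ([], 0), ([], 0), ([], 0), ([], 0), ([], 0), ([], 0)],
  [([], 0), ([], 0), ([], 0), ([], 0), ([], 0), ([], 0), ([], 0), ([], 0)],
  [([], 0), ([], 0), ([], 0), ([], 0), ([], 0), ([], 0), ([], 0), ([2, 1, 2, 1], 2)],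
  [([], 0), ([], 0), ([], 0), ([], 0), ([], 0), ([], 0), ([], 0), ([], 0)],
  [([], 0), ([], 0), ([], 0), ([], 0), ([], 0), ([], 0), ([], 0), ([], 0)],
  [([], 0), ([], 0), ([], 0), ([], 0), ([], 0), ([], 0), ([], 0), ([], 0)],
  [([], 0), ([], 0), ([], 0), ([], 0), ([], 0), ([], 0), ([], 0), ([], 0)],
  [([], 0), ([], 0), ([], 0), ([], 0), ([], 0), ([], 0), ([], 0), ([], 0)],
  [([], 0), ([], 0), ([], 0), ([], 0), ([], 0), ([], 0), ([], 0), ([], 0)],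
  [([2, 1, 0], 0), ([2, 1, 0], 2), ([], 0), ([], 0), ([], 0), ([], 0), ([], 0), ([], 0)],
  [([], 0), ([], 0), ([], 0), ([], 0), ([], 0), ([], 0), ([], 0), ([], 0)],
  [([], 0), ([], 0), ([], 0), ([], 0), ([], 0), ([], 0), ([], 0), ([], 0)],
  [([], 0), ([], 0), ([], 0), ([], 0), ([], 0), ([], 0), ([], 0), ([], 0)],
  [([], 0), ([], 0), ([], 0), ([], 0), ([], 0), ([], 0), ([], 0), ([], 0)],
  [([1, 2, 3], 1), ([], 0), ([1, 2, 3], 2), ([], 0), ([], 0), ([], 0), ([], 0), ([], 0)],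
  [([], 0), ([], 0), ([], 0), ([], 0), ([], 0), ([], 0), ([], 0), ([], 0)],
  [([], 0), ([], 0), ([], 0), ([], 0), ([], 0), ([], 0), ([], 0), ([], 0)],
  [([], 0), ([], 0), ([], 0), ([], 0), ([], 0), ([], 0), ([], 0), ([], 0)],
  [([1, 2, 0, 1, 0], 2), ([], 0), ([], 0), ([], 0), ([], 0), ([], 0), ([], 0), ([], 0)],
  [([], 0), ([], 0), ([], 0), ([], 0), ([], 0), ([], 0), ([], 0), ([], 0)],
  [([], 0), ([], 0), ([2, 1, 2, 0], 0), ([2, 1, 2, 0], 2), ([], 0), ([], 0), ([], 0), ([], 0)],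
  [([], 0), ([], 0), ([], 0), ([], 0), ([], 0), ([], 0), ([], 0), ([], 0)],
  [([], 0), ([], 0), ([], 0), ([], 0), ([], 0), ([], 0), ([], 0), ([], 0)],
  [([3, 0], 3), ([], 0), ([], 0), ([], 0), ([], 0), ([], 0), ([], 0), ([], 0)],
  [([], 0), ([], 0), ([], 0), ([], 0), ([], 0), ([], 0), ([], 0), ([], 0)],
  [([], 0), ([1, 2, 3, 1], 1), ([], 0), ([], 0), ([1, 2, 3, 1], 2), ([], 0), ([], 0), ([], 0)],
  [([2, 1, 2, 3, 2], 2), ([], 0), ([], 0), ([], 0), ([], 0), ([], 0), ([], 0), ([], 0)],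
  [([], 0), ([], 0), ([], 0), ([], 0), ([], 0), ([], 0), ([], 0), ([], 0)],
  [([], 0), ([1, 2, 1, 0], 2), ([], 0), ([], 0), ([], 0), ([], 0), ([], 0), ([], 0)],
  [([], 0), ([], 0), ([], 0), ([], 0), ([], 0), ([], 0), ([], 0), ([], 0)],
  [([], 0), ([], 0), ([1, 2, 0, 1, 2, 0], 2), ([], 0), ([], 0), ([], 0), ([], 0), ([], 0)],
  [([], 0), ([], 0), ([], 0), ([], 0), ([], 0), ([], 0), ([], 0), ([], 0)],
  [([], 0), ([], 0), ([], 0), ([], 0), ([2, 1, 2, 0, 1], 0), ([2, 1, 2, 0, 1], 2), ([], 0), ([], 0)],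
  [([], 0), ([], 0), ([3, 2, 0], 3), ([], 0), ([], 0), ([], 0), ([], 0), ([], 0)],
  [([], 0), ([], 0), ([], 0), ([], 0), ([], 0), ([], 0), ([], 0), ([], 0)],
  [([], 0), ([3, 0, 1], 3), ([], 0), ([], 0), ([], 0), ([], 0), ([], 0), ([], 0)],
  [([], 0), ([2, 1, 2, 3, 2, 1], 2), ([], 0), ([], 0), ([], 0), ([], 0), ([], 0), ([], 0)],
  [([], 0), ([], 0), ([], 0), ([1, 2, 3, 1, 2], 1), ([], 0), ([], 0), ([1, 2, 3, 1, 2], 2), ([], 0)],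
  [([], 0), ([], 0), ([2, 1, 2, 3], 2), ([], 0), ([], 0), ([], 0), ([], 0), ([], 0)],
  [([], 0), ([], 0), ([], 0), ([], 0), ([], 0), ([], 0), ([], 0), ([], 0)],
  [([], 0), ([], 0), ([], 0), ([2, 1, 2, 1, 0], 2), ([], 0), ([], 0), ([], 0), ([], 0)],
  [([], 0), ([], 0), ([], 0), ([], 0), ([], 0), ([], 0), ([], 0), ([], 0)],
  [([], 0), ([], 0), ([], 0), ([], 0), ([1, 2, 0, 1, 2, 0, 1], 2), ([], 0), ([], 0), ([], 0)],
  [([1, 2, 3, 0, 1, 0], 2), ([], 0), ([0], 4), ([], 0), ([], 0), ([], 0), ([], 0), ([], 0)],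
  [([], 0), ([], 0), ([], 0), ([], 0), ([], 0), ([], 0), ([2, 1, 2, 0, 1, 2], 0), ([2, 1, 2, 0, 1, 2], 2)],
  [([], 0), ([], 0), ([], 0), ([], 0), ([3, 2, 0, 1], 3), ([], 0), ([], 0), ([], 0)],
  [([2, 1, 2, 3, 2, 0], 2), ([3], 5), ([], 0), ([], 0), ([], 0), ([], 0), ([], 0), ([], 0)],
  [([], 0), ([], 0), ([], 0), ([3, 0, 1, 2], 3), ([], 0), ([], 0), ([], 0), ([], 0)],
  [([], 0), ([], 0), ([], 0), ([2, 1, 2, 3, 2, 1, 2], 2), ([], 0), ([], 0), ([], 0), ([], 0)],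
  [([], 0), ([], 0), ([], 0), ([], 0), ([], 0), ([1, 2, 3, 1, 2, 1], 1), ([], 0), ([1, 2, 3, 1, 2, 1], 2)],
  [([], 0), ([], 0), ([], 0), ([], 0), ([2, 1, 2, 3, 1], 2), ([], 0), ([], 0), ([], 0)],
  [([], 0), ([], 0), ([], 0), ([], 0), ([], 0), ([], 0), ([], 0), ([], 0)],
  [([], 0), ([], 0), ([], 0), ([], 0), ([], 0), ([2, 1, 2, 0, 1, 0], 2), ([], 0), ([], 0)],
  [([], 0), ([], 0), ([], 0), ([], 0), ([], 0), ([], 0), ([], 0), ([], 0)],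
  [([], 0), ([], 0), ([], 0), ([], 0), ([], 0), ([], 0), ([2, 1, 2, 0, 1, 2, 0, 1], 2), ([], 0)],
  [([], 0), ([1, 2, 3, 1, 0], 2), ([], 0), ([], 0), ([0, 1], 4), ([], 0), ([], 0), ([], 0)],
  [([], 0), ([], 0), ([], 0), ([], 0), ([], 0), ([], 0), ([], 0), ([], 0)],
  [([], 0), ([], 0), ([], 0), ([], 0), ([], 0), ([], 0), ([3, 2, 0, 1, 2], 3), ([], 0)],
  [([], 0), ([], 0), ([2, 1, 2, 3, 0], 2), ([3, 2], 5), ([], 0), ([], 0), ([], 0), ([], 0)],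
  [([], 0), ([], 0), ([], 0), ([], 0), ([], 0), ([3, 0, 1, 2, 1], 3), ([], 0), ([], 0)],
  [([], 0), ([], 0), ([], 0), ([], 0), ([], 0), ([2, 1, 2, 3, 2, 1, 2, 1], 2), ([], 0), ([], 0)],
  [([], 0), ([], 0), ([], 0), ([], 0), ([], 0), ([], 0), ([], 0), ([], 0)],
  [([], 0), ([], 0), ([], 0), ([], 0), ([], 0), ([], 0), ([], 0), ([], 0)],
  [([], 0), ([], 0), ([], 0), ([], 0), ([], 0), ([], 0), ([2, 1, 2, 3, 1, 2], 2), ([], 0)],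
  [([], 0), ([], 0), ([], 0), ([], 0), ([], 0), ([], 0), ([], 0), ([2, 1, 2, 0, 1, 2, 0], 2)],
  [([], 0), ([], 0), ([], 0), ([], 0), ([], 0), ([], 0), ([], 0), ([], 0)],
  [([], 0), ([], 0), ([], 0), ([], 0), ([], 0), ([], 0), ([], 0), ([], 0)],
  [([], 0), ([], 0), ([], 0), ([1, 2, 3, 1, 2, 0], 2), ([], 0), ([], 0), ([0, 1, 2], 4), ([], 0)],
  [([], 0), ([], 0), ([], 0), ([], 0), ([], 0), ([], 0), ([], 0), ([], 0)],
  [([], 0), ([], 0), ([], 0), ([], 0), ([], 0), ([], 0), ([], 0), ([3, 2, 0, 1, 2, 1], 3)],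
  [([], 0), ([], 0), ([], 0), ([], 0), ([2, 1, 2, 3, 0, 1], 2), ([3, 2, 1], 5), ([], 0), ([], 0)],
  [([], 0), ([], 0), ([], 0), ([], 0), ([], 0), ([], 0), ([], 0), ([], 0)],
  [([], 0), ([], 0), ([], 0), ([], 0), ([], 0), ([], 0), ([], 0), ([], 0)],
  [([], 0), ([], 0), ([], 0), ([], 0), ([], 0), ([], 0), ([], 0), ([2, 1, 2, 3, 1, 2, 1], 2)],
  [([], 0), ([], 0), ([], 0), ([], 0), ([], 0), ([], 0), ([], 0), ([], 0)],
  [([], 0), ([], 0), ([], 0), ([], 0), ([], 0), ([], 0), ([], 0), ([], 0)],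
  [([], 0), ([], 0), ([], 0), ([], 0), ([], 0), ([], 0), ([], 0), ([], 0)],
  [([], 0), ([], 0), ([], 0), ([], 0), ([], 0), ([], 0), ([], 0), ([], 0)],
  [([], 0), ([], 0), ([], 0), ([], 0), ([], 0), ([1, 2, 3, 1, 2, 0, 1], 2), ([], 0), ([0, 1, 2, 1], 4)],
  [([], 0), ([], 0), ([], 0), ([], 0), ([], 0), ([], 0), ([], 0), ([], 0)],
  [([], 0), ([], 0), ([], 0), ([], 0), ([], 0), ([], 0), ([], 0), ([], 0)],
  [([], 0), ([], 0), ([], 0), ([], 0), ([], 0), ([], 0), ([], 0), ([], 0)],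
  [([], 0), ([], 0), ([], 0), ([], 0), ([], 0), ([], 0), ([2, 1, 2, 3, 0, 1, 2], 2), ([3, 2, 1, 2], 5)],
  [([], 0), ([], 0), ([], 0), ([], 0), ([], 0), ([], 0), ([], 0), ([], 0)],
  [([], 0), ([], 0), ([], 0), ([], 0), ([], 0), ([], 0), ([], 0), ([], 0)],
  [([], 0), ([], 0), ([], 0), ([], 0), ([], 0), ([], 0), ([], 0), ([], 0)],
  [([], 0), ([], 0), ([], 0), ([], 0), ([], 0), ([], 0), ([], 0), ([], 0)],
  [([], 0), ([], 0), ([], 0), ([], 0), ([], 0), ([], 0), ([], 0), ([], 0)],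
  [([], 0), ([], 0), ([], 0), ([], 0), ([], 0), ([], 0), ([], 0), ([], 0)],
  [([2, 1, 2, 3, 1, 0], 2), ([], 0), ([], 0), ([], 0), ([], 0), ([], 0), ([], 0), ([], 0)],
  [([], 0), ([], 0), ([], 0), ([], 0), ([], 0), ([], 0), ([], 0), ([], 0)],
  [([], 0), ([], 0), ([], 0), ([], 0), ([], 0), ([], 0), ([], 0), ([], 0)],
  [([], 0), ([], 0), ([], 0), ([], 0), ([], 0), ([], 0), ([], 0), ([], 0)],
  [([], 0), ([], 0), ([], 0), ([], 0), ([], 0), ([], 0), ([], 0), ([], 0)],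
  [([], 0), ([], 0), ([], 0), ([], 0), ([], 0), ([], 0), ([], 0), ([], 0)],
  [([1, 2, 3, 1, 2, 1, 0], 1), ([3, 0, 1, 2, 1, 0], 3), ([1, 2, 3, 1, 2, 1, 0], 2), ([], 0), ([], 0), ([1, 2, 3, 1, 2, 0, 1, 0], 2), ([3, 2, 0, 1, 2, 1, 0], 3), ([0, 1, 2, 1, 0], 4)],
  [([], 0), ([2, 1, 2, 3, 0, 1, 0], 2), ([], 0), ([], 0), ([], 0), ([], 0), ([], 0), ([], 0)],
  [([], 0), ([], 0), ([], 0), ([], 0), ([], 0), ([], 0), ([], 0), ([], 0)],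
  [([], 0), ([], 0), ([2, 1, 2, 3, 1, 2, 0], 2), ([], 0), ([], 0), ([], 0), ([], 0), ([], 0)],
  [([], 0), ([], 0), ([], 0), ([], 0), ([], 0), ([], 0), ([], 0), ([], 0)],
  [([], 0), ([], 0), ([], 0), ([], 0), ([], 0), ([], 0), ([], 0), ([], 0)],
  [([2, 1, 2, 0, 1, 2, 3], 0), ([2, 1, 2, 0, 1, 2, 3], 2), ([3, 2, 0, 1, 2, 3], 3), ([], 0), ([], 0), ([3, 2, 0, 1, 2, 3, 1], 3), ([2, 1, 2, 0, 1, 2, 3, 2], 2), ([3, 2, 1, 2, 3], 5)],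
  [([2, 1, 2, 3, 2, 1, 2, 1, 0], 2), ([3, 2, 1, 0], 5), ([], 0), ([], 0), ([], 0), ([], 0), ([], 0), ([], 0)],
  [([], 0), ([], 0), ([], 0), ([], 0), ([], 0), ([], 0), ([], 0), ([], 0)],
  [([], 0), ([], 0), ([], 0), ([2, 1, 2, 3, 0, 1, 2, 0], 2), ([], 0), ([], 0), ([], 0), ([], 0)],
  [([], 0), ([], 0), ([], 0), ([], 0), ([2, 1, 2, 3, 1, 2, 0, 1], 2), ([], 0), ([], 0), ([], 0)],
  [([], 0), ([], 0), ([], 0), ([], 0), ([], 0), ([], 0), ([], 0), ([], 0)],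
  [([2, 1, 2, 0, 1, 2, 3, 0, 1], 2), ([], 0), ([0, 1, 2, 3], 4), ([], 0), ([], 0), ([], 0), ([], 0), ([], 0)],
  [([], 0), ([], 0), ([2, 1, 2, 3, 1, 2, 1, 0], 2), ([3, 2, 1, 2, 0], 5), ([], 0), ([], 0), ([], 0), ([], 0)],
  [([], 0), ([], 0), ([], 0), ([], 0), ([], 0), ([2, 1, 2, 3, 0, 1, 2, 0, 1], 2), ([], 0), ([], 0)],
  [([], 0), ([], 0), ([], 0), ([], 0), ([], 0), ([], 0), ([2, 1, 2, 3, 1, 2, 0, 1, 2], 2), ([], 0)],
  [([], 0), ([2, 1, 2, 0, 1, 2, 3, 0], 2), ([], 0), ([], 0), ([0, 1, 2, 3, 1], 4), ([], 0), ([], 0), ([], 0)],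
  [([], 0), ([], 0), ([], 0), ([], 0), ([2, 1, 2, 3, 1, 2, 0, 1, 0], 2), ([3, 2, 1, 2, 0, 1], 5), ([], 0), ([], 0)],
  [([], 0), ([], 0), ([], 0), ([], 0), ([], 0), ([], 0), ([], 0), ([2, 1, 2, 3, 1, 2, 0, 1, 2, 1], 2)],
  [([], 0), ([], 0), ([], 0), ([2, 1, 2, 0, 1, 2, 3, 2, 0], 2), ([], 0), ([], 0), ([0, 1, 2, 3, 1, 2], 4), ([], 0)],
  [([], 0), ([], 0), ([], 0), ([], 0), ([], 0), ([], 0), ([2, 1, 2, 3, 1, 2, 0, 1, 2, 0], 2), ([3, 2, 1, 2, 0, 1, 2], 5)],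
  [([], 0), ([], 0), ([], 0), ([], 0), ([], 0), ([2, 1, 2, 0, 1, 2, 3, 2, 0, 1], 2), ([], 0), ([0, 1, 2, 3, 1, 2, 1], 4)],
  [([3, 2, 0, 1, 2, 3, 1, 0], 3), ([0, 1, 2, 3, 1, 0], 4), ([3, 2, 1, 2, 3, 0], 5), ([], 0), ([], 0), ([3, 2, 1, 2, 3, 0, 1], 5), ([0, 1, 2, 3, 1, 2, 0], 4), ([], 6)]]

/-- the entry `(k, j)` -/
def tabEntry (k j : ℕ) : List ℕ := Cfsg.Agent.Helper36.F4Mix.tws1.getD k [] ++ Cfsg.Agent.Helper36.F4Mix.L8.getD j []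

/-- the check of one entry -/
def tabEntryOK (k j : ℕ) : Bool :=
  (!(List.range 48).all fun x => aW (tabEntry k j) (aW (tabEntry k j) x) == x) ||
  ((List.range 48).all fun x => aW (tabEntry k j) x == x) ||
  ((((tabI.getD k []).getD j ([], 0)).1.all fun i => decide (i < 4)) &&
    decide (((tabI.getD k []).getD j ([], 0)).2 < 7) &&
    (negCount (tabEntry k j) == negCount (stdW.getD ((tabI.getD k []).getD j ([], 0)).2 [])) &&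
    (List.range 48).all fun x =>
      aW (((tabI.getD k []).getD j ([], 0)).1 ++ tabEntry k j ++ ((tabI.getD k []).getD j ([], 0)).1.reverse) x ==
        aW (stdW.getD ((tabI.getD k []).getD j ([], 0)).2 []) x)

def tabOK : Bool := (List.range 144).all fun k => (List.range 8).all fun j => tabEntryOK k j

theorem tabOK_true : tabOK = true := by decide +kernel

end Cfsg.Agent.Helper22.F4Odd
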