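-- helper22: pieces (G2-D1), (G2-D1') of #5933 for helper43 (S4632).
import Cfsg.Agent.Helper43.G2Abs

set_option autoImplicit false

namespace Cfsg.Agent.Helper22.G2S

open Cfsg.Agent.Helper43.G2S Cfsg.Agent.Helper42

variable {G S : Type*} [Group G] [Group S] [Finite G] [Finite S]

/-- the product of two `p`-subgroups is a `p`-subgroup of the product -/
theorem isPGroup_prod {S₁ S₂ : Type*} [Group S₁] [Group S₂] {p : ℕ} {A : Subgroup S₁}
    {B : Subgroup S₂} (hA : IsPGroup p A) (hB : IsPGroup p B) : IsPGroup p (A.prod B) := by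
  rintro ⟨⟨a, b⟩, ha, hb⟩
  obtain ⟨k₁, hk₁⟩ := hA ⟨a, ha⟩
  obtain ⟨k₂, hk₂⟩ := hB ⟨b, hb⟩
  have ha' : a ^ p ^ k₁ = 1 := by simpa using congrArg Subtype.val hk₁
  have hb' : b ^ p ^ k₂ = 1 := by simpa using congrArg Subtype.val hk₂
  refine ⟨k₁ + k₂, ?_⟩
  apply Subtype.ext
  have h1 : a ^ p ^ (k₁ + k₂) = 1 := by rw [pow_add, pow_mul, ha', one_pow]
  have h2 : b ^ p ^ (k₁ + k₂) = 1 := by rw [pow_add, mul_comm, pow_mul, hb', one_pow]
  simp [Prod.ext_iff, h1, h2]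

/-- (G2-D1) a Sylow subgroup of a product is a product of Sylow subgroups -/
theorem sylow_prod_eq {S₁ S₂ : Type*} [Group S₁] [Group S₂] [Finite S₁] [Finite S₂] {p : ℕ}
    [Fact p.Prime] (R : Sylow p (S₁ × S₂)) :
    ∃ (Q₁ : Sylow p S₁) (Q₂ : Sylow p S₂),
      (R : Subgroup (S₁ × S₂)) = (Q₁ : Subgroup S₁).prod (Q₂ : Subgroup S₂) := by
  have hA : IsPGroup p ((R : Subgroup (S₁ × S₂)).map (MonoidHom.fst S₁ S₂)) := R.2.map _
  have hB : IsPGroup p ((R : Subgroup (S₁ × S₂)).map (MonoidHom.snd S₁ S₂)) := R.2.map _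
  obtain ⟨Q₁, hQ₁⟩ := hA.exists_le_sylow
  obtain ⟨Q₂, hQ₂⟩ := hB.exists_le_sylow
  refine ⟨Q₁, Q₂, ?_⟩
  have hle : (R : Subgroup (S₁ × S₂)) ≤ (Q₁ : Subgroup S₁).prod (Q₂ : Subgroup S₂) := by
    intro x hx
    exact ⟨hQ₁ ⟨x, hx, rfl⟩, hQ₂ ⟨x, hx, rfl⟩⟩
  exact (R.is_maximal' (isPGroup_prod Q₁.2 Q₂.2) hle).symm

/-- (G2-D1') a maximal `p`-subgroup of `C` meets a subgroup `L` normalized by `C` in a maximal
`p`-subgroup of `L` -/
theorem max_inf_normal {p : ℕ} [Fact p.Prime] (C L P : Subgroup G) (hLC : L ≤ C)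
    (hnorm : ∀ c ∈ C, ∀ l ∈ L, c * l * c⁻¹ ∈ L) (hP : IsPGroup p P) (hPC : P ≤ C)
    (hmax : ∀ Q : Subgroup G, IsPGroup p Q → Q ≤ C → P ≤ Q → Q ≤ P) :
    ∀ Q : Subgroup G, IsPGroup p Q → Q ≤ L → P ⊓ L ≤ Q → Q ≤ P ⊓ L := by
  intro Q hQ hQL hPLQ
  -- `P` as a Sylow subgroup of `C`
  let PC : Sylow p C :=
    { toSubgroup := P.subgroupOf C
      isPGroup' := hP.comap_subtype
      is_maximal' := by
        intro Q' hQ' hle
        have h1 : Q'.map C.subtype ≤ P := by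
          refine hmax _ (hQ'.map _) (Subgroup.map_subtype_le _) ?_
          intro x hx
          exact ⟨⟨x, hPC hx⟩, hle (Subgroup.mem_subgroupOf.mpr hx), rfl⟩
        apply le_antisymm
        · intro x hx
          rw [Subgroup.mem_subgroupOf]
          exact h1 ⟨x, hx, rfl⟩
        · exact hle }
  obtain ⟨R, hR⟩ := (hQ.comap_subtype (K := C)).exists_le_sylow
  obtain ⟨c, hc⟩ := MulAction.exists_smul_eq C R PC
  -- conjugation by `c` maps `Q` into `P ⊓ L`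
  have h1 : ∀ q ∈ Q, (c : G) * q * (c : G)⁻¹ ∈ P ⊓ L := by
    intro q hq
    have hqC : q ∈ C := hLC (hQL hq)
    have h2 : (⟨q, hqC⟩ : C) ∈ R := hR (Subgroup.mem_subgroupOf.mpr hq)
    have h3 : c * ⟨q, hqC⟩ * c⁻¹ ∈ PC := by
      rw [← hc, Sylow.smul_def]
      exact ⟨⟨q, hqC⟩, h2, rfl⟩
    refine ⟨?_, hnorm c c.2 q (hQL hq)⟩
    have h4 : c * ⟨q, hqC⟩ * c⁻¹ ∈ P.subgroupOf C := h3
    rw [Subgroup.mem_subgroupOf] at h4
    simpa using h4
  have h5 : Q.map (MulAut.conj (c : G)).toMonoidHom ≤ P ⊓ L := by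
    rintro _ ⟨q, hq, rfl⟩
    simpa using h1 q hq
  have h6 : Nat.card (Q.map (MulAut.conj (c : G)).toMonoidHom) = Nat.card Q :=
    Subgroup.card_map_of_injective (MulAut.conj (c : G)).injective
  have h7 : Nat.card Q ≤ Nat.card (P ⊓ L : Subgroup G) := by
    rw [← h6]; exact Subgroup.card_le_of_le h5
  have h8 : P ⊓ L = Q := Subgroup.eq_of_le_of_card_ge hPLQ h7
  exact h8.ge

end Cfsg.Agent.Helper22.G2S
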