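-- helper22: piece (G2-D3) of #5933 for helper43 (S4632).
import Cfsg.Agent.Helper43.G2Abs
import Cfsg.Agent.Helper22.G2D1

set_option autoImplicit false

namespace Cfsg.Agent.Helper22.G2S

open Cfsg.Agent.Helper43.G2S Cfsg.Agent.Helper42

variable {G S : Type*} [Group G] [Group S] [Finite G] [Finite S]

/-- (G2-D3) -/
theorem exists_cand (m : S × S →* G) (t z0 : G) (ζ : S) (τ : S →* S)
    (hζ2 : ζ * ζ = 1) (hζc : ∀ s, s * ζ = ζ * s)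
    (hker : ∀ s₁ s₂, m (s₁, s₂) = 1 ↔ (s₁ = 1 ∧ s₂ = 1) ∨ (s₁ = ζ ∧ s₂ = ζ))
    (hz0 : m (ζ, 1) = z0) (ht2 : t * t = 1)
    (htm : ∀ s₁ s₂, t * m (s₁, s₂) * t⁻¹ = m (τ s₁, τ s₂))
    (htz : t * z0 = z0 * t)
    (hcent : ∀ g : G, g * z0 = z0 * g → g ∈ m.range ∨ ∃ l ∈ m.range, g = t * l) :
    ∃ (P : Subgroup G) (Q₁ Q₂ : Sylow 2 S), IsCand m t z0 P Q₁ Q₂ := by
  have : Fact (Nat.Prime 2) := ⟨Nat.prime_two⟩
  -- the centralizer of `z0`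
  set C : Subgroup G := Subgroup.centralizer {z0} with hCdef
  have hC : ∀ g : G, g ∈ C ↔ g * z0 = z0 * g := by
    intro g
    rw [hCdef, Subgroup.mem_centralizer_iff]
    constructor
    · intro h; exact (h z0 rfl).symm
    · intro h x hx
      rw [Set.mem_singleton_iff.mp hx]; exact h.symm
  set L : Subgroup G := m.range with hLdef
  have hLC : L ≤ C := by
    rintro _ ⟨⟨s₁, s₂⟩, rfl⟩
    rw [hC, ← hz0, ← map_mul, ← map_mul, Prod.mk_mul_mk, Prod.mk_mul_mk, hζc s₁, mul_one,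
      one_mul]
  have htinv : t⁻¹ = t := inv_eq_of_mul_eq_one_right ht2
  have hnorm : ∀ c ∈ C, ∀ l ∈ L, c * l * c⁻¹ ∈ L := by
    intro c hc l hl
    rcases hcent c ((hC c).mp hc) with h | ⟨l', hl', rfl⟩
    · exact L.mul_mem (L.mul_mem h hl) (L.inv_mem h)
    · obtain ⟨⟨s₁, s₂⟩, hs⟩ : l' * l * l'⁻¹ ∈ L := L.mul_mem (L.mul_mem hl' hl) (L.inv_mem hl')
      have : t * l' * l * (t * l')⁻¹ = t * (l' * l * l'⁻¹) * t⁻¹ := by group
      rw [this, ← hs, htm]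
      exact ⟨_, rfl⟩
  have htC : t ∈ C := (hC t).mpr htz
  -- a maximal 2-subgroup of `C` containing `t`
  have hT : IsPGroup 2 (Subgroup.zpowers (⟨t, htC⟩ : C)) := by
    rintro ⟨x, hx⟩
    obtain ⟨k, rfl⟩ := Subgroup.mem_zpowers_iff.mp hx
    refine ⟨1, ?_⟩
    apply Subtype.ext
    have h1 : (⟨t, htC⟩ : C) * ⟨t, htC⟩ = 1 := Subtype.ext ht2
    simp only [pow_one, Subgroup.coe_pow, Subgroup.coe_one]
    rw [← zpow_natCast, ← zpow_mul, mul_comm, zpow_mul, zpow_natCast, pow_two, h1, one_zpow]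
  obtain ⟨PC, hPC⟩ := hT.exists_le_sylow
  set P : Subgroup G := (PC : Subgroup C).map C.subtype with hPdef
  have hPle : P ≤ C := Subgroup.map_subtype_le _
  have hPp : IsPGroup 2 P := PC.2.map _
  have htP : t ∈ P := ⟨⟨t, htC⟩, hPC (Subgroup.mem_zpowers _), rfl⟩
  have hmemP : ∀ (x : G) (hx : x ∈ C), (⟨x, hx⟩ : C) ∈ PC ↔ x ∈ P := by
    intro x hx
    constructor
    · intro h; exact ⟨⟨x, hx⟩, h, rfl⟩
    · rintro ⟨y, hy, hyx⟩
      have : y = ⟨x, hx⟩ := Subtype.ext hyx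
      rwa [← this]
  have hmax : ∀ Q : Subgroup G, IsPGroup 2 Q → Q ≤ C → P ≤ Q → Q ≤ P := by
    intro Q hQ hQC hPQ
    have h1 : (PC : Subgroup C) ≤ Q.subgroupOf C := by
      intro x hx
      rw [Subgroup.mem_subgroupOf]
      exact hPQ ⟨x, hx, rfl⟩
    have h2 : Q.subgroupOf C = PC := PC.is_maximal' hQ.comap_subtype h1
    intro q hq
    have h3 : (⟨q, hQC hq⟩ : C) ∈ Q.subgroupOf C := Subgroup.mem_subgroupOf.mpr hq
    rw [h2] at h3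
    exact (hmemP q (hQC hq)).mp h3
  -- `P ⊓ L` is a maximal 2-subgroup of `L`
  have hPL := max_inf_normal (p := 2) C L P hLC hnorm hPp hPle hmax
  -- the kernel of `m` is a 2-group
  have hkerp : IsPGroup 2 m.ker := by
    rintro ⟨⟨s₁, s₂⟩, hs⟩
    refine ⟨1, ?_⟩
    apply Subtype.ext
    rcases (hker s₁ s₂).mp (MonoidHom.mem_ker.mp hs) with ⟨rfl, rfl⟩ | ⟨rfl, rfl⟩
    · simp
    · simp [pow_two, hζ2]
  -- the preimage of `P ⊓ L` is a Sylow 2-subgroup of `S × S`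
  let R : Sylow 2 (S × S) :=
    { toSubgroup := (P ⊓ L).comap m
      isPGroup' := (hPp.to_le inf_le_left).comap_of_ker_isPGroup m hkerp
      is_maximal' := by
        intro R' hR' hle
        have h1 : R'.map m ≤ P ⊓ L := by
          refine hPL _ (hR'.map m) ?_ ?_
          · rintro _ ⟨y, -, rfl⟩
            exact ⟨y, rfl⟩
          · rintro x hx
            obtain ⟨y, rfl⟩ : x ∈ m.range := hx.2
            exact ⟨y, hle (Subgroup.mem_comap.mpr hx), rfl⟩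
        apply le_antisymm
        · intro y hy
          exact Subgroup.mem_comap.mpr (h1 ⟨y, hy, rfl⟩)
        · exact hle }
  obtain ⟨Q₁, Q₂, hQ⟩ := sylow_prod_eq R
  have hR : ∀ s₁ s₂, (s₁ ∈ Q₁ ∧ s₂ ∈ Q₂) ↔ (m (s₁, s₂) ∈ P ∧ m (s₁, s₂) ∈ L) := by
    intro s₁ s₂
    have h1 : ((s₁, s₂) : S × S) ∈ (R : Subgroup (S × S)) ↔
        (s₁, s₂) ∈ (Q₁ : Subgroup S).prod (Q₂ : Subgroup S) := by rw [hQ]
    rw [Subgroup.mem_prod] at h1
    exact h1.symm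
  refine ⟨P, Q₁, Q₂, ?_⟩
  refine
    { isP := hPp
      le_cent := fun x hx => (hC x).mp (hPle hx)
      max := fun Q hQp hQc hPQ => hmax Q hQp (fun x hx => (hC x).mpr (hQc x hx)) hPQ
      t_mem := htP
      m_mem := fun s₁ hs₁ s₂ hs₂ => ((hR s₁ s₂).mp ⟨hs₁, hs₂⟩).1
      cases := ?_ }
  intro x hx
  rcases hcent x ((hC x).mp (hPle hx)) with ⟨⟨s₁, s₂⟩, rfl⟩ | ⟨l, ⟨⟨s₁, s₂⟩, rfl⟩, rfl⟩
  · obtain ⟨h1, h2⟩ := (hR s₁ s₂).mpr ⟨hx, ⟨_, rfl⟩⟩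
    exact ⟨s₁, h1, s₂, h2, Or.inl rfl⟩
  · have hl : m (s₁, s₂) ∈ P := by
      have : m (s₁, s₂) = t⁻¹ * (t * m (s₁, s₂)) := by group
      rw [this]
      exact P.mul_mem (P.inv_mem htP) hx
    obtain ⟨h1, h2⟩ := (hR s₁ s₂).mpr ⟨hl, ⟨_, rfl⟩⟩
    exact ⟨s₁, h1, s₂, h2, Or.inr rfl⟩

end Cfsg.Agent.Helper22.G2S
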