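import Mathlib

/-!
# S4385 (Goldschmidt's dihedral lemma; architect helper42), leaf (W4B): a word computation (helper22)

`ρ = a0 * a4` acts on `⟨a1, a2, a3⟩` by `a1 ↦ a1 a2 a3`, `a2 ↦ a2`, `a3 ↦ a2 a3`; `ρ ^ 4` centralizes.
-/

set_option autoImplicit false
set_option linter.unusedSimpArgs false

universe u

namespace Cfsg.Agent.Helper22.GD

theorem W4B_pow_four_apply {Γ : Type*} [Group Γ] (r x : Γ) :
    MulAut.conj (r ^ 4) x = MulAut.conj r (MulAut.conj r (MulAut.conj r (MulAut.conj r x))) := by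
  rw [map_pow]
  simp only [pow_succ, pow_zero, one_mul, MulAut.mul_apply]

theorem W4B_commute_of_conj {Γ : Type*} [Group Γ] (g x : Γ) (h : MulAut.conj g x = x) :
    Commute g x := by
  rw [MulAut.conj_apply] at h
  exact mul_inv_eq_iff_eq_mul.mp h

/-- (W4B) `ρ`: `a1 ↦ a1 a2 a3`, `a2 ↦ a2`, `a3 ↦ a2 a3`; order 4. -/
theorem w4b {Γ : Type*} [Group Γ] (a0 a1 a2 a3 a4 : Γ)
    (h0 : a0 * a0 = 1) (h1 : a1 * a1 = 1) (h2 : a2 * a2 = 1) (h3 : a3 * a3 = 1) (h4 : a4 * a4 = 1)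
    (c01 : Commute a0 a1) (c12 : Commute a1 a2) (c23 : Commute a2 a3) (c34 : Commute a3 a4)
    (c02 : Commute a0 a2) (c13 : Commute a1 a3) (c24 : Commute a2 a4)
    (e03 : a0 * a3 * a0 * a3 = a2) (e14 : a1 * a4 * a1 * a4 = a3) :
    (a0 * a4) * a3 * (a0 * a4)⁻¹ = a2 * a3 ∧
    Commute ((a0 * a4) ^ 4) a1 ∧ Commute ((a0 * a4) ^ 4) a2 ∧ Commute ((a0 * a4) ^ 4) a3 := by
  have i0 : a0⁻¹ = a0 := inv_eq_of_mul_eq_one_right h0
  have i4 : a4⁻¹ = a4 := inv_eq_of_mul_eq_one_right h4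
  -- sorting rules for the commuting involutions `a1, a2, a3`
  have s21 : a2 * a1 = a1 * a2 := c12.eq.symm
  have s31 : a3 * a1 = a1 * a3 := c13.eq.symm
  have s32 : a3 * a2 = a2 * a3 := c23.eq.symm
  have s21' : ∀ x, a2 * (a1 * x) = a1 * (a2 * x) := fun x => by rw [← mul_assoc, s21, mul_assoc]
  have s31' : ∀ x, a3 * (a1 * x) = a1 * (a3 * x) := fun x => by rw [← mul_assoc, s31, mul_assoc]
  have s32' : ∀ x, a3 * (a2 * x) = a2 * (a3 * x) := fun x => by rw [← mul_assoc, s32, mul_assoc]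
  have h1' : ∀ x, a1 * (a1 * x) = x := fun x => by rw [← mul_assoc, h1, one_mul]
  have h2' : ∀ x, a2 * (a2 * x) = x := fun x => by rw [← mul_assoc, h2, one_mul]
  have h3' : ∀ x, a3 * (a3 * x) = x := fun x => by rw [← mul_assoc, h3, one_mul]
  -- the actions of `a0` and `a4`
  have k4_1 : MulAut.conj a4 a1 = a1 * a3 := by
    rw [MulAut.conj_apply, i4]
    calc a4 * a1 * a4 = a1 * a1 * (a4 * a1 * a4) := by rw [h1, one_mul]
      _ = a1 * (a1 * a4 * a1 * a4) := by simp only [mul_assoc]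
      _ = a1 * a3 := by rw [e14]
  have k4_2 : MulAut.conj a4 a2 = a2 := by
    rw [MulAut.conj_apply, i4, ← c24.eq, mul_assoc, h4, mul_one]
  have k4_3 : MulAut.conj a4 a3 = a3 := by
    rw [MulAut.conj_apply, i4, ← c34.eq, mul_assoc, h4, mul_one]
  have k0_1 : MulAut.conj a0 a1 = a1 := by
    rw [MulAut.conj_apply, i0, c01.eq, mul_assoc, h0, mul_one]
  have k0_2 : MulAut.conj a0 a2 = a2 := by
    rw [MulAut.conj_apply, i0, c02.eq, mul_assoc, h0, mul_one]
  have k0_3 : MulAut.conj a0 a3 = a2 * a3 := by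
    rw [MulAut.conj_apply, i0]
    calc a0 * a3 * a0 = a0 * a3 * a0 * (a3 * a3) := by rw [h3, mul_one]
      _ = (a0 * a3 * a0 * a3) * a3 := by simp only [mul_assoc]
      _ = a2 * a3 := by rw [e03]
  -- the action of `ρ`
  have r1 : MulAut.conj (a0 * a4) a1 = a1 * a2 * a3 := by
    rw [map_mul, MulAut.mul_apply, k4_1, map_mul, k0_1, k0_3, mul_assoc]
  have r2 : MulAut.conj (a0 * a4) a2 = a2 := by
    rw [map_mul, MulAut.mul_apply, k4_2, k0_2]
  have r3 : MulAut.conj (a0 * a4) a3 = a2 * a3 := by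
    rw [map_mul, MulAut.mul_apply, k4_3, k0_3]
  have hm : ∀ x y : Γ, MulAut.conj (a0 * a4) (x * y) =
      MulAut.conj (a0 * a4) x * MulAut.conj (a0 * a4) y := fun x y => map_mul _ x y
  refine ⟨?_, W4B_commute_of_conj _ _ ?_, W4B_commute_of_conj _ _ ?_, W4B_commute_of_conj _ _ ?_⟩
  · rw [← MulAut.conj_apply, r3]
  · rw [W4B_pow_four_apply]
    simp only [r1, r2, r3, hm, mul_assoc, s21, s31, s32, s21', s31', s32', h1, h2, h3, h1', h2',
      h3', mul_one]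
  · rw [W4B_pow_four_apply]
    simp only [r2]
  · rw [W4B_pow_four_apply]
    simp only [r1, r2, r3, hm, mul_assoc, s21, s31, s32, s21', s31', s32', h1, h2, h3, h1', h2',
      h3', mul_one]

end Cfsg.Agent.Helper22.GD
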