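import Mathlib
import Cfsg.Prelude.Def_Classical
import Cfsg.Agent.Helper99.Is8.Defs

/-!
# S3590 piece (POW) for helper99 (#12233): powers in the affine group
-/

set_option autoImplicit false
set_option linter.unusedSectionVars false
set_option linter.unusedVariables false

universe u

namespace Cfsg.Agent.Helper22.Is8

open Matrix Cfsg.Agent.Helper99.Is8

section aff

variable {G : Type u} [Group G] {ι : Type} [Fintype ι] [DecidableEq ι] {R : Type u} [CommRing R]
  {ρ : G →* Matrix ι ι R} {κ : Type}

/-- (POW) powers in the affine group. -/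
theorem aff_pow (x : Aff ρ κ) (n : ℕ) :
    x ^ n = ⟨(∑ i ∈ Finset.range n, ρ x.k ^ i) * x.w, x.k ^ n⟩ := by
  induction n with
  | zero =>
    apply Aff.ext
    · simp only [pow_zero, Aff.one_w, Finset.range_zero, Finset.sum_empty, Matrix.zero_mul]
    · simp only [pow_zero, Aff.one_k]
  | succ n ih =>
    rw [pow_succ, ih]
    apply Aff.ext
    · simp only [Aff.mul_w, map_pow, Finset.sum_range_succ, Matrix.add_mul]
    · simp only [Aff.mul_k, pow_succ]

end aff

end Cfsg.Agent.Helper22.Is8
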