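import Mathlib
import Cfsg.Prelude.Def_Classical
import Cfsg.Agent.Helper99.Is8.Defs
import Cfsg.Agent.Helper22.Is8POW

/-!
# S3590 piece (ORD) for helper99 (#12233): the order of an affine element in characteristic 2
-/

set_option autoImplicit false
set_option linter.unusedSectionVars false
set_option linter.unusedVariables false

universe u

namespace Cfsg.Agent.Helper22.Is8

open Matrix Cfsg.Agent.Helper99.Is8

section aff

variable {G : Type u} [Group G] {ι : Type} [Fintype ι] [DecidableEq ι] {R : Type u} [CommRing R]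
  {ρ : G →* Matrix ι ι R} {κ : Type}

/-- (ORD) the order of an affine element in characteristic 2. -/
theorem aff_orderOf [CharP R 2] (x : Aff ρ κ) (ho : 0 < orderOf x.k) :
    ((∑ i ∈ Finset.range (orderOf x.k), ρ x.k ^ i) * x.w = 0 ∧ orderOf x = orderOf x.k) ∨
      ((∑ i ∈ Finset.range (orderOf x.k), ρ x.k ^ i) * x.w ≠ 0 ∧ orderOf x = 2 * orderOf x.k) := by
  set o := orderOf x.k with hodef
  set S : Matrix ι κ R := (∑ i ∈ Finset.range o, ρ x.k ^ i) * x.w with hS
  have hxo : x ^ o = ⟨S, 1⟩ := by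
    rw [aff_pow, pow_orderOf_eq_one]
  have hdvd : ∀ n : ℕ, x ^ n = 1 → o ∣ n := by
    intro n hn
    apply orderOf_dvd_of_pow_eq_one
    have := congrArg Aff.k hn
    rw [aff_pow] at this
    exact this
  have hadd : ∀ M : Matrix ι κ R, M + M = 0 := by
    intro M
    ext i j
    exact CharTwo.add_self_eq_zero (M i j)
  have hx2o : x ^ (2 * o) = 1 := by
    rw [mul_comm, pow_mul, hxo, pow_two]
    apply Aff.ext
    · simp only [Aff.mul_w, map_one, Matrix.one_mul, Aff.one_w]
      exact hadd S
    · simp only [Aff.mul_k, mul_one, Aff.one_k]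
  have hopos : 0 < orderOf x := by
    apply orderOf_pos_iff.mpr
    rw [isOfFinOrder_iff_pow_eq_one]
    exact ⟨2 * o, by omega, hx2o⟩
  have h1 : o ∣ orderOf x := hdvd _ (pow_orderOf_eq_one x)
  by_cases hS0 : S = 0
  · left
    refine ⟨hS0, ?_⟩
    apply Nat.dvd_antisymm _ h1
    apply orderOf_dvd_of_pow_eq_one
    rw [hxo, hS0]
    rfl
  · right
    refine ⟨hS0, ?_⟩
    have h2 : orderOf x ∣ 2 * o := orderOf_dvd_of_pow_eq_one hx2o
    obtain ⟨c, hc⟩ := h1
    have hc2 : c ∣ 2 := by
      rw [hc, mul_comm 2 o] at h2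
      exact Nat.dvd_of_mul_dvd_mul_left ho h2
    have hne : orderOf x ≠ o := by
      intro heq
      have h3 : x ^ o = 1 := by rw [← heq]; exact pow_orderOf_eq_one x
      rw [hxo] at h3
      exact hS0 (congrArg Aff.w h3)
    rcases (Nat.dvd_prime Nat.prime_two).mp hc2 with rfl | rfl
    · exfalso
      apply hne
      rw [hc, mul_one]
    · rw [hc, mul_comm]

end aff

end Cfsg.Agent.Helper22.Is8
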