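import Mathlib
import Cfsg.Prelude.Def_Classical
import Cfsg.Agent.Helper99.Is8.Defs
import Cfsg.Agent.Helper94.Sg.Aniso
import Cfsg.Agent.Helper44.OrthRealizeC

/-!
# S3590 pieces (U10P), (U10M) for helper99 (#12233): the trivial unipotent pieces (`u = 1`) on the two planes
-/

set_option autoImplicit false
set_option linter.unusedSectionVars false
set_option linter.unusedVariables false

universe u

namespace Cfsg.Agent.Helper22.Is8

open Matrix Polynomial QuadraticMap Cfsg.Agent.Helper99.Is8 Cfsg.Agent.Helper94.Sg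
  Cfsg.Agent.Helper44 Cfsg.Agent.Helper44.QType

section real

variable {F : Type u} [Field F] [Fintype F]

/-- the trivial unipotent piece on any space with a coordinate -/
theorem ur_one_of {ι : Type} [Fintype ι] [DecidableEq ι] (Q : QuadraticForm F (ι → F)) (m : ℕ) (ε : ℤ)
    (hcard : Fintype.card ι = 2 * m) (hnd : ∀ x, (∀ y, polar Q x y = 0) → x = 0)
    (hT : HasType (⇑Q) m ε) (i₀ : ι) : UR F m ε 0 := by
  refine ⟨ι, inferInstance, inferInstance, Q, hcard, hnd, hT, 1, Pi.single i₀ 1, ?_, ?_, ?_⟩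
  · rw [orderOf_one, pow_zero]
  · have h1 : (((1 : ↥(Cfsg.isometryGroup F ⇑Q)) : Matrix.GeneralLinearGroup ι F) : Matrix ι ι F) = 1 := rfl
    rw [h1, sub_self, Matrix.rank_zero]
    exact ⟨0, rfl⟩
  · rw [pow_zero, Nat.sub_self, pow_zero, Matrix.one_mulVec]
    intro h
    have := congrFun h i₀
    rw [Pi.single_eq_same, Pi.zero_apply] at this
    exact one_ne_zero this

/-- (U10P) -/
theorem ur_1_plus_0 [CharP F 2] : UR F 1 1 0 :=
  ur_one_of (Cfsg.Agent.Helper44.plusForm 1 F) 1 1 (by simp)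
    ((Cfsg.Agent.Helper44.QType.nondeg_iff _).mp (Cfsg.Agent.Helper44.nondegenerate_plusForm 1))
    (Cfsg.Agent.Helper44.QType.hasType_plus 1) (Sum.inl 0)

/-- (U10M) -/
theorem ur_1_minus_0 [CharP F 2] : UR F 1 (-1) 0 := by
  have h2 : (2 : F) = 0 := CharTwo.two_eq_zero
  obtain ⟨ζ, hζ⟩ := exists_aniso (F := F)
  have hD : (1 : F) ^ 2 - 4 * ζ ≠ 0 := by
    have h4 : (4 : F) = 0 := by linear_combination (2 : F) * h2
    rw [h4, zero_mul, sub_zero, one_pow]
    exact one_ne_zero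
  exact ur_one_of (Cfsg.Agent.Helper44.minusForm 0 F 1 ζ) 1 (-1) (by simp)
    ((Cfsg.Agent.Helper44.QType.nondeg_iff _).mp (Cfsg.Agent.Helper44.nondegenerate_minusForm 0 1 ζ hD))
    (Cfsg.Agent.Helper44.QType.hasType_minus 0 1 ζ hζ) (Sum.inr 0)

end real

end Cfsg.Agent.Helper22.Is8
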