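import Mathlib
import Cfsg.Agent.Helper22.KBalance3

/-!
# Balance from local balance (the case `p = 2`, `k = 1`)
-/

set_option autoImplicit false

namespace Cfsg.Agent.Helper22

open Cfsg Cfsg.Agent.Helper31

variable {G : Type*} [Group G]

theorem isLocallyKBalanced_two_one_of_isLocallyBalanced {K : Type*} [Group K]
    (h : IsLocallyBalanced K) : IsLocallyKBalanced 2 1 K := by
  intro H hH A hA hcard
  obtain ⟨x, hx, hx1⟩ : ∃ x ∈ A, x ≠ 1 := by
    by_contra hcon
    push Not at hcon
    have : A = ⊥ := (Subgroup.eq_bot_iff_forall _).mpr hcon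
    rw [this, Subgroup.card_bot] at hcard
    norm_num at hcard
  have hord : orderOf x = 2 := orderOf_eq_prime (hA.2 x hx) hx1
  have h1 := h H hH x hord
  have h2 := signalizerDelta_le 2 hx hx1
  rw [h1] at h2
  exact le_bot_iff.mp h2

theorem isBalanced_of_isKBalanced_two_one (h : IsKBalanced 2 1 G) : IsBalanced G := by
  have half : ∀ x y : G, orderOf x = 2 → orderOf y = 2 → x * y = y * x →
      centralizerPPrimeCore 2 x ⊓ Subgroup.centralizer {y} ≤
        centralizerPPrimeCore 2 y ⊓ Subgroup.centralizer {x} := by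
    intro x y hx hy hxy
    have hA : IsElementaryAbelian 2 (Subgroup.zpowers x) := by
      refine ⟨inferInstance, ?_⟩
      intro a ha
      rcases eq_one_or_eq_of_mem_zpowers_of_orderOf_two hx ha with h1 | h1
      · rw [h1]; simp
      · rw [h1, ← hx]; exact pow_orderOf_eq_one x
    have hcard : Nat.card ↥(Subgroup.zpowers x) = 2 ^ 1 := by
      rw [Nat.card_zpowers, hx]; rfl
    have hcomm : ∀ a ∈ Subgroup.zpowers x, a * y = y * a := by
      intro a ha
      rcases eq_one_or_eq_of_mem_zpowers_of_orderOf_two hx ha with h1 | h1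
      · rw [h1]; simp
      · rw [h1]; exact hxy
    have h1 := h (Subgroup.zpowers x) hA hcard y hy hcomm
    have h2 : centralizerPPrimeCore 2 x ≤ signalizerDelta 2 (Subgroup.zpowers x) := by
      intro w hw
      rw [mem_signalizerDelta_iff]
      intro b hb hb1
      rcases eq_one_or_eq_of_mem_zpowers_of_orderOf_two hx hb with h3 | h3
      · exact absurd h3 hb1
      · rw [h3]; exact hw
    refine le_inf ((inf_le_inf_right _ h2).trans h1)
      (inf_le_left.trans (centralizerPPrimeCore_le_centralizer 2 x))
  intro x y hx hy hxy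
  exact le_antisymm (half x y hx hy hxy) (half y x hy hx hxy.symm)

/-- **Balance from local balance.** -/
theorem isBalanced_of_locallyBalanced [Finite G]
    (h : ∀ x : G, orderOf x = 2 →
      ∀ K : Subgroup (↥(Subgroup.centralizer ({x} : Set G)) ⧸
          pPrimeCore 2 ↥(Subgroup.centralizer ({x} : Set G))),
        IsComponent K → IsLocallyBalanced (↥K ⧸ Subgroup.center ↥K)) : IsBalanced G := by
  haveI : Fact (Nat.Prime 2) := ⟨Nat.prime_two⟩
  apply isBalanced_of_isKBalanced_two_one
  apply isKBalanced_of_forall_signalizerDelta_eq_bot 2 1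
  intro b hb A hA hc
  exact signalizerDelta_eq_bot_of_locallyKBalanced 2 1 le_rfl (pPrimeCore_quotient_eq_bot 2)
    (fun L hL => isLocallyKBalanced_two_one_of_isLocallyBalanced (h b hb L hL)) A hA hc

end Cfsg.Agent.Helper22
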