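import Mathlib
import Cfsg.Agent.Helper22.SFTS4
import Cfsg.Agent.Helper31.CoprimeHyp

/-!
# Abstract `k`-balanced systems and their signalizer functors

An abstract `k`-system on an elementary abelian `p`-subgroup `A` assigns to every subgroup `D ≤ A` of
order `p ^ k` an `A`-invariant subgroup `Δ D ≤ C_G(D)` such that `Δ D ∩ C_G(b) ≤ Δ D'` whenever
`D' ≤ D⟨b⟩` has order `p ^ k`, and such that the groups `θ a = ⟨Δ D : a ∈ D⟩` are solvable `p'`-groups.
If `A` has rank at least `k + 2` then `θ` is balanced (induction on `k`, using SFT-S inside `θ a`).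
-/

set_option autoImplicit false
open Cfsg

namespace Cfsg.Agent.Helper22.KSys

open Cfsg.Agent.Helper22.SFTS

variable {G : Type*} [Group G]

/-- `θ_Δ(a) = ⟨Δ D : D ≤ A, |D| = p ^ k, a ∈ D⟩`. -/
def thetaOf (p k : ℕ) (A : Subgroup G) (Δ : Subgroup G → Subgroup G) (a : G) : Subgroup G :=
  ⨆ D : {D : Subgroup G // D ≤ A ∧ Nat.card ↥D = p ^ k ∧ a ∈ D}, Δ (D : Subgroup G)

theorem le_thetaOf {p k : ℕ} {A : Subgroup G} {Δ : Subgroup G → Subgroup G} {a : G} {D : Subgroup G}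
    (hDA : D ≤ A) (hD : Nat.card ↥D = p ^ k) (ha : a ∈ D) : Δ D ≤ thetaOf p k A Δ a :=
  le_iSup (fun D : {D : Subgroup G // D ≤ A ∧ Nat.card ↥D = p ^ k ∧ a ∈ D} => Δ (D : Subgroup G))
    ⟨D, hDA, hD, ha⟩

theorem thetaOf_le {p k : ℕ} {A : Subgroup G} {Δ : Subgroup G → Subgroup G} {a : G} {X : Subgroup G}
    (h : ∀ D : Subgroup G, D ≤ A → Nat.card ↥D = p ^ k → a ∈ D → Δ D ≤ X) :
    thetaOf p k A Δ a ≤ X :=
  iSup_le fun D => h D.1 D.2.1 D.2.2.1 D.2.2.2

/-- An abstract `k`-balanced system. -/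
structure IsKSys (p k : ℕ) (A : Subgroup G) (Δ : Subgroup G → Subgroup G) : Prop where
  cent : ∀ D : Subgroup G, D ≤ A → Nat.card ↥D = p ^ k → ∀ d ∈ D, Δ D ≤ Subgroup.centralizer {d}
  inv : ∀ D : Subgroup G, D ≤ A → Nat.card ↥D = p ^ k → Inv A (Δ D)
  bal : ∀ D : Subgroup G, D ≤ A → Nat.card ↥D = p ^ k → ∀ b ∈ A, ∀ D' : Subgroup G,
    D' ≤ D ⊔ Subgroup.zpowers b → Nat.card ↥D' = p ^ k →
      Δ D ⊓ Subgroup.centralizer {b} ≤ Δ D'
  solv : ∀ a ∈ A, a ≠ 1 → Group.IsSolvable ↥(thetaOf p k A Δ a)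
  pprime : ∀ a ∈ A, a ≠ 1 → ¬ p ∣ Nat.card ↥(thetaOf p k A Δ a)

section

variable [Finite G] {p : ℕ} [Fact p.Prime]

theorem thetaOf_le_centralizer {k : ℕ} {A : Subgroup G} {Δ : Subgroup G → Subgroup G}
    (h : IsKSys p k A Δ) (a : G) : thetaOf p k A Δ a ≤ Subgroup.centralizer {a} :=
  thetaOf_le fun D hDA hD ha => h.cent D hDA hD a ha

theorem inv_thetaOf {k : ℕ} {A : Subgroup G} {Δ : Subgroup G → Subgroup G}
    (h : IsKSys p k A Δ) (a : G) : Inv A (thetaOf p k A Δ a) :=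
  Inv.iSup fun D => h.inv D.1 D.2.1 D.2.2.1

theorem zpowers_eq_of_mem {A : Subgroup G} (hA : IsElementaryAbelian p A) {a b : G} (ha : a ∈ A)
    (hb1 : b ≠ 1) (hb : b ∈ Subgroup.zpowers a) : Subgroup.zpowers b = Subgroup.zpowers a := by
  have ha1 : a ≠ 1 := by
    rintro rfl
    rw [Subgroup.zpowers_one_eq_bot, Subgroup.mem_bot] at hb
    exact hb1 hb
  have hbA : b ∈ A := (Subgroup.zpowers_le.mpr ha) hb
  apply Subgroup.eq_of_le_of_card_ge (Subgroup.zpowers_le.mpr hb)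
  rw [Cfsg.Agent.Helper31.card_zpowers_of_pow_eq_one a (hA.2 a ha) ha1,
    Cfsg.Agent.Helper31.card_zpowers_of_pow_eq_one b (hA.2 b hbA) hb1]

/-- Base case `k = 1`. -/
theorem balance_one {A : Subgroup G} {Δ : Subgroup G → Subgroup G}
    (hA : IsElementaryAbelian p A) (h : IsKSys p 1 A Δ) {a b : G} (ha : a ∈ A) (ha1 : a ≠ 1)
    (hb : b ∈ A) (hb1 : b ≠ 1) :
    thetaOf p 1 A Δ a ⊓ Subgroup.centralizer {b} ≤ thetaOf p 1 A Δ b := by
  have hza : Nat.card ↥(Subgroup.zpowers a) = p ^ 1 := by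
    rw [pow_one]; exact Cfsg.Agent.Helper31.card_zpowers_of_pow_eq_one a (hA.2 a ha) ha1
  have hzb : Nat.card ↥(Subgroup.zpowers b) = p ^ 1 := by
    rw [pow_one]; exact Cfsg.Agent.Helper31.card_zpowers_of_pow_eq_one b (hA.2 b hb) hb1
  have hzaA : Subgroup.zpowers a ≤ A := Subgroup.zpowers_le.mpr ha
  have hzbA : Subgroup.zpowers b ≤ A := Subgroup.zpowers_le.mpr hb
  have h1 : thetaOf p 1 A Δ a ≤ Δ (Subgroup.zpowers a) := by
    apply thetaOf_le
    intro D hDA hD haD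
    have : D = Subgroup.zpowers a := by
      symm
      apply Subgroup.eq_of_le_of_card_ge (Subgroup.zpowers_le.mpr haD)
      rw [hD, hza]
    rw [this]
  refine (inf_le_inf_right _ h1).trans ?_
  refine (h.bal _ hzaA hza b hb (Subgroup.zpowers b) le_sup_right hzb).trans ?_
  exact le_thetaOf hzbA hzb (Subgroup.mem_zpowers b)

/-- The inductive step. -/
theorem balance_succ (k : ℕ) (hk : 1 ≤ k)
    (ih : ∀ (A : Subgroup G) (Δ : Subgroup G → Subgroup G), IsElementaryAbelian p A →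
      p ^ (k + 2) ≤ Nat.card ↥A → IsKSys p k A Δ → ∀ a ∈ A, a ≠ 1 → ∀ b ∈ A, b ≠ 1 →
        thetaOf p k A Δ a ⊓ Subgroup.centralizer {b} ≤ thetaOf p k A Δ b)
    {A : Subgroup G} {Δ : Subgroup G → Subgroup G}
    (hA : IsElementaryAbelian p A) (hcard : p ^ (k + 1 + 2) ≤ Nat.card ↥A)
    (h : IsKSys p (k + 1) A Δ) {a b : G} (ha : a ∈ A) (ha1 : a ≠ 1)
    (hb : b ∈ A) (hb1 : b ≠ 1) :
    thetaOf p (k + 1) A Δ a ⊓ Subgroup.centralizer {b} ≤ thetaOf p (k + 1) A Δ b := by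
  have hp : p.Prime := Fact.out
  have hcomm := comm_of_isElementaryAbelian hA
  by_cases hba : b ∈ Subgroup.zpowers a
  · -- `⟨a⟩ = ⟨b⟩`
    have hz := zpowers_eq_of_mem hA ha hb1 hba
    refine inf_le_left.trans ?_
    apply thetaOf_le
    intro D hDA hD haD
    refine le_thetaOf hDA hD ?_
    exact (Subgroup.zpowers_le.mpr haD) hba
  · -- a complement `A₁` of `⟨a⟩`
    obtain ⟨A₁, hA₁A, haA₁, hA₁card⟩ :=
      Cfsg.Agent.Helper31.exists_compl_zpowers A hcomm hA.2 a ha ha1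
    have hA₁e : IsElementaryAbelian p A₁ := Cfsg.Agent.Lib.isElementaryAbelian_mono hA hA₁A
    have hca : ∀ x ∈ A₁, a * x = x * a := fun x hx => hcomm a ha x (hA₁A hx)
    have hsupA : A₁ ⊔ Subgroup.zpowers a = A := by
      apply Subgroup.eq_of_le_of_card_ge (sup_le hA₁A (Subgroup.zpowers_le.mpr ha))
      rw [Cfsg.Agent.Helper31.card_sup_zpowers A₁ a (hA.2 a ha) haA₁ hca, hA₁card]
    -- decompose `b`
    have hbsup : b ∈ A₁ ⊔ Subgroup.zpowers a := hsupA ▸ hb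
    obtain ⟨b₁, hb₁, i, hbi⟩ := Cfsg.Agent.Helper31.mem_sup_zpowers hca hbsup
    have hb₁1 : b₁ ≠ 1 := by
      rintro rfl
      apply hba
      rw [hbi, one_mul]
      exact Subgroup.zpow_mem_zpowers a i
    -- cardinalities
    have hcardD : ∀ D₁ : Subgroup G, D₁ ≤ A₁ → Nat.card ↥D₁ = p ^ k →
        Nat.card ↥(D₁ ⊔ Subgroup.zpowers a) = p ^ (k + 1) := by
      intro D₁ hD₁ hc
      rw [Cfsg.Agent.Helper31.card_sup_zpowers D₁ a (hA.2 a ha) (fun h => haA₁ (hD₁ h))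
        (fun x hx => hca x (hD₁ hx)), hc, pow_succ]
    have hleA : ∀ D₁ : Subgroup G, D₁ ≤ A₁ → D₁ ⊔ Subgroup.zpowers a ≤ A :=
      fun D₁ hD₁ => sup_le (hD₁.trans hA₁A) (Subgroup.zpowers_le.mpr ha)
    have hA₁card' : p ^ (k + 2) ≤ Nat.card ↥A₁ := by
      have h1 : p ^ (k + 2) * p ≤ Nat.card ↥A₁ * p := by
        rw [hA₁card, ← pow_succ]; exact hcard
      exact Nat.le_of_mul_le_mul_right h1 hp.pos
    have hA₁3 : p ^ 3 ≤ Nat.card ↥A₁ :=
      (Nat.pow_le_pow_right hp.pos (by omega)).trans hA₁card'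
    -- the derived system on `A₁`
    obtain ⟨Δ₁, hΔ₁⟩ : ∃ Δ₁ : Subgroup G → Subgroup G,
        ∀ D₁ : Subgroup G, Δ₁ D₁ = Δ (D₁ ⊔ Subgroup.zpowers a) := ⟨_, fun _ => rfl⟩
    obtain ⟨θa, hθa⟩ : ∃ θa : Subgroup G, θa = thetaOf p (k + 1) A Δ a := ⟨_, rfl⟩
    have hΔθa : ∀ D₁ : Subgroup G, D₁ ≤ A₁ → Nat.card ↥D₁ = p ^ k → Δ₁ D₁ ≤ θa := by
      intro D₁ hD₁ hc
      rw [hΔ₁, hθa]
      exact le_thetaOf (Δ := Δ) (D := D₁ ⊔ Subgroup.zpowers a) (hleA D₁ hD₁) (hcardD D₁ hD₁ hc)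
        (Subgroup.mem_sup_right (Subgroup.mem_zpowers a))
    have hθ₁le : ∀ d : G, thetaOf p k A₁ Δ₁ d ≤ θa := by
      intro d
      apply thetaOf_le
      intro D₁ hD₁ hc _
      exact hΔθa D₁ hD₁ hc
    have hsolva : Group.IsSolvable ↥θa := by rw [hθa]; exact h.solv a ha ha1
    have hpa : ¬ p ∣ Nat.card ↥θa := by rw [hθa]; exact h.pprime a ha ha1
    have hsys₁ : IsKSys p k A₁ Δ₁ := by
      constructor
      · intro D₁ hD₁ hc d hd
        rw [hΔ₁]
        exact h.cent _ (hleA D₁ hD₁) (hcardD D₁ hD₁ hc) d (Subgroup.mem_sup_left hd)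
      · intro D₁ hD₁ hc e he x hx
        rw [hΔ₁] at hx ⊢
        exact h.inv _ (hleA D₁ hD₁) (hcardD D₁ hD₁ hc) e (hA₁A he) x hx
      · intro D₁ hD₁ hc e he D₁' hD₁' hc'
        have hD₁'A₁ : D₁' ≤ A₁ := hD₁'.trans (sup_le hD₁ (Subgroup.zpowers_le.mpr he))
        rw [hΔ₁, hΔ₁]
        refine h.bal _ (hleA D₁ hD₁) (hcardD D₁ hD₁ hc) e (hA₁A he) _ ?_ (hcardD D₁' hD₁'A₁ hc')
        refine sup_le (hD₁'.trans ?_) (le_sup_left.trans' le_sup_right)
        exact sup_le (le_sup_left.trans' le_sup_left) le_sup_right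
      · intro d hd hd1
        exact isSolvable_of_le (hθ₁le d) hsolva
      · intro d hd hd1
        exact not_dvd_card_of_le' (hθ₁le d) hpa
    -- it is a signalizer functor on `A₁`
    have hfun : IsSignalizerFunctor p A₁ (thetaOf p k A₁ Δ₁) := by
      refine ⟨?_, ?_, ?_, ?_⟩
      · intro d _ _
        exact thetaOf_le_centralizer hsys₁ d
      · intro d hd hd1
        exact hsys₁.pprime d hd hd1
      · intro d _ _
        exact inv_thetaOf hsys₁ d
      · intro d hd hd1 e he he1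
        exact ih A₁ Δ₁ hA₁e hA₁card' hsys₁ d hd hd1 e he he1
    -- its closure is `θ a`
    have hclosure : signalizerClosure A₁ (thetaOf p k A₁ Δ₁) = θa := by
      apply le_antisymm
      · exact closure_le fun d _ _ => hθ₁le d
      · rw [hθa]
        apply thetaOf_le
        intro D hDA hD haD
        -- `D = (D ⊓ A₁) ⊔ ⟨a⟩`
        have hDdec : (D ⊓ A₁) ⊔ Subgroup.zpowers a = D := by
          apply le_antisymm (sup_le inf_le_left (Subgroup.zpowers_le.mpr haD))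
          intro x hx
          have hxA : x ∈ A₁ ⊔ Subgroup.zpowers a := hsupA ▸ hDA hx
          obtain ⟨y, hy, j, hj⟩ := Cfsg.Agent.Helper31.mem_sup_zpowers hca hxA
          have hyD : y ∈ D := by
            have : y = x * (a ^ j)⁻¹ := by rw [hj]; group
            rw [this]
            exact D.mul_mem hx (D.inv_mem (D.zpow_mem haD j))
          rw [hj]
          exact Subgroup.mul_mem _ (Subgroup.mem_sup_left ⟨hyD, hy⟩)
            (Subgroup.mem_sup_right (Subgroup.zpow_mem_zpowers a j))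
        have hD₁card : Nat.card ↥(D ⊓ A₁) = p ^ k := by
          have h1 := Cfsg.Agent.Helper31.card_sup_zpowers (D ⊓ A₁) a (hA.2 a ha)
            (fun h => haA₁ h.2) (fun x hx => hca x hx.2)
          rw [hDdec, hD, pow_succ] at h1
          exact (Nat.eq_of_mul_eq_mul_right hp.pos h1).symm
        -- a nonidentity element of `D ⊓ A₁`
        have hD₁ne : D ⊓ A₁ ≠ ⊥ := by
          intro hbot
          rw [hbot, Subgroup.card_bot] at hD₁card
          have : 1 < p ^ k := Nat.one_lt_pow (by omega) hp.one_lt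
          omega
        obtain ⟨d, hd1⟩ := (Subgroup.ne_bot_iff_exists_ne_one).mp hD₁ne
        have hd1' : (d : G) ≠ 1 := fun hc => hd1 (Subtype.ext hc)
        have h2 : Δ D ≤ thetaOf p k A₁ Δ₁ (d : G) := by
          have := le_thetaOf (Δ := Δ₁) (a := (d : G)) (D := D ⊓ A₁)
            (inf_le_right : D ⊓ A₁ ≤ A₁) hD₁card d.2
          rw [hΔ₁, hDdec] at this
          exact this
        exact h2.trans (le_closure (θ := thetaOf p k A₁ Δ₁) d.2.2 hd1')
    -- SFT-S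
    have hsfts := sfts p A₁ hA₁e hA₁3 (thetaOf p k A₁ Δ₁) hfun
      (by rw [hclosure]; exact hsolva) (by rw [hclosure]; exact hpa)
      hb₁ hb₁1
    rw [hclosure, hθa] at hsfts
    -- conclusion
    intro x hx
    have hxa : x ∈ Subgroup.centralizer {a} := thetaOf_le_centralizer h a hx.1
    have hxb : x ∈ Subgroup.centralizer {b} := hx.2
    rw [Subgroup.mem_centralizer_singleton_iff] at hxa hxb
    have hxb₁ : x ∈ Subgroup.centralizer {b₁} := by
      rw [Subgroup.mem_centralizer_singleton_iff]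
      have hb₁eq : b₁ = b * (a ^ i)⁻¹ := by rw [hbi]; group
      have hxai : x * a ^ i = a ^ i * x := by
        have : Commute a x := hxa.symm
        exact (this.zpow_left i).eq.symm
      have hxai' : x * (a ^ i)⁻¹ = (a ^ i)⁻¹ * x := by
        have : Commute (a ^ i) x := hxai.symm
        exact this.inv_left.eq.symm
      rw [hb₁eq]
      calc x * (b * (a ^ i)⁻¹) = (x * b) * (a ^ i)⁻¹ := by group
        _ = (b * x) * (a ^ i)⁻¹ := by rw [hxb]
        _ = b * (x * (a ^ i)⁻¹) := by group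
        _ = b * ((a ^ i)⁻¹ * x) := by rw [hxai']
        _ = b * (a ^ i)⁻¹ * x := by group
    have hx₁ : x ∈ thetaOf p k A₁ Δ₁ b₁ := by
      rw [← hsfts]
      exact ⟨hx.1, hxb₁⟩
    refine (thetaOf_le (X := thetaOf p (k + 1) A Δ b) ?_) hx₁
    intro D₁ hD₁ hc hb₁D
    rw [hΔ₁]
    refine le_thetaOf (Δ := Δ) (D := D₁ ⊔ Subgroup.zpowers a) (hleA D₁ hD₁) (hcardD D₁ hD₁ hc) ?_
    rw [hbi]
    exact Subgroup.mul_mem _ (Subgroup.mem_sup_left hb₁D)
      (Subgroup.mem_sup_right (Subgroup.zpow_mem_zpowers a i))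

/-- **Balance of abstract `k`-systems.** -/
theorem balance : ∀ k : ℕ, 1 ≤ k → ∀ (A : Subgroup G) (Δ : Subgroup G → Subgroup G),
    IsElementaryAbelian p A → p ^ (k + 2) ≤ Nat.card ↥A → IsKSys p k A Δ →
    ∀ a ∈ A, a ≠ 1 → ∀ b ∈ A, b ≠ 1 →
      thetaOf p k A Δ a ⊓ Subgroup.centralizer {b} ≤ thetaOf p k A Δ b := by
  intro k hk
  induction k, hk using Nat.le_induction with
  | base =>
    intro A Δ hA _ h a ha ha1 b hb hb1
    exact balance_one hA h ha ha1 hb hb1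
  | succ k hk ih =>
    intro A Δ hA hcard h a ha ha1 b hb hb1
    exact balance_succ k hk ih hA hcard h ha ha1 hb hb1

end

end Cfsg.Agent.Helper22.KSys
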