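import Mathlib
import Cfsg.Agent.Helper22.KSys
import Cfsg.Agent.Helper31.Delta

/-!
# The `k`-balanced signalizer functor (S1299)

`Δ_G` of a `k`-balanced group is an abstract `k`-system on every elementary abelian `p`-subgroup `A`
(with solvable `O_{p'}(C_G(a))`), hence `θ a = ⟨Δ_G(D) ∩ C_G(a) : D ≤ A, |D| = p ^ k⟩` is an
`A`-signalizer functor when `A` has rank at least `k + 2`.
-/

set_option autoImplicit false
open Cfsg

namespace Cfsg.Agent.Helper22.KSys

open Cfsg.Agent.Helper22.SFTS

variable {G : Type*} [Group G] [Finite G] {p : ℕ} [Fact p.Prime]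

/-- The functor of the statement: `θ a = ⟨Δ D ∩ C_G(a) : D ≤ A, |D| = p ^ k⟩`. -/
def thetaS (p k : ℕ) (A : Subgroup G) (Δ : Subgroup G → Subgroup G) (a : G) : Subgroup G :=
  ⨆ D : {D : Subgroup G // D ≤ A ∧ Nat.card ↥D = p ^ k}, Δ (D : Subgroup G) ⊓ Subgroup.centralizer {a}

theorem thetaS_eq_thetaOf {k : ℕ} (hk : 1 ≤ k) {A : Subgroup G} {Δ : Subgroup G → Subgroup G}
    (hA : IsElementaryAbelian p A) (h : IsKSys p k A Δ) {a : G} (ha : a ∈ A) :
    thetaS p k A Δ a = thetaOf p k A Δ a := by
  have hp : p.Prime := Fact.out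
  have hcomm := comm_of_isElementaryAbelian hA
  apply le_antisymm
  · apply iSup_le
    rintro ⟨D, hDA, hD⟩
    by_cases haD : a ∈ D
    · exact inf_le_left.trans (le_thetaOf hDA hD haD)
    · -- replace a hyperplane of `D` extended by `a`
      have hDne : D ≠ ⊥ := by
        rintro rfl
        rw [Subgroup.card_bot] at hD
        have : 1 < p ^ k := Nat.one_lt_pow (by omega) hp.one_lt
        omega
      obtain ⟨d, hd1⟩ := (Subgroup.ne_bot_iff_exists_ne_one).mp hDne
      have hd1' : (d : G) ≠ 1 := fun hc => hd1 (Subtype.ext hc)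
      obtain ⟨E, hED, _, hEcard⟩ := Cfsg.Agent.Helper31.exists_compl_zpowers D
        (fun x hx y hy => hcomm x (hDA hx) y (hDA hy)) (fun x hx => hA.2 x (hDA hx)) (d : G) d.2 hd1'
      have hcard : Nat.card ↥(E ⊔ Subgroup.zpowers a) = p ^ k := by
        rw [Cfsg.Agent.Helper31.card_sup_zpowers E a (hA.2 a ha) (fun h => haD (hED h))
          (fun x hx => hcomm a ha x (hDA (hED hx))), hEcard, hD]
      have hle : E ⊔ Subgroup.zpowers a ≤ D ⊔ Subgroup.zpowers a := sup_le_sup_right hED _
      have hleA : E ⊔ Subgroup.zpowers a ≤ A :=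
        sup_le (hED.trans hDA) (Subgroup.zpowers_le.mpr ha)
      refine (h.bal D hDA hD a ha _ hle hcard).trans ?_
      exact le_thetaOf hleA hcard (Subgroup.mem_sup_right (Subgroup.mem_zpowers a))
  · apply thetaOf_le
    intro D hDA hD haD
    refine le_trans (le_inf le_rfl (h.cent D hDA hD a haD)) ?_
    exact le_iSup (fun D : {D : Subgroup G // D ≤ A ∧ Nat.card ↥D = p ^ k} =>
      Δ (D : Subgroup G) ⊓ Subgroup.centralizer {a}) ⟨D, hDA, hD⟩

/-- `Δ_G` of a `k`-balanced group is an abstract `k`-system. -/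
theorem isKSys_signalizerDelta {k : ℕ} (hbal : IsKBalanced p k G) {A : Subgroup G}
    (hA : IsElementaryAbelian p A)
    (hsolv : ∀ a ∈ A, a ≠ 1 → Group.IsSolvable ↥(centralizerPPrimeCore p a)) :
    IsKSys p k A (signalizerDelta p) := by
  have hp : p.Prime := Fact.out
  have hcomm := comm_of_isElementaryAbelian hA
  have hθle : ∀ a ∈ A, a ≠ 1 → thetaOf p k A (signalizerDelta p) a ≤ centralizerPPrimeCore p a := by
    intro a _ ha1
    apply thetaOf_le
    intro D _ _ haD
    exact Cfsg.Agent.Helper31.signalizerDelta_le p haD ha1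
  constructor
  · intro D _ _ d hd
    by_cases hd1 : d = 1
    · subst hd1
      intro x _
      rw [Subgroup.mem_centralizer_singleton_iff]
      simp
    · exact (Cfsg.Agent.Helper31.signalizerDelta_le p hd hd1).trans
        (Cfsg.Agent.Helper31.centralizerPPrimeCore_le_centralizer p d)
  · intro D hDA _
    apply inv_of_le_normalizer
    exact Cfsg.Agent.Helper31.le_normalizer_signalizerDelta p
      (fun e he b hb => hcomm e he b (hDA hb))
  · intro D hDA hD b hb D' hD' hD'card x hx
    rw [Cfsg.Agent.Helper31.mem_signalizerDelta_iff]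
    intro d' hd' hd'1
    have hd'sup : d' ∈ D ⊔ Subgroup.zpowers b := hD' hd'
    have hd'A : d' ∈ A := (sup_le hDA (Subgroup.zpowers_le.mpr hb)) hd'sup
    have hord : orderOf d' = p := orderOf_eq_prime (hA.2 d' hd'A) hd'1
    have hDe : IsElementaryAbelian p D := Cfsg.Agent.Lib.isElementaryAbelian_mono hA hDA
    have hcd : ∀ a ∈ D, a * d' = d' * a := fun a ha => hcomm a (hDA ha) d' hd'A
    have hkb := hbal D hDe hD d' hord hcd
    apply hkb
    refine Subgroup.mem_inf.mpr ⟨hx.1, ?_⟩
    -- `x` commutes with `d'`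
    obtain ⟨d, hd, i, hdi⟩ := Cfsg.Agent.Helper31.mem_sup_zpowers
      (fun h hh => hcomm b hb h (hDA hh)) hd'sup
    have hxD := Cfsg.Agent.Helper31.signalizerDelta_le_centralizer p D hx.1
    have hxd : d * x = x * d := (Subgroup.mem_centralizer_iff.mp hxD) d hd
    have hxb : x ∈ Subgroup.centralizer {b} := hx.2
    rw [Subgroup.mem_centralizer_singleton_iff] at hxb
    have hxbi : x * b ^ i = b ^ i * x := by
      have : Commute b x := hxb.symm
      exact (this.zpow_left i).eq.symm
    rw [Subgroup.mem_centralizer_singleton_iff, hdi]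
    calc x * (d * b ^ i) = (x * d) * b ^ i := by group
      _ = (d * x) * b ^ i := by rw [hxd]
      _ = d * (x * b ^ i) := by group
      _ = d * (b ^ i * x) := by rw [hxbi]
      _ = d * b ^ i * x := by group
  · intro a ha ha1
    exact isSolvable_of_le (hθle a ha ha1) (hsolv a ha ha1)
  · intro a ha ha1
    exact not_dvd_card_of_le' (hθle a ha ha1)
      (Cfsg.Agent.Helper31.not_dvd_card_centralizerPPrimeCore p a)

/-- The functor `thetaS` of an abstract `k`-system is a signalizer functor. -/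
theorem isSignalizerFunctor_thetaS {k : ℕ} (hk : 1 ≤ k) {A : Subgroup G} {Δ : Subgroup G → Subgroup G}
    (hA : IsElementaryAbelian p A) (hcard : p ^ (k + 2) ≤ Nat.card ↥A) (h : IsKSys p k A Δ) :
    IsSignalizerFunctor p A (thetaS p k A Δ) := by
  have hcomm := comm_of_isElementaryAbelian hA
  refine ⟨?_, ?_, ?_, ?_⟩
  · intro a _ _
    exact iSup_le fun _ => inf_le_right
  · intro a ha ha1
    rw [thetaS_eq_thetaOf hk hA h ha]
    exact h.pprime a ha ha1
  · intro a ha _
    apply Inv.iSup
    rintro ⟨D, hDA, hD⟩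
    apply Inv.inf (h.inv D hDA hD)
    intro b hb u hu
    rw [Subgroup.mem_centralizer_singleton_iff] at hu ⊢
    have hba : b * a = a * b := hcomm b hb a ha
    have hba' : b⁻¹ * a = a * b⁻¹ := by
      have : Commute b a := hba
      exact this.inv_left.eq
    calc b * u * b⁻¹ * a = b * u * (b⁻¹ * a) := by group
      _ = b * u * (a * b⁻¹) := by rw [hba']
      _ = b * (u * a) * b⁻¹ := by group
      _ = b * (a * u) * b⁻¹ := by rw [hu]
      _ = (b * a) * u * b⁻¹ := by group
      _ = (a * b) * u * b⁻¹ := by rw [hba]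
      _ = a * (b * u * b⁻¹) := by group
  · intro a ha ha1 b hb hb1
    rw [thetaS_eq_thetaOf hk hA h ha, thetaS_eq_thetaOf hk hA h hb]
    exact balance k hk A Δ hA hcard h a ha ha1 b hb hb1

/-- **S1299.** -/
theorem kBalanced_signalizer_functor (k : ℕ) (hk : 1 ≤ k) (hbal : IsKBalanced p k G)
    (A : Subgroup G) (hA : IsElementaryAbelian p A) (hAk : p ^ (k + 2) ≤ Nat.card ↥A)
    (hsolv : ∀ a ∈ A, a ≠ 1 → Group.IsSolvable ↥(centralizerPPrimeCore p a)) :
    IsSignalizerFunctor p A (fun a => ⨆ D : {D : Subgroup G // D ≤ A ∧ Nat.card ↥D = p ^ k},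
      signalizerDelta p (D : Subgroup G) ⊓ Subgroup.centralizer {a}) :=
  isSignalizerFunctor_thetaS hk hA hAk (isKSys_signalizerDelta hbal hA hsolv)

end Cfsg.Agent.Helper22.KSys
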