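import Mathlib

/-!
S2036 (helper96, #13724), piece (K1c): a subgroup `K` of order at most `n` containing a central element
`a` whose image has order at least `n` is central and cyclic of order `n`.
-/

set_option autoImplicit false

namespace Cfsg.Agent.Helper22.M22c

theorem kernel_cyclic {E P : Type*} [Group E] [Group P] (ψ : E →* P) (K : Subgroup E) [Finite K] (n : ℕ)
    (hn : 0 < n) (hK : Nat.card K ≤ n) (a : E) (ha : a ∈ Subgroup.center E) (haK : a ∈ K)
    (hψ : ∀ m, 0 < m → m < n → ψ a ^ m ≠ 1) :
    K ≤ Subgroup.center E ∧ Nonempty (Multiplicative (ZMod n) ≃* K) := by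
  classical
  set aK : K := ⟨a, haK⟩ with haK'
  have hord : orderOf (aK : E) = orderOf aK := Subgroup.orderOf_coe aK
  have hpos : 0 < orderOf aK := orderOf_pos aK
  have hle : orderOf aK ≤ Nat.card K := orderOf_le_card
  have hge : n ≤ orderOf aK := by
    by_contra hlt
    rw [not_le] at hlt
    apply hψ (orderOf aK) hpos hlt
    rw [← map_pow, ← hord]
    change ψ (a ^ orderOf a) = 1
    rw [pow_orderOf_eq_one, map_one]
  have hcard : Nat.card K = n := le_antisymm hK (hge.trans hle)
  have hordK : orderOf aK = Nat.card K := le_antisymm hle (hcard ▸ hge)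
  have hcyc : IsCyclic K := isCyclic_of_orderOf_eq_card aK hordK
  have htop : Subgroup.zpowers aK = ⊤ := by
    apply Subgroup.eq_top_of_card_eq
    rw [Nat.card_zpowers, hordK]
  constructor
  · intro k hk
    have hmem : (⟨k, hk⟩ : K) ∈ Subgroup.zpowers aK := by rw [htop]; exact Subgroup.mem_top _
    obtain ⟨j, hj⟩ := Subgroup.mem_zpowers_iff.mp hmem
    have hk' : k = a ^ j := by
      have := congrArg (fun x : K => (x : E)) hj
      simpa using this.symm
    rw [hk']
    exact Subgroup.zpow_mem _ ha j
  · subst hcard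
    exact ⟨zmodCyclicMulEquiv hcyc⟩

end Cfsg.Agent.Helper22.M22c
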