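import Cfsg.Agent.Helper96.M22c.Pres
import Cfsg.Agent.Helper96.M22c.GenData
import Cfsg.Agent.Helper28.CosetCox
import Cfsg.Prelude.Def_Spor_Mathieu
import Cfsg.Agent.Helper7.Chain
import Cfsg.Agent.Helper27.M22Base
import Cfsg.Agent.Helper93.M24Tables

/-!
S2036 (helper96, #13724), piece (T1): the presented group `PE` (a cover of `M₂₂`) maps onto `Cfsg.Spor.M22`
with the central generator `a` in the kernel.

The generators go to the permutations with the image tables of `Helper96.M22c.GenData`; the relators are checked on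
tables; surjectivity by counting along the stabiliser chain `1, 2, 3` (`22 · 21 · 20 · 48 = 443520 = |M₂₂|`).
-/

set_option autoImplicit false
set_option maxRecDepth 100000
set_option linter.unusedSimpArgs false

namespace Cfsg.Agent.Helper22.M22c

open Cfsg Cfsg.Agent.Helper7 Cfsg.Agent.Helper27 Cfsg.Agent.Helper28 Cfsg.Agent.Helper93
  Cfsg.Agent.Helper96.M22c

/-! ## the three permutations -/

theorem T1_vx : ValidTables xT (invT xT) := by decide +kernel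
theorem T1_vy : ValidTables yT (invT yT) := by decide +kernel
theorem T1_vv : ValidTables vT (invT vT) := by decide +kernel

/-- the image of `x` -/
def px : Equiv.Perm GolayPt := tablePerm xT (invT xT) T1_vx
/-- the image of `y` -/
def py : Equiv.Perm GolayPt := tablePerm yT (invT yT) T1_vy
/-- the image of `v` -/
def pv : Equiv.Perm GolayPt := tablePerm vT (invT vT) T1_vv

theorem T1_tx : IsTable xT px := isTable_tablePerm _ _ _
theorem T1_ty : IsTable yT py := isTable_tablePerm _ _ _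
theorem T1_tv : IsTable vT pv := isTable_tablePerm _ _ _

theorem px_mem_M24 : px ∈ M24 := tablePerm_mem_M24 _ _ _ (by decide +kernel)
theorem py_mem_M24 : py ∈ M24 := tablePerm_mem_M24 _ _ _ (by decide +kernel)
theorem pv_mem_M24 : pv ∈ M24 := tablePerm_mem_M24 _ _ _ (by decide +kernel)

theorem T1_mem_M22p {l : List ℕ} {g : Equiv.Perm GolayPt} (h : IsTable l g) (hg : g ∈ M24)
    (h0 : l.getD 0 0 = 0) (h23 : l.getD 23 0 = 23) : g ∈ M22p := by
  rw [mem_M22p]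
  refine ⟨hg, ?_, ?_⟩
  · have := h.apply (pt 0)
    rw [idx_pt (by norm_num), h0] at this
    exact this
  · have := h.apply (pt 23)
    rw [idx_pt (by norm_num), h23] at this
    exact this

theorem px_mem : px ∈ M22p := T1_mem_M22p T1_tx px_mem_M24 (by decide) (by decide)
theorem py_mem : py ∈ M22p := T1_mem_M22p T1_ty py_mem_M24 (by decide) (by decide)
theorem pv_mem : pv ∈ M22p := T1_mem_M22p T1_tv pv_mem_M24 (by decide) (by decide)

theorem sporM22_eq_M22p : Spor.M22 = M22p := by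
  ext g
  rw [mem_M22p, Spor.M22, Spor.M23, Subgroup.mem_inf, Subgroup.mem_inf]
  constructor
  · rintro ⟨⟨h1, h2⟩, h3⟩
    exact ⟨h1, MulAction.mem_stabilizer_iff.mp h3, MulAction.mem_stabilizer_iff.mp h2⟩
  · rintro ⟨h1, h2, h3⟩
    exact ⟨⟨h1, MulAction.mem_stabilizer_iff.mpr h3⟩, MulAction.mem_stabilizer_iff.mpr h2⟩

/-! ## words and their tables -/

/-- the table of a letter -/
def letterT (c : ℕ) : List ℕ := [xT, invT xT, yT, invT yT, vT, invT vT].getD c idT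

/-- the permutation of a letter -/
def letterP (c : ℕ) : Equiv.Perm GolayPt := [px, px⁻¹, py, py⁻¹, pv, pv⁻¹].getD c 1

theorem isTable_letter (c : ℕ) : IsTable (letterT c) (letterP c) := by
  rcases c with _ | _ | _ | _ | _ | _ | c
  · exact T1_tx
  · exact T1_tx.inv
  · exact T1_ty
  · exact T1_ty.inv
  · exact T1_tv
  · exact T1_tv.inv
  · exact isTable_one

/-- the table of a word -/
def wordT (w : List ℕ) : List ℕ := w.foldr (fun c acc => compT (letterT c) acc) idT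

/-- the permutation of a word -/
def wordP (w : List ℕ) : Equiv.Perm GolayPt := w.foldr (fun c acc => letterP c * acc) 1

theorem isTable_word (w : List ℕ) : IsTable (wordT w) (wordP w) := by
  induction w with
  | nil => exact isTable_one
  | cons c w ih => exact (isTable_letter c).mul ih

theorem wordP_eq_one {w : List ℕ} (h : wordT w = idT) : wordP w = 1 := by
  have h1 := isTable_word w
  rw [h] at h1
  exact h1.inj isTable_one

/-- the group generated by the three permutations -/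
def R : Subgroup (Equiv.Perm GolayPt) := Subgroup.closure {px, py, pv}

theorem px_mem_R : px ∈ R := Subgroup.subset_closure (by simp)
theorem py_mem_R : py ∈ R := Subgroup.subset_closure (by simp)
theorem pv_mem_R : pv ∈ R := Subgroup.subset_closure (by simp)

theorem letterP_mem_R (c : ℕ) : letterP c ∈ R := by
  rcases c with _ | _ | _ | _ | _ | _ | c
  · exact px_mem_R
  · exact R.inv_mem px_mem_R
  · exact py_mem_R
  · exact R.inv_mem py_mem_R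
  · exact pv_mem_R
  · exact R.inv_mem pv_mem_R
  · exact R.one_mem

theorem wordP_mem_R (w : List ℕ) : wordP w ∈ R := by
  induction w with
  | nil => exact R.one_mem
  | cons c w ih => exact R.mul_mem (letterP_mem_R c) ih

theorem tabled_word (w : List ℕ) : Tabled R (wordT w) := ⟨wordP w, wordP_mem_R w, isTable_word w⟩

theorem R_le_M22p : R ≤ M22p := by
  unfold R
  rw [Subgroup.closure_le]
  intro g hg
  rcases hg with rfl | rfl | rfl
  · exact px_mem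
  · exact py_mem
  · exact pv_mem

/-! ## the lower bound for the order -/

/-- one level of the count: orbit length times the order of the next stabiliser -/
theorem T1_level_ge {H : Subgroup (Equiv.Perm GolayPt)} {F : List ℕ} {L : Level}
    (hT : ∀ l ∈ L.T, Tabled H l) (hok : L.ok F = true) (hb : L.b < 24) (hnd : L.orb.Nodup)
    (h24 : ∀ q ∈ L.orb, q < 24) :
    L.orb.length * Nat.card (fixG H (L.b :: F)) ≤ Nat.card (fixG H F) := by
  classical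
  have hcov : ∀ q, ∃ t : Equiv.Perm GolayPt, q ∈ L.orb → t ∈ fixG H F ∧ t (pt L.b) = pt q := by
    intro q
    by_cases hq : q ∈ L.orb
    · obtain ⟨l, _, t, ht, _, htq⟩ := Level.cover hT hok hb q hq
      exact ⟨t, fun _ => ⟨ht, htq⟩⟩
    · exact ⟨1, fun h => absurd h hq⟩
  choose t ht using hcov
  let f : {q // q ∈ L.orb} × fixG H (L.b :: F) → fixG H F := fun x =>
    ⟨t x.1.1 * x.2.1, by
      have htq := ht _ x.1.2
      refine ⟨H.mul_mem htq.1.1 x.2.2.1, fun i hi => ?_⟩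
      rw [Equiv.Perm.mul_apply, x.2.2.2 i (List.mem_cons_of_mem _ hi), htq.1.2 i hi]⟩
  have hf : Function.Injective f := by
    rintro ⟨⟨q, hq⟩, ⟨k, hk⟩⟩ ⟨⟨q', hq'⟩, ⟨k', hk'⟩⟩ h
    have h1 : t q * k = t q' * k' := congrArg Subtype.val h
    have h2 := congrArg (fun g : Equiv.Perm GolayPt => idx (g (pt L.b))) h1
    simp only [Equiv.Perm.mul_apply] at h2
    rw [hk.2 L.b (List.mem_cons_self ..), hk'.2 L.b (List.mem_cons_self ..), (ht q hq).2, (ht q' hq').2,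
      idx_pt (h24 q hq), idx_pt (h24 q' hq')] at h2
    subst h2
    have h3 : k = k' := mul_left_cancel h1
    subst h3
    rfl
  have := Nat.card_le_card_of_injective f hf
  rwa [Nat.card_prod, card_subtype_mem_list _ hnd] at this

/-- distinct tabled elements in a stabiliser -/
theorem T1_last_ge {H : Subgroup (Equiv.Perm GolayPt)} {F : List ℕ} (Ts : List (List ℕ))
    (hT : ∀ l ∈ Ts, Tabled H l) (hnd : Ts.Nodup)
    (hfix : ∀ l ∈ Ts, ∀ i ∈ F, i < 24 ∧ l.getD i 0 = i) :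
    Ts.length ≤ Nat.card (fixG H F) := by
  classical
  have hch : ∀ i : Fin Ts.length, ∃ g : Equiv.Perm GolayPt, g ∈ H ∧ IsTable (Ts.get i) g :=
    fun i => hT _ (List.get_mem Ts i)
  choose g hg using hch
  let f : Fin Ts.length → fixG H F := fun i => ⟨g i, by
    refine ⟨(hg i).1, fun j hj => ?_⟩
    have h1 := hfix _ (List.get_mem Ts i) j hj
    rw [(hg i).2.apply, idx_pt h1.1, h1.2]⟩
  have hf : Function.Injective f := by
    intro i j hij
    have h1 : g i = g j := congrArg Subtype.val hij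
    have h2 : Ts.get i = Ts.get j := by
      rw [(hg i).2.eq_map, (hg j).2.eq_map, h1]
    exact (List.Nodup.get_inj_iff hnd).mp h2
  have := Nat.card_le_card_of_injective f hf
  rwa [Nat.card_eq_fintype_card, Fintype.card_fin] at this

/-- the first level -/
def lev1 : Level := ⟨1, List.range' 1 22, chain1.map wordT⟩
/-- the second level -/
def lev2 : Level := ⟨2, List.range' 2 21, chain2.map wordT⟩
/-- the third level -/
def lev3 : Level := ⟨3, List.range' 3 20, chain3.map wordT⟩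
/-- the elements of the last stabiliser -/
def tabs4 : List (List ℕ) := chain4.map wordT

theorem T1_tabled_map (ws : List (List ℕ)) : ∀ l ∈ ws.map wordT, Tabled R l := by
  intro l hl
  obtain ⟨w, _, rfl⟩ := List.mem_map.mp hl
  exact tabled_word w

theorem lev1_ok : lev1.ok [] = true := by decide +kernel
theorem lev2_ok : lev2.ok [1] = true := by decide +kernel
theorem lev3_ok : lev3.ok [2, 1] = true := by decide +kernel
theorem tabs4_nodup : tabs4.Nodup := by decide +kernel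
theorem tabs4_length : tabs4.length = 48 := by decide +kernel
theorem tabs4_fix : ∀ l ∈ tabs4, ∀ i ∈ [3, 2, 1], i < 24 ∧ l.getD i 0 = i := by decide +kernel

theorem card_R_ge : 443520 ≤ Nat.card R := by
  have h0 : Nat.card R = Nat.card (fixG R []) := by rw [fixG_nil]
  have h1 := T1_level_ge (H := R) (F := []) (L := lev1) (T1_tabled_map chain1) lev1_ok (by decide)
    (by decide) (by decide)
  have h2 := T1_level_ge (H := R) (F := [1]) (L := lev2) (T1_tabled_map chain2) lev2_ok (by decide)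
    (by decide) (by decide)
  have h3 := T1_level_ge (H := R) (F := [2, 1]) (L := lev3) (T1_tabled_map chain3) lev3_ok (by decide)
    (by decide) (by decide)
  have h4 := T1_last_ge (H := R) (F := [3, 2, 1]) tabs4 (T1_tabled_map chain4) tabs4_nodup tabs4_fix
  rw [tabs4_length] at h4
  have e1 : lev1.orb.length = 22 := by decide
  have e2 : lev2.orb.length = 21 := by decide
  have e3 : lev3.orb.length = 20 := by decide
  have b1 : lev1.b = 1 := rfl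
  have b2 : lev2.b = 2 := rfl
  have b3 : lev3.b = 3 := rfl
  rw [e1, b1] at h1
  rw [e2, b2] at h2
  rw [e3, b3] at h3
  rw [h0]
  calc 443520 = 22 * (21 * (20 * 48)) := by norm_num
    _ ≤ 22 * (21 * (20 * Nat.card (fixG R [3, 2, 1]))) := by
        exact Nat.mul_le_mul_left _ (Nat.mul_le_mul_left _ (Nat.mul_le_mul_left _ h4))
    _ ≤ 22 * (21 * Nat.card (fixG R [2, 1])) := by
        exact Nat.mul_le_mul_left _ (Nat.mul_le_mul_left _ h3)
    _ ≤ 22 * Nat.card (fixG R [1]) := Nat.mul_le_mul_left _ h2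
    _ ≤ Nat.card (fixG R []) := h1

theorem R_eq_M22p : R = M22p := by
  have hfin : Finite ↥M22p := inferInstance
  apply Subgroup.eq_of_le_of_card_ge R_le_M22p
  rw [card_M22p]
  exact card_R_ge

/-! ## the relators -/

theorem T1_w1 : wordT [0, 0, 0, 0, 0, 0, 0] = idT := by decide +kernel
theorem T1_w2 : wordT [2, 2, 2, 2, 2] = idT := by decide +kernel
theorem T1_w3 : wordT [4, 4, 4, 4, 4] = idT := by decide +kernel
theorem T1_w4 : wordT [0, 3, 3, 0, 0, 0, 2, 1, 1, 1, 2, 2, 1, 3, 3] = idT := by decide +kernel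
theorem T1_w5 : wordT [1, 1, 1, 2, 2, 1, 2, 0, 3, 3, 0, 0, 0, 2, 2] = idT := by decide +kernel
theorem T1_w6 : wordT [1, 1, 2, 1, 3, 3, 1, 2, 0, 2, 2, 0, 3, 0, 0, 2] = idT := by decide +kernel
theorem T1_w7 : wordT [0, 0, 0, 2, 1, 2, 0, 2, 1, 3, 0, 3, 1, 1, 1, 3, 3] = idT := by decide +kernel
theorem T1_w8 : wordT [0, 0, 0, 2, 1, 2, 0, 2, 2, 1, 3, 0, 3, 1, 1, 1, 2] = idT := by decide +kernel
theorem T1_w9 : wordT [2, 0, 2, 2, 0, 3, 3, 0, 0, 2, 2, 1, 3, 3, 1, 3, 1] = idT := by decide +kernel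
theorem T1_w10 : wordT [2, 0, 2, 2, 0, 3, 3, 0, 2, 2, 1, 3, 3, 1, 3, 0, 0, 0] = idT := by decide +kernel
theorem T1_w11 : wordT [1, 1, 2, 1, 3, 3, 1, 2, 2, 0, 2, 2, 0, 3, 0, 0, 2, 2] = idT := by decide +kernel
theorem T1_w12 : wordT [0, 0, 3, 1, 3, 0, 2, 0, 2, 1, 3, 1, 2, 0, 2, 1, 1, 2] = idT := by decide +kernel
theorem T1_w13 : wordT [2, 1, 3, 1, 3, 0, 0, 2, 0, 3, 1, 1, 2, 0, 2, 0, 3, 1] = idT := by decide +kernel
theorem T1_w14 : wordT [4, 1, 3, 4, 1, 5, 0, 0, 0, 4, 0, 5, 2, 0, 5, 1, 1, 1] = idT := by decide +kernel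
theorem T1_w15 : wordT [2, 1, 2, 5, 2, 2, 0, 0, 2, 1, 1, 3, 3, 4, 3, 0, 3, 5] = idT := by decide +kernel
theorem T1_w16 : wordT [0, 0, 4, 0, 5, 2, 0, 4, 4, 1, 3, 4, 1, 5, 1, 1, 5, 5] = idT := by decide +kernel
theorem T1_w17 : wordT [0, 0, 4, 0, 5, 2, 0, 5, 2, 4, 1, 3, 4, 1, 5, 1, 1, 3] = idT := by decide +kernel
theorem T1_w18 : wordT [0, 5, 0, 0, 4, 0, 5, 2, 2, 4, 1, 5, 1, 1, 4, 1, 3, 3] = idT := by decide +kernel
theorem T1_w19 : wordT [4, 2, 4, 1, 4, 4, 0, 0, 4, 1, 1, 5, 5, 0, 5, 3, 5, 3] = idT := by decide +kernel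
theorem T1_w20 : wordT [0, 5, 2, 0, 5, 0, 0, 4, 2, 5, 1, 1, 4, 1, 3, 4, 1, 3] = idT := by decide +kernel
theorem T1_w21 : wordT [0, 0, 4, 3, 0, 3, 3, 1, 2, 0, 2, 2, 1, 2, 5, 1, 1, 4] = idT := by decide +kernel
theorem T1_w22 : wordT [0, 5, 2, 0, 5, 0, 0, 4, 4, 1, 1, 4, 1, 3, 4, 1, 5, 5] = idT := by decide +kernel
theorem T1_w23 : wordT [0, 4, 0, 5, 2, 0, 5, 0, 2, 1, 4, 1, 3, 4, 1, 5, 1, 3] = idT := by decide +kernel
theorem T1_w24 : wordT [4, 2, 4, 0, 4, 2, 0, 2, 4, 3, 1, 3, 5, 1, 5, 3, 5, 3] = idT := by decide +kernel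
theorem T1_w25 : wordT [0, 0, 4, 0, 5, 2, 0, 5] = idT := by decide +kernel

/-- the elements of `Spor.M22` -/
def gX : ↥Spor.M22 := ⟨px, by rw [sporM22_eq_M22p]; exact px_mem⟩
/-- the elements of `Spor.M22` -/
def gY : ↥Spor.M22 := ⟨py, by rw [sporM22_eq_M22p]; exact py_mem⟩
/-- the elements of `Spor.M22` -/
def gV : ↥Spor.M22 := ⟨pv, by rw [sporM22_eq_M22p]; exact pv_mem⟩

/-- the images of the generators -/
def gmap : PE.Gen → ↥Spor.M22
  | PE.Gen.x => gX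
  | PE.Gen.y => gY
  | PE.Gen.v => gV
  | PE.Gen.a => 1

theorem lift_gmap_x : FreeGroup.lift gmap PE.x = gX := by
  unfold PE.x; rw [FreeGroup.lift_apply_of]; rfl
theorem lift_gmap_y : FreeGroup.lift gmap PE.y = gY := by
  unfold PE.y; rw [FreeGroup.lift_apply_of]; rfl
theorem lift_gmap_v : FreeGroup.lift gmap PE.v = gV := by
  unfold PE.v; rw [FreeGroup.lift_apply_of]; rfl
theorem lift_gmap_a : FreeGroup.lift gmap PE.a = 1 := by
  unfold PE.a; rw [FreeGroup.lift_apply_of]; rfl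

/-- an element of `Spor.M22` is trivial if its permutation is the permutation of a trivial word -/
theorem T1_eq_one (g : ↥Spor.M22) (w : List ℕ) (hw : wordT w = idT) (hg : (g : Equiv.Perm GolayPt) = wordP w) :
    g = 1 := by
  apply Subtype.ext
  rw [hg, wordP_eq_one hw]
  rfl

theorem T1_cx : ((gX : ↥Spor.M22) : Equiv.Perm GolayPt) = px := rfl
theorem T1_cy : ((gY : ↥Spor.M22) : Equiv.Perm GolayPt) = py := rfl
theorem T1_cv : ((gV : ↥Spor.M22) : Equiv.Perm GolayPt) = pv := rfl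

theorem T1_g1 : (gX * gX * gX * gX * gX * gX * gX : ↥Spor.M22) = 1 := by
  apply T1_eq_one _ [0, 0, 0, 0, 0, 0, 0] T1_w1
  simp only [Subgroup.coe_mul, Subgroup.coe_inv, T1_cx, T1_cy, T1_cv, wordP, letterP, List.foldr_cons, List.foldr_nil,
    List.getD_cons_zero, List.getD_cons_succ, mul_one, mul_assoc]

theorem T1_g2 : (gY * gY * gY * gY * gY : ↥Spor.M22) = 1 := by
  apply T1_eq_one _ [2, 2, 2, 2, 2] T1_w2
  simp only [Subgroup.coe_mul, Subgroup.coe_inv, T1_cx, T1_cy, T1_cv, wordP, letterP, List.foldr_cons, List.foldr_nil,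
    List.getD_cons_zero, List.getD_cons_succ, mul_one, mul_assoc]

theorem T1_g3 : (gV * gV * gV * gV * gV : ↥Spor.M22) = 1 := by
  apply T1_eq_one _ [4, 4, 4, 4, 4] T1_w3
  simp only [Subgroup.coe_mul, Subgroup.coe_inv, T1_cx, T1_cy, T1_cv, wordP, letterP, List.foldr_cons, List.foldr_nil,
    List.getD_cons_zero, List.getD_cons_succ, mul_one, mul_assoc]

theorem T1_g4 : (gX * gY⁻¹ * gY⁻¹ * gX * gX * gX * gY * gX⁻¹ * gX⁻¹ * gX⁻¹ * gY * gY * gX⁻¹ * gY⁻¹ * gY⁻¹ : ↥Spor.M22) = 1 := by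
  apply T1_eq_one _ [0, 3, 3, 0, 0, 0, 2, 1, 1, 1, 2, 2, 1, 3, 3] T1_w4
  simp only [Subgroup.coe_mul, Subgroup.coe_inv, T1_cx, T1_cy, T1_cv, wordP, letterP, List.foldr_cons, List.foldr_nil,
    List.getD_cons_zero, List.getD_cons_succ, mul_one, mul_assoc]

theorem T1_g5 : (gX⁻¹ * gX⁻¹ * gX⁻¹ * gY * gY * gX⁻¹ * gY * gX * gY⁻¹ * gY⁻¹ * gX * gX * gX * gY * gY : ↥Spor.M22) = 1 := by
  apply T1_eq_one _ [1, 1, 1, 2, 2, 1, 2, 0, 3, 3, 0, 0, 0, 2, 2] T1_w5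
  simp only [Subgroup.coe_mul, Subgroup.coe_inv, T1_cx, T1_cy, T1_cv, wordP, letterP, List.foldr_cons, List.foldr_nil,
    List.getD_cons_zero, List.getD_cons_succ, mul_one, mul_assoc]

theorem T1_g6 : (gX⁻¹ * gX⁻¹ * gY * gX⁻¹ * gY⁻¹ * gY⁻¹ * gX⁻¹ * gY * gX * gY * gY * gX * gY⁻¹ * gX * gX * gY : ↥Spor.M22) = 1 := by
  apply T1_eq_one _ [1, 1, 2, 1, 3, 3, 1, 2, 0, 2, 2, 0, 3, 0, 0, 2] T1_w6
  simp only [Subgroup.coe_mul, Subgroup.coe_inv, T1_cx, T1_cy, T1_cv, wordP, letterP, List.foldr_cons, List.foldr_nil,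
    List.getD_cons_zero, List.getD_cons_succ, mul_one, mul_assoc]

theorem T1_g7 : (gX * gX * gX * gY * gX⁻¹ * gY * gX * gY * gX⁻¹ * gY⁻¹ * gX * gY⁻¹ * gX⁻¹ * gX⁻¹ * gX⁻¹ * gY⁻¹ * gY⁻¹ : ↥Spor.M22) = 1 := by
  apply T1_eq_one _ [0, 0, 0, 2, 1, 2, 0, 2, 1, 3, 0, 3, 1, 1, 1, 3, 3] T1_w7
  simp only [Subgroup.coe_mul, Subgroup.coe_inv, T1_cx, T1_cy, T1_cv, wordP, letterP, List.foldr_cons, List.foldr_nil,
    List.getD_cons_zero, List.getD_cons_succ, mul_one, mul_assoc]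

theorem T1_g8 : (gX * gX * gX * gY * gX⁻¹ * gY * gX * gY * gY * gX⁻¹ * gY⁻¹ * gX * gY⁻¹ * gX⁻¹ * gX⁻¹ * gX⁻¹ * gY : ↥Spor.M22) = 1 := by
  apply T1_eq_one _ [0, 0, 0, 2, 1, 2, 0, 2, 2, 1, 3, 0, 3, 1, 1, 1, 2] T1_w8
  simp only [Subgroup.coe_mul, Subgroup.coe_inv, T1_cx, T1_cy, T1_cv, wordP, letterP, List.foldr_cons, List.foldr_nil,
    List.getD_cons_zero, List.getD_cons_succ, mul_one, mul_assoc]

theorem T1_g9 : (gY * gX * gY * gY * gX * gY⁻¹ * gY⁻¹ * gX * gX * gY * gY * gX⁻¹ * gY⁻¹ * gY⁻¹ * gX⁻¹ * gY⁻¹ * gX⁻¹ : ↥Spor.M22) = 1 := by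
  apply T1_eq_one _ [2, 0, 2, 2, 0, 3, 3, 0, 0, 2, 2, 1, 3, 3, 1, 3, 1] T1_w9
  simp only [Subgroup.coe_mul, Subgroup.coe_inv, T1_cx, T1_cy, T1_cv, wordP, letterP, List.foldr_cons, List.foldr_nil,
    List.getD_cons_zero, List.getD_cons_succ, mul_one, mul_assoc]

theorem T1_g10 : (gY * gX * gY * gY * gX * gY⁻¹ * gY⁻¹ * gX * gY * gY * gX⁻¹ * gY⁻¹ * gY⁻¹ * gX⁻¹ * gY⁻¹ * gX * gX * gX : ↥Spor.M22) = 1 := by
  apply T1_eq_one _ [2, 0, 2, 2, 0, 3, 3, 0, 2, 2, 1, 3, 3, 1, 3, 0, 0, 0] T1_w10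
  simp only [Subgroup.coe_mul, Subgroup.coe_inv, T1_cx, T1_cy, T1_cv, wordP, letterP, List.foldr_cons, List.foldr_nil,
    List.getD_cons_zero, List.getD_cons_succ, mul_one, mul_assoc]

theorem T1_g11 : (gX⁻¹ * gX⁻¹ * gY * gX⁻¹ * gY⁻¹ * gY⁻¹ * gX⁻¹ * gY * gY * gX * gY * gY * gX * gY⁻¹ * gX * gX * gY * gY : ↥Spor.M22) = 1 := by
  apply T1_eq_one _ [1, 1, 2, 1, 3, 3, 1, 2, 2, 0, 2, 2, 0, 3, 0, 0, 2, 2] T1_w11
  simp only [Subgroup.coe_mul, Subgroup.coe_inv, T1_cx, T1_cy, T1_cv, wordP, letterP, List.foldr_cons, List.foldr_nil,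
    List.getD_cons_zero, List.getD_cons_succ, mul_one, mul_assoc]

theorem T1_g12 : (gX * gX * gY⁻¹ * gX⁻¹ * gY⁻¹ * gX * gY * gX * gY * gX⁻¹ * gY⁻¹ * gX⁻¹ * gY * gX * gY * gX⁻¹ * gX⁻¹ * gY : ↥Spor.M22) = 1 := by
  apply T1_eq_one _ [0, 0, 3, 1, 3, 0, 2, 0, 2, 1, 3, 1, 2, 0, 2, 1, 1, 2] T1_w12
  simp only [Subgroup.coe_mul, Subgroup.coe_inv, T1_cx, T1_cy, T1_cv, wordP, letterP, List.foldr_cons, List.foldr_nil,
    List.getD_cons_zero, List.getD_cons_succ, mul_one, mul_assoc]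

theorem T1_g13 : (gY * gX⁻¹ * gY⁻¹ * gX⁻¹ * gY⁻¹ * gX * gX * gY * gX * gY⁻¹ * gX⁻¹ * gX⁻¹ * gY * gX * gY * gX * gY⁻¹ * gX⁻¹ : ↥Spor.M22) = 1 := by
  apply T1_eq_one _ [2, 1, 3, 1, 3, 0, 0, 2, 0, 3, 1, 1, 2, 0, 2, 0, 3, 1] T1_w13
  simp only [Subgroup.coe_mul, Subgroup.coe_inv, T1_cx, T1_cy, T1_cv, wordP, letterP, List.foldr_cons, List.foldr_nil,
    List.getD_cons_zero, List.getD_cons_succ, mul_one, mul_assoc]

theorem T1_g14 : (gV * gX⁻¹ * gY⁻¹ * gV * gX⁻¹ * gV⁻¹ * gX * gX * gX * gV * gX * gV⁻¹ * gY * gX * gV⁻¹ * gX⁻¹ * gX⁻¹ * gX⁻¹ : ↥Spor.M22) = 1 := by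
  apply T1_eq_one _ [4, 1, 3, 4, 1, 5, 0, 0, 0, 4, 0, 5, 2, 0, 5, 1, 1, 1] T1_w14
  simp only [Subgroup.coe_mul, Subgroup.coe_inv, T1_cx, T1_cy, T1_cv, wordP, letterP, List.foldr_cons, List.foldr_nil,
    List.getD_cons_zero, List.getD_cons_succ, mul_one, mul_assoc]

theorem T1_g15 : (gY * gX⁻¹ * gY * gV⁻¹ * gY * gY * gX * gX * gY * gX⁻¹ * gX⁻¹ * gY⁻¹ * gY⁻¹ * gV * gY⁻¹ * gX * gY⁻¹ * gV⁻¹ : ↥Spor.M22) = 1 := by
  apply T1_eq_one _ [2, 1, 2, 5, 2, 2, 0, 0, 2, 1, 1, 3, 3, 4, 3, 0, 3, 5] T1_w15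
  simp only [Subgroup.coe_mul, Subgroup.coe_inv, T1_cx, T1_cy, T1_cv, wordP, letterP, List.foldr_cons, List.foldr_nil,
    List.getD_cons_zero, List.getD_cons_succ, mul_one, mul_assoc]

theorem T1_g16 : (gX * gX * gV * gX * gV⁻¹ * gY * gX * gV * gV * gX⁻¹ * gY⁻¹ * gV * gX⁻¹ * gV⁻¹ * gX⁻¹ * gX⁻¹ * gV⁻¹ * gV⁻¹ : ↥Spor.M22) = 1 := by
  apply T1_eq_one _ [0, 0, 4, 0, 5, 2, 0, 4, 4, 1, 3, 4, 1, 5, 1, 1, 5, 5] T1_w16
  simp only [Subgroup.coe_mul, Subgroup.coe_inv, T1_cx, T1_cy, T1_cv, wordP, letterP, List.foldr_cons, List.foldr_nil,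
    List.getD_cons_zero, List.getD_cons_succ, mul_one, mul_assoc]

theorem T1_g17 : (gX * gX * gV * gX * gV⁻¹ * gY * gX * gV⁻¹ * gY * gV * gX⁻¹ * gY⁻¹ * gV * gX⁻¹ * gV⁻¹ * gX⁻¹ * gX⁻¹ * gY⁻¹ : ↥Spor.M22) = 1 := by
  apply T1_eq_one _ [0, 0, 4, 0, 5, 2, 0, 5, 2, 4, 1, 3, 4, 1, 5, 1, 1, 3] T1_w17
  simp only [Subgroup.coe_mul, Subgroup.coe_inv, T1_cx, T1_cy, T1_cv, wordP, letterP, List.foldr_cons, List.foldr_nil,
    List.getD_cons_zero, List.getD_cons_succ, mul_one, mul_assoc]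

theorem T1_g18 : (gX * gV⁻¹ * gX * gX * gV * gX * gV⁻¹ * gY * gY * gV * gX⁻¹ * gV⁻¹ * gX⁻¹ * gX⁻¹ * gV * gX⁻¹ * gY⁻¹ * gY⁻¹ : ↥Spor.M22) = 1 := by
  apply T1_eq_one _ [0, 5, 0, 0, 4, 0, 5, 2, 2, 4, 1, 5, 1, 1, 4, 1, 3, 3] T1_w18
  simp only [Subgroup.coe_mul, Subgroup.coe_inv, T1_cx, T1_cy, T1_cv, wordP, letterP, List.foldr_cons, List.foldr_nil,
    List.getD_cons_zero, List.getD_cons_succ, mul_one, mul_assoc]

theorem T1_g19 : (gV * gY * gV * gX⁻¹ * gV * gV * gX * gX * gV * gX⁻¹ * gX⁻¹ * gV⁻¹ * gV⁻¹ * gX * gV⁻¹ * gY⁻¹ * gV⁻¹ * gY⁻¹ : ↥Spor.M22) = 1 := by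
  apply T1_eq_one _ [4, 2, 4, 1, 4, 4, 0, 0, 4, 1, 1, 5, 5, 0, 5, 3, 5, 3] T1_w19
  simp only [Subgroup.coe_mul, Subgroup.coe_inv, T1_cx, T1_cy, T1_cv, wordP, letterP, List.foldr_cons, List.foldr_nil,
    List.getD_cons_zero, List.getD_cons_succ, mul_one, mul_assoc]

theorem T1_g20 : (gX * gV⁻¹ * gY * gX * gV⁻¹ * gX * gX * gV * gY * gV⁻¹ * gX⁻¹ * gX⁻¹ * gV * gX⁻¹ * gY⁻¹ * gV * gX⁻¹ * gY⁻¹ : ↥Spor.M22) = 1 := by
  apply T1_eq_one _ [0, 5, 2, 0, 5, 0, 0, 4, 2, 5, 1, 1, 4, 1, 3, 4, 1, 3] T1_w20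
  simp only [Subgroup.coe_mul, Subgroup.coe_inv, T1_cx, T1_cy, T1_cv, wordP, letterP, List.foldr_cons, List.foldr_nil,
    List.getD_cons_zero, List.getD_cons_succ, mul_one, mul_assoc]

theorem T1_g21 : (gX * gX * gV * gY⁻¹ * gX * gY⁻¹ * gY⁻¹ * gX⁻¹ * gY * gX * gY * gY * gX⁻¹ * gY * gV⁻¹ * gX⁻¹ * gX⁻¹ * gV : ↥Spor.M22) = 1 := by
  apply T1_eq_one _ [0, 0, 4, 3, 0, 3, 3, 1, 2, 0, 2, 2, 1, 2, 5, 1, 1, 4] T1_w21
  simp only [Subgroup.coe_mul, Subgroup.coe_inv, T1_cx, T1_cy, T1_cv, wordP, letterP, List.foldr_cons, List.foldr_nil,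
    List.getD_cons_zero, List.getD_cons_succ, mul_one, mul_assoc]

theorem T1_g22 : (gX * gV⁻¹ * gY * gX * gV⁻¹ * gX * gX * gV * gV * gX⁻¹ * gX⁻¹ * gV * gX⁻¹ * gY⁻¹ * gV * gX⁻¹ * gV⁻¹ * gV⁻¹ : ↥Spor.M22) = 1 := by
  apply T1_eq_one _ [0, 5, 2, 0, 5, 0, 0, 4, 4, 1, 1, 4, 1, 3, 4, 1, 5, 5] T1_w22
  simp only [Subgroup.coe_mul, Subgroup.coe_inv, T1_cx, T1_cy, T1_cv, wordP, letterP, List.foldr_cons, List.foldr_nil,
    List.getD_cons_zero, List.getD_cons_succ, mul_one, mul_assoc]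

theorem T1_g23 : (gX * gV * gX * gV⁻¹ * gY * gX * gV⁻¹ * gX * gY * gX⁻¹ * gV * gX⁻¹ * gY⁻¹ * gV * gX⁻¹ * gV⁻¹ * gX⁻¹ * gY⁻¹ : ↥Spor.M22) = 1 := by
  apply T1_eq_one _ [0, 4, 0, 5, 2, 0, 5, 0, 2, 1, 4, 1, 3, 4, 1, 5, 1, 3] T1_w23
  simp only [Subgroup.coe_mul, Subgroup.coe_inv, T1_cx, T1_cy, T1_cv, wordP, letterP, List.foldr_cons, List.foldr_nil,
    List.getD_cons_zero, List.getD_cons_succ, mul_one, mul_assoc]

theorem T1_g24 : (gV * gY * gV * gX * gV * gY * gX * gY * gV * gY⁻¹ * gX⁻¹ * gY⁻¹ * gV⁻¹ * gX⁻¹ * gV⁻¹ * gY⁻¹ * gV⁻¹ * gY⁻¹ : ↥Spor.M22) = 1 := by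
  apply T1_eq_one _ [4, 2, 4, 0, 4, 2, 0, 2, 4, 3, 1, 3, 5, 1, 5, 3, 5, 3] T1_w24
  simp only [Subgroup.coe_mul, Subgroup.coe_inv, T1_cx, T1_cy, T1_cv, wordP, letterP, List.foldr_cons, List.foldr_nil,
    List.getD_cons_zero, List.getD_cons_succ, mul_one, mul_assoc]

theorem T1_g25 : (gX * gX * gV * gX * gV⁻¹ * gY * gX * gV⁻¹ : ↥Spor.M22) = 1 := by
  apply T1_eq_one _ [0, 0, 4, 0, 5, 2, 0, 5] T1_w25
  simp only [Subgroup.coe_mul, Subgroup.coe_inv, T1_cx, T1_cy, T1_cv, wordP, letterP, List.foldr_cons, List.foldr_nil,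
    List.getD_cons_zero, List.getD_cons_succ, mul_one, mul_assoc]

theorem gmap_rels : ∀ r ∈ coxRels PE.edges PE.extra, FreeGroup.lift gmap r = 1 := by
  intro r hr
  rcases hr with hr | hr
  · obtain ⟨_, hy, -⟩ := hr
    simp [PE.edges, Cfsg.Spor.coxNodes] at hy
  · have hr' : r ∈ PE.extra := hr
    unfold PE.extra at hr'
    simp only [List.mem_cons, List.not_mem_nil, or_false] at hr'
    rcases hr' with rfl | rfl | rfl | rfl | rfl | rfl | rfl | rfl | rfl | rfl | rfl | rfl | rfl |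
      rfl | rfl | rfl | rfl | rfl | rfl | rfl | rfl | rfl | rfl | rfl | rfl | rfl | rfl | rfl <;>
    simp only [map_mul, map_inv, lift_gmap_x, lift_gmap_y, lift_gmap_v, lift_gmap_a,
      inv_one, mul_one, one_mul, mul_inv_cancel]
    · exact T1_g1
    · exact T1_g2
    · exact T1_g3
    · exact T1_g4
    · exact T1_g5
    · exact T1_g6
    · exact T1_g7
    · exact T1_g8
    · exact T1_g9
    · exact T1_g10
    · exact T1_g11
    · exact T1_g12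
    · exact T1_g13
    · exact T1_g14
    · exact T1_g15
    · exact T1_g16
    · exact T1_g17
    · exact T1_g18
    · exact T1_g19
    · exact T1_g20
    · exact T1_g21
    · exact T1_g22
    · exact T1_g23
    · exact T1_g24
    · exact T1_g25

/-- the homomorphism -/
def tau : PresentedGroup (coxRels PE.edges PE.extra) →* ↥Spor.M22 := PresentedGroup.toGroup gmap_rels

theorem tau_x : tau (PresentedGroup.of PE.Gen.x) = gX := by
  unfold tau; rw [PresentedGroup.toGroup.of]; rfl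
theorem tau_y : tau (PresentedGroup.of PE.Gen.y) = gY := by
  unfold tau; rw [PresentedGroup.toGroup.of]; rfl
theorem tau_v : tau (PresentedGroup.of PE.Gen.v) = gV := by
  unfold tau; rw [PresentedGroup.toGroup.of]; rfl
theorem tau_a : tau (PresentedGroup.of PE.Gen.a) = 1 := by
  unfold tau; rw [PresentedGroup.toGroup.of]; rfl

theorem tau_surjective : Function.Surjective tau := by
  have hle : R ≤ tau.range.map (Subgroup.subtype Spor.M22) := by
    unfold R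
    rw [Subgroup.closure_le]
    intro g hg
    rcases hg with rfl | rfl | rfl
    · exact ⟨gX, ⟨_, tau_x⟩, rfl⟩
    · exact ⟨gY, ⟨_, tau_y⟩, rfl⟩
    · exact ⟨gV, ⟨_, tau_v⟩, rfl⟩
  intro g
  have hg : (g : Equiv.Perm GolayPt) ∈ R := by
    rw [R_eq_M22p, ← sporM22_eq_M22p]
    exact g.2
  obtain ⟨h, ⟨y0, hy⟩, hh⟩ := hle hg
  refine ⟨y0, ?_⟩
  rw [hy]
  exact Subtype.ext hh

/-- (T1) -/
theorem exists_tau : ∃ τ : PresentedGroup (coxRels PE.edges PE.extra) →* ↥Cfsg.Spor.M22,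
    Function.Surjective τ ∧ τ (PresentedGroup.of PE.Gen.a) = 1 :=
  ⟨tau, tau_surjective, tau_a⟩

end Cfsg.Agent.Helper22.M22c
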