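import Mathlib
import Cfsg.Agent.Helper62.Ore.Defs

/-!
S2444 (helper62's Ore farm #12939), piece (EXTD): extend an automorphism of the hyperplane `ker ε`
by the scalar `s` on the quotient.
-/

set_option autoImplicit false

namespace Cfsg.Agent.Helper22.Ore

open Polynomial Module Cfsg.Agent.Helper62.Ore

variable {F : Type*} [Field F] {V : Type*} [AddCommGroup V] [Module F V]

/-- the projection `x ↦ x - ε(x) y` onto `ker ε` (`ε y = 1`) -/
noncomputable def EXTD_proj (ε : Module.Dual F V) (y : V) (hy : ε y = 1) :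
    V →ₗ[F] ↥(LinearMap.ker ε) :=
  LinearMap.codRestrict (LinearMap.ker ε) (LinearMap.id - ε.smulRight y) (by
    intro x
    rw [LinearMap.mem_ker]
    simp [LinearMap.smulRight_apply, hy])

theorem EXTD_proj_coe (ε : Module.Dual F V) (y : V) (hy : ε y = 1) (x : V) :
    ((EXTD_proj ε y hy x : ↥(LinearMap.ker ε)) : V) = x - ε x • y := by
  simp [EXTD_proj, LinearMap.smulRight_apply]

theorem EXTD_proj_ker (ε : Module.Dual F V) (y : V) (hy : ε y = 1) (h : ↥(LinearMap.ker ε)) :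
    EXTD_proj ε y hy (h : V) = h := by
  apply Subtype.ext
  rw [EXTD_proj_coe, LinearMap.mem_ker.mp h.2, zero_smul, sub_zero]

/-- `x ↦ T(x - ε(x) y) + s ε(x) y` -/
noncomputable def EXTD_map (ε : Module.Dual F V) (y : V) (hy : ε y = 1) (s : F)
    (T : ↥(LinearMap.ker ε) →ₗ[F] ↥(LinearMap.ker ε)) : V →ₗ[F] V :=
  (LinearMap.ker ε).subtype ∘ₗ T ∘ₗ EXTD_proj ε y hy + (s • ε).smulRight y

theorem EXTD_map_apply (ε : Module.Dual F V) (y : V) (hy : ε y = 1) (s : F)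
    (T : ↥(LinearMap.ker ε) →ₗ[F] ↥(LinearMap.ker ε)) (x : V) :
    EXTD_map ε y hy s T x = (T (EXTD_proj ε y hy x) : V) + (s * ε x) • y := by
  simp [EXTD_map, LinearMap.smulRight_apply]

theorem EXTD_eps_map (ε : Module.Dual F V) (y : V) (hy : ε y = 1) (s : F)
    (T : ↥(LinearMap.ker ε) →ₗ[F] ↥(LinearMap.ker ε)) (x : V) :
    ε (EXTD_map ε y hy s T x) = s * ε x := by
  rw [EXTD_map_apply, map_add, LinearMap.mem_ker.mp (T (EXTD_proj ε y hy x)).2, zero_add, map_smul,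
    hy, smul_eq_mul, mul_one]

theorem EXTD_proj_map (ε : Module.Dual F V) (y : V) (hy : ε y = 1) (s : F)
    (T : ↥(LinearMap.ker ε) →ₗ[F] ↥(LinearMap.ker ε)) (x : V) :
    EXTD_proj ε y hy (EXTD_map ε y hy s T x) = T (EXTD_proj ε y hy x) := by
  apply Subtype.ext
  rw [EXTD_proj_coe, EXTD_eps_map, EXTD_map_apply, add_sub_cancel_right]

theorem EXTD_map_map (ε : Module.Dual F V) (y : V) (hy : ε y = 1) (s s' : F)
    (T T' : ↥(LinearMap.ker ε) →ₗ[F] ↥(LinearMap.ker ε)) (x : V) :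
    EXTD_map ε y hy s T (EXTD_map ε y hy s' T' x) =
      (T (T' (EXTD_proj ε y hy x)) : V) + (s * s' * ε x) • y := by
  rw [EXTD_map_apply ε y hy s T, EXTD_proj_map, EXTD_eps_map, mul_assoc]

theorem EXTD_map_inv (ε : Module.Dual F V) (y : V) (hy : ε y = 1) (s s' : F) (hss' : s * s' = 1)
    (T T' : ↥(LinearMap.ker ε) →ₗ[F] ↥(LinearMap.ker ε)) (hTT' : ∀ h, T (T' h) = h) (x : V) :
    EXTD_map ε y hy s T (EXTD_map ε y hy s' T' x) = x := by
  rw [EXTD_map_map, hTT', hss', one_mul, EXTD_proj_coe, sub_add_cancel]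

/-- (EXTD) extend an automorphism of the hyperplane `ker ε` by `s` on the quotient. -/
theorem exists_extend (ε : Module.Dual F V) (y : V) (hy : ε y = 1) (s : F) (hs : s ≠ 0)
    (Y₁ : ↥(LinearMap.ker ε) ≃ₗ[F] ↥(LinearMap.ker ε)) :
    ∃ Y₀ : V ≃ₗ[F] V, (∀ h : ↥(LinearMap.ker ε), Y₀ (h : V) = (Y₁ h : V)) ∧
      (∀ x, ε (Y₀ x) = s * ε x) := by
  let f : V →ₗ[F] V := EXTD_map ε y hy s (Y₁ : ↥(LinearMap.ker ε) →ₗ[F] ↥(LinearMap.ker ε))
  let g : V →ₗ[F] V := EXTD_map ε y hy s⁻¹ (Y₁.symm : ↥(LinearMap.ker ε) →ₗ[F] ↥(LinearMap.ker ε))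
  have hfg : f ∘ₗ g = LinearMap.id := by
    apply LinearMap.ext
    intro x
    exact EXTD_map_inv ε y hy s s⁻¹ (mul_inv_cancel₀ hs) _ _ (fun h => Y₁.apply_symm_apply h) x
  have hgf : g ∘ₗ f = LinearMap.id := by
    apply LinearMap.ext
    intro x
    exact EXTD_map_inv ε y hy s⁻¹ s (inv_mul_cancel₀ hs) _ _ (fun h => Y₁.symm_apply_apply h) x
  refine ⟨LinearEquiv.ofLinear f g hfg hgf, ?_, ?_⟩
  · intro h
    change EXTD_map ε y hy s (Y₁ : ↥(LinearMap.ker ε) →ₗ[F] ↥(LinearMap.ker ε)) (h : V) = _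
    rw [EXTD_map_apply, EXTD_proj_ker, LinearMap.mem_ker.mp h.2, mul_zero, zero_smul, add_zero]
    rfl
  · intro x
    exact EXTD_eps_map ε y hy s _ x

end Cfsg.Agent.Helper22.Ore
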