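import Mathlib
import Cfsg.Agent.Helper62.Ore.Defs
import Cfsg.Agent.Helper22.OreEXTD

/-!
S2444 (helper62's Ore farm #12939), piece (CENT): the centralizer of an operator with an eigenvector `u`
and an invariant complement `ker ε` contains elements of every determinant.
-/

set_option autoImplicit false

namespace Cfsg.Agent.Helper22.Ore

open Polynomial Module Cfsg.Agent.Helper62.Ore

variable {F : Type*} [Field F] {V : Type*} [AddCommGroup V] [Module F V]

/-- `V ≃ ker ε × F` -/
noncomputable def CENT_equiv (ε : Module.Dual F V) (u : V) (hu : ε u = 1) :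
    (↥(LinearMap.ker ε) × F) ≃ₗ[F] V :=
  LinearEquiv.ofLinear
    (LinearMap.coprod (LinearMap.ker ε).subtype (LinearMap.toSpanSingleton F V u))
    (LinearMap.prod (EXTD_proj ε u hu) ε)
    (by
      apply LinearMap.ext
      intro x
      simp [EXTD_proj_coe])
    (by
      apply LinearMap.ext
      rintro ⟨h, a⟩
      apply Prod.ext
      · apply Subtype.ext
        simp [EXTD_proj_coe, LinearMap.mem_ker.mp h.2, hu]
      · simp [LinearMap.mem_ker.mp h.2, hu])

theorem CENT_equiv_apply (ε : Module.Dual F V) (u : V) (hu : ε u = 1) (h : ↥(LinearMap.ker ε)) (a : F) :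
    CENT_equiv ε u hu (h, a) = (h : V) + a • u := by
  simp [CENT_equiv]

theorem CENT_equiv_symm_apply (ε : Module.Dual F V) (u : V) (hu : ε u = 1) (x : V) :
    (CENT_equiv ε u hu).symm x = (EXTD_proj ε u hu x, ε x) := rfl

/-- (CENT) the centralizer of an operator with an eigenvector `u` and an invariant complement
`ker ε` contains elements of every determinant. -/
theorem exists_commute_det [FiniteDimensional F V] (Y : Module.End F V) (ε : Module.Dual F V)
    (u : V) (s : F) (hu : ε u = 1) (hYu : Y u = s • u) (hY : ∀ x, ε (Y x) = s * ε x)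
    (c : F) (hc : c ≠ 0) :
    ∃ S : V ≃ₗ[F] V, (∀ x, S (Y x) = Y (S x)) ∧ LinearMap.det (S : V →ₗ[F] V) = c := by
  let f : V →ₗ[F] V := EXTD_map ε u hu c LinearMap.id
  let g : V →ₗ[F] V := EXTD_map ε u hu c⁻¹ LinearMap.id
  have hfg : f ∘ₗ g = LinearMap.id := by
    apply LinearMap.ext
    intro x
    exact EXTD_map_inv ε u hu c c⁻¹ (mul_inv_cancel₀ hc) _ _ (fun h => rfl) x
  have hgf : g ∘ₗ f = LinearMap.id := by
    apply LinearMap.ext
    intro x
    exact EXTD_map_inv ε u hu c⁻¹ c (inv_mul_cancel₀ hc) _ _ (fun h => rfl) x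
  have hfx : ∀ x, f x = x + ((c - 1) * ε x) • u := by
    intro x
    change EXTD_map ε u hu c LinearMap.id x = _
    rw [EXTD_map_apply, LinearMap.id_apply, EXTD_proj_coe, sub_mul, one_mul, sub_smul]
    abel
  refine ⟨LinearEquiv.ofLinear f g hfg hgf, ?_, ?_⟩
  · intro x
    change f (Y x) = Y (f x)
    rw [hfx, hfx, map_add, map_smul, hYu, hY, smul_smul]
    congr 2
    ring
  · change LinearMap.det f = c
    have hconj : f = ((CENT_equiv ε u hu : (↥(LinearMap.ker ε) × F) ≃ₗ[F] V) :
          (↥(LinearMap.ker ε) × F) →ₗ[F] V) ∘ₗ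
        (LinearMap.prodMap (LinearMap.id : ↥(LinearMap.ker ε) →ₗ[F] ↥(LinearMap.ker ε))
          (c • (LinearMap.id : F →ₗ[F] F))) ∘ₗ
        (((CENT_equiv ε u hu).symm : V ≃ₗ[F] (↥(LinearMap.ker ε) × F)) :
          V →ₗ[F] (↥(LinearMap.ker ε) × F)) := by
      apply LinearMap.ext
      intro x
      change EXTD_map ε u hu c LinearMap.id x = _
      rw [EXTD_map_apply]
      simp [CENT_equiv_symm_apply, CENT_equiv_apply]
    rw [hconj, LinearMap.det_conj, LinearMap.det_prodMap, LinearMap.det_id, one_mul,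
      LinearMap.det_smul, LinearMap.det_id, Module.finrank_self, pow_one, mul_one]

end Cfsg.Agent.Helper22.Ore
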