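import Mathlib
import Cfsg.Agent.Helper62.Ore.Defs

/-!
S2444 (helper62's Ore farm #12939), piece (REL): a cyclic vector has a relation polynomial.
-/

set_option autoImplicit false

namespace Cfsg.Agent.Helper22.Ore

open Polynomial Module Cfsg.Agent.Helper62.Ore

variable {F : Type*} [Field F] {V : Type*} [AddCommGroup V] [Module F V]

/-- (REL) a cyclic vector has a relation polynomial. -/
theorem exists_rel [FiniteDimensional F V] {n : ℕ} (hn : finrank F V = n)
    {M : Module.End F V} {v : V} (hM : Cyc n M v) : ∃ f : F[X], Rel n M v f := by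
  classical
  rcases Nat.eq_zero_or_pos n with h0 | hpos
  · subst h0
    have hsub : Subsingleton V := finrank_zero_iff.mp hn
    refine ⟨1, monic_one, natDegree_one, ?_⟩
    exact Subsingleton.elim _ _
  have : Nonempty (Fin n) := ⟨⟨0, hpos⟩⟩
  have hM' : LinearIndependent F (fun i : Fin n => (M ^ (i : ℕ)) v) := hM
  let b : Basis (Fin n) F V :=
    basisOfLinearIndependentOfCardEqFinrank hM' (by rw [Fintype.card_fin, hn])
  have hb : ∀ i : Fin n, b i = (M ^ (i : ℕ)) v := fun i =>
    congrFun (coe_basisOfLinearIndependentOfCardEqFinrank hM' _) i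
  set c : Fin n → F := fun i => b.repr ((M ^ n) v) i with hc
  set g : F[X] := ∑ i : Fin n, C (c i) * X ^ (i : ℕ) with hg
  have hgdeg : g.degree < n := degree_sum_fin_lt c
  refine ⟨X ^ n - g, monic_X_pow_sub hgdeg, ?_, ?_⟩
  · have h1 : (X ^ n - g).degree = ((n : ℕ) : WithBot ℕ) := by
      rw [degree_sub_eq_left_of_degree_lt (by rw [degree_X_pow]; exact hgdeg), degree_X_pow]
    exact natDegree_eq_of_degree_eq_some h1
  · have h2 : (aeval M g) v = (M ^ n) v := by
      rw [hg, map_sum, LinearMap.sum_apply]
      have h3 := b.sum_repr ((M ^ n) v)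
      rw [← h3]
      apply Finset.sum_congr rfl
      intro i _
      rw [map_mul, aeval_C, map_pow, aeval_X, hb i]
      simp [hc, Algebra.algebraMap_eq_smul_one]
    rw [map_sub, LinearMap.sub_apply, h2, map_pow, aeval_X, sub_self]

end Cfsg.Agent.Helper22.Ore
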