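import Mathlib
import Cfsg.Agent.Helper99.P4Defs

/-!
Helper22, for helper99 (S6000, WANTED #8930), piece (E2) `CZ_rel`: statement verbatim from `P4Skel.lean`.
-/

set_option autoImplicit false
open scoped MatrixGroups

namespace Cfsg.Agent.Helper22.P4

open Matrix Polynomial Cfsg.Agent.Helper99.P4 Cfsg.Geo

variable {F : Type*} [Field F]

theorem pw_1001 : (pw (1, 0, 0, 1) : Matrix (Fin 4) (Fin 4) F) = mX1 * mZ2 := by
  simp [pw, z2_v1, z2_v0]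
theorem pw_0100 : (pw (0, 1, 0, 0) : Matrix (Fin 4) (Fin 4) F) = mZ1 := by
  simp [pw, z2_v1, z2_v0]
theorem pw_0110 : (pw (0, 1, 1, 0) : Matrix (Fin 4) (Fin 4) F) = mZ1 * mX2 := by
  simp [pw, z2_v1, z2_v0]
theorem pw_0001 : (pw (0, 0, 0, 1) : Matrix (Fin 4) (Fin 4) F) = mZ2 := by
  simp [pw, z2_v1, z2_v0]

/-- (E2) -/
theorem CZ_rel :
    (CZm : Matrix (Fin 4) (Fin 4) F) * CZm = 1 ∧
    (CZm : Matrix (Fin 4) (Fin 4) F) * mX1 = pw (1, 0, 0, 1) * CZm ∧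
    (CZm : Matrix (Fin 4) (Fin 4) F) * mZ1 = pw (0, 1, 0, 0) * CZm ∧
    (CZm : Matrix (Fin 4) (Fin 4) F) * mX2 = pw (0, 1, 1, 0) * CZm ∧
    (CZm : Matrix (Fin 4) (Fin 4) F) * mZ2 = pw (0, 0, 0, 1) * CZm ∧
    Matrix.trace (CZm : Matrix (Fin 4) (Fin 4) F) = 2 := by
  refine ⟨?_, ?_, ?_, ?_, ?_, ?_⟩
  · ext i j; fin_cases i <;> fin_cases j <;> simp [CZm, Matrix.mul_apply, Fin.sum_univ_four]
  · rw [pw_1001]
    ext i j; fin_cases i <;> fin_cases j <;>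
      simp [CZm, mX1, mZ2, Matrix.mul_apply, Fin.sum_univ_four]
  · rw [pw_0100]
    ext i j; fin_cases i <;> fin_cases j <;>
      simp [CZm, mZ1, Matrix.mul_apply, Fin.sum_univ_four]
  · rw [pw_0110]
    ext i j; fin_cases i <;> fin_cases j <;>
      simp [CZm, mZ1, mX2, Matrix.mul_apply, Fin.sum_univ_four]
  · rw [pw_0001]
    ext i j; fin_cases i <;> fin_cases j <;>
      simp [CZm, mZ2, Matrix.mul_apply, Fin.sum_univ_four]
  · simp [CZm, Matrix.trace, Fin.sum_univ_four]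
    norm_num

end Cfsg.Agent.Helper22.P4
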