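import Mathlib
import Cfsg.Agent.Helper58.PADefs

/-!
# Piece (C3) of board #5064/#5069 (helper58, S4016): fusion of involutions
-/

set_option autoImplicit false

namespace Cfsg.Agent.Helper22.PAC3

open Cfsg.Agent.Helper58.PA
open scoped Pointwise

variable {G : Type*} [Group G] [Finite G]

/-- An involution of `G` has a conjugate in a given Sylow 2-subgroup. -/
theorem exists_conj_mem_sylow_two (S : Sylow 2 G) (s : G) (hs : orderOf s = 2) :
    ∃ g : G, g * s * g⁻¹ ∈ (S : Subgroup G) ∧ g * s * g⁻¹ ≠ 1 := by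
  have hs1 : s ≠ 1 := fun h => by rw [h, orderOf_one] at hs; omega
  have hp : IsPGroup 2 (Subgroup.zpowers s) := by
    rw [IsPGroup.iff_card, Nat.card_zpowers, hs]
    exact ⟨1, by norm_num⟩
  obtain ⟨Q, hQ⟩ := hp.exists_le_sylow
  obtain ⟨g, hg⟩ := MulAction.exists_smul_eq G Q S
  refine ⟨g, ?_, ?_⟩
  · have h1 : s ∈ (Q : Subgroup G) := hQ (Subgroup.mem_zpowers s)
    have h2 : MulAut.conj g • s ∈ MulAut.conj g • (Q : Subgroup G) :=
      Subgroup.smul_mem_pointwise_smul s (MulAut.conj g) (Q : Subgroup G) h1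
    rw [← Sylow.coe_subgroup_smul, hg] at h2
    simpa [MulAut.smul_def] using h2
  · intro h
    apply hs1
    have : g * s * g⁻¹ = g * 1 * g⁻¹ := by rw [h]; group
    exact mul_left_cancel (mul_right_cancel this)

theorem fusion (K : Subgroup G) (hK4 : Nat.card K = 4) (hexp : ∀ x ∈ K, x * x = 1)
    (hsyl : (Nat.card G).factorization 2 = (Nat.card K).factorization 2) (Z : Subgroup G)
    (hZp : IsPGroup 3 Z) (hZ1 : Z ≠ ⊥) (hZK : Z ≤ Subgroup.normalizer (K : Set G))
    (hfrob : ∀ z ∈ Z, z ≠ 1 → ∀ w ∈ K, z * w = w * z → w = 1) :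
    (∃ S : Sylow 2 G, (S : Subgroup G) = K) ∧
      ∀ s t : G, orderOf s = 2 → orderOf t = 2 → IsConj s t := by
  classical
  -- the Sylow subgroup
  have hfac : (Nat.card K).factorization 2 = 2 := by
    rw [hK4]
    have : (4 : ℕ) = 2 ^ 2 := by norm_num
    rw [this, Nat.Prime.factorization_pow Nat.prime_two]; simp
  have hcard : Nat.card K = 2 ^ (Nat.card G).factorization 2 := by
    rw [hsyl, hfac, hK4]; norm_num
  let S : Sylow 2 G := Sylow.ofCard K hcard
  have hS : (S : Subgroup G) = K := Sylow.coe_ofCard K hcard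
  refine ⟨⟨S, hS⟩, ?_⟩
  -- a nontrivial element of `Z`
  obtain ⟨⟨z, hzZ⟩, hz1'⟩ := (Subgroup.ne_bot_iff_exists_ne_one).mp hZ1
  have hz1 : z ≠ 1 := fun h => hz1' (Subtype.ext h)
  have hz2 : z * z ≠ 1 := by
    intro h
    obtain ⟨k, hk⟩ := hZp ⟨z, hzZ⟩
    have hk' : z ^ 3 ^ k = 1 := by
      have := congrArg (fun x : Z => (x : G)) hk
      simpa using this
    have h1 : orderOf z ∣ 2 := orderOf_dvd_of_pow_eq_one (by rw [pow_two]; exact h)
    have h2 : orderOf z ∣ 3 ^ k := orderOf_dvd_of_pow_eq_one hk'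
    have h3 : orderOf z ∣ Nat.gcd 2 (3 ^ k) := Nat.dvd_gcd h1 h2
    have h4 : Nat.gcd 2 (3 ^ k) = 1 := Nat.Coprime.pow_right k (by norm_num)
    rw [h4, Nat.dvd_one, orderOf_eq_one_iff] at h3
    exact hz1 h3
  have hzzZ : z * z ∈ Z := Z.mul_mem hzZ hzZ
  have hzN : ∀ w : G, w ∈ K ↔ z * w * z⁻¹ ∈ K := fun w =>
    (Subgroup.mem_set_normalizer_iff.mp (hZK hzZ)) w
  -- any two nonidentity elements of `K` are conjugate
  have hKconj : ∀ w ∈ K, w ≠ 1 → ∀ w' ∈ K, w' ≠ 1 → IsConj w w' := by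
    intro w hw hw1 w' hw' hw'1
    have hc1 : z * w * z⁻¹ ∈ K := (hzN w).mp hw
    have hc2 : z * (z * w * z⁻¹) * z⁻¹ ∈ K := (hzN _).mp hc1
    have hne1 : z * w * z⁻¹ ≠ 1 := by
      intro h; apply hw1
      have : z * w * z⁻¹ = z * 1 * z⁻¹ := by rw [h]; group
      exact mul_left_cancel (mul_right_cancel this)
    have hne2 : z * (z * w * z⁻¹) * z⁻¹ ≠ 1 := by
      intro h; apply hne1
      have : z * (z * w * z⁻¹) * z⁻¹ = z * 1 * z⁻¹ := by rw [h]; group
      exact mul_left_cancel (mul_right_cancel this)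
    have hd1 : z * w * z⁻¹ ≠ w := by
      intro h
      apply hw1
      apply hfrob z hzZ hz1 w hw
      calc z * w = z * w * z⁻¹ * z := by group
        _ = w * z := by rw [h]
    have hd2 : z * (z * w * z⁻¹) * z⁻¹ ≠ z * w * z⁻¹ := by
      intro h
      apply hd1
      exact mul_left_cancel (mul_right_cancel h)
    have hd3 : z * (z * w * z⁻¹) * z⁻¹ ≠ w := by
      intro h
      apply hw1
      apply hfrob (z * z) hzzZ hz2 w hw
      calc z * z * w = z * (z * w * z⁻¹) * z⁻¹ * (z * z) := by group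
        _ = w * (z * z) := by rw [h]
    letI : Fintype K := Fintype.ofFinite K
    let T : Finset K := {1, ⟨w, hw⟩, ⟨z * w * z⁻¹, hc1⟩, ⟨z * (z * w * z⁻¹) * z⁻¹, hc2⟩}
    have hT : T.card = 4 := by
      have e1 : (⟨z * w * z⁻¹, hc1⟩ : K) ∉ ({⟨z * (z * w * z⁻¹) * z⁻¹, hc2⟩} : Finset K) := by
        rw [Finset.mem_singleton, Subtype.mk.injEq]; exact fun h => hd2 h.symm
      have e2 : (⟨w, hw⟩ : K) ∉
          ({⟨z * w * z⁻¹, hc1⟩, ⟨z * (z * w * z⁻¹) * z⁻¹, hc2⟩} : Finset K) := by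
        rw [Finset.mem_insert, Finset.mem_singleton, Subtype.mk.injEq, Subtype.mk.injEq]
        rintro (h | h)
        · exact hd1 h.symm
        · exact hd3 h.symm
      have e3 : (1 : K) ∉
          ({⟨w, hw⟩, ⟨z * w * z⁻¹, hc1⟩, ⟨z * (z * w * z⁻¹) * z⁻¹, hc2⟩} : Finset K) := by
        rw [Finset.mem_insert, Finset.mem_insert, Finset.mem_singleton]
        rintro (h | h | h)
        · exact hw1 (congrArg Subtype.val h).symm
        · exact hne1 (congrArg Subtype.val h).symm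
        · exact hne2 (congrArg Subtype.val h).symm
      rw [Finset.card_insert_of_notMem e3, Finset.card_insert_of_notMem e2,
        Finset.card_insert_of_notMem e1, Finset.card_singleton]
    have hTuniv : T = Finset.univ :=
      Finset.eq_univ_of_card T (by rw [hT, ← Nat.card_eq_fintype_card, hK4])
    have hmem : (⟨w', hw'⟩ : K) ∈ T := hTuniv ▸ Finset.mem_univ _
    rw [Finset.mem_insert, Finset.mem_insert, Finset.mem_insert, Finset.mem_singleton] at hmem
    rcases hmem with h | h | h | h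
    · exact absurd (congrArg Subtype.val h) hw'1
    · have : w' = w := congrArg Subtype.val h
      rw [this]
    · have : w' = z * w * z⁻¹ := congrArg Subtype.val h
      rw [this]
      exact isConj_iff.mpr ⟨z, rfl⟩
    · have : w' = z * (z * w * z⁻¹) * z⁻¹ := congrArg Subtype.val h
      rw [this]
      exact isConj_iff.mpr ⟨z * z, by group⟩
  -- all involutions are conjugate
  intro s t hs ht
  obtain ⟨g, hgK, hg1⟩ := exists_conj_mem_sylow_two S s hs
  obtain ⟨h, hhK, hh1⟩ := exists_conj_mem_sylow_two S t ht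
  rw [hS] at hgK hhK
  have h1 : IsConj s (g * s * g⁻¹) := isConj_iff.mpr ⟨g, rfl⟩
  have h2 : IsConj t (h * t * h⁻¹) := isConj_iff.mpr ⟨h, rfl⟩
  exact (h1.trans (hKconj _ hgK hg1 _ hhK hh1)).trans h2.symm

end Cfsg.Agent.Helper22.PAC3
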