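import Mathlib
import Cfsg.Agent.Helper58.PADefs
import Cfsg.Agent.Helper22.Sup

/-!
# Piece (SYLQ) of board #5064/#5067 (helper58, S4016): the structure of `N_G(Q)` for a Sylow
`q`-subgroup `Q`, `q ≠ p`, in a minimal counterexample
-/

set_option autoImplicit false

namespace Cfsg.Agent.Helper22.PASYLQ

open Cfsg.Agent.Helper58.PA

variable {p : ℕ} [hp : Fact p.Prime] {G : Type*} [Group G] [Finite G]

/-- A `p'`-subgroup normalizing a `p'`-subgroup `Q` centralizes it (all `p'`-subgroups being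
abelian). -/
theorem commute_of_p' (hyp : Hyp p G) {Q H : Subgroup G} (hQ : ¬ p ∣ Nat.card Q)
    (hH : ¬ p ∣ Nat.card H) (hHQ : H ≤ Subgroup.normalizer (Q : Set G)) :
    ∀ h ∈ H, ∀ x ∈ Q, h * x = x * h := by
  intro h hh x hx
  have hp' := Cfsg.Agent.Helper22.not_dvd_card_sup_of_le_normalizer p hp.out H Q hHQ hH hQ
  have hc := hyp.2 (H ⊔ Q) hp'
  have := (isMulCommutative_iff.mp hc) ⟨h, Subgroup.mem_sup_left hh⟩
    ⟨x, Subgroup.mem_sup_right hx⟩
  exact congrArg Subtype.val this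

/-- A `p'`-element normalizing a `p'`-subgroup `Q` centralizes it. -/
theorem commute_of_p'_elt (hyp : Hyp p G) {Q : Subgroup G} (hQ : ¬ p ∣ Nat.card Q) {y : G}
    (hy : y ∈ Subgroup.normalizer (Q : Set G)) (hyp' : (orderOf y).Coprime p) :
    ∀ x ∈ Q, y * x = x * y := by
  have hH : ¬ p ∣ Nat.card (Subgroup.zpowers y) := by
    rw [Nat.card_zpowers]
    exact fun h => hp.out.one_lt.ne' (Nat.Coprime.eq_one_of_dvd hyp'.symm h)
  exact commute_of_p' hyp hQ hH ((Subgroup.zpowers_le).mpr hy) y (Subgroup.mem_zpowers y)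

omit [Finite G] hp in
/-- An element of `L ≤ N(N)` whose order is coprime to `|L : N|` lies in `N`. -/
theorem mem_of_coprime_relIndex {N L : Subgroup G}
    (hL : L ≤ Subgroup.normalizer (N : Set G)) {x : G} (hx : x ∈ L)
    (hcop : (orderOf x).Coprime (N.relIndex L)) : x ∈ N := by
  haveI := Subgroup.normal_subgroupOf_of_le_normalizer hL
  have h1 : ((⟨x, hx⟩ : L) : L ⧸ N.subgroupOf L) ^ (orderOf x) = 1 := by
    rw [← QuotientGroup.mk_pow]
    have : (⟨x, hx⟩ : L) ^ orderOf x = 1 := Subtype.ext (by simp [pow_orderOf_eq_one])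
    rw [this]; rfl
  have h2 : ((⟨x, hx⟩ : L) : L ⧸ N.subgroupOf L) ^ (N.relIndex L) = 1 := by
    have : Nat.card (L ⧸ N.subgroupOf L) = N.relIndex L := (Subgroup.index_eq_card _).symm
    rw [← this]; exact pow_card_eq_one'
  have h3 := pow_gcd_eq_one.mpr ⟨h1, h2⟩
  rw [Nat.Coprime.gcd_eq_one hcop, pow_one] at h3
  exact Subgroup.mem_subgroupOf.mp ((QuotientGroup.eq_one_iff _).mp h3)

omit [Finite G] in
/-- Decomposition of an element of finite order into its `p`-part and `p'`-part. -/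
theorem exists_p_p'_decomp (g : G) (hg : 0 < orderOf g) :
    ∃ a b : G, a ∈ Subgroup.zpowers g ∧ b ∈ Subgroup.zpowers g ∧ g = a * b ∧
      (∃ k : ℕ, orderOf a ∣ p ^ k) ∧ (orderOf b).Coprime p := by
  set n := orderOf g with hn
  set k := n.factorization p with hk
  set m := n / p ^ k with hm
  have hnkm : p ^ k * m = n := Nat.ordProj_mul_ordCompl_eq_self n p
  have hcop : Nat.Coprime p m := Nat.coprime_ordCompl hp.out hg.ne'
  have hcop' : Nat.Coprime (p ^ k) m := Nat.Coprime.pow_left k hcop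
  have hbez := Nat.gcd_eq_gcd_ab (p ^ k) m
  rw [hcop'] at hbez
  refine ⟨g ^ ((m : ℤ) * Nat.gcdB (p ^ k) m), g ^ (((p ^ k : ℕ) : ℤ) * Nat.gcdA (p ^ k) m),
    Subgroup.zpow_mem_zpowers g _, Subgroup.zpow_mem_zpowers g _, ?_, ⟨k, ?_⟩, ?_⟩
  · rw [← zpow_add, add_comm, ← hbez]; simp
  · apply orderOf_dvd_of_pow_eq_one
    rw [← zpow_natCast, ← zpow_mul]
    have : (m : ℤ) * Nat.gcdB (p ^ k) m * ((p ^ k : ℕ) : ℤ) = (n : ℤ) * Nat.gcdB (p ^ k) m := by
      rw [← hnkm]; push_cast; ring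
    rw [this, zpow_mul, zpow_natCast, hn, pow_orderOf_eq_one, one_zpow]
  · have hdvd : orderOf (g ^ (((p ^ k : ℕ) : ℤ) * Nat.gcdA (p ^ k) m)) ∣ m := by
      apply orderOf_dvd_of_pow_eq_one
      rw [← zpow_natCast, ← zpow_mul]
      have : ((p ^ k : ℕ) : ℤ) * Nat.gcdA (p ^ k) m * (m : ℤ) = (n : ℤ) * Nat.gcdA (p ^ k) m := by
        rw [← hnkm]; push_cast; ring
      rw [this, zpow_mul, zpow_natCast, hn, pow_orderOf_eq_one, one_zpow]
    exact Nat.Coprime.coprime_dvd_left hdvd hcop.symm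

/-- Burnside: in a simple group in which `p'`-subgroups are abelian and `p ∣ #G`, the normalizer
of a nontrivial Sylow `q`-subgroup (`q ≠ p`) does not centralize it. -/
theorem exists_not_commute (c : Ctx p G) (q : ℕ) [Fact q.Prime] (Q : Sylow q G)
    (hQ : (Q : Subgroup G) ≠ ⊥) (hQp' : ¬ p ∣ Nat.card (Q : Subgroup G)) :
    ∃ g ∈ Subgroup.normalizer ((Q : Subgroup G) : Set G), ∃ x ∈ (Q : Subgroup G),
      g * x ≠ x * g := by
  by_contra hcon
  push Not at hcon
  have hNC : Subgroup.normalizer (Q : Set G) ≤ Subgroup.centralizer (Q : Set G) := by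
    intro g hg
    rw [Subgroup.mem_centralizer_iff]
    intro x hx
    exact (hcon g hg x hx).symm
  have hcompl := MonoidHom.ker_transferSylow_isComplement' Q hNC
  haveI := c.simple
  rcases (MonoidHom.normal_ker (MonoidHom.transferSylow Q hNC)).eq_bot_or_eq_top with h | h
  · rw [h, Subgroup.isComplement'_bot_left] at hcompl
    apply hQp'
    rw [hcompl, Nat.card_congr Subgroup.topEquiv.toEquiv]
    exact c.dvd
  · rw [h, Subgroup.isComplement'_top_left] at hcompl
    exact hQ hcompl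


omit hp in
theorem sup_eq_of_card_mul {B Z L : Subgroup G} (hB : B ≤ L) (hZ : Z ≤ L)
    (hcard : Nat.card L = Nat.card B * Nat.card Z)
    (hcop : (Nat.card B).Coprime (Nat.card Z)) : B ⊔ Z = L := by
  apply Subgroup.eq_of_le_of_card_ge (sup_le hB hZ)
  rw [hcard]
  exact Nat.le_of_dvd Nat.card_pos (Nat.Coprime.mul_dvd_of_dvd_of_dvd hcop
    (Subgroup.card_dvd_of_le le_sup_left) (Subgroup.card_dvd_of_le le_sup_right))

omit hp in
theorem exists_mul_of_card {P K M : Subgroup G} (hP : P ≤ M) (hK : K ≤ M)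
    (hcard : Nat.card M = Nat.card P * Nat.card K) (hdisj : P ⊓ K = ⊥) :
    ∀ m ∈ M, ∃ x ∈ P, ∃ k ∈ K, m = x * k := by
  let f : P × K → M := fun u => ⟨(u.1 : G) * (u.2 : G), M.mul_mem (hP u.1.2) (hK u.2.2)⟩
  have hinj : Function.Injective f := by
    rintro ⟨⟨x, hx⟩, ⟨k, hk⟩⟩ ⟨⟨x', hx'⟩, ⟨k', hk'⟩⟩ h
    have h' : x * k = x' * k' := congrArg Subtype.val h
    have h1 : x'⁻¹ * x = k' * k⁻¹ := by
      have : x'⁻¹ * (x * k) * k⁻¹ = x'⁻¹ * (x' * k') * k⁻¹ := by rw [h']
      calc x'⁻¹ * x = x'⁻¹ * (x * k) * k⁻¹ := by group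
        _ = x'⁻¹ * (x' * k') * k⁻¹ := this
        _ = k' * k⁻¹ := by group
    have h2 : x'⁻¹ * x ∈ P ⊓ K :=
      ⟨P.mul_mem (P.inv_mem hx') hx, h1 ▸ K.mul_mem hk' (K.inv_mem hk)⟩
    rw [hdisj, Subgroup.mem_bot] at h2
    have hxx : x = x' := by
      have : x' * (x'⁻¹ * x) = x' * 1 := by rw [h2]
      simpa using this
    subst hxx
    have hkk : k = k' := mul_left_cancel h'
    subst hkk
    rfl
  have hbij := hinj.bijective_of_nat_card_le (by rw [Nat.card_prod, hcard])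
  intro m hm
  obtain ⟨⟨⟨x, hx⟩, ⟨k, hk⟩⟩, hxk⟩ := hbij.2 ⟨m, hm⟩
  exact ⟨x, hx, k, hk, (congrArg Subtype.val hxk).symm⟩

omit hp [Finite G] in
theorem commute_of_normalize_disjoint {A Q : Subgroup G} (hdisj : A ⊓ Q = ⊥) {y x : G}
    (hy : y ∈ A) (hx : x ∈ Q) (hxA : x ∈ Subgroup.normalizer (A : Set G))
    (hyQ : y ∈ Subgroup.normalizer (Q : Set G)) : y * x = x * y := by
  have h1 : y * x * y⁻¹ * x⁻¹ ∈ A := by
    have : x * y⁻¹ * x⁻¹ ∈ A := (Subgroup.mem_set_normalizer_iff.mp hxA y⁻¹).mp (A.inv_mem hy)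
    have h := A.mul_mem hy this
    have e : y * (x * y⁻¹ * x⁻¹) = y * x * y⁻¹ * x⁻¹ := by group
    rwa [e] at h
  have h2 : y * x * y⁻¹ * x⁻¹ ∈ Q := by
    have : y * x * y⁻¹ ∈ Q := (Subgroup.mem_set_normalizer_iff.mp hyQ x).mp hx
    exact Q.mul_mem this (Q.inv_mem hx)
  have h3 : y * x * y⁻¹ * x⁻¹ ∈ A ⊓ Q := ⟨h1, h2⟩
  rw [hdisj, Subgroup.mem_bot] at h3
  calc y * x = (y * x * y⁻¹ * x⁻¹) * (x * y) := by group
    _ = x * y := by rw [h3, one_mul]

omit hp [Finite G] in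
theorem coprime_orderOf_of_isPGroup {r : ℕ} (hr : r.Prime) {H : Subgroup G} (hH : IsPGroup r H)
    {y : G} (hy : y ∈ H) {s : ℕ} (hs : ¬ r ∣ s) : (orderOf y).Coprime s := by
  obtain ⟨j, hj⟩ := hH ⟨y, hy⟩
  have h1 : y ^ r ^ j = 1 := by simpa using congrArg Subtype.val hj
  exact Nat.Coprime.coprime_dvd_left (orderOf_dvd_of_pow_eq_one h1)
    (Nat.Coprime.pow_left j ((Nat.Prime.coprime_iff_not_dvd hr).mpr hs))

omit hp [Finite G] in
theorem relIndex_mul_card_eq {B L : Subgroup G} (hBL : B ≤ L) :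
    Nat.card B * B.relIndex L = Nat.card L := by
  have h := Subgroup.relIndex_mul_relIndex (⊥ : Subgroup G) B L bot_le hBL
  rwa [Subgroup.relIndex_bot_left, Subgroup.relIndex_bot_left] at h


theorem sylow_q_structure (c : Ctx p G) (hloc : ∀ P : Sylow p G, ∃ K : Subgroup G, Loc p P K)
    (q : ℕ) [hqf : Fact q.Prime] (hq : q ≠ p) (Q : Sylow q G) (hQ : (Q : Subgroup G) ≠ ⊥) :
    SylQ p (Q : Subgroup G) := by
  classical
  have hpp : p.Prime := hp.out
  have hqq : q.Prime := hqf.out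
  have hqp : ¬ q ∣ p := fun h => hq ((Nat.prime_dvd_prime_iff_eq hqq hpp).mp h)
  have hpq : ¬ p ∣ q := fun h => hq ((Nat.prime_dvd_prime_iff_eq hpp hqq).mp h).symm
  set L : Subgroup G := Subgroup.normalizer ((Q : Subgroup G) : Set G) with hLdef
  have hQL : (Q : Subgroup G) ≤ L := Subgroup.le_normalizer
  -- `Q` is a `p'`-group
  have hQp' : ¬ p ∣ Nat.card (Q : Subgroup G) := by
    obtain ⟨n, hn⟩ := IsPGroup.iff_card.mp Q.isPGroup'
    rw [hn]
    exact fun h => hpq (hpp.dvd_of_dvd_pow h)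
  -- `L ≠ ⊤`
  have hLtop : L ≠ ⊤ := by
    intro h
    have hn : (Q : Subgroup G).Normal := Subgroup.normalizer_eq_top_iff.mp h
    haveI := c.simple
    rcases hn.eq_bot_or_eq_top with h' | h'
    · exact hQ h'
    · apply hQp'
      rw [h', Nat.card_congr Subgroup.topEquiv.toEquiv]
      exact c.dvd
  obtain ⟨g₀, hg₀L, x₀, hx₀Q, hg₀x₀⟩ := exists_not_commute c q Q hQ hQp'
  rcases c.sub L hLtop with hnil | hclosed
  swap
  · -- `ClosedSub`: contradiction
    exfalso
    obtain ⟨S, hSL, hLS, hSp, hSidx⟩ := hclosed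
    have hdisj : S ⊓ (Q : Subgroup G) = ⊥ :=
      (IsPGroup.disjoint_of_ne p q hq.symm S Q hSp Q.isPGroup').eq_bot
    have hScent : ∀ s ∈ S, ∀ x ∈ (Q : Subgroup G), s * x = x * s := fun s hs x hx =>
      commute_of_normalize_disjoint hdisj hs hx (hLS (hQL hx)) (hSL hs)
    obtain ⟨a, b, ha, hb, hab, ⟨k, hak⟩, hbp⟩ :=
      exists_p_p'_decomp (p := p) g₀ (orderOf_pos g₀)
    have haL : a ∈ L := (Subgroup.zpowers_le.mpr hg₀L) ha
    have hbL : b ∈ L := (Subgroup.zpowers_le.mpr hg₀L) hb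
    have haS : a ∈ S := mem_of_coprime_relIndex hLS haL
      (Nat.Coprime.coprime_dvd_left hak
        (Nat.Coprime.pow_left k ((Nat.Prime.coprime_iff_not_dvd hpp).mpr hSidx)))
    have h1 := hScent a haS x₀ hx₀Q
    have h2 := commute_of_p'_elt c.hyp hQp' hbL hbp x₀ hx₀Q
    apply hg₀x₀
    rw [hab, mul_assoc, h2, ← mul_assoc, h1, mul_assoc]
  -- `NilSub`
  obtain ⟨B, hBL, hLB, hBp', k, hBk⟩ := hnil
  have hBab : ∀ a ∈ B, ∀ b ∈ B, a * b = b * a := by
    intro a ha b hb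
    have := (isMulCommutative_iff.mp (c.hyp.2 B hBp')) ⟨a, ha⟩ ⟨b, hb⟩
    exact congrArg Subtype.val this
  have hQB : (Q : Subgroup G) ≤ B := by
    intro x hx
    refine mem_of_coprime_relIndex hLB (hQL hx) ?_
    rw [hBk]
    exact coprime_orderOf_of_isPGroup hqq Q.isPGroup' hx (fun h => hqp (hqq.dvd_of_dvd_pow h))
  -- a Sylow `p`-subgroup of `L`
  let Z' : Sylow p L := default
  set Z : Subgroup G := (Z' : Subgroup L).map L.subtype with hZdef
  have hZL : Z ≤ L := Subgroup.map_subtype_le _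
  have hZp : IsPGroup p Z := Z'.isPGroup'.map _
  have hcardL : Nat.card L = Nat.card B * p ^ k := by
    rw [← hBk]; exact (relIndex_mul_card_eq hBL).symm
  have hcardZ : Nat.card Z = p ^ k := by
    rw [hZdef, Subgroup.card_map_of_injective L.subtype_injective, Z'.card_eq_multiplicity,
      hcardL]
    congr 1
    rw [Nat.factorization_mul Nat.card_pos.ne' (pow_pos hpp.pos k).ne', Finsupp.add_apply,
      Nat.factorization_eq_zero_of_not_dvd hBp', Nat.Prime.factorization_pow hpp, zero_add]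
    simp
  have hcop : (Nat.card B).Coprime (Nat.card Z) := by
    rw [hcardZ]
    exact Nat.Coprime.pow_right k ((Nat.Prime.coprime_iff_not_dvd hpp).mpr hBp').symm
  have hBZ : B ⊔ Z = L := sup_eq_of_card_mul hBL hZL (by rw [hcardL, hcardZ]) hcop
  have hKF : ¬ (∀ z ∈ Z, ∀ x ∈ (Q : Subgroup G), z * x = x * z) := by
    intro h
    apply hg₀x₀
    have hle : B ⊔ Z ≤ Subgroup.centralizer ((Q : Subgroup G) : Set G) := by
      apply sup_le
      · intro b hb
        rw [Subgroup.mem_centralizer_iff]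
        intro x hx
        exact hBab x (hQB hx) b hb
      · intro z hz
        rw [Subgroup.mem_centralizer_iff]
        intro x hx
        exact (h z hz x hx).symm
    have hg' : g₀ ∈ B ⊔ Z := by rw [hBZ]; exact hg₀L
    have := hle hg'
    rw [Subgroup.mem_centralizer_iff] at this
    exact (this x₀ hx₀Q).symm
  have hZ1 : Z ≠ ⊥ := by
    intro h
    apply hKF
    intro z hz x hx
    rw [h, Subgroup.mem_bot] at hz
    rw [hz, one_mul, mul_one]
  refine ⟨B, Z, hQB, hBab, hBp', hZp, hZ1, hBL, hZL, hLB, by rw [hcardL, hcardZ], ?_⟩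
  -- fixed-point-freeness
  intro z hzZ hz1 w hwB hzw
  by_contra hw1
  apply hKF
  -- an element `z'` of order `p` in `Z` commuting with `w`
  obtain ⟨j, hj⟩ : ∃ j, orderOf z = p ^ j := by
    obtain ⟨j, hj⟩ := hZp ⟨z, hzZ⟩
    have : z ^ p ^ j = 1 := by simpa using congrArg Subtype.val hj
    obtain ⟨i, -, hi⟩ := (Nat.dvd_prime_pow hpp).mp (orderOf_dvd_of_pow_eq_one this)
    exact ⟨i, hi⟩
  have hj0 : j ≠ 0 := by
    rintro rfl
    rw [pow_zero, orderOf_eq_one_iff] at hj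
    exact hz1 hj
  have hpdvd : p ∣ orderOf z := by rw [hj]; exact dvd_pow_self p hj0
  set z' := z ^ (orderOf z / p) with hz'def
  have hz'ord : orderOf z' = p := orderOf_pow_orderOf_div (orderOf_pos z).ne' hpdvd
  have hz'Z : z' ∈ Z := Z.pow_mem hzZ _
  have hz'1 : z' ≠ 1 := by
    intro h
    rw [h, orderOf_one] at hz'ord
    exact hpp.one_lt.ne hz'ord
  have hz'w : z' * w = w * z' := (Commute.pow_left (show Commute z w from hzw) _).eq
  have hz'p : IsPGroup p (Subgroup.zpowers z') := by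
    rw [IsPGroup.iff_card, Nat.card_zpowers, hz'ord]
    exact ⟨1, (pow_one p).symm⟩
  obtain ⟨P', hP'⟩ := hz'p.exists_le_sylow
  have hz'P : z' ∈ (P' : Subgroup G) := hP' (Subgroup.mem_zpowers z')
  obtain ⟨K', hK'⟩ := hloc P'
  set M' : Subgroup G := Subgroup.normalizer ((P' : Subgroup G) : Set G) with hM'
  have hP'ab : ∀ a ∈ (P' : Subgroup G), ∀ b ∈ (P' : Subgroup G), a * b = b * a := by
    intro a ha b hb
    haveI := c.hyp.1 P'
    exact congrArg Subtype.val (IsCyclic.commGroup.mul_comm (⟨a, ha⟩ : P') ⟨b, hb⟩)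
  have hwM : w ∈ M' := by
    apply hK'.cent_le z' hz'P hz'1
    rw [Subgroup.mem_centralizer_singleton_iff]
    exact hz'w.symm
  have hcardP : ∃ t, Nat.card (P' : Subgroup G) = p ^ t := IsPGroup.iff_card.mp P'.isPGroup'
  obtain ⟨t, ht⟩ := hcardP
  have hdisjPK : (P' : Subgroup G) ⊓ K' = ⊥ := by
    apply (Subgroup.disjoint_of_coprime_natCard _).eq_bot
    rw [ht]
    exact Nat.Coprime.pow_left t ((Nat.Prime.coprime_iff_not_dvd hpp).mpr hK'.K_p')
  obtain ⟨x, hxP, k', hkK, hwxk⟩ :=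
    exists_mul_of_card Subgroup.le_normalizer hK'.K_le hK'.card_M hdisjPK w hwM
  have hxz : x * z' = z' * x := hP'ab x hxP z' hz'P
  have hkz : k' * z' = z' * k' := by
    have : x * (k' * z') = x * (z' * k') := by
      calc x * (k' * z') = (x * k') * z' := by group
        _ = w * z' := by rw [hwxk]
        _ = z' * w := hz'w.symm
        _ = z' * (x * k') := by rw [hwxk]
        _ = (z' * x) * k' := by group
        _ = (x * z') * k' := by rw [hxz]
        _ = x * (z' * k') := by group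
    exact mul_left_cancel this
  have hkC : k' ∈ Subgroup.centralizer ((P' : Subgroup G) : Set G) :=
    hK'.K_cent z' hz'P hz'1 k' hkK hkz
  have hkx : Commute x k' := by
    rw [Subgroup.mem_centralizer_iff] at hkC
    exact hkC x hxP
  have hxn : x ^ Nat.card (P' : Subgroup G) = 1 := by
    have h1 := pow_card_eq_one' (G := (P' : Subgroup G)) (x := ⟨x, hxP⟩)
    have h2 := congrArg Subtype.val h1
    rwa [Subgroup.coe_pow] at h2
  have hwn : w ^ Nat.card (P' : Subgroup G) = k' ^ Nat.card (P' : Subgroup G) := by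
    rw [hwxk, hkx.mul_pow, hxn, one_mul]
  have hwcop : Nat.Coprime (Nat.card (P' : Subgroup G)) (orderOf w) := by
    rw [ht]
    apply Nat.Coprime.pow_left t
    rw [Nat.Prime.coprime_iff_not_dvd hpp]
    intro h
    apply hBp'
    have h1 : orderOf (⟨w, hwB⟩ : B) ∣ Nat.card B := orderOf_dvd_natCard _
    rw [Subgroup.orderOf_mk] at h1
    exact h.trans h1
  obtain ⟨m, hm⟩ := exists_pow_eq_self_of_coprime hwcop
  have hwK : w ∈ K' := by
    rw [← hm, hwn]
    exact K'.pow_mem (K'.pow_mem hkK _) _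
  have hwC : w ∈ Subgroup.centralizer ((P' : Subgroup G) : Set G) := by
    rw [← hm, hwn]
    exact Subgroup.pow_mem _ (Subgroup.pow_mem _ hkC _) _
  have hCw : Subgroup.centralizer ({w} : Set G) = M' := hK'.cent_K0 w hwK hwC hw1
  have hBM : B ≤ M' := by
    intro b hb
    rw [← hCw, Subgroup.mem_centralizer_singleton_iff]
    exact hBab b hb w hwB
  have hZab : ∀ a ∈ Z, ∀ b ∈ Z, a * b = b * a := by
    obtain ⟨P'', hP''⟩ := hZp.exists_le_sylow
    intro a ha b hb
    haveI := c.hyp.1 P''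
    exact congrArg Subtype.val (IsCyclic.commGroup.mul_comm (⟨a, hP'' ha⟩ : P'') ⟨b, hP'' hb⟩)
  have hZM : Z ≤ M' := by
    intro y hy
    apply hK'.cent_le z' hz'P hz'1
    rw [Subgroup.mem_centralizer_singleton_iff]
    exact hZab y hy z' hz'Z
  have hrel : (P' : Subgroup G).relIndex M' = Nat.card K' := by
    have h := relIndex_mul_card_eq (Subgroup.le_normalizer : (P' : Subgroup G) ≤ M')
    rw [hK'.card_M] at h
    exact Nat.eq_of_mul_eq_mul_left Nat.card_pos h
  have hZP : Z ≤ (P' : Subgroup G) := by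
    intro y hy
    apply mem_of_coprime_relIndex (N := (P' : Subgroup G)) (L := M') le_rfl (hZM hy)
    rw [hrel]
    exact coprime_orderOf_of_isPGroup hpp hZp hy hK'.K_p'
  -- `Z` centralizes `Q`
  intro y hy x hx
  have hdisj : (P' : Subgroup G) ⊓ (Q : Subgroup G) = ⊥ :=
    (IsPGroup.disjoint_of_ne p q hq.symm _ _ P'.isPGroup' Q.isPGroup').eq_bot
  exact commute_of_normalize_disjoint hdisj (hZP hy) hx (hBM (hQB hx)) (hZL hy)

end Cfsg.Agent.Helper22.PASYLQ
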