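import Mathlib
import Cfsg.Agent.Helper5.SpCard
import Cfsg.Agent.Helper8.G24S

/-!
Helper22, for helper86 (S3664, WANTED #9537), piece (LC) `cent13_invol`: in `Sp₆(3)` the only involution centralizing
an element of order `13` is central. Route: Sylow (`13 ∥ |Sp₆(3)|`) reduces to one explicit `x₀` of order `13` with a
cyclic vector `e`; a matrix commuting with `x₀` is determined by its value on `e`; enumeration of the `3^6` values.
-/

set_option autoImplicit false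

namespace Cfsg.Agent.Helper22.PG63

open Matrix

/-- the index type of `Sp₆` -/
abbrev I6 : Type := Fin 3 ⊕ Fin 3

/-- position in the order `inl 0, inl 1, inl 2, inr 0, inr 1, inr 2` -/
def pos6 : I6 → ℕ
  | Sum.inl i => i.val
  | Sum.inr i => 3 + i.val

/-- a `6 × 6` matrix over `ZMod 3` from a table -/
def mk6 (t : List (List ℕ)) : Matrix I6 I6 (ZMod 3) :=
  Matrix.of fun i j => (((t.getD (pos6 i) []).getD (pos6 j) 0 : ℕ) : ZMod 3)

/-- the tables of `x₀^k`, `k < 6` -/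
def tabs : List (List (List ℕ)) := [[[1, 0, 0, 0, 0, 0], [0, 1, 0, 0, 0, 0], [0, 0, 1, 0, 0, 0], [0, 0, 0, 1, 0, 0], [0, 0, 0, 0, 1, 0], [0, 0, 0, 0, 0, 1]],
  [[0, 0, 1, 0, 0, 0], [1, 0, 1, 0, 0, 0], [0, 1, 0, 0, 0, 0], [0, 0, 0, 2, 0, 1], [0, 0, 0, 1, 0, 0], [0, 0, 0, 0, 1, 0]],
  [[0, 1, 0, 0, 0, 0], [0, 1, 1, 0, 0, 0], [1, 0, 1, 0, 0, 0], [0, 0, 0, 1, 1, 2], [0, 0, 0, 2, 0, 1], [0, 0, 0, 1, 0, 0]],
  [[1, 0, 1, 0, 0, 0], [1, 1, 1, 0, 0, 0], [0, 1, 1, 0, 0, 0], [0, 0, 0, 0, 2, 1], [0, 0, 0, 1, 1, 2], [0, 0, 0, 2, 0, 1]],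
  [[0, 1, 1, 0, 0, 0], [1, 1, 2, 0, 0, 0], [1, 1, 1, 0, 0, 0], [0, 0, 0, 2, 1, 0], [0, 0, 0, 0, 2, 1], [0, 0, 0, 1, 1, 2]],
  [[1, 1, 1, 0, 0, 0], [1, 2, 2, 0, 0, 0], [1, 1, 2, 0, 0, 0], [0, 0, 0, 2, 0, 2], [0, 0, 0, 2, 1, 0], [0, 0, 0, 0, 2, 1]]]

/-- `x₀ = diag(A, A^{-T})`, `A` the companion matrix of a cubic factor of the 13th cyclotomic polynomial -/
def X0 : Matrix I6 I6 (ZMod 3) := mk6 (tabs.getD 1 [])

/-- `x₀^k` from the tables -/
def Xp (k : Fin 6) : Matrix I6 I6 (ZMod 3) := mk6 (tabs.getD k.val [])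

/-- the cyclic vector -/
def e0 : I6 → ZMod 3 := fun i => (([0, 0, 1, 0, 0, 1] : List ℕ).getD (pos6 i) 0 : ℕ)

/-- the matrix with columns `x₀^k c` -/
def Cm (c : I6 → ZMod 3) : Matrix I6 (Fin 6) (ZMod 3) := Matrix.of fun i k => (Xp k *ᵥ c) i

/-- the inverse of `Cm e0` -/
def Binv : Matrix (Fin 6) I6 (ZMod 3) :=
  Matrix.of fun k j => ((([[2, 1, 1, 0, 1, 0], [1, 0, 2, 0, 1, 1], [2, 0, 2, 1, 0, 1], [0, 2, 0, 1, 2, 0], [1, 2, 1, 0, 0, 2], [2, 2, 0, 2, 0, 0]] : List (List ℕ)).getD k.val []).getD (pos6 j) 0 : ℕ)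

/-- the element of the centralizer algebra of `x₀` sending `e0` to `c` -/
def Mc (c : I6 → ZMod 3) : Matrix I6 I6 (ZMod 3) := Cm c * Binv

/-- a vector from its six coordinates -/
def vec6 (c0 c1 c2 c3 c4 c5 : ZMod 3) : I6 → ZMod 3 := Sum.elim ![c0, c1, c2] ![c3, c4, c5]

theorem Xp_eq : ∀ k : Fin 6, Xp k = X0 ^ k.val := by decide +kernel

theorem B_Binv : Cm e0 * Binv = 1 := by decide +kernel

theorem X0_pow : X0 ^ 13 = 1 := by decide +kernel

theorem X0_ne : X0 ≠ 1 := by decide +kernel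

theorem X0_symp : X0 * Matrix.J (Fin 3) (ZMod 3) * X0ᵀ = Matrix.J (Fin 3) (ZMod 3) := by decide +kernel

set_option maxRecDepth 100000 in
theorem key : ∀ c0 c1 c2 c3 c4 c5 : ZMod 3,
    Mc (vec6 c0 c1 c2 c3 c4 c5) *ᵥ (vec6 c0 c1 c2 c3 c4 c5) = e0 →
    Mc (vec6 c0 c1 c2 c3 c4 c5) * Matrix.J (Fin 3) (ZMod 3) * (Mc (vec6 c0 c1 c2 c3 c4 c5))ᵀ =
      Matrix.J (Fin 3) (ZMod 3) →
    Mc (vec6 c0 c1 c2 c3 c4 c5) = 1 ∨ Mc (vec6 c0 c1 c2 c3 c4 c5) = -1 := by decide +kernel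

/-- a matrix commuting with `x₀` is determined by its value on `e0` -/
theorem eq_Mc (g : Matrix I6 I6 (ZMod 3)) (hc : g * X0 = X0 * g) : g = Mc (g *ᵥ e0) := by
  have hk : ∀ k : Fin 6, g * Xp k = Xp k * g := by
    intro k
    rw [Xp_eq]
    exact (Commute.pow_right (show Commute g X0 from hc) k.val)
  have h1 : g * Cm e0 = Cm (g *ᵥ e0) := by
    ext i k
    show (g * Cm e0) i k = (Xp k *ᵥ (g *ᵥ e0)) i
    rw [Matrix.mulVec_mulVec, ← hk k, ← Matrix.mulVec_mulVec]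
    rfl
  calc g = g * (Cm e0 * Binv) := by rw [B_Binv, Matrix.mul_one]
    _ = (g * Cm e0) * Binv := (Matrix.mul_assoc _ _ _).symm
    _ = Mc (g *ᵥ e0) := by rw [h1]; rfl

theorem exists_vec6 (c : I6 → ZMod 3) : ∃ c0 c1 c2 c3 c4 c5 : ZMod 3, c = vec6 c0 c1 c2 c3 c4 c5 := by
  refine ⟨c (Sum.inl 0), c (Sum.inl 1), c (Sum.inl 2), c (Sum.inr 0), c (Sum.inr 1), c (Sum.inr 2), ?_⟩
  funext i
  rcases i with i | i <;> fin_cases i <;> rfl

/-- the symplectic involutions commuting with `x₀` are `± 1` -/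
theorem invol_X0 (g : Matrix I6 I6 (ZMod 3)) (hc : g * X0 = X0 * g) (hg : g * g = 1)
    (hs : g * Matrix.J (Fin 3) (ZMod 3) * gᵀ = Matrix.J (Fin 3) (ZMod 3)) : g = 1 ∨ g = -1 := by
  have hM := eq_Mc g hc
  have h2 : g *ᵥ (g *ᵥ e0) = e0 := by rw [Matrix.mulVec_mulVec, hg, Matrix.one_mulVec]
  obtain ⟨c0, c1, c2, c3, c4, c5, hv⟩ := exists_vec6 (g *ᵥ e0)
  rw [hv] at hM
  have h3 : Mc (vec6 c0 c1 c2 c3 c4 c5) *ᵥ (vec6 c0 c1 c2 c3 c4 c5) = e0 := by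
    rw [← hM, ← hv]; exact h2
  have h4 := key c0 c1 c2 c3 c4 c5 h3 (by rw [← hM]; exact hs)
  rw [← hM] at h4
  exact h4

section Group

local notation "S63" => Matrix.symplecticGroup (Fin 3) (ZMod 3)

/-- `x₀` in the symplectic group -/
def x0S : S63 := ⟨X0, SymplecticGroup.mem_iff.2 X0_symp⟩

theorem orderOf_x0S : orderOf x0S = 13 := by
  have : Fact (Nat.Prime 13) := ⟨by norm_num⟩
  apply orderOf_eq_prime
  · apply Subtype.ext
    rw [SubmonoidClass.coe_pow]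
    exact X0_pow
  · intro h
    exact X0_ne (congrArg Subtype.val h)

theorem not_sq_dvd_card : ¬ 13 ^ 2 ∣ Nat.card S63 := by
  rw [Cfsg.Agent.Helper5.card_sp 3, ZMod.card]
  decide

theorem neg_one_mem_center (g : S63) (h : (g : Matrix I6 I6 (ZMod 3)) = -1) :
    g ∈ Subgroup.center S63 := by
  rw [Subgroup.mem_center_iff]
  intro a
  apply Subtype.ext
  rw [Submonoid.coe_mul, Submonoid.coe_mul, h, Matrix.mul_neg, Matrix.neg_mul, Matrix.mul_one,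
    Matrix.one_mul]

/-- PIECE (LC), statement verbatim from the skeleton -/
theorem cent13_invol (x g : Matrix.symplecticGroup (Fin 3) (ZMod 3)) (hx : orderOf x = 13)
    (hc : g * x = x * g) (hg : g ^ 2 = 1) :
    g ∈ Subgroup.center (Matrix.symplecticGroup (Fin 3) (ZMod 3)) := by
  have : Fact (Nat.Prime 13) := ⟨by norm_num⟩
  have : Finite S63 := Subtype.finite
  obtain ⟨k, hk⟩ := Cfsg.Agent.Helper8.G24.exists_conj_zpowers 13 x0S x orderOf_x0S hx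
    not_sq_dvd_card
  have hmem : x0S ∈ Subgroup.zpowers (k * x * k⁻¹) := by
    rw [hk]; exact Subgroup.mem_zpowers x0S
  obtain ⟨j, hj⟩ := Subgroup.mem_zpowers_iff.1 hmem
  set g' : S63 := k * g * k⁻¹ with hg'
  have hcomm1 : Commute g' (k * x * k⁻¹) := by
    show k * g * k⁻¹ * (k * x * k⁻¹) = k * x * k⁻¹ * (k * g * k⁻¹)
    have e1 : k * g * k⁻¹ * (k * x * k⁻¹) = k * (g * x) * k⁻¹ := by group
    have e2 : k * x * k⁻¹ * (k * g * k⁻¹) = k * (x * g) * k⁻¹ := by group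
    rw [e1, e2, hc]
  have hcomm2 : Commute g' x0S := by
    rw [← hj]
    exact hcomm1.zpow_right j
  have hsq : g' * g' = 1 := by
    have e1 : g' * g' = k * (g * g) * k⁻¹ := by rw [hg']; group
    rw [e1, ← pow_two, hg]; group
  have hval := invol_X0 (g' : Matrix I6 I6 (ZMod 3))
    (by have := congrArg Subtype.val hcomm2.eq; simpa [x0S] using this)
    (by have := congrArg Subtype.val hsq; simpa using this)
    (SymplecticGroup.mem_iff.1 g'.2)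
  have hcen : g' ∈ Subgroup.center S63 := by
    rcases hval with h1 | h1
    · have : g' = 1 := Subtype.ext (by rw [h1]; rfl)
      rw [this]; exact Subgroup.one_mem _
    · exact neg_one_mem_center g' h1
  have hback : g = k⁻¹ * g' * k⁻¹⁻¹ := by rw [hg']; group
  rw [hback]
  exact (inferInstance : (Subgroup.center S63).Normal).conj_mem g' hcen k⁻¹

end Group

end Cfsg.Agent.Helper22.PG63
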