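import Mathlib
import Cfsg.Agent.Helper86.PG63.Defs
import Cfsg.Agent.Helper97.StCMult

/-!
Helper22, for helper86 (S3664, WANTED #9537), piece (LD) `psp_noBad`: no element of order `21, 35, 26, 39, 65, 91`
in `PSp₆(3)`, from the three centralizer facts (LA), (LB), (LC) as hypotheses. Statement verbatim from the skeleton.
-/

set_option autoImplicit false

namespace Cfsg.Agent.Helper22.PG63

open Cfsg Cfsg.Agent.Helper86.PG63

section Abstract

variable {S : Type*} [Group S]

/-- in `S ⧸ Z(S)` with `Z(S)` of exponent `2`: a lift `g` of an element of order `r q` (`r` an odd prime, `q ≥ 1`)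
has the power `g^(2q)` of order `r` -/
theorem orderOf_pow_lift (hZ : ∀ z ∈ Subgroup.center S, z ^ 2 = 1) (g : S) (r q : ℕ)
    (hr : r.Prime) (hr2 : ¬ r ∣ 2) (hq : 0 < q)
    (hn : orderOf (g : S ⧸ Subgroup.center S) = r * q) : orderOf (g ^ (2 * q)) = r := by
  have : Fact r.Prime := ⟨hr⟩
  have hmem : g ^ (r * q) ∈ Subgroup.center S := by
    rw [← QuotientGroup.eq_one_iff, QuotientGroup.mk_pow, ← hn]
    exact pow_orderOf_eq_one _
  apply orderOf_eq_prime
  · rw [← pow_mul]
    have e : 2 * q * r = (r * q) * 2 := by ring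
    rw [e, pow_mul]
    exact hZ _ hmem
  · intro h1
    have h2 : ((g : S ⧸ Subgroup.center S)) ^ (2 * q) = 1 := by
      rw [← QuotientGroup.mk_pow, h1]; rfl
    have h3 : r * q ∣ 2 * q := by
      rw [← hn]; exact orderOf_dvd_of_pow_eq_one h2
    exact hr2 (Nat.dvd_of_mul_dvd_mul_right hq h3)

/-- if the centralizer of every element of order `r` has exponent dividing `e`, then `S ⧸ Z(S)` has no element of
order `r q` unless `r q ∣ e` -/
theorem no_order_of_cent (hZ : ∀ z ∈ Subgroup.center S, z ^ 2 = 1) (r q e : ℕ)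
    (hr : r.Prime) (hr2 : ¬ r ∣ 2) (hq : 0 < q)
    (hcent : ∀ x g : S, orderOf x = r → g * x = x * g → g ^ e = 1) (hne : ¬ r * q ∣ e)
    (gb : S ⧸ Subgroup.center S) : orderOf gb ≠ r * q := by
  intro hn
  obtain ⟨g, rfl⟩ := QuotientGroup.mk_surjective gb
  have hx := orderOf_pow_lift hZ g r q hr hr2 hq hn
  have hcomm : g * g ^ (2 * q) = g ^ (2 * q) * g := (Commute.self_pow g (2 * q)).eq
  have h1 := hcent _ g hx hcomm
  have h2 : ((g : S ⧸ Subgroup.center S)) ^ e = 1 := by
    rw [← QuotientGroup.mk_pow, h1]; rfl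
  apply hne
  rw [← hn]
  exact orderOf_dvd_of_pow_eq_one h2

/-- the abstract form of (LD) -/
theorem noBad_quot (hZ : ∀ z ∈ Subgroup.center S, z ^ 2 = 1)
    (h7 : ∀ x g : S, orderOf x = 7 → g * x = x * g → g ^ 28 = 1)
    (h13 : ∀ x g : S, orderOf x = 13 → g * x = x * g → g ^ 26 = 1)
    (h13' : ∀ x g : S, orderOf x = 13 → g * x = x * g → g ^ 2 = 1 → g ∈ Subgroup.center S) :
    NoBad (S ⧸ Subgroup.center S) := by
  have p7 : Nat.Prime 7 := by norm_num
  have p13 : Nat.Prime 13 := by norm_num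
  intro gb
  refine ⟨?_, ?_, ?_, ?_, ?_, ?_⟩
  · exact no_order_of_cent hZ 7 3 28 p7 (by norm_num) (by norm_num) h7 (by norm_num) gb
  · exact no_order_of_cent hZ 7 5 28 p7 (by norm_num) (by norm_num) h7 (by norm_num) gb
  · -- order 26
    intro hn
    obtain ⟨g, rfl⟩ := QuotientGroup.mk_surjective gb
    have hx := orderOf_pow_lift hZ g 13 2 p13 (by norm_num) (by norm_num) hn
    have hcomm : g * g ^ (2 * 2) = g ^ (2 * 2) * g := (Commute.self_pow g (2 * 2)).eq
    have h26 : g ^ 26 = 1 := h13 _ g hx hcomm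
    have hcomm2 : g ^ 13 * g ^ (2 * 2) = g ^ (2 * 2) * g ^ 13 :=
      (Commute.pow_pow (Commute.refl g) 13 (2 * 2)).eq
    have ht2 : (g ^ 13) ^ 2 = 1 := by rw [← pow_mul]; exact h26
    have hcen := h13' _ (g ^ 13) hx hcomm2 ht2
    have h2 : ((g : S ⧸ Subgroup.center S)) ^ 13 = 1 := by
      rw [← QuotientGroup.mk_pow]
      exact (QuotientGroup.eq_one_iff _).2 hcen
    have h3 : 26 ∣ 13 := by
      rw [← hn]; exact orderOf_dvd_of_pow_eq_one h2
    omega
  · exact no_order_of_cent hZ 13 3 26 p13 (by norm_num) (by norm_num) h13 (by norm_num) gb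
  · exact no_order_of_cent hZ 13 5 26 p13 (by norm_num) (by norm_num) h13 (by norm_num) gb
  · exact no_order_of_cent hZ 7 13 28 p7 (by norm_num) (by norm_num) h7 (by norm_num) gb

end Abstract

/-- (LD) no bad orders in `PSp(6,3)` -/
theorem psp_noBad
    (h7 : ∀ x g : Matrix.symplecticGroup (Fin 3) (ZMod 3), orderOf x = 7 → g * x = x * g →
      g ^ 28 = 1)
    (h13 : ∀ x g : Matrix.symplecticGroup (Fin 3) (ZMod 3), orderOf x = 13 → g * x = x * g →
      g ^ 26 = 1)
    (h13' : ∀ x g : Matrix.symplecticGroup (Fin 3) (ZMod 3), orderOf x = 13 → g * x = x * g →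
      g ^ 2 = 1 → g ∈ Subgroup.center (Matrix.symplecticGroup (Fin 3) (ZMod 3))) :
    NoBad (Cfsg.PSp 3 (ZMod 3)) := by
  have hZ : ∀ z ∈ Subgroup.center (Matrix.symplecticGroup (Fin 3) (ZMod 3)), z ^ 2 = 1 := by
    intro z hz
    have hcard : Nat.card (Subgroup.center (Matrix.symplecticGroup (Fin 3) (ZMod 3))) = 2 := by
      rw [Cfsg.Agent.Helper97.StCMult.card_center_sp 3 (by norm_num), ZMod.card]
      decide
    have h1 : (⟨z, hz⟩ : Subgroup.center (Matrix.symplecticGroup (Fin 3) (ZMod 3))) ^ 2 = 1 := by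
      rw [← hcard]; exact pow_card_eq_one'
    exact congrArg Subtype.val h1
  exact noBad_quot hZ h7 h13 h13'

end Cfsg.Agent.Helper22.PG63
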