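import Mathlib

set_option autoImplicit false

/-!
# S2474 piece (TW) for helper99 (#10721): the twisted form `S(x,y) = B(x,(g - h) y)`, `h = g⁻¹`

For a bilinear form `B` invariant under `g`, with `g * h = 1`:
* `twF_eq` : `S x y = B x (g y) - B (g x) y`;
* `twF_symm_of_skew` : `B` skew-symmetric ⟹ `S` symmetric;
* `twF_isAlt_of_symm` : `B` symmetric ⟹ `S` alternating;
* `twF_invariant` : `S` is invariant under every `B`-isometry commuting with `g` and `h`;
* `twF_nondegenerate` : `B` non-degenerate, `g x = h x → x = 0`, finite dimension ⟹ `S` non-degenerate.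
-/

namespace Cfsg.Agent.Helper22.PG

open Module

variable {F : Type*} [Field F] {W : Type*} [AddCommGroup W] [Module F W]

/-- the twisted form `S(x,y) = B(x, (g - h) y)` -/
def twF (B : LinearMap.BilinForm F W) (g h : Module.End F W) : LinearMap.BilinForm F W :=
  B.compl₁₂ LinearMap.id (g - h)

theorem twF_apply (B : LinearMap.BilinForm F W) (g h : Module.End F W) (x y : W) :
    twF B g h x y = B x (g y) - B x (h y) := by
  unfold twF
  rw [LinearMap.compl₁₂_apply, LinearMap.id_apply, LinearMap.sub_apply, map_sub]

theorem twF_eq (B : LinearMap.BilinForm F W) (g h : Module.End F W)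
    (hiso : ∀ x y, B (g x) (g y) = B x y) (hgh : g * h = 1) (x y : W) :
    twF B g h x y = B x (g y) - B (g x) y := by
  rw [twF_apply]
  have h1 : g (h y) = y := by
    rw [← Module.End.mul_apply, hgh, Module.End.one_apply]
  have h2 : B x (h y) = B (g x) y := by
    rw [← hiso x (h y), h1]
  rw [h2]

/-- `B` skew-symmetric ⟹ `S` symmetric -/
theorem twF_symm_of_skew (B : LinearMap.BilinForm F W) (g h : Module.End F W)
    (hiso : ∀ x y, B (g x) (g y) = B x y) (hgh : g * h = 1)
    (hskew : ∀ x y, B x y = -B y x) (x y : W) :
    twF B g h x y = twF B g h y x := by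
  rw [twF_eq B g h hiso hgh, twF_eq B g h hiso hgh, hskew x (g y), hskew (g x) y]
  ring

/-- `B` symmetric ⟹ `S` alternating -/
theorem twF_isAlt_of_symm (B : LinearMap.BilinForm F W) (g h : Module.End F W)
    (hiso : ∀ x y, B (g x) (g y) = B x y) (hgh : g * h = 1)
    (hsymm : ∀ x y, B x y = B y x) : (twF B g h).IsAlt := by
  intro x
  rw [twF_eq B g h hiso hgh, hsymm x (g x), sub_self]

/-- `S` is invariant under every `B`-isometry commuting with `g` and `h` -/
theorem twF_invariant (B : LinearMap.BilinForm F W) (g h T : Module.End F W)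
    (hT : ∀ x y, B (T x) (T y) = B x y) (hTg : Commute T g) (hTh : Commute T h) (x y : W) :
    twF B g h (T x) (T y) = twF B g h x y := by
  rw [twF_apply, twF_apply]
  have h1 : g (T y) = T (g y) := by
    rw [← Module.End.mul_apply, ← hTg.eq, Module.End.mul_apply]
  have h2 : h (T y) = T (h y) := by
    rw [← Module.End.mul_apply, ← hTh.eq, Module.End.mul_apply]
  rw [h1, h2, hT, hT]

/-- `S` is non-degenerate if `B` is and `g x = h x → x = 0` (finite dimension) -/
theorem twF_nondegenerate [FiniteDimensional F W] (B : LinearMap.BilinForm F W)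
    (g h : Module.End F W) (hB : B.Nondegenerate) (hker : ∀ x, g x = h x → x = 0) :
    (twF B g h).Nondegenerate := by
  have hinj : Function.Injective (g - h : Module.End F W) := by
    rw [← LinearMap.ker_eq_bot, LinearMap.ker_eq_bot']
    intro x hx
    apply hker
    rw [LinearMap.sub_apply, sub_eq_zero] at hx
    exact hx
  have hsurj : Function.Surjective (g - h : Module.End F W) :=
    LinearMap.injective_iff_surjective.1 hinj
  constructor
  · intro x hx
    apply hB.1
    intro z
    obtain ⟨y, rfl⟩ := hsurj z
    have := hx y
    unfold twF at this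
    rw [LinearMap.compl₁₂_apply, LinearMap.id_apply] at this
    exact this
  · intro y hy
    have h1 : (g - h : Module.End F W) y = 0 := by
      apply hB.2
      intro x
      have := hy x
      unfold twF at this
      rw [LinearMap.compl₁₂_apply, LinearMap.id_apply] at this
      exact this
    exact hinj (by rw [h1, map_zero])

end Cfsg.Agent.Helper22.PG
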