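import Mathlib
import Cfsg.Agent.Helper99.BCDefs
import Cfsg.Agent.Helper93.BCLA1
import Cfsg.Agent.Helper93.BCLA2
import Cfsg.Agent.Helper93.BCLA4
import Cfsg.Agent.Helper87.BCLA3
import Cfsg.Agent.Helper22.PGTW

set_option autoImplicit false

/-!
# S2474 (helper99, #10721): the symplectic form on `movS a r` of an isometry `a` of odd order `r`
of a non-degenerate quadratic space, invariant under every isometry commuting with `a`
(common core of (AU2), (AP2))
-/

namespace Cfsg.Agent.Helper22.PG

open Module Cfsg.Agent.Helper99.BC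

variable {F : Type*} [Field F] {V : Type*} [AddCommGroup V] [Module F V]

/-- powers of a restriction, pointwise -/
theorem restrict_pow_apply_h22 (T : Module.End F V) (M : Submodule F V) (hT : ∀ x ∈ M, T x ∈ M)
    (k : ℕ) (x : M) : (((T.restrict hT) ^ k) x : V) = (T ^ k) (x : V) := by
  induction k generalizing x with
  | zero => simp
  | succ k ih =>
    rw [pow_succ, Module.End.mul_apply, ih, pow_succ, Module.End.mul_apply]
    rfl

/-- if `a x = a^(r-1) x`, `a^r = 1`, `r` odd, then `a x = x` -/
theorem fix_of_eq_inv_h22 (a : Module.End F V) (r : ℕ) (hodd : Odd r) (ha : a ^ r = 1) (x : V)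
    (hx : a x = (a ^ (r - 1)) x) : a x = x := by
  obtain ⟨k, hk⟩ := hodd
  have h2 : (a ^ 2) x = x := by
    have h3 : (a ^ 2) x = a (a x) := by rw [pow_two, Module.End.mul_apply]
    rw [h3, hx, ← Module.End.mul_apply, ← pow_succ']
    have : r - 1 + 1 = r := by omega
    rw [this, ha, Module.End.one_apply]
  have h4 : ∀ i : ℕ, ((a ^ 2) ^ i) x = x := by
    intro i
    induction i with
    | zero => simp
    | succ i ih => rw [pow_succ, Module.End.mul_apply, h2, ih]
  have h5 : a = (a ^ 2) ^ (k + 1) := by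
    rw [← pow_mul]
    have : 2 * (k + 1) = r + 1 := by omega
    rw [this, pow_succ, ha, one_mul]
  calc a x = ((a ^ 2) ^ (k + 1)) x := by rw [← h5]
    _ = x := h4 (k + 1)

/-- the polar form is non-degenerate on the moving space -/
theorem nondeg_on_movS_h22 (Q : QuadraticForm F V) (a : Module.End F V) (r : ℕ)
    (hr : (r : F) ≠ 0) (ha : a ^ r = 1) (hiso : ∀ x, Q (a x) = Q x)
    (hnd : ∀ x : V, (∀ y, QuadraticMap.polar Q x y = 0) → x = 0) :
    ∀ x ∈ movS a r, (∀ y ∈ movS a r, QuadraticMap.polar Q x y = 0) → x = 0 := by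
  intro x hx hxy
  apply hnd
  intro v
  have hc := (Cfsg.Agent.Helper93.BC.isCompl_fixS_movS a r hr ha).codisjoint
  rw [Submodule.codisjoint_iff_exists_add_eq] at hc
  obtain ⟨f, y, hf, hy, rfl⟩ := hc v
  rw [QuadraticMap.polar_add_right, hxy y hy, add_zero, QuadraticMap.polar_comm]
  exact Cfsg.Agent.Helper93.BC.polar_eq_zero_of_fixS_movS Q a r hr ha hiso hf hx

/-- **core**: the invariant non-degenerate alternating form on the moving space -/
theorem exists_alt_form_on_movS [FiniteDimensional F V] (Q : QuadraticForm F V)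
    (hnd : ∀ x : V, (∀ y, QuadraticMap.polar Q x y = 0) → x = 0)
    (a T : Module.End F V) (r : ℕ) (hr : (r : F) ≠ 0) (hodd : Odd r) (ha : a ^ r = 1)
    (hisoa : ∀ x, Q (a x) = Q x) (hisoT : ∀ x, Q (T x) = Q x) (hTa : Commute T a)
    (hT : ∀ x ∈ movS a r, T x ∈ movS a r) :
    ∃ S : LinearMap.BilinForm F (movS a r), S.IsAlt ∧ S.Nondegenerate ∧
      ∀ x y, S (T.restrict hT x) (T.restrict hT y) = S x y := by
  have haM : ∀ x ∈ movS a r, a x ∈ movS a r := fun x hx =>
    Cfsg.Agent.Helper93.BC.map_mem_movS (Commute.refl a) hx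
  have hhM : ∀ x ∈ movS a r, (a ^ (r - 1)) x ∈ movS a r := fun x hx =>
    Cfsg.Agent.Helper93.BC.map_mem_movS ((Commute.refl a).pow_left (r - 1)) hx
  have hr0 : r ≠ 0 := by
    rintro rfl
    exact hr (by simp)
  set BM : LinearMap.BilinForm F (movS a r) :=
    LinearMap.BilinForm.restrict (QuadraticMap.polarBilin Q) (movS a r)
    with hBM
  have hBM_apply : ∀ x y : movS a r, BM x y = QuadraticMap.polar Q (x : V) (y : V) := by
    intro x y
    rfl
  set aM : Module.End F (movS a r) := a.restrict haM with haMdef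
  set hM : Module.End F (movS a r) := (a ^ (r - 1)).restrict hhM with hhMdef
  have hiso : ∀ x y, BM (aM x) (aM y) = BM x y := by
    intro x y
    rw [hBM_apply, hBM_apply]
    exact Cfsg.Agent.Helper93.BC.polar_map_of_isometry Q a hisoa x y
  have hgh : aM * hM = 1 := by
    apply LinearMap.ext
    intro x
    apply Subtype.ext
    show a ((a ^ (r - 1)) (x : V)) = (x : V)
    rw [← Module.End.mul_apply, ← pow_succ']
    have : r - 1 + 1 = r := by omega
    rw [this, ha, Module.End.one_apply]
  have hsymm : ∀ x y, BM x y = BM y x := by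
    intro x y
    rw [hBM_apply, hBM_apply, QuadraticMap.polar_comm]
  have hBMnd : BM.Nondegenerate := by
    have hl : ∀ x : movS a r, (∀ y : movS a r, BM x y = 0) → x = 0 := by
      intro x hx
      apply Subtype.ext
      apply nondeg_on_movS_h22 Q a r hr ha hisoa hnd (x : V) x.2
      intro y hy
      exact hx ⟨y, hy⟩
    refine ⟨hl, ?_⟩
    intro y hy
    apply hl
    intro x
    rw [hsymm]
    exact hy x
  have hker : ∀ x : movS a r, aM x = hM x → x = 0 := by
    intro x hx
    apply Subtype.ext
    have h1 : a (x : V) = (a ^ (r - 1)) (x : V) := congrArg Subtype.val hx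
    have h2 := fix_of_eq_inv_h22 a r hodd ha (x : V) h1
    exact Cfsg.Agent.Helper87.BC.eq_zero_of_fix_of_mem_movS a r hr h2 x.2
  refine ⟨twF BM aM hM, twF_isAlt_of_symm BM aM hM hiso hgh hsymm,
    twF_nondegenerate BM aM hM hBMnd hker, ?_⟩
  have hTiso : ∀ x y, BM (T.restrict hT x) (T.restrict hT y) = BM x y := by
    intro x y
    rw [hBM_apply, hBM_apply]
    exact Cfsg.Agent.Helper93.BC.polar_map_of_isometry Q T hisoT x y
  have hTaM : Commute (T.restrict hT) aM := by
    apply LinearMap.ext
    intro x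
    apply Subtype.ext
    show T (a (x : V)) = a (T (x : V))
    rw [← Module.End.mul_apply, hTa.eq, Module.End.mul_apply]
  have hThM : Commute (T.restrict hT) hM := by
    apply LinearMap.ext
    intro x
    apply Subtype.ext
    show T ((a ^ (r - 1)) (x : V)) = (a ^ (r - 1)) (T (x : V))
    rw [← Module.End.mul_apply, (hTa.pow_right (r - 1)).eq, Module.End.mul_apply]
  exact twF_invariant BM aM hM (T.restrict hT) hTiso hTaM hThM

end Cfsg.Agent.Helper22.PG
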