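import Mathlib
import Cfsg.Prelude.Def_Classical
import Cfsg.Agent.Helper99.PGDefs
import Cfsg.Agent.Helper99.BCDefs
import Cfsg.Agent.Helper93.BCLA1
import Cfsg.Agent.Helper93.BCLA2
import Cfsg.Agent.Helper93.BCLA4
import Cfsg.Agent.Helper87.BCLA3
import Cfsg.Agent.Helper87.BCLA9
import Cfsg.Agent.Helper36.AltForm
import Cfsg.Agent.Helper22.PGTW
import Cfsg.Agent.Helper22.PGMovCore

set_option autoImplicit false
set_option linter.unusedSectionVars false
set_option linter.unusedVariables false

/-!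
# S2474 piece (AP2) for helper99 (#10721): transfer `O → Sp` for order `r p`
-/

universe u

namespace Cfsg.Agent.Helper22.PG

open Module Matrix Cfsg.Agent.Helper99.BC Cfsg.Agent.Helper99.PG

variable {F : Type u} [Field F] [Fintype F]

section transfer

variable {V : Type u} [AddCommGroup V] [Module F V] [FiniteDimensional F V]

/-- a unipotent isometry (`u ^ p = 1`, `p` odd, `2 ≠ 0`) of a one-dimensional non-degenerate quadratic
subspace is trivial -/
theorem unip_fix_of_finrank_one_h22 (h2 : (2 : F) ≠ 0) (p : ℕ) (hpodd : Odd p)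
    (Q : QuadraticForm F V) (W : Submodule F V)
    (hW : ∀ x ∈ W, (∀ y ∈ W, QuadraticMap.polar Q x y = 0) → x = 0)
    (u : Module.End F V) (hu : ∀ x, Q (u x) = Q x) (huW : ∀ x ∈ W, u x ∈ W) (hup : u ^ p = 1)
    (hdim : finrank F W = 1) : ∀ x ∈ W, u x = x := by
  obtain ⟨w0, hw0, hspan⟩ := finrank_eq_one_iff'.1 hdim
  have hw0V : (w0 : V) ≠ 0 := fun h => hw0 (Subtype.ext h)
  -- `Q w0 ≠ 0`
  have hQ : Q (w0 : V) ≠ 0 := by
    intro hQ0
    apply hw0V
    apply hW (w0 : V) w0.2
    intro y hy
    obtain ⟨d, hd⟩ := hspan ⟨y, hy⟩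
    have hy' : y = d • (w0 : V) := by
      have := congrArg Subtype.val hd
      simpa using this.symm
    rw [hy', QuadraticMap.polar_smul_right, QuadraticMap.polar_self, hQ0]
    simp
  -- `u w0 = c • w0`
  obtain ⟨c, hc⟩ := hspan ⟨u (w0 : V), huW _ w0.2⟩
  have hc' : u (w0 : V) = c • (w0 : V) := by
    have := congrArg Subtype.val hc
    simpa using this.symm
  have hcc : c * c = 1 := by
    have h1 := hu (w0 : V)
    rw [hc', QuadraticMap.map_smul, smul_eq_mul] at h1
    have h3 : (c * c - 1) * Q (w0 : V) = 0 := by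
      rw [sub_mul, one_mul, h1, sub_self]
    rcases mul_eq_zero.1 h3 with h | h
    · exact sub_eq_zero.1 h
    · exact absurd h hQ
  have hpow : ∀ k : ℕ, (u ^ k) (w0 : V) = c ^ k • (w0 : V) := by
    intro k
    induction k with
    | zero => simp
    | succ k ih => rw [pow_succ', Module.End.mul_apply, ih, map_smul, hc', smul_smul, pow_succ]
  have hcp : c ^ p = 1 := by
    have h1 := hpow p
    rw [hup, Module.End.one_apply] at h1
    have h3 : (c ^ p - 1) • (w0 : V) = 0 := by
      rw [sub_smul, one_smul, ← h1, sub_self]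
    rcases smul_eq_zero.1 h3 with h | h
    · exact sub_eq_zero.1 h
    · exact absurd h hw0V
  have hc1 : c = 1 := by
    have h1 : (c - 1) * (c + 1) = 0 := by ring_nf; rw [← pow_two] at *; linear_combination hcc
    rcases mul_eq_zero.1 h1 with h | h
    · exact sub_eq_zero.1 h
    · exfalso
      have hcm : c = -1 := eq_neg_of_add_eq_zero_left h
      rw [hcm, hpodd.neg_one_pow] at hcp
      apply h2
      have : (2 : F) = 1 - (-1) := by ring
      rw [this, hcp, sub_self]
  intro x hx
  obtain ⟨d, hd⟩ := hspan ⟨x, hx⟩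
  have hx' : x = d • (w0 : V) := by
    have := congrArg Subtype.val hd
    simpa using this.symm
  rw [hx', map_smul, hc', hc1, one_smul]

/-- (AP2) transfer `O → Sp` for order `r p` -/
theorem spmodel_of_orth_char (h2 : (2 : F) ≠ 0) (p : ℕ) [Fact p.Prime] [CharP F p]
    (Q : QuadraticForm F V)
    (hnd : ∀ x, (∀ y, QuadraticMap.polar Q x y = 0) → x = 0) (g : Module.End F V)
    (hg : ∀ x, Q (g x) = Q x)
    (n r : ℕ) (hV : finrank F V = 2 * n + 1) (hr : r.Prime) (hr2 : r ≠ 2) (hrp : r ≠ p)
    (hgN : orderOf g = r * p) :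
    (∃ m : ℕ, m ≤ n ∧ SpModel F m (r * p)) ∨ (∃ m : ℕ, m + 1 ≤ n ∧ SpModel F m r) := by
  have hp : p.Prime := Fact.out
  have hrF : (r : F) ≠ 0 := by
    intro h
    rw [CharP.cast_eq_zero_iff F p] at h
    exact hrp ((Nat.prime_dvd_prime_iff_eq hp hr).1 h).symm
  have hodd : Odd r := hr.odd_of_ne_two hr2
  have hp2 : p ≠ 2 := by
    rintro rfl
    apply h2
    have := CharP.cast_eq_zero F 2
    exact_mod_cast this
  have hpodd : Odd p := hp.odd_of_ne_two hp2
  have hgrp : g ^ (r * p) = 1 := by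
    rw [← hgN]
    exact pow_orderOf_eq_one g
  have har : (g ^ p) ^ r = 1 := by rw [← pow_mul, mul_comm, hgrp]
  have hup : (g ^ r) ^ p = 1 := by rw [← pow_mul, hgrp]
  have hga : Commute g (g ^ p) := (Commute.refl g).pow_right p
  have hisopow : ∀ (k : ℕ) (x : V), Q ((g ^ k) x) = Q x := by
    intro k
    induction k with
    | zero => intro x; simp
    | succ k ih =>
      intro x
      rw [pow_succ, Module.End.mul_apply, ih, hg]
  have hM : ∀ x ∈ movS (g ^ p) r, g x ∈ movS (g ^ p) r := fun x hx =>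
    Cfsg.Agent.Helper93.BC.map_mem_movS hga hx
  obtain ⟨S, hSalt, hSnd, hSinv⟩ :=
    exists_alt_form_on_movS Q hnd (g ^ p) g r hrF hodd har (hisopow p) hg hga hM
  -- parity
  obtain ⟨m, hm⟩ : ∃ m, finrank F (movS (g ^ p) r) = 2 * m := by
    have hev := Cfsg.Agent.Helper36.even_finrank_of_isAlt_nondegenerate
      (finrank F (movS (g ^ p) r)) S hSalt hSnd rfl
    obtain ⟨m, hm⟩ := hev
    exact ⟨m, by omega⟩
  have hcompl := Cfsg.Agent.Helper93.BC.isCompl_fixS_movS (g ^ p) r hrF har
  have hdim : finrank F (fixS (g ^ p)) + finrank F (movS (g ^ p) r) = 2 * n + 1 := by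
    rw [← hV]
    exact Submodule.finrank_add_eq_of_isCompl hcompl
  have hdecomp : ∀ v : V, ∃ f y, f ∈ fixS (g ^ p) ∧ y ∈ movS (g ^ p) r ∧ f + y = v := by
    have hc := hcompl.codisjoint
    rw [Submodule.codisjoint_iff_exists_add_eq] at hc
    intro v
    obtain ⟨f, y, hf, hy, h⟩ := hc v
    exact ⟨f, y, hf, hy, h⟩
  -- orders
  have hgMpow : (g.restrict hM) ^ (r * p) = 1 := by
    apply LinearMap.ext
    intro x
    apply Subtype.ext
    rw [restrict_pow_apply_h22, hgrp]
    rfl
  have hord_dvd : orderOf (g.restrict hM) ∣ r * p := orderOf_dvd_of_pow_eq_one hgMpow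
  have hane : g ^ p ≠ 1 := by
    intro h
    have h1 := orderOf_dvd_of_pow_eq_one h
    rw [hgN] at h1
    have h3 : r * p ∣ 1 * p := by simpa using h1
    have h4 : r ∣ 1 := Nat.dvd_of_mul_dvd_mul_right hp.pos h3
    exact hr.one_lt.ne' (Nat.dvd_one.1 h4)
  have hune : g ^ r ≠ 1 := by
    intro h
    have h1 := orderOf_dvd_of_pow_eq_one h
    rw [hgN] at h1
    have h3 : r * p ∣ r * 1 := by simpa using h1
    have h4 : p ∣ 1 := Nat.dvd_of_mul_dvd_mul_left hr.pos h3
    exact hp.one_lt.ne' (Nat.dvd_one.1 h4)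
  have hgMp : (g.restrict hM) ^ p ≠ 1 := by
    intro h
    apply hane
    apply LinearMap.ext
    intro v
    obtain ⟨f, y, hf, hy, rfl⟩ := hdecomp v
    have h1 : (g ^ p) y = y := by
      have h3 := restrict_pow_apply_h22 g _ hM p ⟨y, hy⟩
      rw [h] at h3
      exact h3.symm
    rw [map_add, mem_fixS.1 hf, h1]
    rfl
  have hcases : orderOf (g.restrict hM) = r * p ∨ orderOf (g.restrict hM) = r := by
    have hnd' : ¬ orderOf (g.restrict hM) ∣ p := fun h =>
      hgMp (orderOf_dvd_iff_pow_eq_one.1 h)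
    by_cases hrd : r ∣ orderOf (g.restrict hM)
    · obtain ⟨d', hd'⟩ := hrd
      rw [hd'] at hord_dvd
      have h3 : d' ∣ p := Nat.dvd_of_mul_dvd_mul_left hr.pos hord_dvd
      rcases (Nat.dvd_prime hp).1 h3 with h | h
      · right
        rw [hd', h, mul_one]
      · left
        rw [hd', h]
    · exfalso
      have hco : Nat.Coprime (orderOf (g.restrict hM)) r :=
        ((Nat.Prime.coprime_iff_not_dvd hr).2 hrd).symm
      apply hnd'
      have h3 : orderOf (g.restrict hM) ∣ p * r := by rw [mul_comm]; exact hord_dvd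
      exact hco.dvd_of_dvd_mul_right h3
  rcases hcases with hord | hord
  · left
    refine ⟨m, by omega, ?_⟩
    exact ⟨movS (g ^ p) r, inferInstance, inferInstance, inferInstance, S, g.restrict hM,
      hSalt, hSnd, hm, hSinv, hord⟩
  · right
    refine ⟨m, ?_, ?_⟩
    · -- `dim fixS ≥ 3`
      have huM : ∀ y ∈ movS (g ^ p) r, (g ^ r) y = y := by
        intro y hy
        have h3 := restrict_pow_apply_h22 g _ hM r ⟨y, hy⟩
        have h4 : (g.restrict hM) ^ r = 1 := by
          have h5 := pow_orderOf_eq_one (g.restrict hM)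
          rw [hord] at h5
          exact h5
        rw [h4] at h3
        exact h3.symm
      have hne1 : finrank F (fixS (g ^ p)) ≠ 1 := by
        intro h1
        apply hune
        have hua : Commute (g ^ r) (g ^ p) := ((Commute.refl g).pow_left r).pow_right p
        have hfix := unip_fix_of_finrank_one_h22 h2 p hpodd Q (fixS (g ^ p))
          (Cfsg.Agent.Helper87.BC.nondeg_on_fixS Q (g ^ p) r hrF har (hisopow p) hnd)
          (g ^ r) (hisopow r)
          (fun x hx => Cfsg.Agent.Helper93.BC.map_mem_fixS hua hx) hup h1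
        apply LinearMap.ext
        intro v
        obtain ⟨f, y, hf, hy, rfl⟩ := hdecomp v
        rw [map_add, hfix f hf, huM y hy]
        rfl
      omega
    · exact ⟨movS (g ^ p) r, inferInstance, inferInstance, inferInstance, S, g.restrict hM,
        hSalt, hSnd, hm, hSinv, hord⟩

end transfer

end Cfsg.Agent.Helper22.PG
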