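import Cfsg.Agent.Helper22.PslNSOLV
import Cfsg.Agent.Helper49.PslGAL
import Cfsg.Agent.Helper49.PslODD
import Cfsg.Agent.Helper97.PslNORM

/-!
Helper22, for helper61 (S3616, WANTED #9918): pieces (SYL) `exists_sylow_normalizer` and (NSOLV) `not_solvable`,
statements VERBATIM from `tools/helper61_s3616/PslSkel.lean.txt`, from helper49's (GAL), (ODD) and helper97's (NORM).
-/

set_option autoImplicit false

namespace Cfsg.Agent.Helper22.Psl

open Equiv MulAction Cfsg.Agent.Helper61.Zp DihedralGroup Cfsg.Agent.Helper61.Orbital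
open Cfsg.Agent.Helper61.Psl

variable {p : ℕ} [Fact p.Prime]

theorem normStmt : NormStmt p := fun g h => Cfsg.Agent.Helper97.Psl.affine_of_normalizes g h

theorem oddStmt : OddStmt p := fun hp2 H heven htr hml _ hg _ _ hab =>
  Cfsg.Agent.Helper49.Psl.isSquare_of_affine_mem hp2 H heven htr hml hg hab

theorem galStmt : GalStmt p := fun G _ hG P =>
  Cfsg.Agent.Helper49.Psl.sylow_normal_of_solvable (ZMod.card p) G hG P

/-- (SYL) the Sylow `p`-normaliser of the stabiliser of infinity has order `p (p-1)/2`. -/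
theorem exists_sylow_normalizer {𝔛 Γ : Subgroup (Perm (Option (ZMod p)))} (h : Over 𝔛 Γ)
    (hp2 : p ≠ 2) :
    ∃ P : Sylow p ↥(stabInf 𝔛),
      2 * Nat.card ↥(Subgroup.normalizer ((P : Subgroup ↥(stabInf 𝔛)) : Set ↥(stabInf 𝔛))) =
        p * (p - 1) :=
  exists_sylow_normalizer_of normStmt oddStmt h hp2

/-- (NSOLV) the stabiliser of infinity is insoluble. -/
theorem not_solvable {𝔛 Γ : Subgroup (Perm (Option (ZMod p)))} (h : Over 𝔛 Γ) (hp2 : p ≠ 2) :
    ¬ Group.IsSolvable ↥(stabInf 𝔛) :=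
  not_solvable_of galStmt normStmt oddStmt h hp2

end Cfsg.Agent.Helper22.Psl
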