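import Cfsg.Agent.Helper22.PslSYL

/-!
Helper22, for helper61 (S3616, WANTED #9918), piece (NSOLV) `not_solvable`, with the pieces (GAL), (NORM), (ODD) as
hypotheses (their exact skeleton statements; (GAL) specialised to `α = ZMod p`).
-/

set_option autoImplicit false

namespace Cfsg.Agent.Helper22.Psl

open Equiv MulAction Cfsg.Agent.Helper61.Zp Cfsg.Agent.Helper61.Psl

variable {p : ℕ} [Fact p.Prime]

/-- the statement of (GAL) for `α = ZMod p` -/
def GalStmt (p : ℕ) [Fact p.Prime] : Prop :=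
  ∀ (G : Subgroup (Perm (ZMod p))) [IsPretransitive G (ZMod p)],
    Group.IsSolvable G → ∀ P : Sylow p G, (P : Subgroup G).Normal

/-- a permutation of `Option α` fixing `none` is an `optHom` -/
theorem exists_optHom_of_none {α : Type*} (g : Perm (Option α)) (hg : g none = none) :
    ∃ σ : Perm α, optHom α σ = g := by
  refine ⟨Equiv.removeNone g, ?_⟩
  ext x : 1
  cases x with
  | none => rw [optHom_apply_none, hg]
  | some a =>
    rw [optHom_apply_some]
    cases hga : g (some a) with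
    | none =>
      exfalso
      have := g.injective (hga.trans hg.symm)
      exact Option.some_ne_none a this
    | some b =>
      rw [← hga]
      exact Equiv.removeNone_some g ⟨b, hga⟩

section Main

variable {𝔛 Γ : Subgroup (Perm (Option (ZMod p)))}

theorem pretransitive_stabInf (h : Over 𝔛 Γ) : IsPretransitive ↥(stabInf 𝔛) (ZMod p) := by
  refine ⟨fun x y => ⟨⟨Equiv.addRight (y - x), addRight_mem h _⟩, ?_⟩⟩
  show (Equiv.addRight (y - x) : Perm (ZMod p)) x = y
  simp

/-- (NSOLV) from (GAL), (NORM), (ODD) -/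
theorem not_solvable_of (hG : GalStmt p) (hN : NormStmt p) (hO : OddStmt p) (h : Over 𝔛 Γ)
    (hp2 : p ≠ 2) : ¬ Group.IsSolvable ↥(stabInf 𝔛) := by
  classical
  intro hsolv
  have hp : p.Prime := Fact.out
  have := pretransitive_stabInf h
  -- the Sylow subgroup generated by the translation
  have hord : orderOf (tauK h) = p := by
    rw [← Subgroup.orderOf_coe]; exact orderOf_addRight_one
  obtain ⟨P, hP⟩ : ∃ P : Sylow p ↥(stabInf 𝔛),
      (P : Subgroup ↥(stabInf 𝔛)) = Subgroup.zpowers (tauK h) := by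
    have hpd : p ∣ Nat.card ↥(stabInf 𝔛) := by
      have := orderOf_dvd_natCard (tauK h)
      rwa [hord] at this
    have hnsq : ¬ p ^ 2 ∣ Nat.card ↥(stabInf 𝔛) := by
      intro hd
      have h1 : Nat.card ↥(stabInf 𝔛) ∣ Nat.card (Perm (ZMod p)) :=
        Subgroup.card_subgroup_dvd_card _
      have h2 : Nat.card (Perm (ZMod p)) = p.factorial := by
        rw [Nat.card_eq_fintype_card, Fintype.card_perm, ZMod.card]
      rw [h2] at h1
      have h3 : p * p ∣ p * (p - 1).factorial := by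
        rw [Nat.mul_factorial_pred hp.pos.ne', ← pow_two]
        exact hd.trans h1
      have h4 : p ∣ (p - 1).factorial := Nat.dvd_of_mul_dvd_mul_left hp.pos h3
      have h5 := (hp.dvd_factorial).1 h4
      have := hp.pos
      omega
    have hfac : (Nat.card ↥(stabInf 𝔛)).factorization p = 1 := by
      have h1 : 1 ≤ (Nat.card ↥(stabInf 𝔛)).factorization p :=
        (hp.dvd_iff_one_le_factorization Nat.card_pos.ne').1 hpd
      have h2 : ¬ 2 ≤ (Nat.card ↥(stabInf 𝔛)).factorization p := fun h' =>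
        hnsq ((hp.pow_dvd_iff_le_factorization Nat.card_pos.ne').2 h')
      omega
    have hcz : Nat.card (Subgroup.zpowers (tauK h)) =
        p ^ (Nat.card ↥(stabInf 𝔛)).factorization p := by
      rw [hfac, pow_one, Nat.card_zpowers, hord]
    exact ⟨Sylow.ofCard (Subgroup.zpowers (tauK h)) hcz, Sylow.coe_ofCard _ _⟩
  have hnormal : (P : Subgroup ↥(stabInf 𝔛)).Normal := hG (stabInf 𝔛) hsolv P
  -- every element of the stabiliser of infinity lies in `Γ`
  have hKle : ∀ σ ∈ stabInf 𝔛, optHom (ZMod p) σ ∈ Γ := by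
    intro σ hσ
    have hmem : (⟨σ, hσ⟩ : ↥(stabInf 𝔛)) ∈ Subgroup.normalizer
        ((Subgroup.zpowers (tauK h) : Subgroup ↥(stabInf 𝔛)) : Set ↥(stabInf 𝔛)) := by
      rw [← hP, Subgroup.normalizer_eq_top]
      exact Subgroup.mem_top _
    obtain ⟨a, b, ha, hab⟩ := exists_aff_of_mem_normalizer hN hO h hp2 _ hmem
    change σ = aff a b at hab
    rw [hab, optHom_aff]
    exact Γ.mul_mem (h.zg.tr_mem' b) (h.zg.ml_sq_mem ha)
  -- hence `𝔛 ≤ Γ`
  apply h.ne
  apply le_antisymm h.le
  intro g hg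
  obtain ⟨γ, hγΓ, hγ⟩ := h.zg.trans (g none) none
  have h1 : γ * g ∈ 𝔛 := 𝔛.mul_mem (h.le hγΓ) hg
  have h2 : (γ * g) none = none := by rw [Perm.mul_apply, hγ]
  obtain ⟨σ, hσ⟩ := exists_optHom_of_none (γ * g) h2
  have h3 : σ ∈ stabInf 𝔛 := by rw [mem_stabInf, hσ]; exact h1
  have h4 : γ * g ∈ Γ := by rw [← hσ]; exact hKle σ h3
  have h5 : g = γ⁻¹ * (γ * g) := by group
  rw [h5]
  exact Γ.mul_mem (Γ.inv_mem hγΓ) h4

end Main

end Cfsg.Agent.Helper22.Psl
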