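import Cfsg.Agent.Helper61.PslDefs

/-!
Helper22, for helper61 (S3616, WANTED #9918), piece (SYL) `exists_sylow_normalizer`, with the pieces (NORM) and (ODD)
as hypotheses `NormStmt`, `OddStmt` (their exact skeleton statements).
-/

set_option autoImplicit false

namespace Cfsg.Agent.Helper22.Psl

open Equiv MulAction Cfsg.Agent.Helper61.Zp Cfsg.Agent.Helper61.Psl

variable {p : ℕ} [Fact p.Prime]

/-- the statement of (NORM) -/
def NormStmt (p : ℕ) [Fact p.Prime] : Prop :=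
  ∀ g : Perm (ZMod p),
    g * (Equiv.addRight (1 : ZMod p)) * g⁻¹ ∈
      Subgroup.zpowers (Equiv.addRight (1 : ZMod p) : Perm (ZMod p)) →
    ∃ a b : ZMod p, ∀ x, g x = a * x + b

/-- the statement of (ODD) -/
def OddStmt (p : ℕ) [Fact p.Prime] : Prop :=
  p ≠ 2 → ∀ H : Subgroup (Perm (ZMod p)),
    (∀ σ ∈ H, Perm.sign σ = 1) → (∀ b : ZMod p, Equiv.addRight b ∈ H) →
    (∀ k : (ZMod p)ˣ, IsSquare k → (Units.mulLeft k : Perm (ZMod p)) ∈ H) →
    ∀ {g : Perm (ZMod p)}, g ∈ H → ∀ {a b : ZMod p}, (∀ x, g x = a * x + b) → IsSquare a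

/-- the affine map `x ↦ a x + b` -/
def aff (a : (ZMod p)ˣ) (b : ZMod p) : Perm (ZMod p) := Equiv.addRight b * Units.mulLeft a

theorem aff_apply (a : (ZMod p)ˣ) (b x : ZMod p) : aff a b x = (a : ZMod p) * x + b := by
  simp [aff, Perm.mul_apply]

theorem optHom_addRight (b : ZMod p) : optHom (ZMod p) (Equiv.addRight b) = tr b := rfl

theorem optHom_mulLeft (a : (ZMod p)ˣ) : optHom (ZMod p) (Units.mulLeft a) = ml a := rfl

theorem optHom_aff (a : (ZMod p)ˣ) (b : ZMod p) : optHom (ZMod p) (aff a b) = tr b * ml a := by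
  rw [aff, map_mul, optHom_addRight, optHom_mulLeft]

theorem optHom_injective : Function.Injective (optHom (ZMod p)) := by
  intro σ τ hστ
  ext x
  have := congrArg (fun f : Perm (Option (ZMod p)) => f (some x)) hστ
  simpa [optHom_apply_some] using this

theorem addRight_pow (b : ZMod p) (n : ℕ) :
    (Equiv.addRight b : Perm (ZMod p)) ^ n = Equiv.addRight ((n : ZMod p) * b) := by
  induction n with
  | zero => ext x; simp
  | succ n ih =>
    rw [pow_succ, ih]
    ext x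
    simp only [Perm.mul_apply, Equiv.coe_addRight]
    push_cast
    ring

theorem orderOf_addRight_one : orderOf (Equiv.addRight (1 : ZMod p) : Perm (ZMod p)) = p := by
  apply orderOf_eq_prime
  · rw [addRight_pow]
    ext x
    simp
  · intro h1
    have := congrArg (fun f : Perm (ZMod p) => f 0) h1
    simp at this

theorem aff_conj (a : (ZMod p)ˣ) (b c : ZMod p) :
    aff a b * Equiv.addRight c * (aff a b)⁻¹ = Equiv.addRight ((a : ZMod p) * c) := by
  ext x
  simp only [Perm.mul_apply, Equiv.coe_addRight]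
  rw [aff_apply]
  have h1 : (a : ZMod p) * ((aff a b)⁻¹ x) + b = x := by
    rw [← aff_apply]; exact Equiv.apply_symm_apply (aff a b) x
  linear_combination h1

theorem aff_conj' (a : (ZMod p)ˣ) (b c : ZMod p) :
    (aff a b)⁻¹ * Equiv.addRight c * aff a b = Equiv.addRight (((a⁻¹ : (ZMod p)ˣ) : ZMod p) * c) := by
  have h1 := aff_conj a b (((a⁻¹ : (ZMod p)ˣ) : ZMod p) * c)
  rw [← mul_assoc, Units.mul_inv, one_mul] at h1
  rw [← h1]
  group

theorem mem_zpowers_addRight (g : Perm (ZMod p)) :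
    g ∈ Subgroup.zpowers (Equiv.addRight (1 : ZMod p) : Perm (ZMod p)) ↔
      ∃ c : ZMod p, g = Equiv.addRight c := by
  constructor
  · intro hg
    have hfin : IsOfFinOrder (Equiv.addRight (1 : ZMod p) : Perm (ZMod p)) := by
      rw [← orderOf_pos_iff, orderOf_addRight_one]; exact (Fact.out : p.Prime).pos
    rw [← hfin.mem_powers_iff_mem_zpowers] at hg
    obtain ⟨n, rfl⟩ := hg
    exact ⟨(n : ZMod p) * 1, addRight_pow 1 n⟩
  · rintro ⟨c, rfl⟩
    refine ⟨(c.val : ℤ), ?_⟩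
    show (Equiv.addRight (1 : ZMod p) : Perm (ZMod p)) ^ ((c.val : ℕ) : ℤ) = Equiv.addRight c
    rw [zpow_natCast, addRight_pow, ZMod.natCast_zmod_val, mul_one]

section Main

variable {𝔛 Γ : Subgroup (Perm (Option (ZMod p)))}

theorem addRight_mem (h : Over 𝔛 Γ) (b : ZMod p) : Equiv.addRight b ∈ stabInf 𝔛 := by
  rw [mem_stabInf, optHom_addRight]
  exact h.le (h.zg.tr_mem' b)

theorem aff_mem (h : Over 𝔛 Γ) {a : (ZMod p)ˣ} (ha : IsSquare a) (b : ZMod p) :
    aff a b ∈ stabInf 𝔛 := by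
  rw [mem_stabInf, optHom_aff]
  exact h.le (Γ.mul_mem (h.zg.tr_mem' b) (h.zg.ml_sq_mem ha))

/-- the translation `x ↦ x + 1` in the stabiliser of infinity -/
def tauK (h : Over 𝔛 Γ) : ↥(stabInf 𝔛) := ⟨Equiv.addRight (1 : ZMod p), addRight_mem h 1⟩

theorem mem_zpowers_tauK (h : Over 𝔛 Γ) (k : ↥(stabInf 𝔛)) :
    k ∈ Subgroup.zpowers (tauK h) ↔ ∃ c : ZMod p, (k : Perm (ZMod p)) = Equiv.addRight c := by
  rw [← mem_zpowers_addRight]
  constructor
  · rintro ⟨j, rfl⟩
    refine ⟨j, ?_⟩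
    rw [Subgroup.coe_zpow]
    rfl
  · rintro ⟨j, hj⟩
    refine ⟨j, ?_⟩
    apply Subtype.ext
    rw [Subgroup.coe_zpow]
    exact hj

/-- an affine map with square multiplier normalises the translations -/
theorem aff_mem_normalizer (h : Over 𝔛 Γ) {a : (ZMod p)ˣ} (ha : IsSquare a) (b : ZMod p) :
    (⟨aff a b, aff_mem h ha b⟩ : ↥(stabInf 𝔛)) ∈
      Subgroup.normalizer ((Subgroup.zpowers (tauK h) : Subgroup ↥(stabInf 𝔛)) : Set ↥(stabInf 𝔛)) := by
  rw [Subgroup.mem_set_normalizer_iff]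
  intro n
  rw [SetLike.mem_coe, SetLike.mem_coe, mem_zpowers_tauK, mem_zpowers_tauK]
  constructor
  · rintro ⟨c, hc⟩
    refine ⟨(a : ZMod p) * c, ?_⟩
    rw [Subgroup.coe_mul, Subgroup.coe_mul, Subgroup.coe_inv, hc]
    exact aff_conj a b c
  · rintro ⟨c, hc⟩
    refine ⟨((a⁻¹ : (ZMod p)ˣ) : ZMod p) * c, ?_⟩
    rw [Subgroup.coe_mul, Subgroup.coe_mul, Subgroup.coe_inv] at hc
    have h1 : (n : Perm (ZMod p)) = (aff a b)⁻¹ * (aff a b * n * (aff a b)⁻¹) * aff a b := by group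
    rw [h1]
    change (aff a b)⁻¹ * (aff a b * (n : Perm (ZMod p)) * (aff a b)⁻¹) * aff a b = _
    rw [hc]
    exact aff_conj' a b c

/-- an element of the normaliser of the translations is affine with square multiplier -/
theorem exists_aff_of_mem_normalizer (hN : NormStmt p) (hO : OddStmt p) (h : Over 𝔛 Γ) (hp2 : p ≠ 2)
    (k : ↥(stabInf 𝔛))
    (hk : k ∈ Subgroup.normalizer
      ((Subgroup.zpowers (tauK h) : Subgroup ↥(stabInf 𝔛)) : Set ↥(stabInf 𝔛))) :
    ∃ (a : (ZMod p)ˣ) (b : ZMod p), IsSquare a ∧ (k : Perm (ZMod p)) = aff a b := by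
  rw [Subgroup.mem_set_normalizer_iff] at hk
  have h1 := (hk (tauK h)).1 (Subgroup.mem_zpowers _)
  rw [SetLike.mem_coe, mem_zpowers_tauK] at h1
  obtain ⟨c, hc⟩ := h1
  rw [Subgroup.coe_mul, Subgroup.coe_mul, Subgroup.coe_inv] at hc
  have h2 : (k : Perm (ZMod p)) * Equiv.addRight (1 : ZMod p) * (k : Perm (ZMod p))⁻¹ ∈
      Subgroup.zpowers (Equiv.addRight (1 : ZMod p) : Perm (ZMod p)) := by
    rw [mem_zpowers_addRight]
    exact ⟨c, hc⟩
  obtain ⟨a, b, hab⟩ := hN _ h2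
  have heven : ∀ σ ∈ stabInf 𝔛, Perm.sign σ = 1 := by
    intro σ hσ
    have := h.even _ (mem_stabInf.1 hσ)
    rwa [show optHom (ZMod p) σ = Equiv.optionCongr σ from rfl, Equiv.optionCongr_sign] at this
  have hml : ∀ u : (ZMod p)ˣ, IsSquare u → (Units.mulLeft u : Perm (ZMod p)) ∈ stabInf 𝔛 := by
    intro u hu
    rw [mem_stabInf, optHom_mulLeft]
    exact h.le (h.zg.ml_sq_mem hu)
  have hsq : IsSquare a := hO hp2 (stabInf 𝔛) heven (addRight_mem h) hml k.2 hab
  have ha0 : a ≠ 0 := by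
    rintro rfl
    have e0 := hab 0
    have e1 := hab 1
    rw [zero_mul, zero_add] at e0 e1
    have := (k : Perm (ZMod p)).injective (e0.trans e1.symm)
    exact zero_ne_one this
  refine ⟨Units.mk0 a ha0, b, ?_, ?_⟩
  · obtain ⟨r, hr⟩ := hsq
    have hr0 : r ≠ 0 := by
      rintro rfl
      rw [mul_zero] at hr
      exact ha0 hr
    refine ⟨Units.mk0 r hr0, ?_⟩
    apply Units.ext
    rw [Units.val_mul, Units.val_mk0, Units.val_mk0]
    exact hr
  · ext x
    rw [aff_apply, Units.val_mk0]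
    exact hab x

/-- the normaliser of the translations is in bijection with `stabB Γ` -/
theorem card_normalizer (hN : NormStmt p) (hO : OddStmt p) (h : Over 𝔛 Γ) (hp2 : p ≠ 2) :
    Nat.card ↥(Subgroup.normalizer
      ((Subgroup.zpowers (tauK h) : Subgroup ↥(stabInf 𝔛)) : Set ↥(stabInf 𝔛))) =
      p * ((p - 1) / 2) := by
  rw [← h.zg.card_stabB]
  have hwd : ∀ n : ↥(Subgroup.normalizer
      ((Subgroup.zpowers (tauK h) : Subgroup ↥(stabInf 𝔛)) : Set ↥(stabInf 𝔛))),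
      optHom (ZMod p) ((n : ↥(stabInf 𝔛)) : Perm (ZMod p)) ∈ stabB Γ := by
    intro n
    obtain ⟨a, b, ha, hab⟩ := exists_aff_of_mem_normalizer hN hO h hp2 n.1 n.2
    rw [hab, optHom_aff, mem_stabB]
    refine ⟨Γ.mul_mem (h.zg.tr_mem' b) (h.zg.ml_sq_mem ha), ?_⟩
    simp [Perm.mul_apply]
  apply Nat.card_eq_of_bijective (fun n => (⟨_, hwd n⟩ : ↥(stabB Γ)))
  constructor
  · intro n m hnm
    have := congrArg Subtype.val hnm
    exact Subtype.ext (Subtype.ext (optHom_injective this))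
  · rintro ⟨g, hg⟩
    have hg' := mem_stabB.1 hg
    obtain ⟨k, c, hk, hgk⟩ := h.zg.stabB_affine_sq hg'.1 hg'.2
    refine ⟨⟨⟨aff k c, aff_mem h hk c⟩, aff_mem_normalizer h hk c⟩, ?_⟩
    apply Subtype.ext
    show optHom (ZMod p) (aff k c) = g
    rw [optHom_aff, hgk]

/-- (SYL) from (NORM) and (ODD) -/
theorem exists_sylow_normalizer_of (hN : NormStmt p) (hO : OddStmt p) (h : Over 𝔛 Γ)
    (hp2 : p ≠ 2) :
    ∃ P : Sylow p ↥(stabInf 𝔛),
      2 * Nat.card ↥(Subgroup.normalizer ((P : Subgroup ↥(stabInf 𝔛)) : Set ↥(stabInf 𝔛))) =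
        p * (p - 1) := by
  classical
  have hp : p.Prime := Fact.out
  have hord : orderOf (tauK h) = p := by
    rw [← Subgroup.orderOf_coe]; exact orderOf_addRight_one
  have hpd : p ∣ Nat.card ↥(stabInf 𝔛) := by
    have := orderOf_dvd_natCard (tauK h)
    rwa [hord] at this
  have hnsq : ¬ p ^ 2 ∣ Nat.card ↥(stabInf 𝔛) := by
    intro hd
    have h1 : Nat.card ↥(stabInf 𝔛) ∣ Nat.card (Perm (ZMod p)) :=
      Subgroup.card_subgroup_dvd_card _
    have h2 : Nat.card (Perm (ZMod p)) = p.factorial := by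
      rw [Nat.card_eq_fintype_card, Fintype.card_perm, ZMod.card]
    rw [h2] at h1
    have h3 : p * p ∣ p * (p - 1).factorial := by
      rw [Nat.mul_factorial_pred hp.pos.ne', ← pow_two]
      exact hd.trans h1
    have h4 : p ∣ (p - 1).factorial := Nat.dvd_of_mul_dvd_mul_left hp.pos h3
    have h5 := (hp.dvd_factorial).1 h4
    have := hp.pos
    omega
  have hfac : (Nat.card ↥(stabInf 𝔛)).factorization p = 1 := by
    have h1 : 1 ≤ (Nat.card ↥(stabInf 𝔛)).factorization p :=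
      (hp.dvd_iff_one_le_factorization Nat.card_pos.ne').1 hpd
    have h2 : ¬ 2 ≤ (Nat.card ↥(stabInf 𝔛)).factorization p := fun h' =>
      hnsq ((hp.pow_dvd_iff_le_factorization Nat.card_pos.ne').2 h')
    omega
  have hcz : Nat.card (Subgroup.zpowers (tauK h)) =
      p ^ (Nat.card ↥(stabInf 𝔛)).factorization p := by
    rw [hfac, pow_one, Nat.card_zpowers, hord]
  refine ⟨Sylow.ofCard (Subgroup.zpowers (tauK h)) hcz, ?_⟩
  rw [Sylow.coe_ofCard, card_normalizer hN hO h hp2]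
  have h2 := h.zg.two_mul_half
  calc 2 * (p * ((p - 1) / 2)) = p * (2 * ((p - 1) / 2)) := by ring
    _ = p * (p - 1) := by rw [h2]

end Main

end Cfsg.Agent.Helper22.Psl
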