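import Mathlib
import Cfsg.Prelude.Def_RootSubgroups
import Cfsg.Prelude.Def_QuasithinSetup
import Cfsg.Agent.Helper83.RInv.Defs

/-!
# S5048 piece (K1) for helper83 (#11344): a root involution commutes with its conjugates under a normal
subgroup missing `D`
-/

set_option autoImplicit false
open Cfsg

namespace Cfsg.Agent.Helper22.RInv48

open Cfsg.Agent.Helper83.RInv

variable {G : Type*} [Group G]

theorem commute_conj_of_disjoint {D : Set G} (hD : Cfsg.IsRootInvolutionSet D)
    (hcl : ∀ a ∈ D, ∀ b ∈ D, ∃ g : G, b = g * a * g⁻¹)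
    (hDD : (D ∩ Cfsg.commutingProducts D).Nonempty)
    {N : Subgroup G} (hN : N.Normal) (hND : ∀ d ∈ D, d ∉ N)
    {a : G} (ha : a ∈ D) {n : G} (hn : n ∈ N) :
    a * (n * a * n⁻¹) = (n * a * n⁻¹) * a := by
  have _hNinst : N.Normal := hN
  have hbD : n * a * n⁻¹ ∈ D := hD.conj_mem a ha n
  generalize hb : n * a * n⁻¹ = b at hbD ⊢
  have haa : a * a = 1 := sq_eq_one_of_mem hD ha
  have hbb : b * b = 1 := sq_eq_one_of_mem hD hbD
  have hπn : (QuotientGroup.mk n : G ⧸ N) = 1 := (QuotientGroup.eq_one_iff n).2 hn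
  have hπb : (QuotientGroup.mk b : G ⧸ N) = QuotientGroup.mk a := by
    rw [← hb, QuotientGroup.mk_mul, QuotientGroup.mk_mul, QuotientGroup.mk_inv, hπn, inv_one,
      mul_one, one_mul]
  have habN : a * b ∈ N := by
    rw [← QuotientGroup.eq_one_iff, QuotientGroup.mk_mul, hπb, ← QuotientGroup.mk_mul, haa]
    rfl
  rcases hD.pair a ha b hbD with h | h | ⟨h4, h4D⟩
  · exact h
  · by_cases hab : a = b
    · rw [← hab]
    exfalso
    obtain ⟨x, hxD, c, hc, d, hd, hcd, hcd1, hx⟩ := hDD
    obtain ⟨g, hg⟩ := hcl c hc a ha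
    have heD : g * d * g⁻¹ ∈ D := hD.conj_mem d hd g
    have hea0 : (g * d * g⁻¹) * a = g * x * g⁻¹ := by
      rw [hg, hx, hcd]
      group
    have hae0 : a * (g * d * g⁻¹) = g * x * g⁻¹ := by
      rw [hg, hx]
      group
    have heaD0 : (g * d * g⁻¹) * a ∈ D := by
      rw [hea0]
      exact hD.conj_mem x hxD g
    generalize he : g * d * g⁻¹ = e at heD hea0 hae0 heaD0
    have hea : e * a = a * e := by rw [hea0, hae0]
    have heaD : e * a ∈ D := heaD0
    have hee : e * e = 1 := sq_eq_one_of_mem hD heD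
    have heaea : (e * a) * (e * a) = 1 := sq_eq_one_of_mem hD heaD
    -- `e` does not commute with `b`
    have hneb : ¬ (e * b = b * e) := by
      intro heb
      have hct : Commute e (a * b) := Commute.mul_right hea heb
      have hk1 : orderOf (a * b) ≠ 1 := by
        intro h1
        rw [orderOf_eq_one_iff] at h1
        apply hab
        have h2 : a * b = a * a := by rw [h1, haa]
        exact (mul_left_cancel h2).symm
      have hcop : Nat.Coprime (orderOf e) (orderOf (a * b)) := by
        rw [hD.orderOf_eq e heD]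
        exact Nat.coprime_two_left.2 h
      have hord : orderOf (e * (a * b)) = 2 * orderOf (a * b) := by
        have h5 := hct.orderOf_mul_eq_mul_orderOf_of_coprime hcop
        rw [hD.orderOf_eq e heD] at h5
        exact h5
      have hassoc : e * a * b = e * (a * b) := mul_assoc _ _ _
      obtain ⟨j, hj⟩ := h
      rcases hD.pair (e * a) heaD b hbD with h3 | h3 | ⟨h3, -⟩
      · have h6 : (e * (a * b)) ^ 2 = 1 := by
          rw [pow_two, ← hassoc]
          calc e * a * b * (e * a * b) = e * a * b * (b * (e * a)) := by rw [h3]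
            _ = e * a * (b * b) * (e * a) := by group
            _ = 1 := by rw [hbb, mul_one, heaea]
        have h7 := orderOf_dvd_of_pow_eq_one h6
        rw [hord] at h7
        have h8 : orderOf (a * b) ∣ 1 := Nat.dvd_of_mul_dvd_mul_left (by norm_num : 0 < 2)
          (by simpa using h7)
        exact hk1 (Nat.dvd_one.1 h8)
      · rw [hassoc, hord] at h3
        obtain ⟨i, hi⟩ := h3
        omega
      · rw [hassoc, hord] at h3
        omega
    -- `(e b)^2 ∈ N`
    have hebN : (e * b) ^ 2 ∈ N := by
      rw [← QuotientGroup.eq_one_iff, QuotientGroup.mk_pow, QuotientGroup.mk_mul, hπb,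
        ← QuotientGroup.mk_mul, ← QuotientGroup.mk_pow, pow_two, heaea]
      rfl
    rcases hD.pair e heD b hbD with h3 | h3 | ⟨h3, h3D⟩
    · exact hneb h3
    · obtain ⟨j, hj⟩ := h3
      have h6 : e * b = ((e * b) ^ 2) ^ (j + 1) := by
        rw [← pow_mul]
        have h7 : 2 * (j + 1) = orderOf (e * b) + 1 := by omega
        rw [h7, pow_succ, pow_orderOf_eq_one, one_mul]
      have h8 : e * b ∈ N := by
        rw [h6]
        exact N.pow_mem hebN _
      have h9 : e * a ∈ N := by
        rw [← QuotientGroup.eq_one_iff, QuotientGroup.mk_mul, ← hπb, ← QuotientGroup.mk_mul,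
          QuotientGroup.eq_one_iff]
        exact h8
      exact hND _ heaD h9
    · exact hND _ h3D hebN
  · exfalso
    exact hND _ h4D (N.pow_mem habN 2)

end Cfsg.Agent.Helper22.RInv48
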