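import Mathlib
import Cfsg.Prelude.Def_RootSubgroups
import Cfsg.Prelude.Def_QuasithinSetup
import Cfsg.Agent.Helper83.RInv.Defs
import Cfsg.Agent.Helper47.Basic

/-!
# S5048 piece (K2) for helper83 (#11344): a normal subgroup whose elements conjugate every root
involution to a commuting one lies in `O_{2,Z}(G)`
-/

set_option autoImplicit false
open Cfsg

namespace Cfsg.Agent.Helper22.RInv48

open Cfsg.Agent.Helper83.RInv

variable {G : Type*} [Group G]

theorem le_twoZCore_of_commute [Finite G] {D : Set G} (hD : Cfsg.IsRootInvolutionSet D)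
    {N : Subgroup G} (hN : N.Normal)
    (hcomm : ∀ a ∈ D, ∀ n ∈ N, a * (n * a * n⁻¹) = (n * a * n⁻¹) * a) :
    N ≤ Cfsg.twoZCore G := by
  have _hNinst : N.Normal := hN
  -- the `N`-conjugates of `a`
  let T : G → Set G := fun a => {y | ∃ n ∈ N, y = n * a * n⁻¹}
  have hTcomm : ∀ a ∈ D, ∀ x ∈ T a, ∀ y ∈ T a, x * y = y * x := by
    intro a ha x hx y hy
    obtain ⟨n, hn, rfl⟩ := hx
    obtain ⟨m, hm, rfl⟩ := hy
    have hk : n⁻¹ * m ∈ N := N.mul_mem (N.inv_mem hn) hm
    have h := hcomm a ha _ hk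
    calc n * a * n⁻¹ * (m * a * m⁻¹)
        = n * (a * ((n⁻¹ * m) * a * (n⁻¹ * m)⁻¹)) * n⁻¹ := by group
      _ = n * (((n⁻¹ * m) * a * (n⁻¹ * m)⁻¹) * a) * n⁻¹ := by rw [h]
      _ = m * a * m⁻¹ * (n * a * n⁻¹) := by group
  have hTinv : ∀ a ∈ D, ∀ x ∈ T a, x * x = 1 := by
    intro a ha x hx
    obtain ⟨n, hn, rfl⟩ := hx
    exact sq_eq_one_of_mem hD (hD.conj_mem a ha n)
  have hEsq : ∀ a ∈ D, ∀ x ∈ Subgroup.closure (T a), x * x = 1 := by
    intro a ha x hx
    have := Subgroup.isMulCommutative_closure (hTcomm a ha)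
    induction hx using Subgroup.closure_induction with
    | mem x hx => exact hTinv a ha x hx
    | one => simp
    | mul x y hx hy ihx ihy =>
      have hc : x * y = y * x := by
        have := mul_comm' (⟨x, hx⟩ : Subgroup.closure (T a)) ⟨y, hy⟩
        exact congrArg Subtype.val this
      calc x * y * (x * y) = x * (y * x) * y := by group
        _ = x * (x * y) * y := by rw [hc]
        _ = (x * x) * (y * y) := by group
        _ = 1 := by rw [ihx, ihy, one_mul]
    | inv x hx ih =>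
      rw [← mul_inv_rev, ih, inv_one]
  have hEp : ∀ a ∈ D, IsPGroup 2 (Subgroup.closure (T a)) := by
    intro a ha g
    refine ⟨1, ?_⟩
    apply Subtype.ext
    have := hEsq a ha g.1 g.2
    simpa [pow_two] using this
  -- `closure (T a)` is normalized by `N`
  have hEconj : ∀ a ∈ D, ∀ m ∈ N, ∀ x ∈ Subgroup.closure (T a),
      m * x * m⁻¹ ∈ Subgroup.closure (T a) := by
    intro a ha m hm x hx
    induction hx using Subgroup.closure_induction with
    | mem x hx =>
      obtain ⟨n, hn, rfl⟩ := hx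
      apply Subgroup.subset_closure
      exact ⟨m * n, N.mul_mem hm hn, by group⟩
    | one => simp
    | mul x y hx hy ihx ihy =>
      have : m * (x * y) * m⁻¹ = (m * x * m⁻¹) * (m * y * m⁻¹) := by group
      rw [this]
      exact Subgroup.mul_mem _ ihx ihy
    | inv x hx ih =>
      have : m * x⁻¹ * m⁻¹ = (m * x * m⁻¹)⁻¹ := by group
      rw [this]
      exact Subgroup.inv_mem _ ih
  -- the pieces `F a`
  have hFle : ∀ a ∈ D, (Subgroup.closure (T a) ⊓ N).subgroupOf N ≤ Cfsg.pCore 2 ↥N := by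
    intro a ha
    have hnorm : ((Subgroup.closure (T a) ⊓ N).subgroupOf N).Normal := by
      refine ⟨fun x hx g => ?_⟩
      rw [Subgroup.mem_subgroupOf] at hx ⊢
      refine ⟨?_, ?_⟩
      · have := hEconj a ha g.1 g.2 x.1 hx.1
        simpa using this
      · exact (g * x * g⁻¹).2
    have hp : IsPGroup 2 ((Subgroup.closure (T a) ⊓ N).subgroupOf N) :=
      (IsPGroup.to_le (hEp a ha) inf_le_left).comap_subtype
    exact Cfsg.Agent.Helper47.le_pCore hnorm hp
  -- the commutator set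
  let S : Set G := {x | ∃ n ∈ N, ∃ a ∈ D, x = n * a * n⁻¹ * a⁻¹}
  have hSO : S ⊆ ((Cfsg.pCore 2 ↥N).map N.subtype : Subgroup G) := by
    rintro x ⟨n, hn, a, ha, rfl⟩
    have hxN : n * a * n⁻¹ * a⁻¹ ∈ N := by
      have h1 : a * n⁻¹ * a⁻¹ ∈ N := hN.conj_mem _ (N.inv_mem hn) a
      have : n * a * n⁻¹ * a⁻¹ = n * (a * n⁻¹ * a⁻¹) := by group
      rw [this]
      exact N.mul_mem hn h1
    have hxE : n * a * n⁻¹ * a⁻¹ ∈ Subgroup.closure (T a) := by
      have h1 : n * a * n⁻¹ ∈ Subgroup.closure (T a) :=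
        Subgroup.subset_closure ⟨n, hn, rfl⟩
      have h2 : a ∈ Subgroup.closure (T a) :=
        Subgroup.subset_closure ⟨1, N.one_mem, by group⟩
      exact Subgroup.mul_mem _ h1 (Subgroup.inv_mem _ h2)
    have hmem : (⟨n * a * n⁻¹ * a⁻¹, hxN⟩ : ↥N) ∈ Cfsg.pCore 2 ↥N := by
      apply hFle a ha
      rw [Subgroup.mem_subgroupOf]
      exact ⟨hxE, hxN⟩
    exact ⟨⟨_, hxN⟩, hmem, rfl⟩
  have hSconj : ∀ x ∈ S, ∀ g : G, g * x * g⁻¹ ∈ S := by
    rintro x ⟨n, hn, a, ha, rfl⟩ g
    refine ⟨g * n * g⁻¹, hN.conj_mem n hn g, g * a * g⁻¹, hD.conj_mem a ha g, ?_⟩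
    group
  have hRnormal : (Subgroup.closure S).Normal := by
    refine ⟨fun x hx g => ?_⟩
    induction hx using Subgroup.closure_induction with
    | mem x hx => exact Subgroup.subset_closure (hSconj x hx g)
    | one => simp
    | mul x y hx hy ihx ihy =>
      have : g * (x * y) * g⁻¹ = (g * x * g⁻¹) * (g * y * g⁻¹) := by group
      rw [this]
      exact Subgroup.mul_mem _ ihx ihy
    | inv x hx ih =>
      have : g * x⁻¹ * g⁻¹ = (g * x * g⁻¹)⁻¹ := by group
      rw [this]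
      exact Subgroup.inv_mem _ ih
  have hRp : IsPGroup 2 (Subgroup.closure S) :=
    IsPGroup.to_le ((Cfsg.Agent.Helper47.isPGroup_pCore 2 ↥N).map N.subtype)
      ((Subgroup.closure_le _).2 hSO)
  have hRle : Subgroup.closure S ≤ Cfsg.pCore 2 G := Cfsg.Agent.Helper47.le_pCore hRnormal hRp
  -- centrality
  intro n hn
  rw [Cfsg.twoZCore, Subgroup.mem_comap, Subgroup.mem_center_iff]
  intro y
  obtain ⟨g, rfl⟩ := QuotientGroup.mk'_surjective (Cfsg.pCore 2 G) y
  have hg : g ∈ Subgroup.closure D := by rw [hD.generates]; trivial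
  induction hg using Subgroup.closure_induction with
  | mem a ha =>
    rw [← map_mul, ← map_mul]
    rw [QuotientGroup.mk'_apply, QuotientGroup.mk'_apply, QuotientGroup.eq]
    apply hRle
    apply Subgroup.subset_closure
    refine ⟨n⁻¹, N.inv_mem hn, a, ha, ?_⟩
    have ha' : a⁻¹ = a := inv_eq_of_mem hD ha
    calc (a * n)⁻¹ * (n * a) = n⁻¹ * a⁻¹ * n * a := by group
      _ = n⁻¹ * a * n * a⁻¹ := by rw [ha']
      _ = n⁻¹ * a * n⁻¹⁻¹ * a⁻¹ := by group
  | one => simp
  | mul x y hx hy ihx ihy =>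
    rw [map_mul, mul_assoc, ihy, ← mul_assoc, ihx, mul_assoc]
  | inv x hx ih =>
    rw [map_inv]
    exact (Commute.inv_left (show Commute _ _ from ih)).eq

end Cfsg.Agent.Helper22.RInv48
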