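import Mathlib
import Cfsg.Agent.Helper46.RSp.Defs
import Cfsg.Agent.Helper66.RSpSTEP
import Cfsg.Agent.Helper67.RSpUWA1
import Cfsg.Agent.Helper67.RSpUWA2

set_option autoImplicit false
set_option linter.unusedSectionVars false
set_option linter.unusedVariables false

/-!
# S2281 (n ≥ 3) piece (CHAINK) for helper46 (#10462): iterating the chain step
-/

namespace Cfsg.Agent.Helper22.RSp

open Matrix Cfsg.Agent.Helper13 Cfsg.Agent.Helper46.RSp

variable {K : Type*} [Field K] {j : ℕ}

local notation "Vec" => (Fin (j + 3) ⊕ Fin (j + 3) → K)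
local notation "Mat" => Matrix (Fin (j + 3) ⊕ Fin (j + 3)) (Fin (j + 3) ⊕ Fin (j + 3)) K
local notation "Mk" => Matrix (Fin (j + 3)) (Fin (j + 3)) K
local notation "SpG" => Matrix.symplecticGroup (Fin (j + 3)) K
local notation "B" => Cfsg.sympForm (j + 3) K

/-- auxiliary: vectors of `V'` are orthogonal to `e_1` and `f_1` -/
theorem form_w_of_inV'_h22 {w : Vec} (hw : w = bE i1 ∨ w = bF i1) {y : Vec} (hy : InV' y) :
    B y w = 0 := by
  rcases hw with rfl | rfl
  · rw [form_bE_right]
    exact hy.2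
  · rw [form_bF_right, hy.1, neg_zero]

/-- auxiliary: `V'` is stable under `N` (from `UWM_mem`, `UWM_bE1`, `UWM_bF1` of helper67) -/
theorem NU_inV'_h22 (c : K) (x : Vec) (hx : InV' x) : InV' (NU c x) := by
  have hpres := (mem_symplecticGroup_iff_preserves (UWM c : Mat)).mp (Cfsg.Agent.Helper67.RSp.UWM_mem c)
  have h1 : (UWM c *ᵥ x) (Sum.inr i1) = x (Sum.inr i1) := by
    have h := hpres x (bE i1)
    rw [Cfsg.Agent.Helper67.RSp.UWM_bE1, form_bE_right, form_bE_right] at h
    exact h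
  have h2 : (UWM c *ᵥ x) (Sum.inl i1) = x (Sum.inl i1) := by
    have h := hpres x (bF i1)
    rw [Cfsg.Agent.Helper67.RSp.UWM_bF1, form_bF_right, form_bF_right] at h
    exact neg_injective h
  constructor
  · show (UWM c *ᵥ x - x) (Sum.inl i1) = 0
    rw [Pi.sub_apply, h2, sub_self]
  · show (UWM c *ᵥ x - x) (Sum.inr i1) = 0
    rw [Pi.sub_apply, h1, sub_self]

/-- auxiliary: `V'` is stable under the iterates of `N` -/
theorem NU_iter_inV'_h22 (c : K) (k : ℕ) {y : Vec} (hy : InV' y) : InV' ((NU c)^[k] y) := by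
  induction k with
  | zero => exact hy
  | succ k ih =>
    rw [Function.iterate_succ_apply']
    exact NU_inV'_h22 c _ ih

theorem hasM_chain_iter (c : K) {H : Subgroup SpG} (hUW : HasM H (UWM c)) {w : Vec} (hw : w = bE i1 ∨ w = bF i1)
    (k : ℕ) {y : Vec} (hy : InV' y) {z : K} (hE : HasM H (eichS w y z)) :
    ∃ z', HasM H (eichS w ((NU c)^[k] y) z') := by
  induction k with
  | zero => exact ⟨z, hE⟩
  | succ k ih =>
    obtain ⟨z', hz'⟩ := ih
    have hMw : UWM c *ᵥ w = w := by
      rcases hw with rfl | rfl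
      · exact Cfsg.Agent.Helper67.RSp.UWM_bE1 c
      · exact Cfsg.Agent.Helper67.RSp.UWM_bF1 c
    have hyw : B ((NU c)^[k] y) w = 0 := form_w_of_inV'_h22 hw (NU_iter_inV'_h22 c k hy)
    have hstep := Cfsg.Agent.Helper66.RSp.hasM_step hUW hMw hyw hz'
    rw [Function.iterate_succ_apply']
    exact ⟨_, hstep⟩

end Cfsg.Agent.Helper22.RSp
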