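import Mathlib

/-!
# Piece (ARA) of board #5498 (helper9, S1158): arithmetic for the small Ree tori
-/

set_option autoImplicit false

namespace Cfsg.Agent.Helper22.ReeARA

theorem ree_arith_seventh (Gd n N a : ℕ) (ha : 7 ≤ a) (hN : N ∣ 6 * a) (hN0 : 0 < N)
    (hn : n * N = Gd * (a - 1)) : Gd ≤ 7 * n := by
  obtain ⟨a1, rfl⟩ : ∃ a1, a = a1 + 1 := ⟨a - 1, by omega⟩
  have hNle : N ≤ 6 * (a1 + 1) := Nat.le_of_dvd (by omega) hN
  have h1 : Gd * a1 = n * N := by rw [hn]; simp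
  have h2 : n * N ≤ n * (6 * (a1 + 1)) := Nat.mul_le_mul_left _ hNle
  have h3 : 6 * (a1 + 1) ≤ 7 * a1 := by omega
  have h4 : n * (6 * (a1 + 1)) ≤ n * (7 * a1) := Nat.mul_le_mul_left _ h3
  have h5 : Gd * a1 ≤ 7 * n * a1 := by
    calc Gd * a1 = n * N := h1
      _ ≤ n * (7 * a1) := h2.trans h4
      _ = 7 * n * a1 := by ring
  exact Nat.le_of_mul_le_mul_right h5 (by omega)

theorem q_forms (t : ℕ) : (t + 2) ^ 2 - (t + 2) + 1 = t * t + 3 * t + 3 ∧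
    (t + 2) * (t + 2 - 2) = t * t + 2 * t := by
  constructor
  · have : (t + 2) ^ 2 = (t * t + 3 * t + 2) + (t + 2) := by ring
    rw [this, Nat.add_sub_cancel]
  · rw [Nat.add_sub_cancel]; ring

theorem ree_arith_one (q Gd n N a : ℕ) (hq : 27 ≤ q) (hq3 : 3 ∣ q) (hGd : 0 < Gd) (ha : 7 ≤ a)
    (haP : a ∣ q ^ 2 - q + 1) (haN : a ∣ N) (hN : N ∣ 6 * a) (hn : n * N = Gd * (a - 1))
    (hNb : 3 * (q ^ 2 - q + 1) * n = Gd * (q * (q - 2))) : False := by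
  obtain ⟨t, rfl⟩ : ∃ t, q = t + 2 := ⟨q - 2, by omega⟩
  obtain ⟨a1, rfl⟩ : ∃ a1, a = a1 + 1 := ⟨a - 1, by omega⟩
  rw [(q_forms t).1] at haP hNb
  rw [(q_forms t).2] at hNb
  obtain ⟨b, hb⟩ := haP
  obtain ⟨e, he⟩ := haN
  have he6 : e ∣ 6 := by
    rw [he, mul_comm 6 (a1 + 1)] at hN
    exact Nat.dvd_of_mul_dvd_mul_left (by omega) hN
  have hn' : n * ((a1 + 1) * e) = Gd * a1 := by rw [← he, hn]; simp
  -- cancel `Gd`
  have hmain : 3 * (t * t + 3 * t + 3) * a1 = (t * t + 2 * t) * ((a1 + 1) * e) := by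
    apply Nat.eq_of_mul_eq_mul_left hGd
    calc Gd * (3 * (t * t + 3 * t + 3) * a1)
        = 3 * (t * t + 3 * t + 3) * (Gd * a1) := by ring
      _ = 3 * (t * t + 3 * t + 3) * (n * ((a1 + 1) * e)) := by rw [hn']
      _ = (3 * (t * t + 3 * t + 3) * n) * ((a1 + 1) * e) := by ring
      _ = Gd * (t * t + 2 * t) * ((a1 + 1) * e) := by rw [hNb]
      _ = Gd * ((t * t + 2 * t) * ((a1 + 1) * e)) := by ring
  -- cancel `a`
  have hmain2 : 3 * b * a1 = (t * t + 2 * t) * e := by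
    apply Nat.eq_of_mul_eq_mul_left (show 0 < a1 + 1 by omega)
    calc (a1 + 1) * (3 * b * a1) = 3 * ((a1 + 1) * b) * a1 := by ring
      _ = 3 * (t * t + 3 * t + 3) * a1 := by rw [hb]
      _ = (t * t + 2 * t) * ((a1 + 1) * e) := hmain
      _ = (a1 + 1) * ((t * t + 2 * t) * e) := by ring
  have hb' : t * t + 3 * t + 3 = a1 * b + b := by rw [hb]; ring
  have hX : 6 * b ≤ a1 * b := Nat.mul_le_mul_right _ (by omega)
  have hT : 25 * t ≤ t * t := Nat.mul_le_mul_right _ (by omega)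
  have hb0 : 0 < b := by
    rcases Nat.eq_zero_or_pos b with h | h
    · rw [h] at hb'; omega
    · exact h
  have hm3 : 3 * (a1 * b) = (t * t + 2 * t) * e := by rw [← hmain2]; ring
  have hele : e ≤ 6 := Nat.le_of_dvd (by norm_num) he6
  interval_cases e
  · omega
  · omega
  · omega
  · -- e = 3
    have hbt : b = t + 3 := by omega
    subst hbt
    have h3 : a1 * (t + 3) = t * t + 2 * t := by omega
    rcases Nat.lt_or_ge a1 t with h | h
    · have : (a1 + 1) * (t + 3) ≤ t * (t + 3) := Nat.mul_le_mul_right _ h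
      nlinarith
    · have : t * (t + 3) ≤ a1 * (t + 3) := Nat.mul_le_mul_right _ h
      nlinarith
  · exact absurd he6 (by decide)
  · exact absurd he6 (by decide)
  · omega

theorem ree_arith_three (q Gd n₁ n₂ n₃ Nb : ℕ) (hq : 27 ≤ q) (hGd : 0 < Gd) (h1 : Gd ≤ 7 * n₁)
    (h2 : Gd ≤ 7 * n₂) (h3 : Gd ≤ 7 * n₃) (hle : n₁ + n₂ + n₃ ≤ Nb)
    (hNb : 3 * (q ^ 2 - q + 1) * Nb = Gd * (q * (q - 2))) : False := by
  obtain ⟨t, rfl⟩ : ∃ t, q = t + 2 := ⟨q - 2, by omega⟩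
  rw [(q_forms t).1, (q_forms t).2] at hNb
  have h : 3 * Gd ≤ 7 * Nb := by omega
  have h4 : 3 * Gd * (3 * (t * t + 3 * t + 3)) ≤ 7 * Nb * (3 * (t * t + 3 * t + 3)) :=
    Nat.mul_le_mul_right _ h
  have h5 : 7 * Nb * (3 * (t * t + 3 * t + 3)) = Gd * (7 * (t * t + 2 * t)) := by
    calc 7 * Nb * (3 * (t * t + 3 * t + 3)) = 7 * (3 * (t * t + 3 * t + 3) * Nb) := by ring
      _ = 7 * (Gd * (t * t + 2 * t)) := by rw [hNb]
      _ = Gd * (7 * (t * t + 2 * t)) := by ring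
  have h6 : Gd * (9 * (t * t + 3 * t + 3)) ≤ Gd * (7 * (t * t + 2 * t)) := by
    rw [← h5]
    calc Gd * (9 * (t * t + 3 * t + 3)) = 3 * Gd * (3 * (t * t + 3 * t + 3)) := by ring
      _ ≤ _ := h4
  have h7 := Nat.le_of_mul_le_mul_left h6 hGd
  omega

end Cfsg.Agent.Helper22.ReeARA
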