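import Mathlib

/-!
# Piece (DC2) of board #5498 (helper9, S1158): `G = B ∪ BnB` gives a 2-transitive action on `G ⧸ B`
-/

set_option autoImplicit false

namespace Cfsg.Agent.Helper22.ReeDC2

theorem exists_rep_pair {G : Type*} [Group G] (B : Subgroup G) (n : G)
    (h : ∀ g : G, g ∉ B → ∃ b ∈ B, ∃ b' ∈ B, g = b * n * b') (x y : G ⧸ B) (hxy : x ≠ y) :
    ∃ u : G, x = (u : G ⧸ B) ∧ y = ((u * n : G) : G ⧸ B) := by
  obtain ⟨a, rfl⟩ := QuotientGroup.mk_surjective x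
  obtain ⟨c, rfl⟩ := QuotientGroup.mk_surjective y
  have hac : a⁻¹ * c ∉ B := fun hmem => hxy (QuotientGroup.eq.mpr hmem)
  obtain ⟨b, hb, b', hb', hbb⟩ := h _ hac
  refine ⟨a * b, ?_, ?_⟩
  · rw [QuotientGroup.eq]
    have : a⁻¹ * (a * b) = b := by group
    rw [this]; exact hb
  · rw [eq_comm, QuotientGroup.eq]
    have : (a * b * n)⁻¹ * c = n⁻¹ * b⁻¹ * (a⁻¹ * c) := by group
    rw [this, hbb]
    have : n⁻¹ * b⁻¹ * (b * n * b') = b' := by group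
    rw [this]; exact hb'

theorem two_transitive_of_double_coset {G : Type*} [Group G] (B : Subgroup G) (n : G)
    (h : ∀ g : G, g ∉ B → ∃ b ∈ B, ∃ b' ∈ B, g = b * n * b') :
    ∀ x y x' y' : G ⧸ B, x ≠ y → x' ≠ y' → ∃ g : G, g • x = x' ∧ g • y = y' := by
  intro x y x' y' hxy hxy'
  obtain ⟨u, rfl, rfl⟩ := exists_rep_pair B n h x y hxy
  obtain ⟨u', rfl, rfl⟩ := exists_rep_pair B n h x' y' hxy'
  refine ⟨u' * u⁻¹, ?_, ?_⟩
  · show ((u' * u⁻¹ * u : G) : G ⧸ B) = _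
    congr 1
    group
  · show ((u' * u⁻¹ * (u * n) : G) : G ⧸ B) = _
    congr 1
    group

end Cfsg.Agent.Helper22.ReeDC2
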