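-- helper22: piece (W6a) of #8107 for helper6 (S2347): parity and the Heisenberg operators.
import Cfsg.Agent.Helper6.SPweil1

set_option autoImplicit false

namespace Cfsg.Agent.Helper22.SPweil

open Matrix Module Cfsg.Agent.Helper6.SPweil

variable {F : Type*} [Field F] {n : ℕ}

/-- (W6a) -/
theorem par_heis (ψ : AddChar F ℂ) (v : Fin n ⊕ Fin n → F) (f : (Fin n → F) → ℂ) :
    par (heis ψ v f) = heis ψ (-v) (par f) := by
  funext z
  rw [par_apply, heis_apply, heis_apply, par_apply, vx_neg, vy_neg]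
  have e1 : vx v ⬝ᵥ (-z) + 2⁻¹ * (vx v ⬝ᵥ vy v) = -vx v ⬝ᵥ z + 2⁻¹ * (-vx v ⬝ᵥ -vy v) := by
    rw [dotProduct_neg, neg_dotProduct, neg_dotProduct, dotProduct_neg, neg_neg]
  have e2 : -z + vy v = -(z + -vy v) := by
    rw [neg_add, neg_neg]
  rw [e1, e2]

/-- the parity operator is an involution -/
theorem par_par (f : (Fin n → F) → ℂ) : par (par f) = f := by
  funext z
  rw [par_apply, par_apply, neg_neg]

/-- the parity operator as a linear equivalence -/
def parE (F : Type*) [Field F] (n : ℕ) : ((Fin n → F) → ℂ) ≃ₗ[ℂ] ((Fin n → F) → ℂ) :=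
  LinearEquiv.ofInvolutive par par_par

theorem parE_apply (f : (Fin n → F) → ℂ) : parE F n f = par f := rfl

end Cfsg.Agent.Helper22.SPweil
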