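-- helper22: piece (W6b)+(W6d) of #8107 for helper6 (S2347): intertwiners commute with parity.
-- Versions with the facts (W5') and (W6c) as hypotheses; the final statements are in SPW6bFinal.
import Cfsg.Agent.Helper6.SPweil1
import Cfsg.Agent.Helper22.SPW6a

set_option autoImplicit false

namespace Cfsg.Agent.Helper22.SPweil

open Matrix Module Cfsg.Agent.Helper6.SPweil

variable {F : Type*} [Field F] {n : ℕ}

/-- conjugating an intertwiner by the parity operator gives an intertwiner -/
theorem intertwines_par_conj (ψ : AddChar F ℂ) (g : Matrix.symplecticGroup (Fin n) F)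
    (T : ((Fin n → F) → ℂ) ≃ₗ[ℂ] ((Fin n → F) → ℂ)) (hT : Intertwines ψ g T) :
    Intertwines ψ g ((parE F n).trans (T.trans (parE F n))) := by
  intro v f
  show par (T (par (heis ψ v f))) = heis ψ _ (par (T (par f)))
  rw [par_heis, hT, par_heis]
  congr 2
  rw [Matrix.mulVec_neg, neg_neg]

/-- (W6b), from (W5') and (W6c) as hypotheses -/
theorem intertwiner_par_of [Fintype F] (ψ : AddChar F ℂ)
    (g : Matrix.symplecticGroup (Fin n) F)
    (T : ((Fin n → F) → ℂ) ≃ₗ[ℂ] ((Fin n → F) → ℂ)) (hT : Intertwines ψ g T)
    (huniq : ∀ T' : ((Fin n → F) → ℂ) ≃ₗ[ℂ] ((Fin n → F) → ℂ), Intertwines ψ g T' →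
      ∃ c : ℂ, c ≠ 0 ∧ ∀ f, T' f = c • T f)
    (hrank : finrank ℂ (oddPart F n) < finrank ℂ (evenPart F n))
    (f : (Fin n → F) → ℂ) : T (par f) = par (T f) := by
  obtain ⟨c, hc0, hc⟩ := huniq _ (intertwines_par_conj ψ g T hT)
  have hc' : ∀ f, par (T (par f)) = c • T f := hc
  -- `c ^ 2 = 1`
  have hcc : ∀ f, T f = (c * c) • T f := by
    intro f
    have h1 := hc' (par f)
    rw [par_par] at h1
    have h2 := congrArg par h1
    rw [par_par, map_smul, hc' f, smul_smul] at h2
    exact h2
  -- the constant function 1 is even and nonzero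
  have hone_even : (fun _ => 1 : (Fin n → F) → ℂ) ∈ evenPart F n := fun _ => rfl
  have hone_ne : (fun _ => 1 : (Fin n → F) → ℂ) ≠ 0 := by
    intro h
    have := congrFun h 0
    simp at this
  have hc2 : c * c = 1 := by
    have h1 := hcc (fun _ => 1)
    have h2 : T (fun _ => 1) ≠ 0 := by
      intro h
      exact hone_ne (T.injective (by rw [h, map_zero]))
    have h3 : ((c * c) - 1) • T (fun _ => 1) = 0 := by
      rw [sub_smul, one_smul, ← h1, sub_self]
    rcases smul_eq_zero.mp h3 with h | h
    · exact sub_eq_zero.mp h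
    · exact absurd h h2
  have hcpm : c = 1 ∨ c = -1 := mul_self_eq_one_iff.mp hc2
  rcases hcpm with rfl | rfl
  · -- `c = 1`
    have h1 := hc' f
    rw [one_smul] at h1
    have h2 := congrArg par h1
    rw [par_par] at h2
    exact h2
  · -- `c = -1`: `T` maps the even functions into the odd ones
    exfalso
    have hmap : ∀ f ∈ evenPart F n, T f ∈ oddPart F n := by
      intro f hf z
      have hpf : par f = f := by
        funext z
        exact hf z
      have h1 := hc' f
      rw [hpf] at h1
      have h2 := congrFun h1 z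
      rw [par_apply] at h2
      rw [h2]
      simp
    have hle : finrank ℂ (evenPart F n) ≤ finrank ℂ (oddPart F n) := by
      let φ : evenPart F n →ₗ[ℂ] oddPart F n :=
        { toFun := fun f => ⟨T f.1, hmap f.1 f.2⟩
          map_add' := by
            intro a b
            apply Subtype.ext
            simp
          map_smul' := by
            intro a b
            apply Subtype.ext
            simp }
      have hφ : Function.Injective φ := by
        intro a b hab
        apply Subtype.ext
        apply T.injective
        exact congrArg Subtype.val hab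
      exact LinearMap.finrank_le_finrank_of_injective hφ
    omega

/-- (W6d) odd part, from (W6b) -/
theorem intertwiner_mem_oddPart_of
    (T : ((Fin n → F) → ℂ) ≃ₗ[ℂ] ((Fin n → F) → ℂ))
    (hpar : ∀ f, T (par f) = par (T f))
    (f : (Fin n → F) → ℂ) (hf : f ∈ oddPart F n) : T f ∈ oddPart F n := by
  intro z
  have hpf : par f = -f := by
    funext z
    exact hf z
  have h1 := hpar f
  rw [hpf, map_neg] at h1
  have h2 := congrFun h1 z
  rw [par_apply] at h2
  rw [← h2]
  rfl

/-- (W6d) even part, from (W6b) -/
theorem intertwiner_mem_evenPart_of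
    (T : ((Fin n → F) → ℂ) ≃ₗ[ℂ] ((Fin n → F) → ℂ))
    (hpar : ∀ f, T (par f) = par (T f))
    (f : (Fin n → F) → ℂ) (hf : f ∈ evenPart F n) : T f ∈ evenPart F n := by
  intro z
  have hpf : par f = f := by
    funext z
    exact hf z
  have h1 := hpar f
  rw [hpf] at h1
  have h2 := congrFun h1 z
  rw [par_apply] at h2
  exact h2.symm

end Cfsg.Agent.Helper22.SPweil
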