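-- helper22: piece (W6b)+(W6d) of #8107 for helper6 (S2347), with (W3b) as the hypothesis `hspan`.
import Cfsg.Agent.Helper6.SPweil1
import Cfsg.Agent.Helper22.SPW6a
import Cfsg.Agent.Helper22.SPW6b
import Cfsg.Agent.Helper74.SPWW5
import Cfsg.Agent.Helper66.SPWW6c

set_option autoImplicit false

namespace Cfsg.Agent.Helper22.SPweil

open Matrix Module Cfsg.Agent.Helper6.SPweil

variable {F : Type*} [Field F] [Fintype F] {n : ℕ}

theorem rank_odd_lt_even (hodd : Odd (Fintype.card F)) :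
    finrank ℂ (oddPart F n) < finrank ℂ (evenPart F n) := by
  rw [Cfsg.Agent.Helper66.SPweil.finrank_oddPart hodd,
    Cfsg.Agent.Helper66.SPweil.finrank_evenPart hodd]
  obtain ⟨k, hk⟩ := hodd.pow (n := n)
  omega

/-- (W6b) with (W3b) as a hypothesis -/
theorem intertwiner_par_of_span (hodd : Odd (Fintype.card F)) (ψ : AddChar F ℂ)
    (hspan : Submodule.span ℂ (Set.range (fun v : Fin n ⊕ Fin n → F => heis ψ v)) = ⊤)
    (g : Matrix.symplecticGroup (Fin n) F)
    (T : ((Fin n → F) → ℂ) ≃ₗ[ℂ] ((Fin n → F) → ℂ)) (hT : Intertwines ψ g T)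
    (f : (Fin n → F) → ℂ) : T (par f) = par (T f) :=
  intertwiner_par_of ψ g T hT
    (fun T' hT' => Cfsg.Agent.Helper74.SPweil.intertwiner_unique_of_span ψ hspan g T T' hT hT')
    (rank_odd_lt_even hodd) f

/-- (W6d) with (W3b) as a hypothesis -/
theorem intertwiner_mem_oddPart_of_span (hodd : Odd (Fintype.card F)) (ψ : AddChar F ℂ)
    (hspan : Submodule.span ℂ (Set.range (fun v : Fin n ⊕ Fin n → F => heis ψ v)) = ⊤)
    (g : Matrix.symplecticGroup (Fin n) F)
    (T : ((Fin n → F) → ℂ) ≃ₗ[ℂ] ((Fin n → F) → ℂ)) (hT : Intertwines ψ g T)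
    (f : (Fin n → F) → ℂ) (hf : f ∈ oddPart F n) : T f ∈ oddPart F n :=
  intertwiner_mem_oddPart_of T (intertwiner_par_of_span hodd ψ hspan g T hT) f hf

theorem intertwiner_mem_evenPart_of_span (hodd : Odd (Fintype.card F)) (ψ : AddChar F ℂ)
    (hspan : Submodule.span ℂ (Set.range (fun v : Fin n ⊕ Fin n → F => heis ψ v)) = ⊤)
    (g : Matrix.symplecticGroup (Fin n) F)
    (T : ((Fin n → F) → ℂ) ≃ₗ[ℂ] ((Fin n → F) → ℂ)) (hT : Intertwines ψ g T)
    (f : (Fin n → F) → ℂ) (hf : f ∈ evenPart F n) : T f ∈ evenPart F n :=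
  intertwiner_mem_evenPart_of T (intertwiner_par_of_span hodd ψ hspan g T hT) f hf

end Cfsg.Agent.Helper22.SPweil
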