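-- helper22: pieces (W6b)+(W6d) of #8107 for helper6 (S2347): EXACT skeleton statements.
import Cfsg.Agent.Helper6.SPweil1
import Cfsg.Agent.Helper22.SPW6bSpan
import Cfsg.Agent.Helper70.SPWW3

set_option autoImplicit false

namespace Cfsg.Agent.Helper22.SPweil

open Matrix Module Cfsg.Agent.Helper6.SPweil

variable {F : Type*} [Field F] [Fintype F] {n : ℕ}

/-- (W6b) an intertwiner commutes with the parity operator -/
theorem intertwiner_par (hodd : Odd (Fintype.card F)) (ψ : AddChar F ℂ) (hψ : ψ ≠ 0)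
    (g : Matrix.symplecticGroup (Fin n) F)
    (T : ((Fin n → F) → ℂ) ≃ₗ[ℂ] ((Fin n → F) → ℂ)) (hT : Intertwines ψ g T)
    (f : (Fin n → F) → ℂ) : T (par f) = par (T f) :=
  intertwiner_par_of_span hodd ψ
    (Cfsg.Agent.Helper70.SPweil.span_heis
      (Cfsg.Agent.Helper66.SPweil.two_ne_zero_of_odd_card' hodd) ψ hψ) g T hT f

/-- (W6d) hence it preserves the odd and the even functions -/
theorem intertwiner_mem_oddPart (hodd : Odd (Fintype.card F)) (ψ : AddChar F ℂ) (hψ : ψ ≠ 0)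
    (g : Matrix.symplecticGroup (Fin n) F)
    (T : ((Fin n → F) → ℂ) ≃ₗ[ℂ] ((Fin n → F) → ℂ)) (hT : Intertwines ψ g T)
    (f : (Fin n → F) → ℂ) (hf : f ∈ oddPart F n) : T f ∈ oddPart F n :=
  intertwiner_mem_oddPart_of T (intertwiner_par hodd ψ hψ g T hT) f hf

theorem intertwiner_mem_evenPart (hodd : Odd (Fintype.card F)) (ψ : AddChar F ℂ) (hψ : ψ ≠ 0)
    (g : Matrix.symplecticGroup (Fin n) F)
    (T : ((Fin n → F) → ℂ) ≃ₗ[ℂ] ((Fin n → F) → ℂ)) (hT : Intertwines ψ g T)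
    (f : (Fin n → F) → ℂ) (hf : f ∈ evenPart F n) : T f ∈ evenPart F n :=
  intertwiner_mem_evenPart_of T (intertwiner_par hodd ψ hψ g T hT) f hf

end Cfsg.Agent.Helper22.SPweil
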