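import Mathlib
import Cfsg.Agent.Helper38.SU2G.Defs

/-!
# S2412 piece (SPAN) for helper38 (#11644): additivity of the Eichler root groups
-/

set_option autoImplicit false
set_option linter.unusedSectionVars false

namespace Cfsg.Agent.Helper22.SU2G

open Matrix Cfsg.Agent.Helper84.PSU Cfsg.Agent.Helper38.SU2G

variable {K : Type*} [Field K] {m r : ℕ}

local notation "Vec" => (I (m + 2) r → K)
local notation "Mat" => Matrix (I (m + 2) r) (I (m + 2) r) K

variable (bar : K →+* K) (hb : ∀ x, bar (bar x) = x)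

set_option quotPrecheck false in
local notation "SUk" => ↥(SUm (m + 2) r bar)

theorem span_inV'_smul_bv {β : I (m + 2) r} (h1 : β ≠ eI i0) (h2 : β ≠ fI i0) (t : K) :
    InV' (t • (bv β : Vec)) := by
  constructor
  · rw [Pi.smul_apply, bv_apply, if_neg (Ne.symm h1), smul_zero]
  · rw [Pi.smul_apply, bv_apply, if_neg (Ne.symm h2), smul_zero]

theorem span_inV'_add {x y : Vec} (hx : InV' x) (hy : InV' y) : InV' (x + y) := by
  constructor
  · rw [Pi.add_apply, hx.1, hy.1, add_zero]
  · rw [Pi.add_apply, hx.2, hy.2, add_zero]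

include hb in
theorem span_piece (L : Subgroup SUk) (u : Vec) (huu : hf bar u u = 0) (hu : ∀ x : Vec, InV' x → hf bar x u = 0)
    (h : ∀ β : I (m + 2) r, β ≠ eI i0 → β ≠ fI i0 → ∀ t : K,
      ∃ c : K, c + bar c + hf bar (t • (bv β : Vec)) (t • bv β) = 0 ∧ HasM bar L (eichM bar u (t • bv β) c)) :
    ∀ x : Vec, InV' x → ∃ z : K, z + bar z + hf bar x x = 0 ∧ HasM bar L (eichM bar u x z) := by
  intro x hx
  classical
  have key : ∀ s : Finset (I (m + 2) r), (∀ β ∈ s, β ≠ eI i0 ∧ β ≠ fI i0) →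
      InV' (∑ β ∈ s, x β • (bv β : Vec)) ∧
      ∃ z : K, z + bar z + hf bar (∑ β ∈ s, x β • (bv β : Vec)) (∑ β ∈ s, x β • (bv β : Vec)) = 0 ∧
        HasM bar L (eichM bar u (∑ β ∈ s, x β • (bv β : Vec)) z) := by
    intro s
    induction s using Finset.induction_on with
    | empty =>
      intro _
      refine ⟨⟨by simp, by simp⟩, 0, ?_, ?_⟩
      · rw [Finset.sum_empty, hf_zero_left, map_zero, add_zero, add_zero]
      · rw [Finset.sum_empty, eichM_zero_zero]
        exact HasM.one bar L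
    | insert β s hβ ih =>
      intro hs
      have hβ' := hs β (Finset.mem_insert_self β s)
      obtain ⟨hV, z, hz, hzM⟩ := ih (fun γ hγ => hs γ (Finset.mem_insert_of_mem hγ))
      obtain ⟨c, hc, hcM⟩ := h β hβ'.1 hβ'.2 (x β)
      have hV1 : InV' (x β • (bv β : Vec)) := span_inV'_smul_bv hβ'.1 hβ'.2 (x β)
      rw [Finset.sum_insert hβ]
      refine ⟨span_inV'_add hV1 hV, c + z - hf bar (∑ γ ∈ s, x γ • (bv γ : Vec)) (x β • (bv β : Vec)), ?_, ?_⟩
      · rw [map_sub, map_add, hf_conj bar hb, hf_add_left, hf_add_right, hf_add_right]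
        linear_combination hc + hz
      · exact HasM.eich_mul bar hb huu (hu _ hV1) (hu _ hV) hcM hzM
  have hsum : x = ∑ β ∈ Finset.univ.filter (fun β : I (m + 2) r => β ≠ eI i0 ∧ β ≠ fI i0),
      x β • (bv β : Vec) := by
    rw [Finset.sum_filter_of_ne]
    · exact eq_sum_bv x
    · intro β _ hne
      constructor
      · rintro rfl
        apply hne
        rw [hx.1, zero_smul]
      · rintro rfl
        apply hne
        rw [hx.2, zero_smul]
  obtain ⟨_, z, hz, hzM⟩ := key _ (fun β hβ => (Finset.mem_filter.mp hβ).2)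
  rw [← hsum] at hz hzM
  exact ⟨z, hz, hzM⟩

end Cfsg.Agent.Helper22.SU2G
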