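import Mathlib
import Cfsg.Agent.Helper84.SU3P.Words
import Cfsg.Agent.Helper53.SU3P_BAS
import Cfsg.Agent.Helper37.SU3P_UZ

/-!
S2289 (helper84, farm #13093), piece (MR7): the embedded `SL₂(K₀)` contains `w`, `h^{n₁}` and `t`.
-/

set_option autoImplicit false
set_option linter.unusedSectionVars false
set_option linter.unusedVariables false

namespace Cfsg.Agent.Helper22.SU3P

open Matrix Polynomial Cfsg.Agent.Helper84.RU3 Cfsg.Agent.Helper96.SLPres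
  Cfsg.Agent.Helper96.StemSLTwo Cfsg.Agent.Helper96.StPres Cfsg.Agent.Helper84.SU3P

variable {K : Type*} [Field K] (bar : K →+* K) (hb : ∀ x, bar (bar x) = x)
include hb

theorem MR7_hM_pow {l : K} (hl : l ≠ 0) (n : ℕ) : (hM bar l) ^ n = hM bar (l ^ n) := by
  obtain ⟨-, -, hmul, hone, -⟩ := Cfsg.Agent.Helper53.SU3P.basic_identities bar hb
  induction n with
  | zero => rw [pow_zero, pow_zero, hone]
  | succ n ih => rw [pow_succ, pow_succ, ih, hmul _ _ (pow_ne_zero n hl) hl]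

/-- the commutator of two upper unitriangular elements -/
theorem MR7_comm (X Y : SUJ bar) {a b a' b' : K} (hX : mt bar X = uM bar a b)
    (hY : mt bar Y = uM bar a' b') :
    mt bar (X * Y * X⁻¹ * Y⁻¹) = uM bar 0 (bar a' * a - bar a * a') := by
  obtain ⟨hmul, -⟩ := Cfsg.Agent.Helper53.SU3P.basic_identities bar hb
  have hgrp : X * Y * X⁻¹ * Y⁻¹ * (Y * X) = X * Y := by group
  have h1 : mt bar (X * Y * X⁻¹ * Y⁻¹) * mt bar (Y * X) = mt bar (X * Y) := by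
    rw [← mt_mul, hgrp]
  have h2 : mt bar (X * Y) = uM bar 0 (bar a' * a - bar a * a') * mt bar (Y * X) := by
    rw [mt_mul, mt_mul, hX, hY, hmul, hmul, hmul]
    congr 1
    · ring
    · rw [map_zero]; ring
  calc mt bar (X * Y * X⁻¹ * Y⁻¹)
      = mt bar (X * Y * X⁻¹ * Y⁻¹) * (mt bar (Y * X) * mt bar (Y * X)⁻¹) := by
        rw [mt_mul_inv, Matrix.mul_one]
    _ = mt bar (X * Y) * mt bar (Y * X)⁻¹ := by rw [← Matrix.mul_assoc, h1]
    _ = uM bar 0 (bar a' * a - bar a * a') * (mt bar (Y * X) * mt bar (Y * X)⁻¹) := by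
        rw [h2, Matrix.mul_assoc]
    _ = uM bar 0 (bar a' * a - bar a * a') := by rw [mt_mul_inv, Matrix.mul_one]

/-- (MR7) the embedded `SL₂(K₀)` contains `w`, `h^{n₁}` and `t` -/
theorem model_W {K₀ : Type*} [Field K₀] (ι : K₀ →+* K) (hι : ∀ y : K₀, bar (ι y) = ι y)
    (U₀ H₀ T₀ : SUJ bar) {a₀ b₀ ζ c₀ ε : K} (hζ0 : ζ ≠ 0)
    (hU₀ : mt bar U₀ = uM bar a₀ b₀) (hH₀ : mt bar H₀ = hM bar ζ) (hT₀ : mt bar T₀ = tM ε)
    (hc₀ : c₀ = a₀ * bar a₀ * (bar (bar ζ ^ 2 / ζ) - bar ζ ^ 2 / ζ)) (hc₀0 : c₀ ≠ 0)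
    (hε : ε = -1 / c₀)
    (eL : SL2 K₀ →* SUJ bar) (heL : ∀ g : SL2 K₀, mt bar (eL g) = eLM ι c₀ g.1)
    (z : K₀) (hz0 : z ≠ 0) (n : ℕ) (hn : ζ ^ n = ι z) :
    wW H₀ U₀ = eL (uMat K₀ 1) ∧ H₀ ^ n = eL (dMat z hz0) ∧ T₀ = eL (WU 1) := by
  refine ⟨?_, ?_, ?_⟩
  · apply ext_mt
    have huz := Cfsg.Agent.Helper37.SU3P.mt_uz bar hb U₀ H₀ a₀ b₀ ζ hζ0 hU₀ hH₀ 1
    unfold wW
    rw [MR7_comm bar hb U₀ (uz H₀ U₀ 1) hU₀ huz, heL, uMat_coe]
    unfold uM eLM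
    ext i j
    fin_cases i <;> fin_cases j <;> simp [hc₀] <;> ring
  · apply ext_mt
    have hιz : ι z ≠ 0 := (map_ne_zero ι).mpr hz0
    rw [mt_pow, hH₀, MR7_hM_pow bar hb hζ0, hn, heL, dMat_coe]
    unfold hM eLM
    ext i j
    fin_cases i <;> fin_cases j <;> simp [hι, hιz, map_inv₀]
  · apply ext_mt
    rw [hT₀, heL, WU_coe (1 : K₀) one_ne_zero]
    unfold tM eLM
    ext i j
    fin_cases i <;> fin_cases j <;> simp [hε] <;> field_simp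

end Cfsg.Agent.Helper22.SU3P
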