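import Mathlib
import Cfsg.Agent.Helper84.SU3P.Words
import Cfsg.Agent.Helper53.SU3P_BAS

/-!
S2289 (helper84, farm #13093), piece (MR8): conjugating the root group element by the torus.
-/

set_option autoImplicit false
set_option linter.unusedSectionVars false
set_option linter.unusedVariables false

namespace Cfsg.Agent.Helper22.SU3P

open Matrix Polynomial Cfsg.Agent.Helper84.RU3 Cfsg.Agent.Helper96.SLPres
  Cfsg.Agent.Helper96.StemSLTwo Cfsg.Agent.Helper96.StPres Cfsg.Agent.Helper84.SU3P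

variable {K : Type*} [Field K] (bar : K →+* K) (hb : ∀ x, bar (bar x) = x)
include hb

/-- (MR8) conjugating the root group element by the torus -/
theorem rel_Z1 (W₀ H₀ : SUJ bar) {ζ c₀ : K} (hζ0 : ζ ≠ 0) (hW₀ : mt bar W₀ = uM bar 0 c₀)
    (hH₀ : mt bar H₀ = hM bar ζ) : mt bar (H₀ * W₀ * H₀⁻¹) = uM bar 0 (ζ * bar ζ * c₀) := by
  obtain ⟨-, -, -, -, hconj, -⟩ := Cfsg.Agent.Helper53.SU3P.basic_identities bar hb
  have h1 := hconj 0 c₀ ζ hζ0
  rw [zero_mul, zero_div] at h1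
  rw [mt_mul, mt_mul, hW₀, hH₀, h1, Matrix.mul_assoc, ← hH₀, mt_mul_inv, Matrix.mul_one]

end Cfsg.Agent.Helper22.SU3P
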