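import Mathlib
import Cfsg.Agent.Helper84.SU3P.Defs

/-!
S2289 (helper84, farm #12729), piece (UNI): the hermitian condition of an upper unitriangular element
of the hyperbolic model of `SU₃`.
-/

set_option autoImplicit false
set_option linter.unusedSectionVars false
set_option linter.unusedVariables false

namespace Cfsg.Agent.Helper22.SU3P

open Matrix Polynomial Cfsg.Agent.Helper84.RU3 Cfsg.Agent.Helper96.SLPres
  Cfsg.Agent.Helper96.StemSLTwo Cfsg.Agent.Helper96.StPres Cfsg.Agent.Helper84.SU3P

variable {K : Type*} [Field K] [Fintype K] (bar : K →+* K) (hb : ∀ x, bar (bar x) = x)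

include hb

/-- (UNI) the hermitian condition of an upper unitriangular element -/
theorem uM_cond {a b : K} (h : IsUn bar (uM bar a b)) : b + bar b + a * bar a = 0 := by
  unfold IsUn at h
  have h22 := congrFun (congrFun h 2) 2
  simp [uM, Jm, Matrix.mul_apply, Fin.sum_univ_three] at h22
  linear_combination h22

end Cfsg.Agent.Helper22.SU3P
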