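import Mathlib
import Cfsg.Agent.Helper84.SU3P.Defs
import Cfsg.Agent.Helper53.SU3P_BAS

/-!
S2289 (helper84, farm #12729), piece (WB): words for the upper triangular group of the hyperbolic model
of `SU₃`.
-/

set_option autoImplicit false
set_option linter.unusedSectionVars false
set_option linter.unusedVariables false

namespace Cfsg.Agent.Helper22.SU3P

open Matrix Polynomial Cfsg.Agent.Helper84.RU3 Cfsg.Agent.Helper96.SLPres
  Cfsg.Agent.Helper96.StemSLTwo Cfsg.Agent.Helper96.StPres Cfsg.Agent.Helper84.SU3P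

variable {K : Type*} [Field K] [Fintype K] (bar : K →+* K) (hb : ∀ x, bar (bar x) = x)

include hb

theorem WB_hM_pow {l : K} (hl : l ≠ 0) (n : ℕ) : (hM bar l) ^ n = hM bar (l ^ n) := by
  obtain ⟨-, -, hmul, hone, -⟩ := Cfsg.Agent.Helper53.SU3P.basic_identities bar hb
  induction n with
  | zero => rw [pow_zero, pow_zero, hone]
  | succ n ih => rw [pow_succ, pow_succ, ih, hmul _ _ (pow_ne_zero n hl) hl]

/-- (WB) words for the upper triangular group -/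
theorem exists_bword {p : ℕ} [Fact p.Prime] [Algebra (ZMod p) K] (H₀ : SUJ bar) {ζ : K}
    (hζ : ∀ x : K, x ≠ 0 → ∃ n : ℕ, ζ ^ n = x) (hH₀ : mt bar H₀ = hM bar ζ)
    (Uw : (ZMod p)[X] → (ZMod p)[X] → SUJ bar)
    (hUw : ∀ (g : SUJ bar) (a b : K), mt bar g = uM bar a b → ∃ f₁ f₂ : (ZMod p)[X], Uw f₁ f₂ = g)
    (g : SUJ bar) (a b l : K) (hl : l ≠ 0) (hg : mt bar g = uM bar a b * hM bar l) :
    ∃ (f₁ f₂ : (ZMod p)[X]) (n : ℕ), Uw f₁ f₂ * H₀ ^ n = g := by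
  obtain ⟨n, hn⟩ := hζ l hl
  have hζ0 : ζ ≠ 0 := by
    intro h0
    have hdet := det_mt bar H₀
    rw [hH₀, h0] at hdet
    simp [hM, Matrix.det_fin_three] at hdet
  have hHn : mt bar (H₀ ^ n) = hM bar l := by
    rw [mt_pow, hH₀, WB_hM_pow bar hb hζ0, hn]
  have hg' : mt bar (g * (H₀ ^ n)⁻¹) = uM bar a b := by
    rw [mt_mul, hg, ← hHn, Matrix.mul_assoc, mt_mul_inv, Matrix.mul_one]
  obtain ⟨f₁, f₂, hf⟩ := hUw (g * (H₀ ^ n)⁻¹) a b hg'
  exact ⟨f₁, f₂, n, by rw [hf, inv_mul_cancel_right]⟩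

end Cfsg.Agent.Helper22.SU3P
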