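import Mathlib
import Cfsg.Prelude.Def_PLocal
import Cfsg.Agent.Lib.Cores
import Cfsg.Agent.Helper88.SimsD.Defs

/-!
S2772 (helper88's SimsD farm #13205), piece (Q3B): `Z3`, `S3`, `D12` do not satisfy
`C_G(O_2(G)) ≤ O_2(G)` with `G/O_2(G) ≅ S3`.
-/

set_option autoImplicit false

namespace Cfsg.Agent.Helper22.SimsD

open Subgroup Cfsg.Agent.Helper88.SimsD

/-- a normal subgroup of order at most 2 is central -/
theorem Q3B_central {Γ : Type*} [Group Γ] [Finite Γ] (Q : Subgroup Γ) [Q.Normal]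
    (hQ : Nat.card Q ≤ 2) (q : Γ) (hq : q ∈ Q) (g : Γ) : g * q * g⁻¹ = q := by
  classical
  have : Fintype Q := Fintype.ofFinite Q
  have hx : g * q * g⁻¹ ∈ Q := ‹Q.Normal›.conj_mem q hq g
  let f : Fin 3 → Q := ![1, ⟨q, hq⟩, ⟨g * q * g⁻¹, hx⟩]
  have hlt : Fintype.card Q < Fintype.card (Fin 3) := by
    rw [Fintype.card_fin, ← Nat.card_eq_fintype_card]
    omega
  obtain ⟨i, j, hij, hf⟩ := Fintype.exists_ne_map_eq_of_card_lt f hlt
  have h1q : q = 1 → g * q * g⁻¹ = q := by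
    intro h; rw [h]; group
  have h1x : g * q * g⁻¹ = 1 → g * q * g⁻¹ = q := by
    intro h
    have : q = 1 := by
      have := congrArg (fun y => g⁻¹ * y * g) h
      simpa [mul_assoc] using this
    exact h1q this
  fin_cases i <;> fin_cases j <;>
    first
    | exact absurd rfl hij
    | (simp [f, Subtype.ext_iff] at hf
       first
       | exact h1q hf
       | exact h1q hf.symm
       | exact h1x hf
       | exact h1x hf.symm
       | exact hf
       | exact hf.symm)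

/-- (Q3B) `Z3`, `S3`, `D12` do not satisfy `C_G(O_2(G)) ≤ O_2(G)` with `G/O_2(G) ≅ S3`:
`|Γ| = 6 |Q|` gives `|Q| ≤ 2`, so `Q` is central and `Γ = C(Q) ≤ Q`. -/
theorem exclude_small {Γ : Type*} [Group Γ] [Finite Γ]
    (hchar : Subgroup.centralizer (Cfsg.pCore 2 Γ : Set Γ) ≤ Cfsg.pCore 2 Γ)
    (hD : Nonempty (Γ ⧸ Cfsg.pCore 2 Γ ≃* DihedralGroup 3))
    (h : Nonempty (Γ ≃* Multiplicative (ZMod 3)) ∨ Nonempty (Γ ≃* Equiv.Perm (Fin 3)) ∨
      Nonempty (Γ ≃* DihedralGroup 6) ∨ Nonempty (Γ ≃* Equiv.Perm (Fin 4)) ∨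
      Nonempty (Γ ≃* Equiv.Perm (Fin 4) × Multiplicative (ZMod 2))) :
    Nonempty (Γ ≃* Equiv.Perm (Fin 4)) ∨
      Nonempty (Γ ≃* Equiv.Perm (Fin 4) × Multiplicative (ZMod 2)) := by
  classical
  obtain ⟨eD⟩ := hD
  set Q : Subgroup Γ := Cfsg.pCore 2 Γ with hQdef
  have hcard : Nat.card Γ = 6 * Nat.card Q := by
    rw [Subgroup.card_eq_card_quotient_mul_card_subgroup Q, Nat.card_congr eD.toEquiv,
      DihedralGroup.nat_card]
  have hsmall : Nat.card Γ ≤ 12 → False := by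
    intro h12
    have hQpos : 0 < Nat.card Q := Nat.card_pos
    have hQ2 : Nat.card Q ≤ 2 := by omega
    have htop : (⊤ : Subgroup Γ) ≤ Subgroup.centralizer (Q : Set Γ) := by
      intro g _
      rw [Subgroup.mem_centralizer_iff]
      intro q hq
      have := Q3B_central Q hQ2 q hq g
      calc q * g = (g * q * g⁻¹) * g := by rw [this]
        _ = g * q := by group
    have hle : (⊤ : Subgroup Γ) ≤ Q := htop.trans hchar
    have hQtop : Q = ⊤ := top_le_iff.mp hle
    have : Nat.card Q = Nat.card Γ := by rw [hQtop, Subgroup.card_top]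
    omega
  rcases h with ⟨⟨e⟩⟩ | ⟨⟨e⟩⟩ | ⟨⟨e⟩⟩ | h | h
  · exfalso
    apply hsmall
    rw [Nat.card_congr e.toEquiv, Nat.card_eq_fintype_card]
    simp [ZMod.card]
  · exfalso
    apply hsmall
    rw [Nat.card_congr e.toEquiv, Nat.card_eq_fintype_card, Fintype.card_perm, Fintype.card_fin]
    decide
  · exfalso
    apply hsmall
    rw [Nat.card_congr e.toEquiv, DihedralGroup.nat_card]
  · exact Or.inl h
  · exact Or.inr h

end Cfsg.Agent.Helper22.SimsD
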