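import Mathlib
import Cfsg.Prelude.Def_PLocal
import Cfsg.Agent.Lib.Cores
import Cfsg.Agent.Helper88.SimsD.Defs

/-!
S2772 (helper88's SimsD farm #13205), piece (Q3O): the suborbit of length 3.
-/

set_option autoImplicit false

namespace Cfsg.Agent.Helper22.SimsD

open Subgroup Cfsg.Agent.Helper88.SimsD

/-- (Q3O) the suborbit of length 3. -/
theorem orbit_three {H : Type*} [Group H] [Finite H] [IsSimpleGroup H]
    (G : Subgroup H) (hG : IsCoatom G) (T : Subgroup H) (hTG : T ≤ G)
    (hidx : Nat.card G = 3 * Nat.card T) (g : H)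
    (hgT : g ∈ Subgroup.normalizer (T : Set H)) (hgG : g ∉ G) :
    Nat.card (MulAction.orbit (MulAction.stabilizer H ((1 : H) : H ⧸ G)) ((g : H) : H ⧸ G)) = 3 := by
  classical
  rw [MulAction.stabilizer_quotient]
  rw [Nat.card_coe_set_eq, ← MulAction.index_stabilizer]
  set D : Subgroup ↥G := MulAction.stabilizer ↥G ((g : H) : H ⧸ G) with hD
  have hmemD : ∀ k : ↥G, k ∈ D ↔ g⁻¹ * (k : H) * g ∈ G := by
    intro k
    rw [hD, MulAction.mem_stabilizer_iff]
    change (((k : H) * g : H) : H ⧸ G) = ((g : H) : H ⧸ G) ↔ _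
    rw [QuotientGroup.eq]
    constructor
    · intro h
      have := G.inv_mem h
      simpa [mul_assoc] using this
    · intro h
      have := G.inv_mem h
      simpa [mul_assoc] using this
  have hTpos : 0 < Nat.card T := Nat.card_pos
  -- the subgroup `T` inside `G`
  have hT'D : T.subgroupOf G ≤ D := by
    intro k hk
    rw [hmemD]
    apply hTG
    rw [Subgroup.mem_subgroupOf] at hk
    have hginv : g⁻¹ ∈ Subgroup.normalizer (T : Set H) := Subgroup.inv_mem _ hgT
    have := (Subgroup.mem_normalizer_iff.mp hginv (k : H)).mp hk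
    rwa [inv_inv] at this
  have hT'idx : (T.subgroupOf G).index = 3 := by
    have h1 := Subgroup.card_mul_index (T.subgroupOf G)
    rw [Nat.card_congr (Subgroup.subgroupOfEquivOfLe hTG).toEquiv, hidx] at h1
    have : Nat.card T * (T.subgroupOf G).index = Nat.card T * 3 := by rw [h1]; ring
    exact Nat.eq_of_mul_eq_mul_left hTpos this
  have hdvd : D.index ∣ 3 := by
    rw [← hT'idx]
    exact Subgroup.index_dvd_of_le hT'D
  rcases (Nat.dvd_prime Nat.prime_three).mp hdvd with h1 | h3
  · exfalso
    have hDtop : D = ⊤ := Subgroup.index_eq_one.mp h1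
    have hall : ∀ n, n ∈ (G : Set H) → g⁻¹ * n * g⁻¹⁻¹ ∈ (G : Set H) := by
      intro n hn
      have hmem : (⟨n, hn⟩ : ↥G) ∈ D := by rw [hDtop]; exact Subgroup.mem_top _
      rw [hmemD] at hmem
      rw [inv_inv]
      exact hmem
    have hginv : g⁻¹ ∈ Subgroup.normalizer (G : Set H) := Subgroup.mem_normalizer_fintype hall
    have hgN : g ∈ Subgroup.normalizer (G : Set H) := by
      have := Subgroup.inv_mem _ hginv
      rwa [inv_inv] at this
    have hlt : G < Subgroup.normalizer (G : Set H) := by
      refine lt_of_le_of_ne Subgroup.le_normalizer ?_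
      intro heq
      apply hgG
      rw [heq]
      exact hgN
    have hNtop : Subgroup.normalizer (G : Set H) = ⊤ := hG.2 _ hlt
    have hnorm : G.Normal := Subgroup.normalizer_eq_top_iff.mp hNtop
    rcases hnorm.eq_bot_or_eq_top with hbot | htop
    · rw [hbot, Subgroup.card_bot] at hidx
      omega
    · exact hG.1 htop
  · exact h3

end Cfsg.Agent.Helper22.SimsD
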