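import Mathlib

/-!
# Piece (W-D) of board #5040 (helper43, S4629-S4631): squares of the kernel lie in its commutator subgroup
-/

set_option autoImplicit false

namespace Cfsg.Agent.Helper22.SylWD

open scoped commutatorElement

theorem EA_ker {G A : Type*} [Group G] [CommGroup A] (θ : G →* A) (R Tg : Set G)
    (hgen : Subgroup.closure (R ∪ Tg) = ⊤) (hR2 : ∀ r ∈ R, r * r = 1)
    (hRc : ∀ g : G, ∀ r ∈ R, g * r * g⁻¹ ∈ R)
    (hT : ∀ t ∈ Tg, θ t = 1 ∧ t * t ∈ ⁅θ.ker, θ.ker⁆) (a b : A) (hab : a ≠ b) (ha : a ≠ 1)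
    (hb : b ≠ 1) (hRab : ∀ r ∈ R, θ r = a ∨ θ r = b)
    (hpair : ∀ r ∈ R, ∀ r' ∈ R, θ r = θ r' → (r * r') * (r * r') ∈ ⁅θ.ker, θ.ker⁆) :
    ∀ x : θ.ker, x ^ 2 ∈ commutator θ.ker := by
  classical
  have hCn : (⁅θ.ker, θ.ker⁆ : Subgroup G).Normal := Subgroup.commutator_normal θ.ker θ.ker
  have hCK : (⁅θ.ker, θ.ker⁆ : Subgroup G) ≤ θ.ker := Subgroup.commutator_le_right θ.ker θ.ker
  -- the subgroup `Y` of elements of the kernel whose square is in the commutator subgroup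
  let Y : Subgroup G :=
    { carrier := {g | g ∈ θ.ker ∧ g * g ∈ ⁅θ.ker, θ.ker⁆}
      one_mem' := ⟨θ.ker.one_mem, by simpa using (⁅θ.ker, θ.ker⁆ : Subgroup G).one_mem⟩
      mul_mem' := by
        rintro g h ⟨hg, hg2⟩ ⟨hh, hh2⟩
        refine ⟨θ.ker.mul_mem hg hh, ?_⟩
        have hcomm : ⁅g⁻¹, h⁆ ∈ ⁅θ.ker, θ.ker⁆ :=
          Subgroup.commutator_mem_commutator (θ.ker.inv_mem hg) hh
        have : g * h * (g * h) = (g * g) * ⁅g⁻¹, h⁆ * (h * h) := by
          rw [commutatorElement_def]; group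
        rw [this]
        exact Subgroup.mul_mem _ (Subgroup.mul_mem _ hg2 hcomm) hh2
      inv_mem' := by
        rintro g ⟨hg, hg2⟩
        refine ⟨θ.ker.inv_mem hg, ?_⟩
        have : g⁻¹ * g⁻¹ = (g * g)⁻¹ := by group
        rw [this]; exact Subgroup.inv_mem _ hg2 }
  have hYmem : ∀ g : G, g ∈ Y ↔ g ∈ θ.ker ∧ g * g ∈ ⁅θ.ker, θ.ker⁆ := fun g => Iff.rfl
  haveI hYn : Y.Normal := by
    refine ⟨fun g hg x => ?_⟩
    obtain ⟨hg1, hg2⟩ := (hYmem g).mp hg
    refine (hYmem _).mpr ⟨(inferInstance : θ.ker.Normal).conj_mem g hg1 x, ?_⟩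
    have : x * g * x⁻¹ * (x * g * x⁻¹) = x * (g * g) * x⁻¹ := by group
    rw [this]
    exact hCn.conj_mem _ hg2 x
  -- the quotient map
  let π : G →* G ⧸ Y := QuotientGroup.mk' Y
  have hπ1 : ∀ g : G, π g = 1 ↔ g ∈ Y := fun g => QuotientGroup.eq_one_iff g
  have hθR : ∀ r ∈ R, θ r * θ r = 1 := fun r hr => by rw [← map_mul, hR2 r hr, map_one]
  have hθR1 : ∀ r ∈ R, θ r ≠ 1 := fun r hr h => by
    rcases hRab r hr with h' | h'
    · exact ha (h' ▸ h)
    · exact hb (h' ▸ h)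
  -- (1) `π` kills `Tg`
  have h1 : ∀ t ∈ Tg, π t = 1 := fun t ht =>
    (hπ1 t).mpr ((hYmem t).mpr ⟨θ.mem_ker.mpr (hT t ht).1, (hT t ht).2⟩)
  -- (2) images of `R` are involutions
  have h2 : ∀ r ∈ R, π r * π r = 1 := fun r hr => by rw [← map_mul, hR2 r hr, map_one]
  have h2' : ∀ r ∈ R, (π r)⁻¹ = π r := fun r hr => inv_eq_of_mul_eq_one_left (h2 r hr)
  -- (3) elements of `R` with the same value have the same image
  have h3 : ∀ r ∈ R, ∀ r' ∈ R, θ r = θ r' → π r = π r' := by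
    intro r hr r' hr' h
    have hmem : r * r' ∈ Y := by
      refine (hYmem _).mpr ⟨θ.mem_ker.mpr ?_, hpair r hr r' hr' h⟩
      rw [map_mul, ← h, hθR r hr]
    have : π r * π r' = 1 := by rw [← map_mul]; exact (hπ1 _).mpr hmem
    rw [eq_comm, ← h2' r hr]
    exact (inv_eq_of_mul_eq_one_right this).symm ▸ rfl
  -- (4) the images of `R` commute
  have h4 : ∀ r ∈ R, ∀ r' ∈ R, π r * π r' = π r' * π r := by
    intro r hr r' hr'
    have hc : r' * r * r'⁻¹ ∈ R := hRc r' r hr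
    have hθ : θ (r' * r * r'⁻¹) = θ r := by
      rw [map_mul, map_mul, map_inv, mul_comm (θ r'), mul_assoc, mul_inv_cancel, mul_one]
    have := h3 _ hc r hr hθ
    rw [map_mul, map_mul, map_inv] at this
    calc π r * π r' = (π r' * π r * (π r')⁻¹) * π r' := by rw [this]
      _ = π r' * π r := by group
  -- the invariant
  have hinv : ∀ g : G, π g = 1 ∨ (∃ r ∈ R, π g = π r) ∨
      (∃ r ∈ R, ∃ r' ∈ R, θ r ≠ θ r' ∧ π g = π r * π r') := by
    intro g
    have hg : g ∈ Subgroup.closure (R ∪ Tg) := by rw [hgen]; trivial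
    -- step by an element of `R`
    have stepR : ∀ x : G, ∀ r₀ ∈ R, (π x = 1 ∨ (∃ r ∈ R, π x = π r) ∨
        (∃ r ∈ R, ∃ r' ∈ R, θ r ≠ θ r' ∧ π x = π r * π r')) →
        (π x * π r₀ = 1 ∨ (∃ r ∈ R, π x * π r₀ = π r) ∨
        (∃ r ∈ R, ∃ r' ∈ R, θ r ≠ θ r' ∧ π x * π r₀ = π r * π r')) := by
      intro x r₀ hr₀ hx
      rcases hx with hx | ⟨r, hr, hx⟩ | ⟨r, hr, r', hr', hne, hx⟩
      · right; left
        exact ⟨r₀, hr₀, by rw [hx, one_mul]⟩
      · by_cases h : θ r = θ r₀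
        · left
          rw [hx, h3 r hr r₀ hr₀ h, h2 r₀ hr₀]
        · right; right
          exact ⟨r, hr, r₀, hr₀, h, by rw [hx]⟩
      · right; left
        have hcase : θ r₀ = θ r' ∨ θ r₀ = θ r := by
          rcases hRab r hr with e1 | e1 <;> rcases hRab r' hr' with e2 | e2 <;>
            rcases hRab r₀ hr₀ with e3 | e3 <;> simp_all
        rcases hcase with h | h
        · refine ⟨r, hr, ?_⟩
          rw [hx, h3 r₀ hr₀ r' hr' h, mul_assoc, h2 r' hr', mul_one]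
        · refine ⟨r', hr', ?_⟩
          rw [hx, h3 r₀ hr₀ r hr h, h4 r hr r' hr', mul_assoc, h2 r hr, mul_one]
    induction hg using Subgroup.closure_induction_right with
    | one => left; exact map_one π
    | mul_right x hx y hy ih =>
      rw [map_mul]
      rcases hy with hy | hy
      · exact stepR x y hy ih
      · rw [h1 y hy, mul_one]; exact ih
    | mul_inv_cancel x hx y hy ih =>
      rw [map_mul, map_inv]
      rcases hy with hy | hy
      · rw [h2' y hy]; exact stepR x y hy ih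
      · rw [h1 y hy, inv_one, mul_one]; exact ih
  -- conclusion
  intro x
  have hxK : θ (x : G) = 1 := θ.mem_ker.mp x.2
  have hxY : (x : G) ∈ Y := by
    rcases hinv (x : G) with h | ⟨r, hr, h⟩ | ⟨r, hr, r', hr', hne, h⟩
    · exact (hπ1 _).mp h
    · exfalso
      have hm : (x : G)⁻¹ * r ∈ Y := by
        rw [← hπ1, map_mul, map_inv, h, inv_mul_cancel]
      have := θ.mem_ker.mp ((hYmem _).mp hm).1
      rw [map_mul, map_inv, hxK, inv_one, one_mul] at this
      exact hθR1 r hr this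
    · exfalso
      have hm : (x : G)⁻¹ * (r * r') ∈ Y := by
        rw [← hπ1, map_mul, map_inv, map_mul, h, inv_mul_cancel]
      have := θ.mem_ker.mp ((hYmem _).mp hm).1
      rw [map_mul, map_inv, hxK, inv_one, one_mul, map_mul] at this
      -- θ r * θ r' = 1 and θ r * θ r = 1 give θ r = θ r'
      apply hne
      have h' := hθR r hr
      exact (mul_left_cancel (this.trans h'.symm)).symm
  have hx2 : (x : G) * (x : G) ∈ ⁅θ.ker, θ.ker⁆ := ((hYmem _).mp hxY).2
  rw [← Subgroup.map_subtype_commutator] at hx2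
  obtain ⟨y, hy, hyx⟩ := hx2
  have : y = x ^ 2 := by
    apply Subtype.ext
    rw [pow_two]
    exact hyx
  rw [← this]
  exact hy

end Cfsg.Agent.Helper22.SylWD
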