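import Cfsg.Agent.Helper39.X648.Conc
import Cfsg.Agent.Helper96.UFour
import Cfsg.Agent.S0245

set_option autoImplicit false

/-!
# S3366 piece (K1) for helper39 (#11032): the stabiliser of a vector in `Sp_4(3)` has order 648
(orbit–stabiliser: `Sp_4(3)` of order 51840 is transitive on the 80 non-zero vectors)
-/

namespace Cfsg.Agent.Helper22.X648

open Matrix Cfsg.Agent.Helper39.X648

/-- the natural action of `Sp_4(3)` on vectors (local) -/
@[reducible] noncomputable def actSp_h22 : MulAction Sp3 (I4 → ZMod 3) where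
  smul g v := (g : Matrix I4 I4 (ZMod 3)) *ᵥ v
  one_smul v := Matrix.one_mulVec v
  mul_smul g h v := (Matrix.mulVec_mulVec v (g : Matrix I4 I4 (ZMod 3)) (h : Matrix I4 I4 (ZMod 3))).symm

theorem e0_ne_zero_h22 : (e0 : I4 → ZMod 3) ≠ 0 := by
  intro h
  have := congrFun h (Sum.inl 0)
  simp [e0] at this

theorem card_St : Nat.card ↥St = 648 := by
  let _inst : MulAction Sp3 (I4 → ZMod 3) := actSp_h22
  have hsmul : ∀ (g : Sp3) (v : I4 → ZMod 3), g • v = (g : Matrix I4 I4 (ZMod 3)) *ᵥ v := fun _ _ => rfl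
  -- the stabiliser
  have hstab : MulAction.stabilizer Sp3 (e0 : I4 → ZMod 3) = St := by
    ext g
    rw [MulAction.mem_stabilizer_iff, hsmul, mem_St]
  -- the orbit
  have horb : MulAction.orbit Sp3 (e0 : I4 → ZMod 3) = ({0} : Set (I4 → ZMod 3))ᶜ := by
    ext v
    rw [Set.mem_compl_iff, Set.mem_singleton_iff, MulAction.mem_orbit_iff]
    constructor
    · rintro ⟨g, rfl⟩
      rw [hsmul]
      exact Cfsg.Agent.Helper96.UFour.sp_mulVec_ne_zero g e0 e0_ne_zero_h22
    · intro hv
      obtain ⟨A, -, hA⟩ := Cfsg.Agent.Helper13.exists_transvection_map_of_ne_zero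
        (m := 2) (F := ZMod 3) e0_ne_zero_h22 hv
      exact ⟨A, hA⟩
  have hcard : (MulAction.orbit Sp3 (e0 : I4 → ZMod 3)).ncard = 80 := by
    rw [horb, Set.ncard_compl, Set.ncard_singleton, Nat.card_eq_fintype_card]
    simp
  have hidx := MulAction.index_stabilizer Sp3 (e0 : I4 → ZMod 3)
  rw [hstab, hcard] at hidx
  have hG : Nat.card Sp3 = 51840 := by
    have h1 := Cfsg.Agent.S0245.result (F := ZMod 3) (q := 3)
      Cfsg.Agent.Helper96.UFour.card_ZMod3 2
    simp only [Finset.prod_range_succ, Finset.prod_range_zero] at h1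
    norm_num at h1
    exact h1
  have h3 := Subgroup.index_mul_card St
  rw [hidx, hG] at h3
  omega

end Cfsg.Agent.Helper22.X648
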