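import Cfsg.Agent.Helper39.X648.Conc
import Cfsg.Agent.Helper96.UFour

set_option autoImplicit false

/-!
# S3366 piece (K5b) for helper39 (#11032): the centraliser of the image of the transvection in
`PSp_4(3)` is covered by the stabiliser `St`
-/

namespace Cfsg.Agent.Helper22.X648

open Matrix Cfsg.Agent.Helper39.X648

/-- the partner vector `f0` -/
def f0_h22 : I4 → ZMod 3 := Pi.single (Sum.inr 0) 1

theorem gT_pow_three_h22 : gT ^ 3 = 1 := by
  apply Subtype.ext
  show (gT : Matrix I4 I4 (ZMod 3)) ^ 3 = 1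
  rw [gT_val, pow_succ, pow_two, Cfsg.Agent.Helper13.sympTransvection_mul,
    Cfsg.Agent.Helper13.sympTransvection_mul]
  have : (1 + 1 + 1 : ZMod 3) = 0 := by decide
  rw [this, Cfsg.Agent.Helper13.sympTransvection_zero]

theorem negOne_mul_self_h22 :
    Cfsg.Agent.Helper96.UFour.negOne * Cfsg.Agent.Helper96.UFour.negOne = 1 := by
  apply Subtype.ext
  show (-1 : Matrix I4 I4 (ZMod 3)) * (-1) = 1
  simp

/-- `B(x, e0) = x (inr 0)` -/
theorem form_e0_h22 (x : I4 → ZMod 3) : Cfsg.sympForm 2 (ZMod 3) x e0 = x (Sum.inr 0) := by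
  rw [Cfsg.Agent.Helper13.sympForm_eq_sum, Fin.sum_univ_two]
  simp [e0]

/-- an element commuting with the transvection maps `e0` to a multiple of `e0` -/
theorem smul_e0_of_commute_h22 (g : Sp3) (h : g * gT = gT * g) :
    ∃ c : ZMod 3, (g : Matrix I4 I4 (ZMod 3)) *ᵥ e0 = c • e0 := by
  have h1 : (g : Matrix I4 I4 (ZMod 3)) * (gT : Matrix I4 I4 (ZMod 3)) =
      (gT : Matrix I4 I4 (ZMod 3)) * (g : Matrix I4 I4 (ZMod 3)) := congrArg Subtype.val h
  have h2 := congrArg (fun M : Matrix I4 I4 (ZMod 3) => M *ᵥ f0_h22) h1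
  simp only [← Matrix.mulVec_mulVec] at h2
  rw [gT_val, Cfsg.Agent.Helper13.sympTransvection_mulVec,
    Cfsg.Agent.Helper13.sympTransvection_mulVec, form_e0_h22, form_e0_h22] at h2
  have h3 : f0_h22 (Sum.inr 0) = 1 := by simp [f0_h22]
  rw [h3, mul_one, one_smul, Matrix.mulVec_add, one_mul] at h2
  exact ⟨_, add_left_cancel h2⟩

theorem le_St : ∀ g : Sp3, (QuotientGroup.mk g : Sp3 ⧸ Subgroup.center Sp3) ∈ Subgroup.centralizer ({cT} : Set (Sp3 ⧸ Subgroup.center Sp3)) →
    ∃ s ∈ St, (QuotientGroup.mk s : Sp3 ⧸ Subgroup.center Sp3) = QuotientGroup.mk g := by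
  intro g hg
  rw [Subgroup.mem_centralizer_iff] at hg
  have h1 : cT * (QuotientGroup.mk g : Sp3 ⧸ Subgroup.center Sp3) = QuotientGroup.mk g * cT := hg cT rfl
  have h2 : (QuotientGroup.mk (gT * g) : Sp3 ⧸ Subgroup.center Sp3) = QuotientGroup.mk (g * gT) := h1
  rw [QuotientGroup.eq] at h2
  have hn := Cfsg.Agent.Helper96.UFour.negOne_mem_center
  rw [Subgroup.mem_center_iff] at hn
  -- `g` commutes with `gT`
  have hcomm : g * gT = gT * g := by
    rcases Cfsg.Agent.Helper96.UFour.center_cases _ h2 with hz | hz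
    · exact (inv_mul_eq_one.1 hz).symm
    · exfalso
      have h3 : g * gT = gT * g * Cfsg.Agent.Helper96.UFour.negOne := inv_mul_eq_iff_eq_mul.1 hz
      have h4 : g * gT * g⁻¹ = gT * Cfsg.Agent.Helper96.UFour.negOne := by
        rw [h3, mul_assoc gT g, hn g, ← mul_assoc, mul_assoc, mul_assoc, mul_inv_cancel, mul_one]
      have h5 : (g * gT * g⁻¹) ^ 3 = 1 := by
        rw [conj_pow, gT_pow_three_h22, mul_one, mul_inv_cancel]
      have hc : Commute gT Cfsg.Agent.Helper96.UFour.negOne := (hn gT)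
      rw [h4, hc.mul_pow, gT_pow_three_h22, one_mul, pow_succ, pow_two, negOne_mul_self_h22,
        one_mul] at h5
      exact Cfsg.Agent.Helper96.UFour.negOne_ne_one h5
  obtain ⟨c, hc⟩ := smul_e0_of_commute_h22 g hcomm
  have he0 : (e0 : I4 → ZMod 3) ≠ 0 := by
    intro h
    have := congrFun h (Sum.inl 0)
    simp [e0] at this
  have hc0 : c ≠ 0 := by
    rintro rfl
    rw [zero_smul] at hc
    exact Cfsg.Agent.Helper96.UFour.sp_mulVec_ne_zero g e0 he0 hc
  have hcases : ∀ c : ZMod 3, c ≠ 0 → c = 1 ∨ c = -1 := by decide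
  rcases hcases c hc0 with rfl | rfl
  · refine ⟨g, ?_, rfl⟩
    rw [mem_St, hc, one_smul]
  · refine ⟨Cfsg.Agent.Helper96.UFour.negOne * g, ?_, ?_⟩
    · rw [mem_St]
      show ((-1 : Matrix I4 I4 (ZMod 3)) * (g : Matrix I4 I4 (ZMod 3))) *ᵥ e0 = e0
      rw [← Matrix.mulVec_mulVec, hc, Matrix.mulVec_smul, Matrix.neg_mulVec, Matrix.one_mulVec]
      simp
    · rw [QuotientGroup.eq]
      have h6 : (Cfsg.Agent.Helper96.UFour.negOne * g)⁻¹ * g = Cfsg.Agent.Helper96.UFour.negOne := by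
        have hninv : Cfsg.Agent.Helper96.UFour.negOne⁻¹ = Cfsg.Agent.Helper96.UFour.negOne :=
          inv_eq_of_mul_eq_one_right negOne_mul_self_h22
        rw [_root_.mul_inv_rev, mul_assoc, hninv, ← hn g, ← mul_assoc, inv_mul_cancel, one_mul]
      rw [h6]
      exact Cfsg.Agent.Helper96.UFour.negOne_mem_center

end Cfsg.Agent.Helper22.X648
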