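import Mathlib
import Cfsg.Agent.Helper39.X648.Defs

set_option autoImplicit false

/-!
# S3366 piece (S1) for helper39 (#11028): `|SL_2(3)| = 24`
-/

namespace Cfsg.Agent.Helper22.X648

open Cfsg.Agent.Helper39.X648

theorem sl_card : Nat.card SL23 = 24 := by
  rw [Nat.card_eq_fintype_card]
  decide +kernel

end Cfsg.Agent.Helper22.X648
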