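import Mathlib
import Cfsg.Agent.Helper39.X648.Defs

set_option autoImplicit false

/-!
# S3366 piece (S3) for helper39 (#11028): every nontrivial normal subgroup of `SL_2(3)` contains `-1`
-/

namespace Cfsg.Agent.Helper22.X648

open Cfsg.Agent.Helper39.X648

/-- every `g ≠ 1` produces `wSL` inside its normal closure by one of four explicit recipes -/
theorem sl_w_recipe_h22 : ∀ g : SL23, g ≠ 1 →
    g = wSL ∨ g ^ 2 = wSL ∨ g ^ 3 = wSL ∨ ∃ a : SL23, (g * (a * g * a⁻¹)) ^ 3 = wSL := by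
  decide +kernel

theorem sl_w_mem : ∀ N : Subgroup SL23, N.Normal → N ≠ ⊥ → wSL ∈ N := by
  intro N hN hne
  obtain ⟨⟨g, hg⟩, hg1⟩ := (Subgroup.ne_bot_iff_exists_ne_one).1 hne
  have hg1' : g ≠ 1 := by
    intro h
    apply hg1
    exact Subtype.ext h
  rcases sl_w_recipe_h22 g hg1' with h | h | h | ⟨a, h⟩
  · rw [← h]
    exact hg
  · rw [← h]
    exact N.pow_mem hg 2
  · rw [← h]
    exact N.pow_mem hg 3
  · rw [← h]
    exact N.pow_mem (N.mul_mem hg (hN.conj_mem g hg a)) 3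

end Cfsg.Agent.Helper22.X648
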