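import Mathlib
import Cfsg.Prelude.Def_IsolatedElements
import Cfsg.Agent.Helper22.ZStarMin
import Cfsg.Agent.Helper22.Conj

set_option autoImplicit false
open scoped Pointwise

/-!
Minimal counterexamples to the `Z*_p` statement, part 2 (helper22): `x`-invariant Sylow
subgroups.
-/

namespace Cfsg.Agent.Helper22

open Cfsg

variable {G : Type*} [Group G]

/-- `C_G(x)` is transitive on the Sylow `q`-subgroups normalized by the isolated `p`-element `x`. -/
theorem isIsolated_sylow_transitive [Finite G] {p : ℕ} [Fact p.Prime] {x : G} (hxp : x ^ p = 1)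
    (hiso : IsIsolated x) {q : ℕ} [Fact q.Prime] (S₁ S₂ : Sylow q G)
    (h₁ : x ∈ Subgroup.normalizer ((S₁ : Subgroup G) : Set G))
    (h₂ : x ∈ Subgroup.normalizer ((S₂ : Subgroup G) : Set G)) :
    ∃ c ∈ Subgroup.centralizer ({x} : Set G),
      (S₁ : Subgroup G).map (MulAut.conj c).toMonoidHom = (S₂ : Subgroup G) := by
  obtain ⟨g, hg⟩ := MulAction.exists_smul_eq G S₁ S₂
  have hS₂ : (S₂ : Subgroup G) = (S₁ : Subgroup G).map (MulAut.conj g).toMonoidHom := by
    rw [← hg, Sylow.coe_subgroup_smul]; rfl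
  -- `x' = g⁻¹ x g` normalizes `S₁`
  have hx'N : g⁻¹ * x * g ∈ Subgroup.normalizer ((S₁ : Subgroup G) : Set G) := by
    apply mem_normalizer_of_map_conj_eq
    have h3 : (S₂ : Subgroup G).map (MulAut.conj x).toMonoidHom = S₂ :=
      map_conj_eq_of_mem_normalizer h₂
    rw [hS₂, map_conj_map_conj] at h3
    have h4 := congrArg (fun T : Subgroup G => T.map (MulAut.conj g⁻¹).toMonoidHom) h3
    simp only [map_conj_map_conj] at h4
    have e1 : g⁻¹ * (x * g) = g⁻¹ * x * g := by group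
    have e2 : g⁻¹ * g = 1 := by group
    rw [e1, e2] at h4
    rw [h4]
    ext y
    rw [mem_map_conj_iff]
    simp
  set N₁ := Subgroup.normalizer ((S₁ : Subgroup G) : Set G) with hN₁
  have hisoN : IsIsolated (⟨x, h₁⟩ : ↥N₁) := by
    intro a hc
    apply Subtype.ext
    exact hiso (a : G) (congrArg Subtype.val hc.eq)
  have hxpN : (⟨x, h₁⟩ : ↥N₁) ^ p = 1 := Subtype.ext (by simpa using hxp)
  have hcpN : (⟨g⁻¹ * x * g, hx'N⟩ : ↥N₁) ^ p = 1 := by
    apply Subtype.ext
    have : (g⁻¹ * x * g) ^ p = g⁻¹ * x ^ p * g := by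
      have := conj_pow (a := g⁻¹) (b := x) (i := p)
      simpa using this
    simp only [Subgroup.coe_pow, Subgroup.coe_one]
    rw [this, hxp]; group
  obtain ⟨n, hn⟩ := exists_conj_commute_of_isIsolated hisoN hxpN hcpN
  have hn' : Commute ((n : G) * x * (n : G)⁻¹) (g⁻¹ * x * g) := by
    have := congrArg Subtype.val hn.eq
    exact this
  -- isolation of `n x n⁻¹`
  have hiso' := isIsolated_conj hiso (n : G)
  have h5 := hiso' (g⁻¹ * (n : G)⁻¹) (by
    have e : g⁻¹ * (n : G)⁻¹ * ((n : G) * x * (n : G)⁻¹) * (g⁻¹ * (n : G)⁻¹)⁻¹ = g⁻¹ * x * g := by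
      group
    rw [e]; exact hn')
  have e : g⁻¹ * (n : G)⁻¹ * ((n : G) * x * (n : G)⁻¹) * (g⁻¹ * (n : G)⁻¹)⁻¹ = g⁻¹ * x * g := by
    group
  rw [e] at h5
  -- h5 : g⁻¹ * x * g = n * x * n⁻¹
  refine ⟨g * (n : G), ?_, ?_⟩
  · rw [mem_centralizer_singleton_iff]
    have : (n : G) * x = g⁻¹ * x * g * (n : G) := by rw [h5]; group
    calc x * (g * (n : G)) = g * (g⁻¹ * x * g * (n : G)) := by group
      _ = g * ((n : G) * x) := by rw [this]
      _ = g * (n : G) * x := by group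
  · rw [← map_conj_map_conj, map_conj_eq_of_mem_normalizer n.2, hS₂]


/-- Conjugation action of a subgroup `P ≤ N_G(L)` on `L`. -/
@[reducible] def conjActOfLeNormalizer (P L : Subgroup G)
    (h : P ≤ Subgroup.normalizer (L : Set G)) : MulDistribMulAction ↥P ↥L where
  smul z l := ⟨(z : G) * (l : G) * (z : G)⁻¹,
    (Subgroup.mem_normalizer_iff.mp (h z.2) (l : G)).mp l.2⟩
  one_smul l := by
    apply Subtype.ext
    show ((1 : ↥P) : G) * (l : G) * ((1 : ↥P) : G)⁻¹ = l
    simp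
  mul_smul z w l := by
    apply Subtype.ext
    show ((z * w : ↥P) : G) * (l : G) * ((z * w : ↥P) : G)⁻¹ =
      (z : G) * ((w : G) * (l : G) * (w : G)⁻¹) * (z : G)⁻¹
    simp only [Subgroup.coe_mul]
    group
  smul_mul z l l' := by
    apply Subtype.ext
    show (z : G) * ((l * l' : ↥L) : G) * (z : G)⁻¹ =
      ((z : G) * (l : G) * (z : G)⁻¹) * ((z : G) * (l' : G) * (z : G)⁻¹)
    simp only [Subgroup.coe_mul]
    group
  smul_one z := by
    apply Subtype.ext
    show (z : G) * ((1 : ↥L) : G) * (z : G)⁻¹ = ((1 : ↥L) : G)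
    simp

/-- Lemma F: a `p`-element `y` normalizing a `p'`-subgroup `L` normalizes some Sylow
`q`-subgroup of `L`. -/
theorem exists_invariant_sylow_of_coprime [Finite G] {p : ℕ} [Fact p.Prime] {q : ℕ} [Fact q.Prime]
    (L : Subgroup G) (hL : (Nat.card ↥L).Coprime p) {y : G} (hyp : y ^ p = 1)
    (hyL : y ∈ Subgroup.normalizer (L : Set G)) :
    ∃ R₁ : Subgroup G, R₁ ≤ L ∧ IsPGroup q ↥R₁ ∧ y ∈ Subgroup.normalizer (R₁ : Set G) ∧
      ∀ R'' : Subgroup G, R'' ≤ L → IsPGroup q ↥R'' → Nat.card ↥R'' ≤ Nat.card ↥R₁ := by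
  have hPL : Subgroup.zpowers y ≤ Subgroup.normalizer (L : Set G) := (Subgroup.zpowers_le).mpr hyL
  letI : MulDistribMulAction ↥(Subgroup.zpowers y) ↥L := conjActOfLeNormalizer _ L hPL
  have hP : IsPGroup p ↥(Subgroup.zpowers y) := isPGroup_zpowers_of_pow_eq_one p y hyp
  have hnd : ¬ p ∣ Nat.card (Sylow q ↥L) := by
    intro hd
    obtain ⟨P₁⟩ : Nonempty (Sylow q ↥L) := inferInstance
    have h1 : Nat.card (Sylow q ↥L) ∣ Nat.card ↥L :=
      (Sylow.card_dvd_index P₁).trans (Subgroup.index_dvd_card _)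
    exact not_dvd_of_coprime_card hL (hd.trans h1)
  obtain ⟨P₀, hP₀⟩ := hP.nonempty_fixed_point_of_prime_not_dvd_card (Sylow q ↥L) hnd
  refine ⟨(P₀ : Subgroup ↥L).map L.subtype, Subgroup.map_subtype_le _, P₀.isPGroup'.map _, ?_, ?_⟩
  · apply Subgroup.mem_normalizer_fintype
    rintro r ⟨l, hl, rfl⟩
    have hz := hP₀ ⟨y, Subgroup.mem_zpowers y⟩
    have h1 : (⟨y, Subgroup.mem_zpowers y⟩ : ↥(Subgroup.zpowers y)) • l ∈
        (⟨y, Subgroup.mem_zpowers y⟩ : ↥(Subgroup.zpowers y)) • (P₀ : Subgroup ↥L) :=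
      Subgroup.smul_mem_pointwise_smul l _ _ hl
    rw [← Sylow.pointwise_smul_def, hz] at h1
    exact ⟨_, h1, rfl⟩
  · intro R'' hR''L hR''
    have h1 : IsPGroup q ↥(R''.subgroupOf L) :=
      hR''.of_equiv (Subgroup.subgroupOfEquivOfLe hR''L).symm
    obtain ⟨P', hP'⟩ := h1.exists_le_sylow
    have h2 : Nat.card ↥R'' = Nat.card ↥(R''.subgroupOf L) :=
      (Nat.card_congr (Subgroup.subgroupOfEquivOfLe hR''L).toEquiv).symm
    have h3 : Nat.card ↥(R''.subgroupOf L) ≤ Nat.card ↥(P' : Subgroup ↥L) :=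
      Nat.le_of_dvd Nat.card_pos (Subgroup.card_dvd_of_le hP')
    have h4 : Nat.card ↥(P' : Subgroup ↥L) = Nat.card ↥(P₀ : Subgroup ↥L) := by
      rw [Sylow.card_eq_multiplicity, Sylow.card_eq_multiplicity]
    have h5 : Nat.card ↥((P₀ : Subgroup ↥L).map L.subtype) = Nat.card ↥(P₀ : Subgroup ↥L) :=
      (Nat.card_congr ((P₀ : Subgroup ↥L).equivMapOfInjective L.subtype
        L.subtype_injective).toEquiv).symm
    rw [h2, h5, ← h4]
    exact h3


/-- Lemma G: if all commutators `[n, y]` of the `p`-element `y` lie in `O_{p'}(G)` and `q ≠ p`, then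
`y` normalizes some Sylow `q`-subgroup of `G`. -/
theorem exists_invariant_sylow_of_comm_mem_core [Finite G] {p : ℕ} [hp : Fact p.Prime] {q : ℕ}
    [hq : Fact q.Prime] (hqp : q ≠ p) {y : G} (hyp : y ^ p = 1)
    (hy : ∀ n : G, n * y * n⁻¹ * y⁻¹ ∈ pPrimeCore p G) :
    ∃ R : Sylow q G, y ∈ Subgroup.normalizer ((R : Subgroup G) : Set G) := by
  obtain ⟨R⟩ : Nonempty (Sylow q G) := inferInstance
  have hRcard : (Nat.card ↥(R : Subgroup G)).Coprime p := by
    obtain ⟨n, hn⟩ := IsPGroup.iff_card.mp R.isPGroup'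
    rw [hn]
    exact Nat.Coprime.pow_left n ((Nat.coprime_primes hq.out hp.out).mpr hqp)
  have hLcard : (Nat.card ↥((R : Subgroup G) ⊔ pPrimeCore p G)).Coprime p :=
    Cfsg.Agent.Lib.card_sup_coprime_of_normal hRcard (Cfsg.Agent.Lib.card_pPrimeCore_coprime p)
  have hyL : y ∈ Subgroup.normalizer
      ((((R : Subgroup G) ⊔ pPrimeCore p G : Subgroup G)) : Set G) := by
    apply Subgroup.mem_normalizer_fintype
    intro l hl
    obtain ⟨r, hr, w, hw, rfl⟩ := Subgroup.mem_sup_of_normal_right.mp hl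
    have h1 : y * r * y⁻¹ * r⁻¹ ∈ pPrimeCore p G := by
      have := Subgroup.inv_mem _ (hy r)
      have e : (r * y * r⁻¹ * y⁻¹)⁻¹ = y * r * y⁻¹ * r⁻¹ := by group
      rwa [e] at this
    have h2 : y * w * y⁻¹ ∈ pPrimeCore p G :=
      (inferInstance : (pPrimeCore p G).Normal).conj_mem w hw y
    have e : y * (r * w) * y⁻¹ = (y * r * y⁻¹ * r⁻¹) * r * (y * w * y⁻¹) := by group
    show y * (r * w) * y⁻¹ ∈ ((R : Subgroup G) ⊔ pPrimeCore p G : Subgroup G)
    rw [e]
    exact Subgroup.mul_mem _ (Subgroup.mul_mem _ (Subgroup.mem_sup_right h1)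
      (Subgroup.mem_sup_left hr)) (Subgroup.mem_sup_right h2)
  obtain ⟨R₁, hR₁L, hR₁q, hyR₁, hmaxc⟩ :=
    exists_invariant_sylow_of_coprime (q := q) _ hLcard hyp hyL
  have h1 : Nat.card ↥(R : Subgroup G) ≤ Nat.card ↥R₁ := hmaxc _ le_sup_left R.isPGroup'
  obtain ⟨R₂, hR₂⟩ := hR₁q.exists_le_sylow
  have h2 : Nat.card ↥(R₂ : Subgroup G) = Nat.card ↥(R : Subgroup G) := by
    rw [Sylow.card_eq_multiplicity, Sylow.card_eq_multiplicity]
  have h3 : R₁ = (R₂ : Subgroup G) := Subgroup.eq_of_le_of_card_ge hR₂ (by rw [h2]; exact h1)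
  exact ⟨R₂, h3 ▸ hyR₁⟩

/-- Part (1) of S2975: maximal `x`-invariant `q`-subgroups are trivial or Sylow. -/
theorem zsm_maximal_invariant [Finite G] {p : ℕ} [hp : Fact p.Prime] (x : G) (hx : orderOf x = p)
    (hnz : ¬ InZStar p x)
    (hmin : ∀ (H : Subgroup G) (hxH : x ∈ H), H ≠ ⊤ → InZStar p (⟨x, hxH⟩ : ↥H))
    (hquot : ∀ (N : Subgroup G) [N.Normal], N ≠ ⊥ → InZStar p (QuotientGroup.mk x : G ⧸ N))
    (q : ℕ) [hq : Fact q.Prime] (Q : Subgroup G) (hQ : IsPGroup q ↥Q)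
    (hxQ : x ∈ Subgroup.normalizer (Q : Set G))
    (hmax : ∀ R : Subgroup G, IsPGroup q ↥R → x ∈ Subgroup.normalizer (R : Set G) → Q ≤ R → R = Q) :
    Q = ⊥ ∨ ∃ S : Sylow q G, (S : Subgroup G) = Q := by
  have hxp : x ^ p = 1 := by rw [← hx]; exact pow_orderOf_eq_one x
  by_cases hqp : q = p
  · subst hqp
    right
    have hsup : IsPGroup q ↥(Subgroup.zpowers x ⊔ Q) :=
      (isPGroup_zpowers_of_pow_eq_one q x hxp).to_sup_of_normal_right' hQ
        ((Subgroup.zpowers_le).mpr hxQ)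
    have hxs : x ∈ Subgroup.zpowers x ⊔ Q := Subgroup.mem_sup_left (Subgroup.mem_zpowers x)
    have h1 := hmax _ hsup (Subgroup.le_normalizer hxs) le_sup_right
    have hxQ' : x ∈ Q := h1 ▸ hxs
    obtain ⟨S, hS⟩ := hQ.exists_le_sylow
    have h2 := hmax S S.isPGroup' (Subgroup.le_normalizer (hS hxQ')) hS
    exact ⟨S, h2⟩
  · by_cases hQb : Q = ⊥
    · exact Or.inl hQb
    right
    have hO := zsm_pPrimeCore_eq_bot x hnz hquot
    have hQcard : (Nat.card ↥Q).Coprime p := by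
      obtain ⟨n, hn⟩ := IsPGroup.iff_card.mp hQ
      rw [hn]
      exact Nat.Coprime.pow_left n ((Nat.coprime_primes hq.out hp.out).mpr hqp)
    have hNne : Subgroup.normalizer (Q : Set G) ≠ ⊤ := by
      intro htop
      have hQn : Q.Normal := Subgroup.normalizer_eq_top_iff.mp htop
      have := Cfsg.Agent.Lib.le_pPrimeCore hQn hQcard
      rw [hO] at this
      exact hQb (le_bot_iff.mp this)
    have hz := hmin _ hxQ hNne
    have hypN : (⟨x, hxQ⟩ : ↥(Subgroup.normalizer (Q : Set G))) ^ p = 1 :=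
      Subtype.ext (by simpa using hxp)
    obtain ⟨R, hR⟩ := exists_invariant_sylow_of_comm_mem_core hqp hypN hz
    -- `Q` as a subgroup of its normalizer is contained in `R`
    have hQN : IsPGroup q ↥(Q.subgroupOf (Subgroup.normalizer (Q : Set G))) :=
      hQ.of_equiv (Subgroup.subgroupOfEquivOfLe Subgroup.le_normalizer).symm
    have hQR : Q.subgroupOf (Subgroup.normalizer (Q : Set G)) ≤ R := hQN.le_sylow_of_normal R
    have hQR' : Q ≤ (R : Subgroup ↥(Subgroup.normalizer (Q : Set G))).map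
        (Subgroup.normalizer (Q : Set G)).subtype := by
      have h0 := Subgroup.map_subgroupOf_eq_of_le (Subgroup.le_normalizer (H := Q))
      calc Q = (Q.subgroupOf (Subgroup.normalizer (Q : Set G))).map
            (Subgroup.normalizer (Q : Set G)).subtype := h0.symm
        _ ≤ _ := Subgroup.map_mono hQR
    have hxR' : x ∈ Subgroup.normalizer
        (((R : Subgroup ↥(Subgroup.normalizer (Q : Set G))).map
          (Subgroup.normalizer (Q : Set G)).subtype : Subgroup G) : Set G) := by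
      apply Subgroup.mem_normalizer_fintype
      rintro r' ⟨r, hr, rfl⟩
      have := (Subgroup.mem_normalizer_iff.mp hR r).mp hr
      exact ⟨_, this, rfl⟩
    have hEq := hmax _ (R.isPGroup'.map _) hxR' hQR'
    have hEq' : (R : Subgroup ↥(Subgroup.normalizer (Q : Set G))) =
        Q.subgroupOf (Subgroup.normalizer (Q : Set G)) := by
      apply Subgroup.map_injective (Subgroup.normalizer (Q : Set G)).subtype_injective
      rw [hEq, Subgroup.map_subgroupOf_eq_of_le (Subgroup.le_normalizer (H := Q))]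
    have hnd : ¬ q ∣ (Q.subgroupOf (Subgroup.normalizer (Q : Set G))).index := by
      rw [← hEq']
      exact R.not_dvd_index
    obtain ⟨n, hn⟩ := IsPGroup.iff_card.mp hQ
    have hmod := Sylow.card_quotient_normalizer_modEq_card_quotient (p := q) hn
    have hnd' : ¬ q ∣ Q.index := by
      intro hd
      apply hnd
      rw [Subgroup.index_eq_card] at hd ⊢
      have h1 : Nat.card (G ⧸ Q) ≡ 0 [MOD q] := (Nat.modEq_zero_iff_dvd).mpr hd
      exact (Nat.modEq_zero_iff_dvd).mp (hmod.trans h1)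
    exact ⟨hQ.toSylow hnd', rfl⟩

end Cfsg.Agent.Helper22
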